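import Cfsg.Agent.Lib.FT.Pair
import Cfsg.Agent.Lib.OddOrder.TypeP2Core
import Cfsg.Agent.Lib.OddOrder.Section16Cases
import Cfsg.Agent.Lib.OddOrder.Tau3Complement
import Cfsg.Agent.Lib.Signalizer.Commutators
import Cfsg.Agent.S1351
import Cfsg.Agent.S1352
import Cfsg.Agent.S1437
import Cfsg.Agent.S1545

/-!
FT module SideTypes (group theory): the two sides from the frozen types.

`R = M_F`, `C_R(UW) = 1` and S1545 gives `|R| = p^q |C_R(U)|`, also for every `N` between `C_R(U)` and `R`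
invariant under `UW`: hence one chief factor. For type II `R = M_σ` is elementary abelian and `C_R(U) = 1`;
for types III and IV, S1437 gives `C_R(U) = C_Q(D) × O_{p'}(R)`. `ker_eq`: `[R,u] ≤ C(u)` of coprime order.
-/

set_option autoImplicit false
set_option linter.style.haveILetI false
set_option linter.unusedSectionVars false

open scoped Pointwise commutatorElement

namespace CfsgLib.FT

open Subgroup CfsgLib CfsgLib.OddOrder

universe u

variable {G : Type u} [Group G] [Finite G] {M W U W' : Subgroup G}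

omit [Finite G] in
private theorem exists_mem_ne_one {H : Subgroup G} (h : H ≠ ⊥) : ∃ x ∈ H, x ≠ 1 := by
  by_contra hc
  push Not at hc
  exact h ((eq_bot_iff_forall H).2 hc)

omit [Finite G] in
private theorem pow_natCard_eq_one {H : Subgroup G} {x : G} (hx : x ∈ H) : x ^ Nat.card H = 1 :=
  congrArg Subtype.val (pow_card_eq_one' (x := (⟨x, hx⟩ : H)))

section Data

variable (hP : Cfsg.IsTypePWith M W U W')
include hP

omit [Finite G] in
private theorem data_le : Cfsg.fittingHallOf M ≤ ⁅M, M⁆ ∧ U ≤ ⁅M, M⁆ ∧ U ≤ M ∧ W ≤ M :=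
  ⟨hP.U_compl.1, hP.U_compl.2.1, TypeP.U_le hP, hP.W₁_compl.2.1⟩

/-- Two data give complements `W` of one order. -/
private theorem card_W_eq {A B C : Subgroup G} (hP' : Cfsg.IsTypePWith M A B C) :
    Nat.card A = Nat.card W := by
  rw [card_eq_relIndex_of_isComplIn (OddOrder.isComplIn_swap hP.W₁_compl),
    card_eq_relIndex_of_isComplIn (OddOrder.isComplIn_swap hP'.W₁_compl)]

private theorem coprime_derived : (Nat.card ↥⁅M, M⁆).Coprime (Nat.card W) := by
  rw [card_eq_relIndex_of_isComplIn hP.W₁_compl]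
  exact hP.W₁_hall.symm

omit [Finite G] in
private theorem mem_decomp {m : G} (hm : m ∈ M) :
    ∃ r ∈ Cfsg.fittingHallOf M, ∃ u ∈ U, ∃ w ∈ W, m = r * u * w := by
  obtain ⟨a, ha, w, hw, rfl⟩ := hP.W₁_compl.2.2.2 m hm
  obtain ⟨r, hr, u, hu, rfl⟩ := hP.U_compl.2.2.2 a ha
  exact ⟨r, hr, u, hu, w, hw, rfl⟩

/-- `M = R U W`. -/
private theorem le_normalizer_of_three {X : Subgroup G}
    (h1 : Cfsg.fittingHallOf M ≤ normalizer (X : Set G)) (h2 : U ≤ normalizer (X : Set G))
    (h3 : W ≤ normalizer (X : Set G)) : M ≤ normalizer (X : Set G) := fun m hm => by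
  obtain ⟨r, hr, u, hu, w, hw, rfl⟩ := mem_decomp hP hm
  exact mul_mem (mul_mem (h1 hr) (h2 hu)) (h3 hw)

omit [Finite G] in
private theorem U_inf_centralizer {w : G} (hw : w ∈ W) (hw1 : w ≠ 1) :
    U ⊓ centralizer ({w} : Set G) = ⊥ := by
  refine le_bot_iff.1 fun x hx => ?_
  have h : x ∈ W' := hP.W₂_centralizer w hw hw1 ▸ mem_inf.2 ⟨(data_le hP).2.1 hx.1, hx.2⟩
  rw [← hP.U_compl.2.2.1]
  exact ⟨(hP.W₂_le h).1, hx.1⟩

/-- An element of `U` moving `R` only inside `C_R(U)` centralises `R`. -/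
private theorem kerU_of_trivModFix {u : G} (hu : u ∈ U) (ht : TrivModFix M U u) : u ∈ kerU M U := by
  refine ⟨hu, mem_centralizer_iff.2 fun x hx => ?_⟩
  set c := u * x * u⁻¹ * x⁻¹ with hc
  have hcm := ht x hx
  have hcu : Commute u c := (mem_centralizer_iff.1 hcm.2 u hu)
  have hpow : ∀ n : ℕ, u ^ n * x * (u ^ n)⁻¹ = c ^ n * x := by
    intro n
    induction n with
    | zero => simp
    | succ n ih =>
      have h1 : u * c ^ n * u⁻¹ = c ^ n := by
        rw [(hcu.pow_right n).eq, mul_inv_cancel_right]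
      calc u ^ (n + 1) * x * (u ^ (n + 1))⁻¹ = u * (u ^ n * x * (u ^ n)⁻¹) * u⁻¹ := by
            rw [pow_succ']; group
        _ = u * (c ^ n * x) * u⁻¹ := by rw [ih]
        _ = u * c ^ n * u⁻¹ * (u * x * u⁻¹) := by group
        _ = c ^ n * (c * x) := by rw [h1, hc, inv_mul_cancel_right]
        _ = c ^ (n + 1) * x := by rw [pow_succ]; group
  have h1 := hpow (Nat.card U)
  rw [pow_natCard_eq_one hu, inv_one, one_mul, mul_one] at h1
  have hc1 : c ^ Nat.card U = 1 := mul_right_cancel (h1.symm.trans (one_mul x).symm)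
  have hc2 : c ^ Nat.card (Cfsg.fittingHallOf M) = 1 := pow_natCard_eq_one hcm.1
  have hc0 : c = 1 := by
    have := pow_gcd_eq_one.2 ⟨hc2, hc1⟩
    rwa [(TypeP.card_coprime hP).gcd_eq_one, pow_one] at this
  rw [hc, mul_inv_eq_one, mul_inv_eq_iff_eq_mul] at hc0
  exact hc0.symm

end Data

variable (hG : Cfsg.IsMinSimpleOddOrder G) (hM : IsCoatom M) (hP : Cfsg.IsTypePWith M W U W')
  (hU : U ≠ ⊥) (hp : (Nat.card W').Prime) (hq : (Nat.card W).Prime)

section Wielandt

include hG hM hP hU hp hq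

/-- S1545 for a `UW`-invariant subgroup between `C_R(U)` and `R`. -/
private theorem wielandt {N : Subgroup G} (hN : N ≤ Cfsg.fittingHallOf M)
    (hUN : U ≤ normalizer (N : Set G)) (hWN : W ≤ normalizer (N : Set G)) :
    Nat.card ↥(N ⊓ centralizer ((U ⊔ W : Subgroup G) : Set G)) ^ Nat.card W * Nat.card N =
      Nat.card ↥(N ⊓ W') ^ Nat.card W * Nat.card ↥(N ⊓ centralizer (U : Set G)) := by
  obtain ⟨hRM, hUM', hUM, hWM⟩ := data_le hP
  have hUW : U ⊓ W = ⊥ := le_bot_iff.1
    ((inf_le_inf_right W hUM').trans hP.W₁_compl.2.2.1.le)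
  have hcop : (Nat.card N).Coprime (Nat.card ↥(U ⊔ W)) :=
    (Nat.Coprime.mul_right ((TypeP.card_coprime hP).coprime_dvd_left (card_dvd_of_le hN))
      ((coprime_derived hP).coprime_dvd_left (card_dvd_of_le (hN.trans hRM)))).coprime_dvd_right
      (Solvable.card_sup_dvd hP.U_normal)
  have hWC : N ⊓ centralizer (W : Set G) = N ⊓ W' := by
    obtain ⟨w, hw, hw1⟩ := exists_mem_ne_one hP.W₁_ne
    apply le_antisymm <;> intro x hx <;> refine ⟨hx.1, ?_⟩
    · rw [← hP.W₂_centralizer w hw hw1]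
      exact ⟨hRM (hN hx.1), mem_centralizer_singleton_iff.2
        (mem_centralizer_iff.1 hx.2 w hw).symm⟩
    · exact mem_centralizer_iff.2 fun w hw => hP.selfNormalizing.2.2.2.1 w hw x hx.2
  have h := Cfsg.Agent.S1545.result U W N hU hP.W₁_ne hUW
    (fun e he v hv => (mem_normalizer_iff.1 (hP.U_normal he) v).1 hv)
    (fun e he he1 v hv hev => mem_bot.1 (U_inf_centralizer hP he he1 ▸
      mem_inf.2 ⟨hv, mem_centralizer_singleton_iff.2 hev.symm⟩))
    (fun x hx y hy => (mem_normalizer_iff.1 (sup_le hUN hWN hx) y).1 hy)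
    (disjoint_of_coprime_natCard hcop).eq_bot
    (isSolvable_of_ne_top hG fun h => hM.1 (top_le_iff.1 (h ▸ hN.trans (TypeP.fittingHallOf_le M))))
    hcop
  rwa [hWC] at h

private theorem fix_normalized :
    U ≤ normalizer (fixCore M U : Set G) ∧ W ≤ normalizer (fixCore M U : Set G) := by
  obtain ⟨-, -, hUM, hWM⟩ := data_le hP
  have hn := le_normalizer_fittingHallOf M
  exact ⟨Signalizer.le_normalizer_inf (hUM.trans hn)
      (Signalizer.le_normalizer_centralizer le_normalizer),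
    Signalizer.le_normalizer_inf (hWM.trans hn) (Signalizer.le_normalizer_centralizer hP.U_normal)⟩

/-- `W'` does not centralise `U`. -/
private theorem fix_meet : W' ⊓ fixCore M U = ⊥ := by
  haveI := Fact.mk hp
  rcases ((W' ⊓ fixCore M U).subgroupOf W').eq_bot_or_eq_top_of_prime_card with h | h
  · rw [subgroupOf_eq_bot, disjoint_iff, inf_of_le_left inf_le_left] at h
    exact h
  exfalso
  rw [subgroupOf_eq_top] at h
  set R := Cfsg.fittingHallOf M with hR
  have hWR : W' ≤ R := hP.W₂_le.trans inf_le_left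
  have hC : R ⊓ centralizer ((U ⊔ W : Subgroup G) : Set G) = W' := by
    refine le_antisymm (fun x hx => ?_) fun x hx => ⟨hWR hx, ?_⟩
    · obtain ⟨w, hw, hw1⟩ := exists_mem_ne_one hP.W₁_ne
      rw [← hP.W₂_centralizer w hw hw1]
      exact ⟨(data_le hP).1 hx.1, mem_centralizer_singleton_iff.2
        (mem_centralizer_iff.1 hx.2 w (mem_sup_right hw)).symm⟩
    · have : U ⊔ W ≤ centralizer ({x} : Set G) := sup_le
        (fun v hv => mem_centralizer_singleton_iff.2 (mem_centralizer_iff.1 (h hx).2.2 v hv))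
        (fun v hv => mem_centralizer_singleton_iff.2 (hP.selfNormalizing.2.2.2.1 v hv x hx))
      exact mem_centralizer_iff.2 fun v hv => mem_centralizer_singleton_iff.1 (this hv)
  have hn := le_normalizer_fittingHallOf M
  have hw := wielandt hG hM hP hU hp hq le_rfl ((TypeP.U_le hP).trans hn)
    ((data_le hP).2.2.2.trans hn)
  rw [← hR, hC, inf_of_le_right hWR] at hw
  have hRC : Nat.card R = Nat.card ↥(fixCore M U) :=
    Nat.eq_of_mul_eq_mul_left (pow_pos Nat.card_pos _) hw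
  exact TypeP.not_le_centralizer hP hU
    (le_centralizer_iff.1 ((eq_of_le_of_card_ge inf_le_left hRC.le).ge.trans inf_le_right))

/-- The order of a `UW`-invariant subgroup between `C_R(U)` and `R`. -/
private theorem card_between {N : Subgroup G} (hCN : fixCore M U ≤ N)
    (hN : N ≤ Cfsg.fittingHallOf M) (hUN : U ≤ normalizer (N : Set G))
    (hWN : W ≤ normalizer (N : Set G)) :
    Nat.card N = Nat.card ↥(N ⊓ W') ^ Nat.card W * Nat.card ↥(fixCore M U) := by
  have hw := wielandt hG hM hP hU hp hq hN hUN hWN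
  have hbot : N ⊓ centralizer ((U ⊔ W : Subgroup G) : Set G) = ⊥ := by
    refine le_bot_iff.1 fun x hx => ?_
    rw [← fix_meet hG hM hP hU hp hq]
    obtain ⟨w, hw, hw1⟩ := exists_mem_ne_one hP.W₁_ne
    refine ⟨?_, hN hx.1, centralizer_le (le_sup_left : U ≤ U ⊔ W) hx.2⟩
    rw [← hP.W₂_centralizer w hw hw1]
    exact ⟨(data_le hP).1 (hN hx.1), mem_centralizer_singleton_iff.2
      (mem_centralizer_iff.1 hx.2 w (mem_sup_right hw)).symm⟩
  have hfix : N ⊓ centralizer (U : Set G) = fixCore M U :=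
    le_antisymm (inf_le_inf_right _ hN) (le_inf hCN inf_le_right)
  rwa [hbot, card_bot, one_pow, one_mul, hfix] at hw

private theorem card_fittingHall :
    Nat.card (Cfsg.fittingHallOf M) = Nat.card W' ^ Nat.card W * Nat.card ↥(fixCore M U) := by
  have hn := le_normalizer_fittingHallOf M
  have h := card_between hG hM hP hU hp hq (N := Cfsg.fittingHallOf M) inf_le_left le_rfl
    ((TypeP.U_le hP).trans hn) ((data_le hP).2.2.2.trans hn)
  rwa [inf_of_le_right (hP.W₂_le.trans inf_le_left)] at h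

/-- The facts on `R / C_R(U)` that depend on the type give the whole structure. -/
private theorem side_of_core (hTI : Cfsg.IsTISubset (Cfsg.fittingOf M : Set G))
    (hfix : Cfsg.fittingHallOf M ≤ normalizer (fixCore M U : Set G))
    (hcomm : ⁅Cfsg.fittingHallOf M, Cfsg.fittingHallOf M⁆ ≤ fixCore M U)
    (hpow : ∀ x ∈ Cfsg.fittingHallOf M, x ^ Nat.card W' ∈ fixCore M U) : Side M W U W' := by
  obtain ⟨hRM', hUM', hUM, hWM⟩ := data_le hP
  obtain ⟨hCU, hCW⟩ := fix_normalized hG hM hP hU hp hq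
  have hRn := le_normalizer_fittingHallOf M
  have hfixM := le_normalizer_of_three hP hfix hCU hCW
  have hWR : W' ≤ Cfsg.fittingHallOf M := hP.W₂_le.trans inf_le_left
  refine
    { coatom := hM
      typeP := hP
      q_prime := hq
      p_prime := hp
      U_ne := hU
      fitting_TI := hTI
      fitting_normalizer := ?_
      fitting_eq := TypeP.fitting_eq_sup hP
      U_commutator := le_inf (commutator_le_self U) (TypeP.derived_le_centralizer hP)
      U_frob := fun w hw hw1 => U_inf_centralizer hP hw hw1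
      coprime := TypeP.card_coprime hP
      coprime_W := coprime_derived hP
      fix_normal := hfixM
      out_normal := ?_
      fix_meet := fix_meet hG hM hP hU hp hq
      quot_card := ?_
      quot_comm := hcomm
      quot_pow := hpow
      chief := fun N hCN hN hn => ?_
      ker_eq := fun _ hu ht => kerU_of_trivModFix hP hu ht }
  · refine normalizer_eq_of_isCoatom_of_le hG hM (fun h => hP.selfNormalizing.2.1 ?_)
      (fittingOf_le M) (le_normalizer_fittingOf M)
    exact le_bot_iff.1 (h ▸ hWR.trans (fittingHallOf_le_fittingOf M))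
  · refine Signalizer.le_normalizer_sup hfixM (le_normalizer_of_three hP ?_ ?_ ?_)
    · refine le_trans ?_ (centralizer_le_normalizer _)
      exact le_centralizer_iff.1 ((commutator_le_self _).trans inf_le_right)
    · exact (le_inf (Signalizer.le_normalizer_inf le_normalizer (Signalizer.le_normalizer_centralizer
        (hUM.trans hRn))) (Signalizer.le_normalizer_inf le_normalizer
        (Signalizer.le_normalizer_centralizer (hUM.trans hRn)))).trans
        (Signalizer.normalizer_inf_le_normalizer_commutator _ _)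
    · exact (le_inf (Signalizer.le_normalizer_inf hP.U_normal (Signalizer.le_normalizer_centralizer
        (hWM.trans hRn))) (Signalizer.le_normalizer_inf hP.U_normal
        (Signalizer.le_normalizer_centralizer (hWM.trans hRn)))).trans
        (Signalizer.normalizer_inf_le_normalizer_commutator _ _)
  · refine Nat.eq_of_mul_eq_mul_left (Nat.card_pos (α := ↥(fixCore M U))) ?_
    rw [mul_comm _ (_ ^ _), ← card_fittingHall hG hM hP hU hp hq, ← relIndex_bot_left,
      relIndex_mul_relIndex ⊥ (fixCore M U) (Cfsg.fittingHallOf M) bot_le inf_le_left, relIndex_bot_left]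
  · have hc := card_between hG hM hP hU hp hq hCN hN (le_sup_left.trans hn) (le_sup_right.trans hn)
    rcases (Nat.dvd_prime hp).1 (card_dvd_of_le (inf_le_right : N ⊓ W' ≤ W')) with h | h
    · rw [h, one_pow, one_mul] at hc
      exact Or.inl (eq_of_le_of_card_ge hCN hc.le).symm
    · rw [h, ← card_fittingHall hG hM hP hU hp hq] at hc
      exact Or.inr (eq_of_le_of_card_ge hN hc.ge)

end Wielandt

section Types

include hG hM hP hU hp hq

/-- Type II: `R = M_σ` is elementary abelian with `C_R(U) = 1`. -/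
private theorem typeII_core (h : Cfsg.IsOfTypeII M) :
    Side M W U W' ∧ fixCore M U = ⊥ := by
  obtain ⟨⟨K, hK⟩, hc⟩ := Cfsg.Agent.S1351.result hG M hM
  obtain ⟨U₀, hKU⟩ : ∃ U₀, Cfsg.IsSigmaDecomposition M K U₀ :=
    (Cfsg.Agent.S1352.result hG M hM K (hc K hK) hK).1
  obtain ⟨hK1, hU1⟩ := (isOfTypeII_iff hG hM hKU).1 h
  have hHS := fittingHallOf_eq_of_U_ne hG hM hKU hU1
  obtain ⟨hder, -⟩ := Cfsg.Agent.S1365.result hG M hM K U₀ hKU hK1
  have hc : Cfsg.IsComplIn (Cfsg.fittingHallOf M) U₀ ⁅M, M⁆ := by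
    rw [hHS]
    refine ⟨sigmaCore_le_commutator hG hM, hder ▸ le_sup_left,
      by rw [inf_comm]; exact decomposition_U_inf_sigmaCore hKU, fun m hm => ?_⟩
    rw [hder, sup_comm] at hm
    obtain ⟨a, ha, b, hb, e⟩ := (Solvable.mem_sup_of_le_normalizer
      (hKU.compl.1.trans (le_normalizer_piCoreOf _ _))).1 hm
    exact ⟨a, ha, b, hb, e.symm⟩
  haveI := (Cfsg.Agent.S1363.result hG M hM K U₀ hKU hK1).1
  have hP₀ := isTypePWith_of_compl hG hM hKU hK1
    (Solvable.isNilpotent_of_comm fun a b => mul_comm' a b) hKU.normal hc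
  obtain ⟨m, hm, hmU⟩ := TypeP.exists_conj_U (isSolvable_of_ne_top hG hM.1) hP₀ hP
  have hC : fixCore M U = ⊥ := by
    refine le_bot_iff.1 fun x hx => ?_
    have h1 : m⁻¹ * x * m ∈ Cfsg.sigmaCore M ⊓ centralizer (U₀ : Set G) := by
      refine ⟨?_, mem_centralizer_iff.2 fun v hv => ?_⟩
      · rw [← hHS]
        simpa using (mem_normalizer_iff.1 (le_normalizer_fittingHallOf M (inv_mem hm)) x).1 hx.1
      · have hv' : m * v * m⁻¹ ∈ U := hmU ▸ smul_mem_pointwise_smul v (MulAut.conj m) U₀ hv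
        have := mem_centralizer_iff.1 hx.2 _ hv'
        calc v * (m⁻¹ * x * m) = m⁻¹ * (m * v * m⁻¹ * x) * m := by group
          _ = m⁻¹ * (x * (m * v * m⁻¹)) * m := by rw [this]
          _ = m⁻¹ * x * m * v := by group
    rw [typeP2_sigmaCore_inf_centralizer_U hG hM hKU hK1 hU1, mem_bot, mul_eq_one_iff_eq_inv,
      inv_mul_eq_iff_eq_mul, mul_inv_cancel] at h1
    exact mem_bot.2 h1
  -- `|K*| = |W'|`
  have hKW : Nat.card K = Nat.card W := card_W_eq hP hP₀
  have hpow := (typeP2_invariant_card hG hM hKU hK1 hU1 le_rfl (sigmaCore_ne_bot hG hM)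
    ((decomposition_le hKU).2.trans (le_normalizer_piCoreOf _ _))
    ((decomposition_le hKU).1.trans (le_normalizer_piCoreOf _ _))).2
  have hcard := card_fittingHall hG hM hP hU hp hq
  rw [hC, card_bot, mul_one, hHS, hpow, hKW] at hcard
  have hpp : Nat.card ↥(kappaStar M K) = Nat.card W' := Nat.pow_left_injective hq.ne_zero hcard
  obtain ⟨hab, hexp⟩ := typeP2_elementary hG hM hKU hK1 hU1 (hpp ▸ hp)
  obtain ⟨-, -, -, -, -, -, hTI, -⟩ := id h
  refine ⟨side_of_core hG hM hP hU hp hq hTI ?_ ?_ fun x hx => ?_, hC⟩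
  · rw [hC, normalizer_eq_top]; exact le_top
  · rw [hHS]
    refine commutator_le.2 fun a ha b hb => ?_
    rw [commutatorElement_eq_one_iff_mul_comm.2 (setLike_mul_comm ha hb)]
    exact one_mem _
  · rw [← hpp, hexp x (hHS ▸ hx)]
    exact one_mem _

/-- Types III and IV: `C_R(U)` is `C_Q(D)` times the `p'`-part of `R`. -/
private theorem typeIII_IV_core (h : Cfsg.IsOfTypeIII M ∨ Cfsg.IsOfTypeIV M) :
    Side M W U W' := by
  obtain ⟨⟨K, hK⟩, hc⟩ := Cfsg.Agent.S1351.result hG M hM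
  obtain ⟨U₀, hKU⟩ : ∃ U₀, Cfsg.IsSigmaDecomposition M K U₀ :=
    (Cfsg.Agent.S1352.result hG M hM K (hc K hK) hK).1
  obtain ⟨hK1, -, hne⟩ := (isOfTypeIII_or_IV_iff hG hM hKU).1 h
  obtain ⟨-, hS, -, hp', hpR, -, Q, hQR, hQn, hQp, hQidx, hD⟩ :=
    Cfsg.Agent.S1437.result hG M hM K U₀ hKU hne
  obtain ⟨-, hTI, -⟩ := Cfsg.Agent.S1357.result hG M hM K U₀ hKU hne
  set p := Nat.card ↥(Cfsg.sigmaCore M ⊓ centralizer (K : Set G)) with hpdef
  haveI := Fact.mk hp'
  set R := Cfsg.fittingHallOf M with hR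
  set Z := Cfsg.piCoreOf {s | s ≠ p} R with hZ
  obtain ⟨hRM', hUM', hUM, hWM⟩ := data_le hP
  have hRn := le_normalizer_fittingHallOf M
  have hZn : M ≤ normalizer (Z : Set G) := hRn.trans (normalizer_le_normalizer_piCoreOf _ _)
  have hRM : R ≤ M := TypeP.fittingHallOf_le M
  obtain ⟨hZR, hZp, hZi⟩ := piCoreOf_isPiHallOf_of_nilpotent (fittingHallOf_isNilpotent M)
    {s : ℕ | s ≠ p}
  obtain ⟨n, hn⟩ := IsPGroup.iff_card.1 hQp
  have hQZ : (Nat.card Q).Coprime (Nat.card Z) := by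
    rw [hn]
    exact Nat.Coprime.pow_left _ (hp'.coprime_iff_not_dvd.2 fun hd => hZp p hp' hd rfl)
  have hQU : (Nat.card Q).Coprime (Nat.card U) := by
    rw [hn]
    exact Nat.Coprime.pow_left _ ((TypeP.card_coprime hP).coprime_dvd_left hpR)
  have hQS : R ≤ Cfsg.sigmaCore M := hS.symm ▸ hRM'
  have hsup : Q ⊔ Z = R := by
    refine le_antisymm (sup_le hQR hZR) (relIndex_eq_one.1 ?_)
    refine Nat.eq_one_iff_not_exists_prime_dvd.2 fun s hs hd => ?_
    by_cases hsp : s = p
    · exact hQidx (hsp ▸ ((hd.trans (relIndex_dvd_of_le_left R le_sup_left)).trans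
        (Dvd.intro _ (relIndex_mul_relIndex Q R _ hQR hQS))))
    · exact hZi s hs hsp (hd.trans (relIndex_dvd_of_le_left R le_sup_right))
  have hdis : Disjoint Q Z := disjoint_of_coprime_natCard hQZ
  have hQZc : Q ≤ centralizer (Z : Set G) :=
    commute_of_normalize_disjoint ((hQR.trans hRM).trans hZn) ((hZR.trans hRM).trans hQn) hdis
  have hfac : ∀ x ∈ R, ∃ a ∈ Q, ∃ b ∈ Z, a * b = x := fun x hx =>
    (Solvable.mem_sup_of_le_normalizer ((hZR.trans hRM).trans hQn)).1 (hsup.ge hx)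
  set D := Z ⊔ U with hDdef
  have hDS : D ≤ Cfsg.sigmaCore M := sup_le (hZR.trans hQS) (hS.symm ▸ hUM')
  have hUZn : U ≤ normalizer (Z : Set G) := hUM.trans hZn
  have hQD : (Nat.card Q).Coprime (Nat.card D) :=
    (hQZ.mul_right hQU).coprime_dvd_right (Solvable.card_sup_dvd hUZn)
  have hcD : Cfsg.IsComplIn Q D (Cfsg.sigmaCore M) := by
    refine ⟨hQR.trans hQS, hDS, (disjoint_of_coprime_natCard hQD).eq_bot, fun m hm => ?_⟩
    obtain ⟨r, hr, v, hv, rfl⟩ := hP.U_compl.2.2.2 m (hS ▸ hm)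
    obtain ⟨a, ha, b, hb, rfl⟩ := hfac r hr
    exact ⟨a, ha, b * v, mul_mem (mem_sup_left hb) (mem_sup_right hv), mul_assoc _ _ _⟩
  obtain ⟨hDnil, hQDn, -, hQcard, hQab, -⟩ := hD D hcD
  -- `U` centralises the `p'`-part of `R`
  have hZU : Z ≤ centralizer (U : Set G) := by
    have hdZU : Disjoint Z U := disjoint_of_coprime_natCard
      ((TypeP.card_coprime hP).coprime_dvd_left (card_dvd_of_le hZR))
    have hUD : Cfsg.IsPiHallOf {s | s.Prime ∧ s ∣ Nat.card U} U D := by
      refine isPiHallOf_of_coprime_relIndex le_sup_right ?_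
      have hidx : U.relIndex D = Nat.card Z := (card_eq_relIndex_of_isComplIn
        ⟨le_sup_left, le_sup_right, hdZU.eq_bot, fun m hm => by
          obtain ⟨a, ha, b, hb, e⟩ := (Solvable.mem_sup_of_le_normalizer hUZn).1 hm
          exact ⟨a, ha, b, hb, e.symm⟩⟩).symm
      rw [hidx]
      exact ((TypeP.card_coprime hP).coprime_dvd_left (card_dvd_of_le hZR)).symm
    refine commute_of_normalize_disjoint ?_ hUZn hdZU
    rw [eq_piCoreOf_of_isPiHallOf_nilpotent hDnil hUD]
    exact le_sup_left.trans (le_normalizer_piCoreOf _ D)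
  have hZC : Z ≤ fixCore M U := le_inf hZR hZU
  have hQC : Q ⊓ centralizer (D : Set G) ≤ fixCore M U :=
    inf_le_inf hQR (centralizer_le (le_sup_right : U ≤ D))
  have hC : fixCore M U = (Q ⊓ centralizer (D : Set G)) ⊔ Z := by
    refine le_antisymm (fun x hx => ?_) (sup_le hQC hZC)
    obtain ⟨a, ha, b, hb, rfl⟩ := hfac x hx.1
    refine mul_mem (mem_sup_left ⟨ha, ?_⟩) (mem_sup_right hb)
    have haU : a ∈ centralizer (U : Set G) :=
      ((centralizer (U : Set G)).mul_mem_cancel_right (hZU hb)).1 hx.2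
    have : D ≤ centralizer ({a} : Set G) := sup_le
      (fun v hv => mem_centralizer_singleton_iff.2 (mem_centralizer_iff.1 (hQZc ha) v hv))
      (fun v hv => mem_centralizer_singleton_iff.2 (mem_centralizer_iff.1 haU v hv))
    exact mem_centralizer_iff.2 fun v hv => mem_centralizer_singleton_iff.1 (this hv)
  have hCn : M ≤ normalizer (fixCore M U : Set G) := hC ▸ Signalizer.le_normalizer_sup hQDn hZn
  -- `p = |W'|`
  have hKW : Nat.card K = Nat.card W := by
    rw [card_eq_relIndex_of_isComplIn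
        (OddOrder.isComplIn_swap (isComplIn_commutator_K hG hM hKU hK1)),
      card_eq_relIndex_of_isComplIn (OddOrder.isComplIn_swap hP.W₁_compl)]
  have hpp : p = Nat.card W' := by
    have h1 := card_fittingHall hG hM hP hU hp hq
    rw [← hR, ← hsup, hC, Solvable.card_sup_of_disjoint ((hZR.trans hRM).trans hQn) hdis,
      Solvable.card_sup_of_disjoint ((hZR.trans hRM).trans hQDn) (hdis.mono_left inf_le_left),
      hQcard, hKW, ← mul_assoc] at h1
    refine Nat.pow_left_injective hq.ne_zero (Nat.eq_of_mul_eq_mul_left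
      (Nat.card_pos (α := ↥(Q ⊓ centralizer (D : Set G)))) (Nat.eq_of_mul_eq_mul_right
      (Nat.card_pos (α := Z)) (h1.trans (by rw [mul_comm (Nat.card W' ^ Nat.card W)]))))
  refine side_of_core hG hM hP hU hp hq hTI (hRM.trans hCn) ?_ fun x hx => ?_
  · refine commutator_le.2 fun x hx y hy => ?_
    obtain ⟨a, ha, b, hb, rfl⟩ := hfac x hx
    obtain ⟨a', ha', b', hb', rfl⟩ := hfac y hy
    have h1 : Commute a' b := (mem_centralizer_iff.1 (hQZc ha') b hb).symm
    have h2 : Commute a⁻¹ (b * b' * b⁻¹) := Commute.inv_left (show Commute a (b * b' * b⁻¹) from (mem_centralizer_iff.1 (hQZc ha) _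
      (mul_mem (mul_mem hb hb') (inv_mem hb))).symm)
    have h3 : Commute a'⁻¹ (b * b' * b⁻¹ * b'⁻¹) := Commute.inv_left (show Commute a' (b * b' * b⁻¹ * b'⁻¹) from (mem_centralizer_iff.1 (hQZc ha') _
      (mul_mem (mul_mem (mul_mem hb hb') (inv_mem hb)) (inv_mem hb'))).symm)
    have e : ⁅a * b, a' * b'⁆ = a * a' * a⁻¹ * a'⁻¹ * (b * b' * b⁻¹ * b'⁻¹) := by
      rw [commutatorElement_def]
      calc a * b * (a' * b') * (a * b)⁻¹ * (a' * b')⁻¹
          = a * (b * a') * b' * b⁻¹ * a⁻¹ * b'⁻¹ * a'⁻¹ := by group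
        _ = a * (a' * b) * b' * b⁻¹ * a⁻¹ * b'⁻¹ * a'⁻¹ := by rw [h1.eq]
        _ = a * a' * ((b * b' * b⁻¹) * a⁻¹) * b'⁻¹ * a'⁻¹ := by group
        _ = a * a' * (a⁻¹ * (b * b' * b⁻¹)) * b'⁻¹ * a'⁻¹ := by rw [h2.eq]
        _ = a * a' * a⁻¹ * ((b * b' * b⁻¹ * b'⁻¹) * a'⁻¹) := by group
        _ = a * a' * a⁻¹ * (a'⁻¹ * (b * b' * b⁻¹ * b'⁻¹)) := by rw [h3.eq]
        _ = _ := by group
    rw [e]
    exact mul_mem (hQC (hQab a ha a' ha').2)
      (hZC (mul_mem (mul_mem (mul_mem hb hb') (inv_mem hb)) (inv_mem hb')))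
  · obtain ⟨a, ha, b, hb, rfl⟩ := hfac x hx
    rw [(show Commute a b from (mem_centralizer_iff.1 (hQZc ha) b hb).symm).mul_pow, ← hpp]
    exact mul_mem (hQC (hQab a ha a ha).1) (hZC (pow_mem hb _))

end Types

variable {S T W₁ W₂ V : Subgroup G}
include hG

omit hG in
private theorem prime_W (hP : Cfsg.IsTypePWith M W U W')
    (h : Cfsg.IsOfTypeII M ∨ Cfsg.IsOfTypeIII M ∨ Cfsg.IsOfTypeIV M) :
    (Nat.card W).Prime ∧ U ≠ ⊥ := by
  rcases h with ⟨A, B, C, h, hB, hA, -⟩ | ⟨A, B, C, h, hB, hA, -⟩ | ⟨A, B, C, h, hB, hA, -⟩ <;>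
    exact ⟨card_W_eq hP h ▸ hA, (TypeP.U_ne_bot_iff h hP).1 hB⟩

theorem side_S (hpd : PairData S T W₁ W₂ U V)
    (h : Cfsg.IsOfTypeII T ∨ Cfsg.IsOfTypeIII T ∨ Cfsg.IsOfTypeIV T) :
    Side S W₁ U W₂ ∧ fixCore S U = ⊥ := by
  obtain ⟨hq, hU⟩ := prime_W hpd.typeS (Or.inl hpd.typeII)
  exact typeII_core hG hpd.maxS hpd.typeS hU (prime_W hpd.typeT h).1 hq hpd.typeII

theorem side_T (hpd : PairData S T W₁ W₂ U V)
    (h : Cfsg.IsOfTypeII T ∨ Cfsg.IsOfTypeIII T ∨ Cfsg.IsOfTypeIV T) :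
    Side T W₂ V W₁ ∧ (Cfsg.IsOfTypeII T → fixCore T V = ⊥) := by
  obtain ⟨hq, hV⟩ := prime_W hpd.typeT h
  have hp := (prime_W hpd.typeS (Or.inl hpd.typeII)).1
  refine ⟨?_, fun hII => (typeII_core hG hpd.maxT hpd.typeT hV hp hq hII).2⟩
  rcases h with h | h
  · exact (typeII_core hG hpd.maxT hpd.typeT hV hp hq h).1
  · exact typeIII_IV_core hG hpd.maxT hpd.typeT hV hp hq h

end CfsgLib.FT
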