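import Cfsg.Agent.Lib.FT.Defs
import Cfsg.Agent.Lib.OddChar.TameEmbedding
import Cfsg.Agent.S1379

/-!
FT module Support (PF 8.10, 8.17 for the sigma sets).

* `dade_core`, `dade_full`: same proofs as `Lib/OddChar/TameEmbedding` (branch helper36) with
  `typeA0` replaced by the sigma sets; inputs S1362, S1374/S1375, S1378, S1432, S1436.
* `core_facts`: `κ = ∅` gives `U ≠ ⊥`, so `M_σ = M_F` nilpotent, proper, nontrivial (S1355, S1357).
-/

set_option autoImplicit false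
set_option linter.style.haveILetI false

namespace CfsgLib.FT

open Subgroup CfsgLib.OddOrder CfsgLib.OddChar.MaxTypes

universe u

variable {G : Type u} [Group G] [Finite G] (hG : Cfsg.IsMinSimpleOddOrder G) {M : Subgroup G}

omit [Finite G] in
theorem one_notMem_coreSet : (1 : G) ∉ coreSet M := fun h => h.2 rfl

theorem coreSet_subset_sigmaHat {a : G} (ha : a ∈ coreSet M) : a ∈ Cfsg.sigmaHat M :=
  ⟨piCoreOf_le _ _ ha.1, a, ha.1, fun h => ha.2 h, rfl⟩

theorem coreSet_conj {x a : G} (hx : x ∈ M) (ha : a ∈ coreSet M) : x * a * x⁻¹ ∈ coreSet M :=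
  ⟨(mem_normalizer_iff.1 (le_normalizer_piCoreOf (Cfsg.sigma M) M hx) a).1 ha.1,
    fun h => ha.2 (conj_eq_one_iff.1 h)⟩

theorem supFull_conj {x a : G} (hx : x ∈ M) (ha : a ∈ supFull M) : x * a * x⁻¹ ∈ supFull M := by
  obtain ⟨⟨haM, y, hy, hy1, hay⟩, ha1⟩ := ha
  exact ⟨⟨mul_mem (mul_mem hx haM) (inv_mem hx), x * y * x⁻¹,
    (mem_normalizer_iff.1 (le_normalizer_piCoreOf (Cfsg.sigma M) M hx) y).1 hy,
    fun h => hy1 (conj_eq_one_iff.1 h), conj_commute hay⟩, fun h => ha1 (conj_eq_one_iff.1 h)⟩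

include hG

theorem decomposition_of_kappa (hM : IsFType M) :
    ∃ U : Subgroup G, Cfsg.IsSigmaDecomposition M ⊥ U := by
  obtain ⟨K, U, hKU⟩ := exists_decomposition hG hM.coatom
  have hK : K = ⊥ := by
    by_contra h
    obtain ⟨p, hp, hpd⟩ := Nat.exists_prime_and_dvd (n := Nat.card K)
      (((Subgroup.one_lt_card_iff_ne_bot K).2 h).ne')
    exact Set.notMem_empty p (hM.kappa_eq ▸ hKU.hall.2.1 p hp hpd)
  exact ⟨U, hK ▸ hKU⟩

theorem core_facts (hM : IsFType M) :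
    Group.IsNilpotent (Cfsg.sigmaCore M) ∧ Cfsg.sigmaCore M ≠ ⊥ ∧ Cfsg.sigmaCore M < M ∧
      Cfsg.fittingHallOf M = Cfsg.sigmaCore M := by
  obtain ⟨U, hKU⟩ := decomposition_of_kappa hG hM
  have hU := U_ne_bot_of_K_eq_bot hG hM.coatom hKU rfl
  have hF := fittingHallOf_eq_sigmaCore hG hM.coatom hKU hU
  obtain ⟨hne, hle, hle', hlt, -⟩ := Cfsg.Agent.S1355.result hG M hM.coatom
  exact ⟨hF ▸ fittingHallOf_isNilpotent M, fun h => hne (le_bot_iff.1 (hle.trans h.le)),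
    lt_of_le_of_lt hle' hlt, hF⟩

/-- Outside the core, `M` controls `A(M)`. -/
theorem mem_of_conj_notMem_core (hM : IsFType M) {a g : G} (ha : a ∈ supFull M)
    (ha' : a ∉ Cfsg.sigmaCore M) (hga : g * a * g⁻¹ ∈ supFull M) : g ∈ M := by
  obtain ⟨U, hKU⟩ := decomposition_of_kappa hG hM
  have hW := sup_eq_M_of_K_eq_bot hKU rfl
  have hmem : ∀ b ∈ supFull M, b ∈ Cfsg.sigmaA M U := fun b hb => ⟨hb.1, by rw [hW]; exact hb.1.1⟩
  have hga' : g * a * g⁻¹ ∉ Cfsg.sigmaCore M := fun h =>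
    ha' ((mem_sigmaCore_conj_iff hG hM.coatom ha.1.1 hga.1.1).1 h)
  by_contra hg
  rw [← normalizer_sigmaA_diff hG hM.coatom hKU ⟨a, hmem a ha, ha'⟩] at hg
  exact ha.2 (Cfsg.Agent.S1362.result hG M hM.coatom ⊥ U hKU g hg a ⟨hmem a ha, ha'⟩
    ⟨hmem _ hga, hga'⟩)

/-- `|L_F|` is coprime to `|C_M(y)|` for `y` centralising a non-identity element of `M_σ`. -/
theorem coprime_of_supporting {L : Subgroup G} (hM : IsCoatom M) (hL : IsCoatom L) {x : G}
    (hx : x ∈ coreSet M) (hC : ¬ centralizer ({x} : Set G) ≤ M)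
    (hCL : centralizer ({x} : Set G) ≤ L) {y : G} (hy : y ∈ Cfsg.sigmaHat M) (hy1 : y ≠ 1) :
    (Nat.card (Cfsg.sigmaCore L)).Coprime (Nat.card ↥(M ⊓ centralizer ({y} : Set G))) := by
  obtain ⟨N, ⟨hN, hCN⟩, huniq, -, hnc, -⟩ := supporting_structure hG hM
    (Cfsg.Agent.S1378.result hG).2 (Cfsg.Agent.S1432.result hG) hx.1 hx.2 hC
  have hnc : ∀ g : G, L ≠ M.map (MulAut.conj g).toMonoidHom := huniq L hL hCL ▸ hnc
  refine Nat.coprime_of_dvd fun q hq hqL hqC => ?_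
  haveI := Fact.mk hq
  have hqσ : q ∈ Cfsg.sigma L := sigma_of_dvd_sigmaCore hq hqL
  have hqM : q ∉ Cfsg.sigma M := fun h => by
    obtain ⟨g, hg⟩ := (Cfsg.Agent.S1378.result hG).2 M L hM hL ⟨q, h, hqσ⟩
    exact hnc g hg
  obtain ⟨hκ, hτ⟩ := (Cfsg.Agent.S1436.result hG M hM x hx.1 hx.2 hC
    L hL hCL).1 ⟨q, hqσ, hqC.trans (card_dvd_of_le inf_le_left)⟩
  -- the `σ'`-elements of `M` centralising an element of `M_σ`
  have key : ∀ w ∈ Cfsg.sigmaCore M, w ≠ 1 → ∀ s : ℕ, s.Prime → s ∉ Cfsg.sigma M →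
      ∀ z ∈ M, z * w = w * z → s ≠ orderOf z := by
    intro w hw hw1 s hsp hsσ z hz hzw e
    have hz1 : z ≠ 1 := fun h => hsp.one_lt.ne' (by rw [e, h, orderOf_one])
    rcases Cfsg.Agent.S1432.result hG M hM w hw hw1 z
        ⟨hz, mem_centralizer_singleton_iff.2 hzw⟩ hz1 (fun p hp hd => by
          rw [← e] at hd
          rwa [(Nat.prime_dvd_prime_iff_eq hp hsp).1 hd]) with ⟨h, -⟩ | ⟨h, -⟩
    · exact Set.notMem_empty s (hκ ▸ h s hsp (by rw [← e]))
    · exact Set.notMem_empty s (hτ ▸ h s hsp (by rw [← e]))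
  obtain ⟨hyM, w, hw, hw1, hyw⟩ := hy
  by_cases hys : y ∈ Cfsg.sigmaCore M
  · obtain ⟨⟨z, hz⟩, hzo⟩ := exists_prime_orderOf_dvd_card' q hqC
    rw [Subgroup.orderOf_mk] at hzo
    exact key y hys hy1 q hq hqM z hz.1 (mem_centralizer_singleton_iff.1 hz.2) hzo.symm
  · rw [mem_sigmaCore_iff hG hM hyM] at hys
    push Not at hys
    obtain ⟨s, hsp, hsd, hsσ⟩ := hys
    refine key w hw hw1 s hsp hsσ (y ^ (orderOf y / s)) (pow_mem hyM _)
      ((show Commute y w from hyw).pow_left _).eq ?_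
    exact (orderOf_pow_orderOf_div (orderOf_pos y).ne' hsd).symm

theorem supportData_of (hM : IsCoatom M) {S : Set G} (hS : ∀ a ∈ S, a ∈ Cfsg.sigmaHat M ∧ a ≠ 1)
    (hout : ∀ a ∈ S, a ∉ Cfsg.sigmaCore M → ∀ g : G, g * a * g⁻¹ ∈ S → g ∈ M) :
    SupportData M S := by
  have hcore : ∀ a ∈ S, ¬ centralizer ({a} : Set G) ≤ M → a ∈ coreSet M := fun a ha hC => by
    refine ⟨by_contra fun h => hC fun c hc => hout a ha h c ?_, (hS a ha).2⟩
    rwa [mem_centralizer_singleton_iff.1 hc, mul_inv_cancel_right]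
  obtain ⟨K, U, hKU⟩ := exists_decomposition hG hM
  refine ⟨fun x hx g hgx => ?_, fun x hx hC => ?_, fun x hx hC L hL hCL => ?_⟩
  · by_cases hs : x ∈ Cfsg.sigmaCore M
    · obtain ⟨m, hm, c, hc, rfl⟩ :=
        exists_mul_centralizer_of_sigma hG hM hs (hS x hx).2 (hS _ hgx).1.1
      refine ⟨m, hm, ?_⟩
      calc m * x * m⁻¹ = m * (x * c) * c⁻¹ * m⁻¹ := by group
        _ = _ := by rw [← mem_centralizer_singleton_iff.1 hc]; group
    · exact ⟨g, hout x hx hs g hgx, rfl⟩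
  · obtain ⟨h1, h2⟩ := hcore x hx hC
    obtain ⟨N, ⟨hN, hCN⟩, huniq, -⟩ := Cfsg.Agent.S1375.result hG M hM x h1 h2 hC
    exact ⟨by rw [typeA1_eq hG hM hKU]; exact ⟨h1, h2⟩, N, ⟨hN, hCN⟩,
      fun L h => huniq L h.1 h.2⟩
  · obtain ⟨h1, h2⟩ := hcore x hx hC
    obtain ⟨N, ⟨hN, hCN⟩, huniq, hF, hn, hR, -⟩ := Cfsg.Agent.S1375.result hG M hM x h1 h2 hC
    obtain rfl := huniq L hL hCL
    rw [← hF]
    exact ⟨hn, isComplIn_swap hR (inf_le_right.trans hn),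
      fun y hy => coprime_of_supporting hG hM hN ⟨h1, h2⟩ hC hCN (hS y hy).1 (hS y hy).2⟩

theorem dade_core (hM : IsCoatom M) :
    Cfsg.DadeHypothesis (coreSet M) M (Cfsg.supportR M) :=
  dadeHypothesis (subset_refl _) (fun _ ha => piCoreOf_le _ _ ha.1) one_notMem_coreSet
    (fun _ hx _ ha => coreSet_conj hx ha)
    (supportData_of hG hM (fun _ ha => ⟨coreSet_subset_sigmaHat ha, ha.2⟩)
      fun _ ha h => absurd ha.1 h)

theorem dade_full (hM : IsFType M) :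
    Cfsg.DadeHypothesis (supFull M) M (Cfsg.supportR M) :=
  dadeHypothesis (subset_refl _) (fun _ ha => ha.1.1) (fun h => h.2 rfl)
    (fun _ hx _ ha => supFull_conj hx ha)
    (supportData_of hG hM.coatom (fun _ ha => ⟨ha.1, ha.2⟩)
      fun _ ha h _ hg => mem_of_conj_notMem_core hG hM ha h hg)

/-- In a Frobenius `M` the two sets agree. -/
theorem supFull_eq_coreSet (hM : IsFType M) (hfr : IsFrob M) : supFull M = coreSet M := by
  refine Set.Subset.antisymm (fun a ha => ⟨?_, ha.2⟩) fun a ha =>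
    ⟨coreSet_subset_sigmaHat ha, ha.2⟩
  obtain ⟨⟨haM, y, hy, hy1, hay⟩, -⟩ := ha
  exact hfr y hy hy1 ⟨haM, mem_centralizer_singleton_iff.2 hay⟩

/-- Outside the core the centralisers lie in `M` and `R = 1`. -/
theorem centralizer_le_of_notMem_core (hM : IsFType M) {a : G} (ha : a ∈ supFull M)
    (ha' : a ∉ Cfsg.sigmaCore M) :
    centralizer ({a} : Set G) ≤ M ∧ Cfsg.supportR M a = ⊥ := by
  have h : centralizer ({a} : Set G) ≤ M := fun c hc => mem_of_conj_notMem_core hG hM ha ha'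
    (by rwa [mem_centralizer_singleton_iff.1 hc, mul_inv_cancel_right])
  exact ⟨h, OddOrder.supportR_eq_bot h⟩

/-- The supported cosets of non-conjugate cores are never conjugate. -/
theorem core_cosets_disjoint {N : Subgroup G} (hM : IsCoatom M) (hN : IsCoatom N)
    (hnc : ∀ g : G, N ≠ M.map (MulAut.conj g).toMonoidHom) :
    Disjoint (Cfsg.tildeOf M (coreSet M)) (Cfsg.tildeOf N (coreSet N)) :=
  Set.disjoint_iff_inter_eq_empty.2 ((Cfsg.Agent.S1379.result hG).1 M N hM hN hnc)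

end CfsgLib.FT
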