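import Cfsg.Agent.Lib.FT.SideFacts
import Cfsg.Agent.Lib.FT.SideTypes
import Cfsg.Agent.Lib.FT.Support
import Cfsg.Agent.Lib.Frobenius.Fpf
import Cfsg.Agent.Lib.Frobenius.ComplementSylow
import Cfsg.Agent.Lib.OddOrder.ExceptionalTools
import Cfsg.Agent.Lib.OddOrder.SCNUniqueBasic
import Cfsg.Agent.S0043

/-!
FT module LFacts (group theory): a maximal `L ⊇ N(U)`.

`L` is conjugate neither to `S` (`N(U) ⊄ S`) nor to `T` (a conjugate of `W₁` in `T_F` would centralise `U`),
so Frobenius with kernel `K = L_σ`; `U W₁` is no subgroup of a complement, so `U ≤ K`, `W₁` in a complement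
`E`.  A normal subgroup of prime order of `E` is `W₁` or a conjugate `W₂^y`, and `N(W₁) = T_F W₂`,
`N(W₂) = S_F W₁`: so `E = W₁` or `W₁ × W₂^y`. `|E| = q` and `K = U` would put `L` in `S`.
If `K ≠ U`, `[K : U] ≡ 1 (mod |E|)` as `|U| = 1 + p + ... + p^(q-1)`.
-/

set_option autoImplicit false
set_option linter.style.haveILetI false
set_option linter.unusedSectionVars false

open scoped Pointwise

namespace CfsgLib.FT

open Subgroup CfsgLib CfsgLib.OddOrder CfsgLib.OddChar.MaxTypes

universe u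

variable {G : Type u} [Group G] [Finite G]

private theorem lf_exists_ne_one {H : Subgroup G} (h : H ≠ ⊥) : ∃ x ∈ H, x ≠ 1 := by
  by_contra hc
  push Not at hc
  exact h ((eq_bot_iff_forall H).2 hc)

private theorem lf_card_eq_mul {A B M : Subgroup G} (h : Cfsg.IsComplIn A B M) :
    Nat.card M = Nat.card A * Nat.card B := by
  have h1 := card_eq_relIndex_of_isComplIn h
  have h2 := relIndex_mul_relIndex ⊥ B M bot_le h.2.1
  rw [relIndex_bot_left, relIndex_bot_left, ← h1] at h2
  rw [← h2, mul_comm]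

private theorem lf_mem_mul {A B M : Subgroup G} (h : Cfsg.IsComplIn A B M) {m : G} (hm : m ∈ M) :
    ∃ a ∈ A, ∃ b ∈ B, m = a * b :=
  h.2.2.2 m hm

/-! ### One side -/

section OneSide

variable {M W U W' : Subgroup G}

private theorem side_core_abelian (hS : Side M W U W') (h0 : fixCore M U = ⊥) {x y : G}
    (hx : x ∈ Cfsg.fittingHallOf M) (hy : y ∈ Cfsg.fittingHallOf M) : Commute x y := by
  have h := hS.quot_comm (commutator_mem_commutator hx hy)
  rw [h0, mem_bot, commutatorElement_eq_one_iff_mul_comm] at h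
  exact h

private theorem side_core_pow (hS : Side M W U W') (h0 : fixCore M U = ⊥) {x : G}
    (hx : x ∈ Cfsg.fittingHallOf M) : x ^ Nat.card W' = 1 := by
  have h := hS.quot_pow x hx
  rwa [h0, mem_bot] at h

private theorem side_fixed_le (hS : Side M W U W') : W' ≤ Cfsg.fittingHallOf M :=
  hS.typeP.W₂_le.trans inf_le_left

private theorem side_card_U_coprime (hS : Side M W U W') (hF : SideFull M W U W') :
    (Nat.card U).Coprime (Nat.card W' - 1) := by
  have h1 : 0 < Nat.card W' - 1 := by have := hS.p_prime.two_le; omega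
  have h := hF.coprime
  rwa [← hF.card, Nat.mul_div_cancel _ h1] at h

/-- `N(W') ≤ R W`. -/
theorem side_normalizer_fixed_le (hS : Side M W U W') (hF : SideFull M W U W')
    (h0 : fixCore M U = ⊥) :
    normalizer (W' : Set G) ≤ Cfsg.fittingHallOf M ⊔ W := by
  classical
  set R := Cfsg.fittingHallOf M with hR
  haveI := Fact.mk hS.p_prime
  obtain ⟨x, hx, hx1⟩ := lf_exists_ne_one hS.typeP.selfNormalizing.2.1
  intro g hg
  have hgx : g * x * g⁻¹ ∈ W' := (mem_normalizer_iff.1 hg x).1 hx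
  have hgM : g ∈ M := by
    have hRF : R ≤ Cfsg.fittingOf M := fittingHallOf_le_fittingOf M
    by_contra h
    rw [← hS.fitting_normalizer] at h
    exact hx1 (hS.fitting_TI g h x (hRF (side_fixed_le hS hx)) (hRF (side_fixed_le hS hgx)))
  obtain ⟨a, ha, w, hw, rfl⟩ := hS.typeP.W₁_compl.2.2.2 g hgM
  obtain ⟨r, hr, v, hv, rfl⟩ := hS.typeP.U_compl.2.2.2 a ha
  have hrN : r ∈ normalizer (W' : Set G) := centralizer_le_normalizer _ (mem_centralizer_iff.2
    fun z hz => (side_core_abelian hS h0 (side_fixed_le hS hz) hr).eq)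
  have hwN : w ∈ normalizer (W' : Set G) := centralizer_le_normalizer _ (mem_centralizer_iff.2
    fun z hz => (hS.typeP.selfNormalizing.2.2.2.1 w hw z hz).symm)
  have hvN : v ∈ normalizer (W' : Set G) := by
    have := mul_mem (mul_mem (inv_mem hrN) hg) (inv_mem hwN)
    rwa [show r⁻¹ * (r * v * w) * w⁻¹ = v by group] at this
  have hv1 : v = 1 := by
    by_contra hv1
    haveI : IsCyclic W' := isCyclic_of_prime_card rfl
    set φ := (W').normalizerMonoidHom with hφ
    have h1 : orderOf (φ ⟨v, hvN⟩) ∣ Nat.card U :=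
      (orderOf_map_dvd φ _).trans (by rw [orderOf_mk]; exact orderOf_dvd_card_of_mem hv)
    have h2 : orderOf (φ ⟨v, hvN⟩) ∣ Nat.card W' - 1 := by
      refine (_root_.orderOf_dvd_natCard _).trans (dvd_of_eq ?_)
      rw [IsCyclic.card_mulAut, Nat.totient_prime hS.p_prime]
    have h3 : φ ⟨v, hvN⟩ = 1 := orderOf_eq_one_iff.1
      (Nat.eq_one_of_dvd_coprimes (side_card_U_coprime hS hF) h1 h2)
    rw [← MonoidHom.mem_ker, hφ, normalizerMonoidHom_ker, mem_subgroupOf] at h3
    have h4 : v * x * v⁻¹ * x⁻¹ = 1 := by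
      rw [← mem_centralizer_iff.1 h3 x hx]; group
    have h5 := hF.fpf v hv hv1 x (side_fixed_le hS hx) (h4 ▸ one_mem _)
    exact hx1 (mem_bot.1 (h0 ▸ h5))
  rw [hv1, mul_one]
  exact mul_mem (mem_sup_left hr) (mem_sup_right hw)

/-- A subgroup of prime order `|W|` in `R W` is a conjugate of `W` by an element of `R`. -/
private theorem side_conj_W (hS : Side M W U W') {X : Subgroup G}
    (hX : X ≤ Cfsg.fittingHallOf M ⊔ W) (hc : Nat.card X = Nat.card W) :
    ∃ y ∈ Cfsg.fittingHallOf M, W.map (MulAut.conj y).toMonoidHom = X := by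
  have hsol : Group.IsSolvable W := by
    haveI := Fact.mk hS.q_prime
    haveI : IsCyclic W := isCyclic_of_prime_card rfl
    exact Group.isSolvable_of_comm fun a b => mul_comm' a b
  obtain ⟨y, hy, e⟩ := Solvable.exists_conj_eq_of_coprime
    (hS.typeP.W₁_compl.2.1.trans (le_normalizer_fittingHallOf M)) hX hc
    (hS.coprime_W.coprime_dvd_left (card_dvd_of_le hS.typeP.U_compl.1)) (Or.inr hsol)
  exact ⟨y, hy, e⟩

/-- An elementary abelian cyclic piece of `R` has order at most `|W'|`. -/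
private theorem side_card_cyclic_le (hS : Side M W U W') (h0 : fixCore M U = ⊥) {A : Subgroup G}
    (hA : A ≤ Cfsg.fittingHallOf M) (hc : IsCyclic A) : Nat.card A ∣ Nat.card W' := by
  obtain ⟨g, hg⟩ := hc.exists_generator
  rw [← orderOf_eq_card_of_forall_mem_zpowers hg, ← Subgroup.orderOf_coe]
  exact orderOf_dvd_of_pow_eq_one (side_core_pow hS h0 (hA g.2))

end OneSide

variable (hG : Cfsg.IsMinSimpleOddOrder G)
include hG

/-- A group of two primes acting freely on `Z(K)` is cyclic. -/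
private theorem lf_commute_of_fpf {K A : Subgroup G} (hK : Group.IsNilpotent K) (hK1 : K ≠ ⊥)
    (hAK : A ≤ normalizer (K : Set G))
    (hfpf : ∀ a ∈ A, a ≠ 1 → K ⊓ centralizer ({a} : Set G) = ⊥) {r s : ℕ} (hr : r.Prime)
    (hs : s.Prime) (hcard : Nat.card A = r * s) : IsCyclic A := by
  haveI := hK
  haveI : IsMulCommutative (K ⊓ centralizer (K : Set G) : Subgroup G) :=
    ⟨⟨fun a b => Subtype.ext (b.2.2 a a.2.1)⟩⟩
  refine Frobenius.isCyclic_of_card_mul_fpf (V := K ⊓ centralizer (K : Set G)) ?_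
    (fun a ha => inf_normalizer_le_normalizer_inf
      ⟨hAK ha, normalizer_le_normalizer_centralizer _ (hAK ha)⟩)
    (fun a ha ha1 => le_bot_iff.1 ((inf_le_inf_right _ inf_le_left).trans (hfpf a ha ha1).le))
    hr hs hcard
  haveI : Nontrivial K := (nontrivial_iff_ne_bot K).2 hK1
  obtain ⟨z, hz, hz1⟩ := (bot_or_exists_ne_one (center K)).resolve_left
    (Group.IsNilpotent.center_ne_bot K)
  intro h
  refine hz1 (Subtype.ext (mem_bot.1 (h ▸ (⟨z.2, fun a ha => ?_⟩ :
    (z : G) ∈ K ⊓ centralizer (K : Set G)))))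
  exact congrArg Subtype.val (mem_center_iff.1 hz ⟨a, ha⟩)

variable {S T W₁ W₂ U V : Subgroup G}

private theorem lf_normalizer_not_le (hpd : PairData S T W₁ W₂ U V) :
    ¬ normalizer (U : Set G) ≤ S := by
  obtain ⟨A, B, C, hP, -, -, -, -, hN, -⟩ := hpd.typeII
  obtain ⟨m, hm, e⟩ := TypeP.exists_conj_U (isSolvable_of_ne_top hG hpd.maxS.1) hP hpd.typeS
  intro h
  refine hN fun g hg => ?_
  have h1 : m * g * m⁻¹ ∈ normalizer (U : Set G) := by
    rw [← e]
    refine mem_normalizer_iff.2 fun x => ?_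
    simp only [mem_pointwise_smul_iff_inv_smul_mem, ← map_inv, MulAut.smul_def,
      MulAut.conj_apply, inv_inv]
    rw [(mem_normalizer_iff.1 hg) (m⁻¹ * x * m)]
    exact Iff.of_eq (congrArg (· ∈ B) (by group))
  have := mul_mem (mul_mem (inv_mem hm) (h h1)) hm
  rwa [show m⁻¹ * (m * g * m⁻¹) * m = g by group] at this

/-- `U` has order prime to `q`. -/
private theorem lf_card_U_modEq (hS : Side S W₁ U W₂) :
    Nat.card U ≡ 1 [MOD Nat.card W₁] := by
  refine ((Nat.modEq_iff_dvd' Nat.card_pos).2 ?_).symm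
  refine CfsgLib.Parabolic.card_dvd_card_sub_one U
    (fun a ha v hv => (mem_normalizer_iff.1 (hS.typeP.U_normal ha) v).1 hv) fun a ha v hv h => ?_
  by_cases ha1 : a = 1
  · exact Or.inl ha1
  refine Or.inr (mem_bot.1 (hS.U_frob a ha ha1 ▸ mem_inf.2 ⟨hv, mem_centralizer_singleton_iff.2 ?_⟩))
  calc v * a = a * v * a⁻¹ * a := by rw [h]
    _ = a * v := by group

private theorem lf_coprime_U_W (hS : Side S W₁ U W₂) :
    (Nat.card U).Coprime (Nat.card W₁) :=
  hS.coprime_W.coprime_dvd_left (card_dvd_of_le hS.typeP.U_compl.2.1)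

omit hG in
private theorem lf_map_conj_sigma_le {M : Subgroup G} (g : G) :
    (Cfsg.fittingHallOf M).map (MulAut.conj g).toMonoidHom ≤ M.map (MulAut.conj g).toMonoidHom :=
  map_mono (TypeP.fittingHallOf_le M)

theorem exists_LData (hfrob : ∀ M : Subgroup G, IsFType M → IsFrob M)
    (hpd : PairData S T W₁ W₂ U V) (hS : Side S W₁ U W₂) (hT : Side T W₂ V W₁)
    (hS' : SideFull S W₁ U W₂) (hT' : SideFull T W₂ V W₁)
    (hS0 : fixCore S U = ⊥) (hT0 : fixCore T V = ⊥) :
    ∃ L : Subgroup G, LData S T W₁ W₂ U L := by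
  classical
  set q := Nat.card W₁ with hqdef
  set p := Nat.card W₂ with hpdef
  have hq : q.Prime := hS.q_prime
  have hp : p.Prime := hS.p_prime
  haveI := Fact.mk hq
  haveI := Fact.mk hp
  obtain ⟨-, hqp, hW1T, hW2S, -, -⟩ := pair_basics hG hpd
  have hpq : p ≠ q := fun h => hq.one_lt.ne' (Nat.Coprime.eq_one_of_dvd hqp (by rw [← hpdef, h]))
  have hUS : U ≤ S := TypeP.U_le hS.typeP
  have hW1S : W₁ ≤ S := hS.typeP.W₁_compl.2.1
  have hW1N : W₁ ≤ normalizer (U : Set G) := hS.typeP.U_normal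
  -- a maximal subgroup over `N(U)`
  have hNU : normalizer (U : Set G) ≠ ⊤ := fun h => by
    haveI := hG.2.1
    rcases IsSimpleGroup.eq_bot_or_eq_top_of_normal U (normalizer_eq_top_iff.1 h) with h1 | h1
    · exact hS.U_ne h1
    · exact hpd.maxS.1 (top_le_iff.1 (h1 ▸ hUS))
  obtain ⟨L, hL, hNL⟩ := (eq_top_or_exists_le_coatom (normalizer (U : Set G))).resolve_left hNU
  have hUL : U ≤ L := le_normalizer.trans hNL
  have hW1L : W₁ ≤ L := hW1N.trans hNL
  have hnS : NotConj S L := by
    intro g hg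
    haveI : Group.IsSolvable L := isSolvable_of_ne_top hG hL.1
    have hcS : Nat.card S = Nat.card (Cfsg.fittingHallOf S) * Nat.card U * q := by
      rw [lf_card_eq_mul hS.typeP.W₁_compl, lf_card_eq_mul hS.typeP.U_compl]
    have hcL : Nat.card L = Nat.card S := by
      rw [hg, card_map_of_injective (MulAut.conj g).injective]
    have hUg : U.map (MulAut.conj g).toMonoidHom ≤ L := hg ▸ map_mono hUS
    have hhall : ∀ X : Subgroup G, X ≤ L → Nat.card X = Nat.card U →
        Cfsg.IsPiHall {s | s.Prime ∧ s ∣ Nat.card U} (X.subgroupOf L) := by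
      intro X hX hXc
      have hc := Nat.card_congr (subgroupOfEquivOfLe hX).toEquiv
      refine ⟨fun s hs hd => ⟨hs, by rwa [hc, hXc] at hd⟩, fun s hs hsπ hd => ?_⟩
      have hm := (X.subgroupOf L).card_mul_index
      rw [hc, hXc, hcL, hcS] at hm
      have hi : (X.subgroupOf L).index = Nat.card (Cfsg.fittingHallOf S) * q :=
        Nat.eq_of_mul_eq_mul_left Nat.card_pos (hm.trans (by ring))
      rw [hi] at hd
      rcases hs.dvd_mul.1 hd with h | h
      · exact hs.one_lt.ne' (Nat.eq_one_of_dvd_coprimes hS.coprime h hsπ.2)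
      · exact hs.one_lt.ne' (Nat.eq_one_of_dvd_coprimes (lf_coprime_U_W hG hS) hsπ.2 h)
    obtain ⟨⟨s, hsL⟩, hs⟩ := Solvable.isPiHall_conj
      (hhall _ hUg (by rw [card_map_of_injective (MulAut.conj g).injective])) (hhall U hUL rfl)
    have hU' : U.map (MulAut.conj (s * g)).toMonoidHom = U := by
      refine eq_of_le_of_card_ge (fun x hx => ?_)
        (le_of_eq (card_map_of_injective (MulAut.conj (s * g)).injective).symm)
      obtain ⟨u, hu, rfl⟩ := mem_map.1 hx
      have h1 : (⟨g * u * g⁻¹, hUg ⟨u, hu, rfl⟩⟩ : L) ∈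
          (U.map (MulAut.conj g).toMonoidHom).subgroupOf L := mem_subgroupOf.2 ⟨u, hu, rfl⟩
      have h2 : (⟨s, hsL⟩ : L) * ⟨g * u * g⁻¹, hUg ⟨u, hu, rfl⟩⟩ * (⟨s, hsL⟩ : L)⁻¹ ∈
          U.subgroupOf L := hs ▸ smul_mem_pointwise_smul _ (MulAut.conj (⟨s, hsL⟩ : L)) _ h1
      have h3 := mem_subgroupOf.1 h2
      simpa [mul_assoc] using h3
    have hh : s * g ∈ L := hNL (mem_normalizer_iff_map_conj_eq.2 hU')
    have hgL : g ∈ L := by have := mul_mem (inv_mem hsL) hh; rwa [inv_mul_cancel_left] at this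
    rw [hg, mem_map] at hgL
    obtain ⟨x, hx, hxe⟩ := hgL
    have hgS : g ∈ S := by
      have : x = g := by
        simp only [MulEquiv.coe_toMonoidHom, MulAut.conj_apply] at hxe
        calc x = g⁻¹ * (g * x * g⁻¹) * g := by group
          _ = g := by rw [hxe]; group
      rwa [← this]
    refine lf_normalizer_not_le hG hpd (hNL.trans (le_of_eq ?_))
    rw [hg]
    exact mem_normalizer_iff_map_conj_eq.1 (le_normalizer hgS)
  have hnT : NotConj T L := by
    intro g hg
    set R := (Cfsg.fittingHallOf T).map (MulAut.conj g).toMonoidHom with hR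
    have hRn : L ≤ normalizer (R : Set G) := by
      rw [hg, hR]
      exact (map_mono (le_normalizer_fittingHallOf T)).trans (le_normalizer_map _)
    have hRq : ∀ r ∈ R, r ^ q = 1 := by
      rintro _ ⟨r, hr, rfl⟩
      rw [← map_pow, side_core_pow hT hT0 hr, map_one]
    -- `q` divides neither `|V|` nor `p`
    have hidx : ¬ q ∣ R.relIndex L := by
      have hcT : Nat.card T = Nat.card (Cfsg.fittingHallOf T) * Nat.card V * p := by
        rw [lf_card_eq_mul hT.typeP.W₁_compl, lf_card_eq_mul hT.typeP.U_compl]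
      have h2 := relIndex_mul_relIndex ⊥ R L bot_le (hg ▸ lf_map_conj_sigma_le g)
      rw [relIndex_bot_left, relIndex_bot_left, hR, hg,
        card_map_of_injective (MulAut.conj g).injective,
        card_map_of_injective (MulAut.conj g).injective, hcT, mul_assoc] at h2
      rw [hR, hg, Nat.eq_of_mul_eq_mul_left Nat.card_pos h2]
      intro hd
      rcases hq.dvd_mul.1 hd with h | h
      · exact hq.one_lt.ne' (Nat.eq_one_of_dvd_coprimes hT.coprime
          (card_dvd_of_le (side_fixed_le hT)) h)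
      · exact hpq ((Nat.prime_dvd_prime_iff_eq hq hp).1 h).symm
    have hRL : R ≤ L := hg ▸ lf_map_conj_sigma_le g
    haveI : (R.subgroupOf L).Normal := normal_subgroupOf_of_le_normalizer hRn
    have hWR : W₁ ≤ R := fun w hw => by
      have h1 : orderOf (QuotientGroup.mk' (R.subgroupOf L) ⟨w, hW1L hw⟩) ∣ q :=
        (orderOf_map_dvd _ _).trans (by rw [orderOf_mk]; exact orderOf_dvd_card_of_mem hw)
      have h2 : orderOf (QuotientGroup.mk' (R.subgroupOf L) ⟨w, hW1L hw⟩) ∣ R.relIndex L := by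
        rw [relIndex, index_eq_card]; exact orderOf_dvd_natCard _
      rcases (Nat.dvd_prime hq).1 h1 with h | h
      · rw [orderOf_eq_one_iff, QuotientGroup.mk'_apply, QuotientGroup.eq_one_iff] at h
        exact mem_subgroupOf.1 h
      · exact absurd (h ▸ h2) hidx
    obtain ⟨w, hw, hw1⟩ := lf_exists_ne_one hS.typeP.W₁_ne
    obtain ⟨u, hu, hu1⟩ := lf_exists_ne_one hS.U_ne
    have hR' : u * w * u⁻¹ * w⁻¹ ∈ R :=
      mul_mem ((mem_normalizer_iff.1 (hRn (hUL hu)) w).1 (hWR hw)) (inv_mem (hWR hw))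
    have hU' : u * w * u⁻¹ * w⁻¹ ∈ U := by
      rw [show u * w * u⁻¹ * w⁻¹ = u * (w * u⁻¹ * w⁻¹) by group]
      exact mul_mem hu ((mem_normalizer_iff.1 (hW1N hw) u⁻¹).1 (inv_mem hu))
    have h1 : u * w * u⁻¹ * w⁻¹ = 1 := orderOf_eq_one_iff.1 (Nat.eq_one_of_dvd_coprimes
      (lf_coprime_U_W hG hS) (orderOf_dvd_card_of_mem hU') (orderOf_dvd_of_pow_eq_one (hRq _ hR')))
    refine hu1 (mem_bot.1 (hS.U_frob w hw hw1 ▸ mem_inf.2 ⟨hu, mem_centralizer_singleton_iff.2 ?_⟩))
    calc u * w = u * w * u⁻¹ * w⁻¹ * (w * u) := by group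
      _ = w * u := by rw [h1, one_mul]
  have hLF : IsFType L := ⟨hL, Set.not_nonempty_iff_eq_empty.1 fun h =>
    (hpd.cover L hL h).elim (fun h => h hnS) fun h => h hnT⟩
  have hfr : IsFrob L := hfrob L hLF
  obtain ⟨hKnil, hK1, hKlt, -⟩ := core_facts hG hLF
  set K := Cfsg.sigmaCore L with hKdef
  haveI := hKnil
  have hKn : L ≤ normalizer (K : Set G) := le_normalizer_piCoreOf _ L
  -- the core is prime to `p q`
  have hnot : ∀ (M : Subgroup G) (r : ℕ), r.Prime → IsCoatom M → NotConj M L →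
      r ∣ Nat.card (Cfsg.sigmaCore M) → r ∉ Cfsg.sigma L := fun M r hr hM hn hd h => by
    obtain ⟨g, hg⟩ := (Cfsg.Agent.S1378.result hG).2 M L hM hL ⟨r, sigma_of_dvd_sigmaCore hr hd, h⟩
    exact hn g hg
  have hqσ : q ∉ Cfsg.sigma L := hnot T q hq hpd.maxT hnT (card_dvd_of_le hW1T)
  have hpσ : p ∉ Cfsg.sigma L := hnot S p hp hpd.maxS hnS (card_dvd_of_le hW2S)
  have hKcop : (Nat.card K).Coprime (q * p) :=
    Nat.Coprime.mul_right
      (hq.coprime_iff_not_dvd.2 fun h => hqσ (sigma_of_dvd_sigmaCore hq h)).symm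
      (hp.coprime_iff_not_dvd.2 fun h => hpσ (sigma_of_dvd_sigmaCore hp h)).symm
  -- freeness outside the core
  have hfree : ∀ a ∈ L, a ∉ K → K ⊓ centralizer ({a} : Set G) = ⊥ := fun a ha haK =>
    (eq_bot_iff_forall _).2 fun z hz => by_contra fun hz1 => haK (hfr z hz.1 hz1
      ⟨ha, mem_centralizer_singleton_iff.2 (mem_centralizer_singleton_iff.1 hz.2).symm⟩)
  obtain ⟨E, hW1E, hEc⟩ := exists_complement_ge hG hL hW1L fun r hr hd h =>
    hqσ ((Nat.prime_dvd_prime_iff_eq hr hq).1 hd ▸ h)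
  have hEL : E ≤ L := hEc.1
  have hEfpf : ∀ a ∈ E, a ≠ 1 → K ⊓ centralizer ({a} : Set G) = ⊥ := fun a ha ha1 =>
    hfree a (hEL ha) fun h => ha1 (mem_bot.1 (hEc.2.2.1 ▸ ⟨ha, h⟩))
  have hecard : Nat.card E = K.relIndex L := card_complement hEc
  -- `U ≤ K`
  haveI := hS'.cyclic
  have hUK : U ≤ K := by
    have key : ∀ r : ℕ, r.Prime → r ∣ Nat.card U → r ∈ Cfsg.sigma L := by
      intro r hr hd
      by_contra hrσ
      haveI := Fact.mk hr
      obtain ⟨v, hv⟩ := exists_prime_orderOf_dvd_card' r hd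
      set X := zpowers (v : G) with hX
      have hXU : X ≤ U := zpowers_le.2 v.2
      have hXc : Nat.card X = r := by rw [hX, Nat.card_zpowers, Subgroup.orderOf_coe, hv]
      have hrq : r ≠ q := fun h => hr.one_lt.ne'
        (Nat.eq_one_of_dvd_coprimes (lf_coprime_U_W hG hS) hd (h ▸ dvd_rfl))
      have hWX : W₁ ≤ normalizer (X : Set G) := by
        intro w hw
        rw [mem_normalizer_iff_map_conj_eq]
        have hle : X.map (MulAut.conj w).toMonoidHom ≤ U := fun x hx => by
          obtain ⟨a, ha, rfl⟩ := mem_map.1 hx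
          exact (mem_normalizer_iff.1 (hW1N hw) a).1 (hXU ha)
        have h := Frobenius.eq_of_card_eq_prime_of_isCyclic hr
          (X := (X.map (MulAut.conj w).toMonoidHom).subgroupOf U) (Y := X.subgroupOf U)
          (by rw [Nat.card_congr (subgroupOfEquivOfLe hle).toEquiv,
            card_map_of_injective (MulAut.conj w).injective, hXc])
          (by rw [Nat.card_congr (subgroupOfEquivOfLe hXU).toEquiv, hXc])
        rwa [subgroupOf_inj, inf_eq_left.2 hle, inf_eq_left.2 hXU] at h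
      have hcard : Nat.card ↥(X ⊔ W₁) = r * q := by
        rw [Solvable.card_sup_of_disjoint hWX (disjoint_of_coprime_natCard (by
          rw [hXc]; exact (Nat.coprime_primes hr hq).2 hrq)), hXc]
      have hAL : X ⊔ W₁ ≤ L := sup_le (hXU.trans hUL) hW1L
      have hcyc : IsCyclic ↥(X ⊔ W₁) := by
        refine lf_commute_of_fpf hG hKnil hK1 (hAL.trans hKn) (fun a ha ha1 => hfree a (hAL ha)
          fun haK => ha1 (orderOf_eq_one_iff.1 (Nat.eq_one_of_dvd_coprimes ?_
            (orderOf_dvd_card_of_mem haK) (hcard ▸ orderOf_dvd_card_of_mem ha)))) hr hq hcard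
        exact Nat.Coprime.mul_right
          (hr.coprime_iff_not_dvd.2 fun h => hrσ (sigma_of_dvd_sigmaCore hr h)).symm
          (hKcop.coprime_dvd_right (dvd_mul_right q p))
      haveI := hcyc
      obtain ⟨w, hw, hw1⟩ := lf_exists_ne_one hS.typeP.W₁_ne
      have hcomm : (v : G) * w = w * v := congrArg Subtype.val
        (mul_comm' (⟨v, mem_sup_left (mem_zpowers _)⟩ : ↥(X ⊔ W₁)) ⟨w, mem_sup_right hw⟩)
      have : (v : G) = 1 :=
        mem_bot.1 (hS.U_frob w hw hw1 ▸ mem_inf.2 ⟨v.2, mem_centralizer_singleton_iff.2 hcomm⟩)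
      rw [← Subgroup.orderOf_coe, this, orderOf_one] at hv
      exact hr.ne_one hv.symm
    intro u hu
    rw [hKdef, mem_sigmaCore_iff hG hL (hUL hu)]
    exact fun r hr hd => key r hr (hd.trans (orderOf_dvd_card_of_mem hu))
  -- the complement
  have hEN : E ≤ normalizer (K : Set G) := hEL.trans hKn
  have hcyc2 : ∀ (A : Subgroup G) (r s : ℕ), A ≤ E → r.Prime → s.Prime → Nat.card A = r * s →
      IsCyclic A := fun A r s hA hr hs hc =>
    lf_commute_of_fpf hG hKnil hK1 (hA.trans hEN) (fun a ha => hEfpf a (hA ha)) hr hs hc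
  haveI : Group.IsSolvable E := isSolvable_of_ne_top hG fun h => hL.1 (top_le_iff.1 (h ▸ hEL))
  have hE1 : E ≠ ⊥ := fun h => hS.typeP.W₁_ne (le_bot_iff.1 (h ▸ hW1E))
  have hTR : normalizer (W₁ : Set G) ≤ Cfsg.fittingHallOf T ⊔ W₂ :=
    side_normalizer_fixed_le hT hT' hT0
  have hEW : E ≤ normalizer (W₁ : Set G) := by
    haveI : Nontrivial E := (nontrivial_iff_ne_bot E).2 hE1
    obtain ⟨N, hNn, hN1, -, hmin⟩ := Solvable.exists_minimal_normal_le (⊤ : Subgroup E) top_ne_bot
    haveI := hNn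
    obtain ⟨hNab, r, hr, hNexp⟩ := Cfsg.Agent.S0043.result N hN1 hmin
    haveI := Fact.mk hr
    set X := N.map E.subtype with hX
    have hXE : X ≤ E := map_subtype_le N
    haveI := hNab
    haveI : IsMulCommutative X := by rw [hX]; infer_instance
    have hXexp : ∀ x ∈ X, x ^ r = 1 := by
      rintro _ ⟨x, hx, rfl⟩
      rw [← map_pow, hNexp x hx, map_one]
    have hXcyc : IsCyclic X := by
      haveI : IsMulCommutative (K ⊓ centralizer (K : Set G) : Subgroup G) :=
        ⟨⟨fun a b => Subtype.ext (b.2.2 a a.2.1)⟩⟩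
      refine Frobenius.isCyclic_of_commutative_fpf (V := K ⊓ centralizer (K : Set G)) ?_
        (fun a ha => inf_normalizer_le_normalizer_inf ⟨(hXE.trans hEN) ha,
          normalizer_le_normalizer_centralizer _ ((hXE.trans hEN) ha)⟩)
        fun a ha ha1 => le_bot_iff.1 ((inf_le_inf_right _ inf_le_left).trans
          (hEfpf a (hXE ha) ha1).le)
      haveI : Nontrivial K := (nontrivial_iff_ne_bot K).2 hK1
      obtain ⟨z, hz, hz1⟩ := (bot_or_exists_ne_one (center K)).resolve_left
        (Group.IsNilpotent.center_ne_bot K)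
      intro h
      refine hz1 (Subtype.ext (mem_bot.1 (h ▸ (⟨z.2, fun a ha => ?_⟩ :
        (z : G) ∈ K ⊓ centralizer (K : Set G)))))
      exact congrArg Subtype.val (mem_center_iff.1 hz ⟨a, ha⟩)
    have hXc : Nat.card X = r := by
      obtain ⟨g, hg⟩ := hXcyc.exists_generator
      have hd : Nat.card X ∣ r := by
        rw [← orderOf_eq_card_of_forall_mem_zpowers hg, ← Subgroup.orderOf_coe]
        exact orderOf_dvd_of_pow_eq_one (hXexp g g.2)
      refine ((Nat.dvd_prime hr).1 hd).resolve_left fun h => hN1 ?_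
      rw [hX, card_map_of_injective E.subtype_injective] at h
      exact card_eq_one.1 h
    have hXn : E ≤ normalizer (X : Set G) := by
      have h := le_normalizer_map (H := N) E.subtype
      rw [normalizer_eq_top_iff.2 hNn, ← MonoidHom.range_eq_map, Subgroup.range_subtype] at h
      exact h
    have hWX : W₁ ≤ normalizer (X : Set G) := hW1E.trans hXn
    by_cases hXW : X = W₁
    · exact hXW ▸ hXn
    have hdis : Disjoint X W₁ := by
      rw [disjoint_iff]
      refine (Subgroup.eq_bot_or_eq_top_of_prime_card ((X ⊓ W₁).subgroupOf W₁)).elim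
        (fun h => ?_) fun h => ?_
      · rwa [subgroupOf_eq_bot, disjoint_iff, inf_of_le_left inf_le_right] at h
      · exfalso
        rw [subgroupOf_eq_top] at h
        have hle : W₁ ≤ X := h.trans inf_le_left
        rcases (Nat.dvd_prime hr).1 (hXc ▸ card_dvd_of_le hle) with h' | h'
        · exact hq.ne_one h'
        · exact hXW (eq_of_le_of_card_ge hle (by rw [hXc]; exact h'.ge)).symm
    have hcard : Nat.card ↥(X ⊔ W₁) = r * q := by
      rw [Solvable.card_sup_of_disjoint hWX hdis, hXc]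
    have hAE : X ⊔ W₁ ≤ E := sup_le hXE hW1E
    haveI := hcyc2 (X ⊔ W₁) r q hAE hr hq hcard
    have hrq : r ≠ q := fun h => by
      subst h
      have := Frobenius.eq_of_card_eq_prime_of_isCyclic hq (X := X.subgroupOf (X ⊔ W₁))
        (Y := W₁.subgroupOf (X ⊔ W₁))
        (by rw [Nat.card_congr (subgroupOfEquivOfLe le_sup_left).toEquiv, hXc])
        (by rw [Nat.card_congr (subgroupOfEquivOfLe le_sup_right).toEquiv])
      rw [subgroupOf_inj, inf_eq_left.2 le_sup_left, inf_eq_left.2 le_sup_right] at this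
      exact hXW this
    have hXC : X ≤ centralizer (W₁ : Set G) := fun x hx => mem_centralizer_iff.2 fun w hw =>
      congrArg Subtype.val (mul_comm' (⟨w, mem_sup_right hw⟩ : ↥(X ⊔ W₁)) ⟨x, mem_sup_left hx⟩)
    have hXT : X ≤ Cfsg.fittingHallOf T ⊔ W₂ :=
      (hXC.trans (centralizer_le_normalizer _)).trans hTR
    have hrp : r = p := by
      have h := (hXc ▸ card_dvd_of_le hXT).trans (Solvable.card_sup_dvd
        (hT.typeP.W₁_compl.2.1.trans (le_normalizer_fittingHallOf T)))
      rcases hr.dvd_mul.1 h with h | h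
      · haveI := Fact.mk hr
        obtain ⟨v, hv⟩ := exists_prime_orderOf_dvd_card' r h
        refine absurd ((Nat.prime_dvd_prime_iff_eq hr hq).1 ?_) hrq
        rw [← hv, ← Subgroup.orderOf_coe]
        exact orderOf_dvd_of_pow_eq_one (side_core_pow hT hT0 v.2)
      · exact (Nat.prime_dvd_prime_iff_eq hr hp).1 h
    obtain ⟨y, -, hy⟩ := side_conj_W hT hXT (hXc.trans hrp)
    set R := (Cfsg.fittingHallOf S).map (MulAut.conj y).toMonoidHom with hR
    set W := W₁.map (MulAut.conj y).toMonoidHom with hW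
    have hER : E ≤ R ⊔ W := by
      intro e he
      rw [hR, hW, ← Subgroup.map_sup]
      refine mem_map_conj_iff.2 (side_normalizer_fixed_le hS hS' hS0 ?_)
      refine mem_normalizer_iff.2 fun x => ?_
      have h1 := mem_normalizer_iff.1 (hXn he) (y * x * y⁻¹)
      simp only [← hy, mem_map_conj_iff] at h1
      convert h1 using 2 <;> group
    have hRX : E ⊓ R = X := by
      refine (eq_of_le_of_card_ge (le_inf hXE ?_) ?_).symm
      · rw [← hy, hR]; exact map_mono (side_fixed_le hS)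
      · haveI : IsMulCommutative ↥(E ⊓ R) := ⟨⟨fun a b => by
          obtain ⟨a', ha', ea⟩ := a.2.2
          obtain ⟨b', hb', eb⟩ := b.2.2
          refine Subtype.ext ?_
          change (a : G) * b = b * a
          rw [← ea, ← eb, ← map_mul, ← map_mul, (side_core_abelian hS hS0 ha' hb').eq]⟩⟩
        haveI : IsMulCommutative (K ⊓ centralizer (K : Set G) : Subgroup G) :=
          ⟨⟨fun a b => Subtype.ext (b.2.2 a a.2.1)⟩⟩
        have hc : IsCyclic ↥(E ⊓ R) := by
          refine Frobenius.isCyclic_of_commutative_fpf (V := K ⊓ centralizer (K : Set G)) ?_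
            (fun a ha => inf_normalizer_le_normalizer_inf ⟨hEN ha.1,
              normalizer_le_normalizer_centralizer _ (hEN ha.1)⟩)
            fun a ha ha1 => le_bot_iff.1 ((inf_le_inf_right _ inf_le_left).trans
              (hEfpf a ha.1 ha1).le)
          haveI : Nontrivial K := (nontrivial_iff_ne_bot K).2 hK1
          obtain ⟨z, hz, hz1⟩ := (bot_or_exists_ne_one (center K)).resolve_left
            (Group.IsNilpotent.center_ne_bot K)
          intro h
          refine hz1 (Subtype.ext (mem_bot.1 (h ▸ (⟨z.2, fun a ha => ?_⟩ :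
            (z : G) ∈ K ⊓ centralizer (K : Set G)))))
          exact congrArg Subtype.val (mem_center_iff.1 hz ⟨a, ha⟩)
        obtain ⟨g, hg⟩ := hc.exists_generator
        obtain ⟨g', hg', eg⟩ := g.2.2
        rw [hXc, hrp, ← orderOf_eq_card_of_forall_mem_zpowers hg, ← Subgroup.orderOf_coe, ← eg]
        refine Nat.le_of_dvd hp.pos (orderOf_dvd_of_pow_eq_one ?_)
        rw [← map_pow, side_core_pow hS hS0 hg', map_one]
    have hRn : R ⊔ W ≤ normalizer (R : Set G) := by
      refine sup_le le_normalizer ?_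
      rw [hR, hW]
      exact (map_mono (hW1S.trans (le_normalizer_fittingHallOf S))).trans (le_normalizer_map _)
    have hle : Nat.card E ≤ Nat.card ↥(X ⊔ W₁) := by
      have h2 := relIndex_mul_relIndex ⊥ (E ⊓ R) E bot_le inf_le_left
      rw [relIndex_bot_left, relIndex_bot_left, hRX, hXc] at h2
      rw [← h2, hcard]
      refine Nat.mul_le_mul_left r ?_
      haveI : (R.subgroupOf (R ⊔ W)).Normal := normal_subgroupOf_of_le_normalizer hRn
      have h3 : (E ⊓ R).relIndex E = R.relIndex E := inf_relIndex_left E R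
      rw [hRX] at h3
      rw [h3]
      refine (relIndex_le_of_le_right hER ?_).trans ?_
      · exact index_ne_zero_of_finite
      · rw [Solvable.relIndex_sup_of_le_normalizer (le_sup_right.trans hRn)]
        refine (Nat.le_of_dvd Nat.card_pos (relIndex_dvd_card R W)).trans (le_of_eq ?_)
        rw [hW, card_map_of_injective (MulAut.conj y).injective]
    have hEX : E ≤ X ⊔ W₁ := (eq_of_le_of_card_ge hAE hle).ge
    exact hEX.trans (sup_le (hXC.trans (centralizer_le_normalizer _)) le_normalizer)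
  have hET : E ≤ Cfsg.fittingHallOf T ⊔ W₂ := hEW.trans hTR
  set R := Cfsg.fittingHallOf T with hR
  have hW1R : W₁ ≤ R := side_fixed_le hT
  have hER : E ⊓ R = W₁ := by
    refine (eq_of_le_of_card_ge (le_inf hW1E hW1R) ?_).symm
    haveI : IsMulCommutative ↥(E ⊓ R) :=
      ⟨⟨fun a b => Subtype.ext (side_core_abelian hT hT0 a.2.2 b.2.2).eq⟩⟩
    haveI : IsMulCommutative (K ⊓ centralizer (K : Set G) : Subgroup G) :=
      ⟨⟨fun a b => Subtype.ext (b.2.2 a a.2.1)⟩⟩
    refine Nat.le_of_dvd hq.pos (side_card_cyclic_le hT hT0 inf_le_right ?_)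
    refine Frobenius.isCyclic_of_commutative_fpf (V := K ⊓ centralizer (K : Set G)) ?_
      (fun a ha => inf_normalizer_le_normalizer_inf ⟨hEN ha.1,
        normalizer_le_normalizer_centralizer _ (hEN ha.1)⟩)
      fun a ha ha1 => le_bot_iff.1 ((inf_le_inf_right _ inf_le_left).trans
        (hEfpf a ha.1 ha1).le)
    haveI : Nontrivial K := (nontrivial_iff_ne_bot K).2 hK1
    obtain ⟨z, hz, hz1⟩ := (bot_or_exists_ne_one (center K)).resolve_left
      (Group.IsNilpotent.center_ne_bot K)
    intro h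
    refine hz1 (Subtype.ext (mem_bot.1 (h ▸ (⟨z.2, fun a ha => ?_⟩ :
      (z : G) ∈ K ⊓ centralizer (K : Set G)))))
    exact congrArg Subtype.val (mem_center_iff.1 hz ⟨a, ha⟩)
  have hW2n : W₂ ≤ normalizer (R : Set G) :=
    hT.typeP.W₁_compl.2.1.trans (le_normalizer_fittingHallOf T)
  have hEcard : Nat.card E = q ∨ Nat.card E = q * p := by
    have h2 := relIndex_mul_relIndex ⊥ (E ⊓ R) E bot_le inf_le_left
    rw [relIndex_bot_left, relIndex_bot_left] at h2
    have h3 : (E ⊓ R).relIndex E = R.relIndex E := inf_relIndex_left E R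
    rw [h3, hER] at h2
    have h4 : R.relIndex E ∣ p := by
      haveI : (R.subgroupOf (R ⊔ W₂)).Normal :=
        normal_subgroupOf_of_le_normalizer (sup_le le_normalizer hW2n)
      refine dvd_trans ?_ (relIndex_dvd_card R W₂)
      rw [← Solvable.relIndex_sup_of_le_normalizer hW2n]
      have h5 := relIndex_dvd_index_of_normal (R.subgroupOf (R ⊔ W₂)) (E.subgroupOf (R ⊔ W₂))
      rwa [relIndex_subgroupOf hET] at h5
    rcases (Nat.dvd_prime hp).1 h4 with h | h <;> rw [h] at h2
    · exact Or.inl (by rw [← h2, mul_one])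
    · exact Or.inr h2.symm
  have hKU_congr : Nat.card U ≡ 1 [MOD p] := by
    have h := hS'.card
    rw [← hpdef, ← hqdef] at h
    have h1 : (Nat.card U : ℤ) * ((p : ℤ) - 1) = (p : ℤ) ^ q - 1 := by
      have h2 : 1 ≤ p ^ q := Nat.one_le_pow _ _ hp.pos
      have := congrArg (fun n : ℕ => (n : ℤ)) h
      simp only [Nat.cast_mul, Nat.cast_sub hp.one_le, Nat.cast_sub h2, Nat.cast_one,
        Nat.cast_pow] at this
      exact this
    rw [← Int.natCast_modEq_iff, Int.modEq_iff_dvd]
    obtain ⟨k, hk⟩ : (p : ℤ) ∣ (p : ℤ) ^ q := dvd_pow_self _ hq.ne_zero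
    exact ⟨k - Nat.card U, by push_cast; linear_combination h1 + hk⟩
  refine ⟨L, ⟨hLF, hfr, hnS, hnT, hNL, hUK, hKcop, ?_, fun he hKU => ?_, fun he => ?_,
    fun hKU => ?_⟩⟩
  · exact hecard ▸ hEcard
  · -- `e = q` and `K = U`
    rw [← hKdef] at hKU
    rw [← hecard] at he
    have hE' : E = W₁ := (eq_of_le_of_card_ge hW1E he.le).symm
    have hLS : L ≤ S := fun m hm => by
      obtain ⟨a, ha, b, hb, rfl⟩ := hEc.2.2.2 m hm
      exact mul_mem (hW1S (hE' ▸ ha)) (hUS (hKU ▸ hb))
    exact hnS 1 (by rw [map_conj_one]; exact ((hL.le_iff_eq hpd.maxS.1).1 hLS).symm)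
  · rw [← hecard] at he
    haveI : Fact (Nat.card W₂).Prime := ⟨hp⟩
    obtain ⟨x, hx⟩ := exists_prime_orderOf_dvd_card' (G := E) p (he ▸ dvd_mul_left p q)
    obtain ⟨y, hy, e⟩ := side_conj_W hT (X := zpowers (x : G)) (zpowers_le.2 (hET x.2))
      (by rw [Nat.card_zpowers, Subgroup.orderOf_coe, hx])
    exact ⟨y, hy, e.le.trans (zpowers_le.2 (hEL x.2))⟩
  · rw [← hKdef, ← hecard] at *
    set m := U.relIndex K with hm
    have hcard : Nat.card U * m = Nat.card K := by
      have := relIndex_mul_relIndex ⊥ U K bot_le hUK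
      rwa [relIndex_bot_left, relIndex_bot_left] at this
    have hK1e : Nat.card K ≡ 1 [MOD Nat.card E] := by
      refine ((Nat.modEq_iff_dvd' Nat.card_pos).2 ?_).symm
      refine CfsgLib.Parabolic.card_dvd_card_sub_one K
        (fun a ha v hv => (mem_normalizer_iff.1 (hEN ha) v).1 hv) fun a ha v hv h => ?_
      by_cases ha1 : a = 1
      · exact Or.inl ha1
      refine Or.inr (mem_bot.1 (hEfpf a ha ha1 ▸ mem_inf.2 ⟨hv, mem_centralizer_singleton_iff.2 ?_⟩))
      calc v * a = a * v * a⁻¹ * a := by rw [h]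
        _ = a * v := by group
    have hUe : Nat.card U ≡ 1 [MOD Nat.card E] := by
      rcases hEcard with h | h <;> rw [h]
      · exact lf_card_U_modEq hG hS
      · exact (Nat.modEq_and_modEq_iff_modEq_mul hqp).1 ⟨lf_card_U_modEq hG hS, hKU_congr⟩
    have hm1 : m ≡ 1 [MOD Nat.card E] :=
      (show m ≡ Nat.card U * m [MOD Nat.card E] by
        simpa only [one_mul] using (hUe.mul_right m).symm).trans (by rw [hcard]; exact hK1e)
    have hmne : m ≠ 1 := fun h => hKU (eq_of_le_of_card_ge hUK (by rw [← hcard, h, mul_one])).symm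
    have hmpos : 0 < m := by
      by_contra h
      rw [Nat.le_zero.1 (not_lt.1 h), mul_zero] at hcard
      exact Nat.card_pos.ne hcard
    obtain ⟨k, hk⟩ := (Nat.modEq_iff_dvd' hmpos).1 hm1.symm
    obtain ⟨a, ha⟩ := odd_card_subgroup hG K
    obtain ⟨b, hb⟩ := odd_card_subgroup hG E
    have hmodd : Odd m := (Nat.odd_mul.1 (show Odd (Nat.card U * m) by rw [hcard]; exact ⟨a, ha⟩)).2
    have hk2 : 2 ≤ k := by
      obtain ⟨c, hc⟩ := hmodd
      by_contra hlt
      interval_cases k <;> omega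
    have hm2 : 2 * Nat.card E + 1 ≤ m := by
      have := Nat.mul_le_mul_left (Nat.card E) hk2
      omega
    calc (2 * Nat.card E + 1) * Nat.card U ≤ m * Nat.card U := Nat.mul_le_mul_right _ hm2
      _ = Nat.card K := by rw [mul_comm, hcard]

end CfsgLib.FT
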