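import Cfsg.Agent.Lib.Char.CentralOver
import Cfsg.Agent.Lib.Char.Virtual
import Cfsg.Agent.Lib.OddChar.DadeVirtual
import Cfsg.Agent.Lib.OddChar.Virt
import Mathlib.GroupTheory.Perm.Cycle.Type
import Mathlib.RingTheory.RootsOfUnity.Lemmas

/-!
PROJECT FT: congruences modulo `1 - ω` for values of virtual characters.
-/

set_option autoImplicit false

open ComplexConjugate

namespace CfsgLib.FT

/-- Congruence modulo `1 - ω` in the algebraic integers. -/
def CongOne (ω a b : ℂ) : Prop := ∃ r : ℂ, IsIntegral ℤ r ∧ a - b = (1 - ω) * r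

namespace CongOne

variable {ω a b c d : ℂ}

theorem refl (ω a : ℂ) : CongOne ω a a := ⟨0, isIntegral_zero, by ring⟩

theorem symm (h : CongOne ω a b) : CongOne ω b a := by
  obtain ⟨r, hr, e⟩ := h
  exact ⟨-r, hr.neg, by linear_combination -e⟩

theorem trans (h : CongOne ω a b) (h' : CongOne ω b c) : CongOne ω a c := by
  obtain ⟨r, hr, e⟩ := h
  obtain ⟨s, hs, e'⟩ := h'
  exact ⟨r + s, hr.add hs, by linear_combination e + e'⟩

theorem add (h : CongOne ω a b) (h' : CongOne ω c d) : CongOne ω (a + c) (b + d) := by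
  obtain ⟨r, hr, e⟩ := h
  obtain ⟨s, hs, e'⟩ := h'
  exact ⟨r + s, hr.add hs, by linear_combination e + e'⟩

theorem mul_left (hc : IsIntegral ℤ c) (h : CongOne ω a b) : CongOne ω (c * a) (c * b) := by
  obtain ⟨r, hr, e⟩ := h
  exact ⟨c * r, hc.mul hr, by linear_combination c * e⟩

theorem sum {ι : Type*} (s : Finset ι) {f g : ι → ℂ} (h : ∀ i ∈ s, CongOne ω (f i) (g i)) :
    CongOne ω (∑ i ∈ s, f i) (∑ i ∈ s, g i) := by
  classical
  induction s using Finset.induction_on with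
  | empty => simpa using refl ω 0
  | insert i s hi ih =>
    rw [Finset.sum_insert hi, Finset.sum_insert hi]
    exact (h i (Finset.mem_insert_self i s)).add (ih fun j hj => h j (Finset.mem_insert_of_mem hj))

theorem natCast_mul_zero {p : ℕ} (hp : p.Prime) (hω : IsPrimitiveRoot ω p)
    (ha : IsIntegral ℤ a) : CongOne ω ((p : ℂ) * a) 0 := by
  obtain ⟨q, rfl⟩ : ∃ q, p = q + 1 := ⟨p - 1, (Nat.sub_add_cancel hp.pos).symm⟩
  have hint : IsIntegral ℤ ω := IsPrimitiveRoot.isIntegral hω hp.pos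
  have hq : 0 < q := by have := hp.two_le; omega
  have hprod := hω.prod_one_sub_pow_eq_order
  rw [← Finset.mul_prod_erase _ _ (Finset.mem_range.2 hq), zero_add, pow_one] at hprod
  refine ⟨(∏ k ∈ (Finset.range q).erase 0, (1 - ω ^ (k + 1))) * a,
    (IsIntegral.prod _ fun k _ => isIntegral_one.sub (hint.pow _)).mul ha, ?_⟩
  push_cast
  rw [sub_zero, ← mul_assoc, hprod]

theorem of_natModEq {p : ℕ} (hp : p.Prime) (hω : IsPrimitiveRoot ω p) {m n : ℕ}
    (h : m ≡ n [MOD p]) (ha : IsIntegral ℤ a) : CongOne ω ((m : ℂ) * a) ((n : ℂ) * a) := by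
  obtain ⟨k, hk⟩ := (Nat.modEq_iff_dvd.1 h.symm)
  obtain ⟨r, hr, e⟩ := natCast_mul_zero hp hω ((isIntegral_algebraMap (x := k)).mul ha)
  refine ⟨r, hr, ?_⟩
  have hk' : (m : ℂ) - n = (p : ℂ) * (k : ℂ) := by exact_mod_cast hk
  simp only [algebraMap_int_eq, eq_intCast, sub_zero] at e
  linear_combination e + a * hk'

/-- A nonzero scalar prime to `p` cancels. -/
theorem cancel {p : ℕ} (hp : p.Prime) (hω : IsPrimitiveRoot ω p) {n : ℕ} (hn : ¬ p ∣ n)
    (ha : IsIntegral ℤ a) (hb : IsIntegral ℤ b) (h : CongOne ω ((n : ℂ) * a) ((n : ℂ) * b)) :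
    CongOne ω a b := by
  obtain ⟨u, v, huv⟩ : ∃ u v : ℤ, u * (n : ℤ) + v * (p : ℤ) = 1 :=
    Int.isCoprime_iff_gcd_eq_one.2 (by
      rw [Int.gcd_natCast_natCast]; exact (hp.coprime_iff_not_dvd.2 hn).symm)
  have hu : IsIntegral ℤ (u : ℂ) := by simpa using isIntegral_algebraMap (R := ℤ) (A := ℂ) (x := u)
  have hv : IsIntegral ℤ (v : ℂ) := by simpa using isIntegral_algebraMap (R := ℤ) (A := ℂ) (x := v)
  obtain ⟨r, hr, e⟩ := h.mul_left hu
  obtain ⟨s, hs, e'⟩ := natCast_mul_zero hp hω (hv.mul (ha.sub hb))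
  refine ⟨r + s, hr.add hs, ?_⟩
  have huv' : (u : ℂ) * (n : ℂ) + (v : ℂ) * (p : ℂ) = 1 := by exact_mod_cast huv
  linear_combination e + e' - (a - b) * huv'

end CongOne

/-- A sum invariant under a permutation of `p`-power order is congruent to its sum over the
fixed points. -/
theorem congOne_sum_fixed {α : Type*} [Fintype α] [DecidableEq α] {p : ℕ} (hp : p.Prime) {ω : ℂ}
    (hω : IsPrimitiveRoot ω p) (σ : Equiv.Perm α) (hσ : σ ^ p = 1) (F : α → ℂ)
    (hF : ∀ a, F (σ a) = F a) (hint : ∀ a, IsIntegral ℤ (F a)) :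
    CongOne ω (∑ a, F a) (∑ a ∈ Finset.univ.filter (fun a => σ a = a), F a) := by
  classical
  haveI := Fact.mk hp
  rw [← Finset.sum_fiberwise_of_maps_to (t := Finset.univ.image F) (g := F)
    (fun a _ => Finset.mem_image_of_mem _ (Finset.mem_univ a)),
    ← Finset.sum_fiberwise_of_maps_to (s := Finset.univ.filter (fun a => σ a = a))
    (t := Finset.univ.image F) (g := F)
    (fun a _ => Finset.mem_image_of_mem _ (Finset.mem_univ a))]
  refine CongOne.sum _ fun v hv => ?_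
  obtain ⟨a₀, -, rfl⟩ := Finset.mem_image.1 hv
  let τ : Equiv.Perm {a // F a = F a₀} := σ.subtypePerm fun a => by simp [hF]
  have hτ : τ ^ p ^ 1 = 1 := by
    rw [pow_one, Equiv.Perm.subtypePerm_pow]
    ext a
    simp [hσ]
  have hcard := Equiv.Perm.card_compl_support_modEq hτ
  have e1 : τ.supportᶜ.card =
      ((Finset.univ.filter (fun a => σ a = a)).filter (fun a => F a = F a₀)).card := by
    rw [← Finset.card_map (Function.Embedding.subtype _)]
    congr 1
    ext a
    simp only [Finset.mem_map, Finset.mem_compl, Equiv.Perm.mem_support, not_not,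
      Function.Embedding.coe_subtype, Finset.mem_filter, Finset.mem_univ, true_and]
    constructor
    · rintro ⟨b, hb, rfl⟩
      exact ⟨congrArg Subtype.val hb, b.2⟩
    · exact fun h => ⟨⟨a, h.2⟩, Subtype.ext h.1, rfl⟩
  rw [Fintype.card_subtype, e1] at hcard
  rw [Finset.sum_congr rfl (fun a ha => (Finset.mem_filter.1 ha).2),
    Finset.sum_congr rfl (s₁ := (Finset.univ.filter (fun a => σ a = a)).filter _)
      (fun a ha => (Finset.mem_filter.1 ha).2),
    Finset.sum_const, Finset.sum_const, nsmul_eq_mul, nsmul_eq_mul]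
  exact CongOne.of_natModEq hp hω hcard.symm (hint a₀)

variable {G : Type*} [Group G] [Fintype G]

/-- A homomorphism from the product of two elementwise commuting subgroups. -/
def prodHom (N R : Subgroup G) (hc : ∀ a ∈ N, ∀ u ∈ R, a * u = u * a) : ↥N × ↥R →* G where
  toFun t := (t.1 : G) * t.2
  map_one' := by simp
  map_mul' s t := by
    show (s.1 : G) * t.1 * ((s.2 : G) * t.2) = (s.1 : G) * s.2 * ((t.1 : G) * t.2)
    calc (s.1 : G) * t.1 * ((s.2 : G) * t.2) = (s.1 : G) * (t.1 * s.2) * t.2 := by group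
      _ = (s.1 : G) * (s.2 * t.1) * t.2 := by rw [hc _ t.1.2 _ s.2.2]
      _ = _ := by group

theorem commute_zpowers {y u : G} (h : u * y = y * u) {a : G} (ha : a ∈ Subgroup.zpowers y) :
    a * u = u * a := by
  obtain ⟨k, rfl⟩ := Subgroup.mem_zpowers_iff.1 ha
  exact ((show Commute u y from h).zpow_right k).symm.eq

/-- The average of a virtual character over a coset of a centralised subgroup is integral. -/
theorem isIntegral_coset_average {ψ : G → ℂ} (hψ : Cfsg.IsGeneralizedCharacter G ψ) (y : G)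
    (R : Subgroup G) [Fintype R] (hy : ∀ u ∈ R, u * y = y * u) :
    IsIntegral ℤ ((Nat.card R : ℂ)⁻¹ * ∑ u : R, ψ (y * u)) := by
  classical
  let N := Subgroup.zpowers y
  letI : Fintype N := Fintype.ofFinite N
  have hab : ∀ s t : N, s * t = t * s := fun s t =>
    Subtype.ext (commute_zpowers (commute_zpowers rfl t.2) s.2)
  let ι := prodHom N R fun a ha u hu => commute_zpowers (hy u hu) ha
  let f : N → ℂ := fun t => (Nat.card R : ℂ)⁻¹ * ∑ u : R, ψ ((t : G) * u)
  have hf : Cfsg.IsClassFunction N f := fun a b => by rw [hab b a, mul_inv_cancel_right]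
  have hcoef : ∀ ν : Cfsg.IrrCharacter N, ∃ z : ℤ, Cfsg.classInner f (ν : N → ℂ) = z := by
    intro ν
    obtain ⟨z, hz⟩ := OddChar.exists_int_classInner_gen (K := ↥N × ↥R)
      (Char.IsGeneralizedCharacter.comp hψ ι)
      (Char.IsGeneralizedCharacter.comp (Char.IsIrrCharacter.isGeneralizedCharacter ν.2)
        (MonoidHom.fst ↥N ↥R))
    refine ⟨z, hz ▸ ?_⟩
    simp only [Cfsg.classInner, f, Nat.card_prod, Fintype.sum_prod_type, Nat.cast_mul, mul_inv,
      Function.comp_apply, Finset.mul_sum, Finset.sum_mul]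
    refine Finset.sum_congr rfl fun t _ => Finset.sum_congr rfl fun u _ => ?_
    simp only [ι, prodHom, MonoidHom.coe_mk, OneHom.coe_mk, MonoidHom.coe_fst]
    ring
  choose z hz using hcoef
  have he := congrFun (Char.IsClassFunction.eq_sum_classInner hf) ⟨y, Subgroup.mem_zpowers y⟩
  show IsIntegral ℤ (f ⟨y, Subgroup.mem_zpowers y⟩)
  rw [he, Finset.sum_apply]
  refine IsIntegral.sum _ fun ν _ => ?_
  rw [Pi.smul_apply, smul_eq_mul, hz]
  exact IsIntegral.mul (by simpa using isIntegral_algebraMap (R := ℤ) (A := ℂ) (x := z ν))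
    (Char.IsGeneralizedCharacter.isIntegral_apply
      (Char.IsIrrCharacter.isGeneralizedCharacter ν.2) _)

/-- Multiplying by a commuting element of order `p` does not change a virtual character modulo
`1 - ω`. -/
theorem congOne_mul_of_order {ψ : G → ℂ} (hψ : Cfsg.IsGeneralizedCharacter G ψ) {p : ℕ}
    (hp : p.Prime) {ω : ℂ} (hω : IsPrimitiveRoot ω p) {x y : G} (hx : x ^ p = 1)
    (hxy : x * y = y * x) : CongOne ω (ψ (x * y)) (ψ y) := by
  classical
  haveI : NeZero p := ⟨hp.ne_zero⟩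
  let X := Subgroup.zpowers x
  let N := Subgroup.zpowers y
  let ι := prodHom X N fun a ha u hu =>
    commute_zpowers (y := x) (commute_zpowers (y := y) hxy hu) ha
  have hab : ∀ s t : ↥X × ↥N, s * t = t * s := fun s t => Prod.ext
    (Subtype.ext (commute_zpowers (commute_zpowers rfl t.1.2) s.1.2))
    (Subtype.ext (commute_zpowers (commute_zpowers rfl t.2.2) s.2.2))
  letI : Fintype (↥X × ↥N) := Fintype.ofFinite _
  obtain ⟨z, e, -, -⟩ := OddChar.exists_int_coeff (Char.IsGeneralizedCharacter.comp hψ ι)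
  have h1 := congrFun e (⟨x, Subgroup.mem_zpowers x⟩, ⟨y, Subgroup.mem_zpowers y⟩)
  have h2 := congrFun e ((1 : ↥X), ⟨y, Subgroup.mem_zpowers y⟩)
  simp only [ι, prodHom, Function.comp_apply, MonoidHom.coe_mk, OneHom.coe_mk, OneMemClass.coe_one,
    one_mul, Finset.sum_apply, Pi.smul_apply, smul_eq_mul] at h1 h2
  rw [h1, h2]
  refine CongOne.sum _ fun ν _ => CongOne.mul_left
    (by simpa using isIntegral_algebraMap (R := ℤ) (A := ℂ) (x := z ν)) ?_
  obtain ⟨hν1, hνm, -⟩ := CharOver.abelian_irr hab ν.2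
  have hsplit : (ν : ↥X × ↥N → ℂ) (⟨x, Subgroup.mem_zpowers x⟩, ⟨y, Subgroup.mem_zpowers y⟩) =
      (ν : ↥X × ↥N → ℂ) ((1 : ↥X), ⟨y, Subgroup.mem_zpowers y⟩) *
      (ν : ↥X × ↥N → ℂ) (⟨x, Subgroup.mem_zpowers x⟩, (1 : ↥N)) := by
    rw [← hνm]; simp
  rw [hsplit]
  set a := (ν : ↥X × ↥N → ℂ) ((1 : ↥X), ⟨y, Subgroup.mem_zpowers y⟩)
  set w := ((⟨x, Subgroup.mem_zpowers x⟩ : ↥X), (1 : ↥N))
  have hpow : ∀ n : ℕ, (ν : ↥X × ↥N → ℂ) w ^ n = (ν : ↥X × ↥N → ℂ) (w ^ n) := by
    intro n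
    induction n with
    | zero => simp [hν1]
    | succ n ih => rw [pow_succ, pow_succ, hνm, ih]
  have hw : (ν : ↥X × ↥N → ℂ) w ^ p = 1 := by
    rw [hpow, show w ^ p = 1 from Prod.ext (Subtype.ext (by simpa [w] using hx)) (by simp [w]), hν1]
  obtain ⟨i, -, hi⟩ := hω.eq_pow_of_pow_eq_one hw
  have hωint : IsIntegral ℤ ω := IsPrimitiveRoot.isIntegral hω hp.pos
  have hbase : CongOne ω (ω ^ i) 1 :=
    ⟨-∑ l ∈ Finset.range i, ω ^ l, (IsIntegral.sum _ fun l _ => hωint.pow l).neg,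
      by rw [mul_neg, mul_neg_geom_sum]; ring⟩
  rw [← hi]
  simpa using hbase.mul_left (Char.IsGeneralizedCharacter.isIntegral_apply
    (Char.IsIrrCharacter.isGeneralizedCharacter ν.2) ((1 : ↥X), ⟨y, Subgroup.mem_zpowers y⟩))

end CfsgLib.FT
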