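import Cfsg.Agent.S1506
import Cfsg.Agent.Lib.OddChar.CyclicDual
import Cfsg.Agent.Lib.OddChar.CyclicUnique
import Cfsg.Agent.Lib.OddChar.Coherence

/-!
PROJECT FT module PairPins: virtual characters of small norm on the grid of a cyclic TI family.

`pin`: a virtual character of norm `2` equal to `ω - ω'` outside `W₁ ∪ W₂`, with `ω, ω'` in one row,
is `χ ω - χ ω'`.
`line`: a virtual character of norm at most `|W₁| + 1` vanishing there, orthogonal to `1`, whose inner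
products along the rows are those of a column, is minus that column plus a signed irreducible
character orthogonal to the grid.
-/

set_option autoImplicit false
set_option linter.style.haveILetI false

namespace CfsgLib.FT.PairPins

open Finset

section Grid

variable {I J : Type*} [Fintype I] [Fintype J] [DecidableEq I] [DecidableEq J]

theorem abs_le_one_of_sq_le {d : I → J → ℤ} (hsq : ∑ p : I × J, d p.1 p.2 ^ 2 ≤ 2) (i : I) (j : J) :
    -1 ≤ d i j ∧ d i j ≤ 1 := by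
  have h := le_trans (Finset.single_le_sum (f := fun p : I × J => d p.1 p.2 ^ 2)
    (fun p _ => sq_nonneg _) (Finset.mem_univ (i, j))) hsq
  constructor <;> nlinarith

theorem one_le_sq {x : ℤ} (h : x ≠ 0) : 1 ≤ x ^ 2 :=
  Int.add_one_le_iff.2 (lt_of_le_of_ne (sq_nonneg x) (pow_ne_zero 2 h).symm)

theorem not_three {d : I → J → ℤ} (hsq : ∑ p : I × J, d p.1 p.2 ^ 2 ≤ 2) {a b c : I × J}
    (hab : a ≠ b) (hac : a ≠ c) (hbc : b ≠ c) (ha : d a.1 a.2 ≠ 0) (hb : d b.1 b.2 ≠ 0)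
    (hc : d c.1 c.2 ≠ 0) : False := by
  have h := le_trans (Finset.sum_le_sum_of_subset_of_nonneg (f := fun p : I × J => d p.1 p.2 ^ 2)
    (Finset.subset_univ {a, b, c}) (fun p _ _ => sq_nonneg _)) hsq
  rw [Finset.sum_insert (by simp [hab, hac]), Finset.sum_insert (by simp [hbc]),
    Finset.sum_singleton] at h
  have ha' := one_le_sq ha
  have hb' := one_le_sq hb
  have hc' := one_le_sq hc
  linarith

/-- The arithmetic of `pin`. -/
theorem grid_pin (d : I → J → ℤ) (i₀ : I) {j₁ j₂ : J} (hne : j₁ ≠ j₂)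
    (hI : 3 ≤ Fintype.card I) (hJ : 3 ≤ Fintype.card J)
    (hrect : ∀ i k j l,
      (d i j - (if i = i₀ ∧ j = j₁ then 1 else 0) + (if i = i₀ ∧ j = j₂ then 1 else 0)) +
        (d k l - (if k = i₀ ∧ l = j₁ then 1 else 0) + (if k = i₀ ∧ l = j₂ then 1 else 0)) =
      (d i l - (if i = i₀ ∧ l = j₁ then 1 else 0) + (if i = i₀ ∧ l = j₂ then 1 else 0)) +
        (d k j - (if k = i₀ ∧ j = j₁ then 1 else 0) + (if k = i₀ ∧ j = j₂ then 1 else 0)))
    (hsq : ∑ p : I × J, d p.1 p.2 ^ 2 ≤ 2) : d i₀ j₁ = 1 ∧ d i₀ j₂ = -1 := by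
  classical
  obtain ⟨j₃, h31, h32⟩ : ∃ j, j ≠ j₁ ∧ j ≠ j₂ := by
    obtain ⟨j, -, hj⟩ := Finset.exists_mem_notMem_of_card_lt_card
      (s := {j₁, j₂}) (t := (Finset.univ : Finset J)) (by rw [Finset.card_pair hne, Finset.card_univ]; omega)
    simp only [Finset.mem_insert, Finset.mem_singleton, not_or] at hj
    exact ⟨j, hj⟩
  have hcol : ∀ i k, i ≠ i₀ → k ≠ i₀ → ∀ j, d i j = d k j := by
    intro i k hi hk j
    obtain ⟨l, hil, hkl⟩ : ∃ l, d i l = 0 ∧ d k l = 0 := by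
      by_contra h
      push Not at h
      obtain ⟨a, b, c, -, -, -, hab, hac, hbc⟩ :=
        Finset.two_lt_card_iff.1 (show 2 < (Finset.univ : Finset J).card by rw [Finset.card_univ]; omega)
      have hp : ∀ l, ∃ r, (r = i ∨ r = k) ∧ d r l ≠ 0 := fun l => by
        by_cases h0 : d i l = 0
        · exact ⟨k, Or.inr rfl, h l h0⟩
        · exact ⟨i, Or.inl rfl, h0⟩
      obtain ⟨ra, -, hra⟩ := hp a
      obtain ⟨rb, -, hrb⟩ := hp b
      obtain ⟨rc, -, hrc⟩ := hp c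
      exact not_three hsq (a := (ra, a)) (b := (rb, b)) (c := (rc, c))
        (fun e => hab (congrArg Prod.snd e)) (fun e => hac (congrArg Prod.snd e))
        (fun e => hbc (congrArg Prod.snd e)) hra hrb hrc
    have := hrect i k j l
    simp [hi, hk, hil, hkl] at this
    exact this
  have hzero : ∀ i, i ≠ i₀ → ∀ j, d i j = 0 := by
    intro i hi j
    by_contra hd
    obtain ⟨k, hki, hk0⟩ : ∃ k, k ≠ i ∧ k ≠ i₀ := by
      obtain ⟨k, -, hk⟩ := Finset.exists_mem_notMem_of_card_lt_card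
        (s := {i, i₀}) (t := (Finset.univ : Finset I)) (by rw [Finset.card_pair hi, Finset.card_univ]; omega)
      simp only [Finset.mem_insert, Finset.mem_singleton, not_or] at hk
      exact ⟨k, hk⟩
    have hdk : d k j ≠ 0 := by rwa [hcol k i hk0 hi]
    have hrow : ∀ l, d i₀ l = 0 := fun l => by
      by_contra h
      exact not_three hsq (a := (i, j)) (b := (k, j)) (c := (i₀, l))
        (fun e => hki (congrArg Prod.fst e).symm) (fun e => hi (congrArg Prod.fst e))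
        (fun e => hk0 (congrArg Prod.fst e)) hd hdk h
    have hone : ∀ l, l ≠ j → d i l = 0 := fun l hl => by
      by_contra h
      exact not_three hsq (a := (i, j)) (b := (k, j)) (c := (i, l))
        (fun e => hki (congrArg Prod.fst e).symm) (fun e => hl (congrArg Prod.snd e).symm)
        (fun e => hki (congrArg Prod.fst e)) hd hdk h
    have e1 := hrect i₀ i j₁ j₃
    have e2 := hrect i₀ i j₂ j₃
    simp [hi, hrow, hne, hne.symm, h31, h32] at e1 e2
    by_cases hj : j₃ = j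
    · have a1 := hone j₁ fun e => h31 (hj.trans e.symm)
      have a2 := hone j₂ fun e => h32 (hj.trans e.symm)
      omega
    · have := hone j₃ hj
      by_cases hj1 : j₁ = j
      · have := hone j₂ fun e => hne (hj1.trans e.symm)
        omega
      · have := hone j₁ hj1
        omega
  obtain ⟨k, hk0⟩ : ∃ k, k ≠ i₀ := Fintype.exists_ne_of_one_lt_card (by omega) i₀
  have e1 := hrect i₀ k j₁ j₃
  have e2 := hrect i₀ k j₂ j₃
  simp [hk0, hzero k hk0, hne, hne.symm, h31, h32] at e1 e2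
  have b1 := abs_le_one_of_sq_le hsq i₀ j₁
  have b2 := abs_le_one_of_sq_le hsq i₀ j₂
  omega

/-- The arithmetic of `line`. -/
theorem grid_line (d : I → J → ℤ) (i₀ : I) (j₀ : J) {j₁ : J} (hne : j₁ ≠ j₀) (hJ : 5 ≤ Fintype.card J)
    (hrect : ∀ i k j l, d i j + d k l = d i l + d k j) (h0 : d i₀ j₀ = 0)
    (hdiff : ∀ i j, j ≠ j₀ → j ≠ j₁ → d i j₁ = d i j - 1)
    (hsq : ∑ p : I × J, d p.1 p.2 ^ 2 ≤ Fintype.card I + 1) :
    ∀ i j, d i j = if j = j₁ then -1 else 0 := by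
  classical
  obtain ⟨j₂, h20, h21⟩ : ∃ j, j ≠ j₀ ∧ j ≠ j₁ := by
    obtain ⟨j, -, hj⟩ := Finset.exists_mem_notMem_of_card_lt_card
      (s := {j₀, j₁}) (t := (Finset.univ : Finset J)) (by rw [Finset.card_pair hne.symm, Finset.card_univ]; omega)
    simp only [Finset.mem_insert, Finset.mem_singleton, not_or] at hj
    exact ⟨j, hj⟩
  set r : I → ℤ := fun i => d i j₂ with hr
  set c : ℤ := d i₀ j₂
  have hj₀ : ∀ i, d i j₀ = r i - c := fun i => by
    have := hrect i i₀ j₀ j₂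
    simp only [hr, c] at *
    omega
  have hgen : ∀ i j, j ≠ j₀ → j ≠ j₁ → d i j = r i := fun i j h h' => by
    have e1 := hdiff i j h h'
    have e2 := hdiff i j₂ h20 h21
    simp only [hr] at *
    omega
  set f : I → ℤ := fun i => (r i - c) ^ 2 + (r i - 1) ^ 2 + ((Fintype.card J : ℤ) - 2) * r i ^ 2 with hf
  have hrow : ∀ i, ∑ j, d i j ^ 2 = f i := by
    intro i
    rw [← Finset.add_sum_erase _ _ (Finset.mem_univ j₀), ← Finset.add_sum_erase _ _
      (show j₁ ∈ Finset.univ.erase j₀ by simp [hne]), hj₀ i, hdiff i j₂ h20 h21,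
      Finset.sum_congr rfl (g := fun _ => r i ^ 2) (fun j hj => by
        simp only [Finset.mem_erase] at hj
        rw [hgen i j hj.2.1 hj.1]),
      Finset.sum_const, Finset.card_erase_of_mem (by simp [hne]),
      Finset.card_erase_of_mem (Finset.mem_univ _), Finset.card_univ, nsmul_eq_mul, hf]
    push_cast [Nat.cast_sub (show 2 ≤ Fintype.card J by omega), Nat.sub_sub]
    simp only [hr]
    ring
  rw [Fintype.sum_prod_type, Finset.sum_congr rfl (fun i _ => hrow i)] at hsq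
  have hJ' : (5 : ℤ) ≤ Fintype.card J := by exact_mod_cast hJ
  have h1 : ∀ i, 1 ≤ f i := fun i => by
    simp only [hf]
    rcases eq_or_ne (r i) 0 with h | h
    · rw [h]; nlinarith [sq_nonneg c]
    · have := one_le_sq h
      nlinarith [sq_nonneg (r i - c), sq_nonneg (r i - 1)]
  have hle : ∀ i, f i ≤ 2 := fun i => by
    rw [← Finset.add_sum_erase _ _ (Finset.mem_univ i)] at hsq
    have h2 : ((Finset.univ.erase i).card : ℤ) * 1 ≤ ∑ x ∈ Finset.univ.erase i, f x := by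
      have := Finset.card_nsmul_le_sum (Finset.univ.erase i) f 1 (fun x _ => h1 x)
      simpa using this
    rw [Finset.card_erase_of_mem (Finset.mem_univ _), Finset.card_univ,
      Nat.cast_sub (Fintype.card_pos_iff.2 ⟨i⟩)] at h2
    push_cast at h2
    linarith
  have hr0 : ∀ i, r i = 0 := fun i => by
    by_contra h
    have := one_le_sq h
    have := hle i
    simp only [hf] at this
    nlinarith [sq_nonneg (r i - c), sq_nonneg (r i - 1)]
  have hc : c = 0 := hr0 i₀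
  intro i j
  split_ifs with h
  · rw [h, hdiff i j₂ h20 h21]
    have := hr0 i
    simp only [hr] at this
    rw [this]; norm_num
  · by_cases h' : j = j₀
    · rw [h', hj₀, hr0, hc]; norm_num
    · rw [hgen i j h' h, hr0]

end Grid

variable {G : Type*} [Group G] [Fintype G] {W₁ W₂ : Subgroup G}

omit [Fintype G] in
theorem isGeneralized_of_signed {χ : G → ℂ}
    (h : Cfsg.IsIrrCharacter G χ ∨ Cfsg.IsIrrCharacter G (-χ)) :
    Cfsg.IsGeneralizedCharacter G χ := by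
  rcases h with h | h
  · exact CfsgLib.Char.IsIrrCharacter.isGeneralizedCharacter h
  · simpa using CfsgLib.Char.IsGeneralizedCharacter.neg
      (CfsgLib.Char.IsIrrCharacter.isGeneralizedCharacter h)

/-- Coefficients of a virtual character on a cyclic TI family, and Bessel. -/
theorem exists_coeff {χ : (↥(W₁ ⊔ W₂) →* ℂˣ) → (G → ℂ)} (hχ : Cfsg.IsCyclicTIFamily W₁ W₂ χ)
    {ι : Type*} [Fintype ι] (e : ι → (↥(W₁ ⊔ W₂) →* ℂˣ)) (he : Function.Injective e)
    {D : G → ℂ} (hD : Cfsg.IsGeneralizedCharacter G D) {n : ℕ} (hn : Cfsg.classInner D D = n) :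
    ∃ d : ι → ℤ, (∀ k, Cfsg.classInner D (χ (e k)) = d k) ∧ ∑ k, d k ^ 2 ≤ n := by
  classical
  choose d hd using fun k =>
    OddChar.Coh.exists_int_inner hD (isGeneralized_of_signed (hχ.irr_or_neg (e k)))
  refine ⟨d, hd, ?_⟩
  have h := (OddChar.Coh.bessel Finset.univ (fun k => χ (e k)) D
    (fun i _ j _ hij => by rw [hχ.orthonormal, if_neg fun h => hij (he h)])
    (fun _ => 1) (fun k => (d k : ℝ)) (fun i _ => by rw [hχ.orthonormal, if_pos rfl]; simp)
    (fun _ _ => one_pos) (fun k _ => by rw [hd]; simp)).1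
  rw [hn] at h
  simp only [div_one, Complex.natCast_re] at h
  exact_mod_cast h

/-- PIN: a virtual character of norm `2` that is `ω - ω'` on `W` outside `W₁ ∪ W₂`. -/
theorem pin (hW : Cfsg.IsSelfNormalizingCyclic W₁ W₂) (hodd : Odd (Nat.card ↥(W₁ ⊔ W₂)))
    {χ : (↥(W₁ ⊔ W₂) →* ℂˣ) → (G → ℂ)} (hχ : Cfsg.IsCyclicTIFamily W₁ W₂ χ)
    {D : G → ℂ} (hD : Cfsg.IsGeneralizedCharacter G D) (hn : Cfsg.classInner D D = 2)
    {ω ω' : ↥(W₁ ⊔ W₂) →* ℂˣ} (hne : ω ≠ ω')
    (h1 : ∀ w : ↥(W₁ ⊔ W₂), (w : G) ∈ W₁ → ω w = ω' w)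
    (hV : ∀ w : ↥(W₁ ⊔ W₂), (w : G) ∉ W₁ → (w : G) ∉ W₂ → D w = (ω w : ℂ) - (ω' w : ℂ)) :
    D = χ ω - χ ω' := by
  classical
  have hW' := hW
  obtain ⟨hne1, hne2, hdisj, hcomm, hc, -⟩ := hW'
  haveI := hc
  haveI : IsCyclic W₁ := isCyclic_of_injective (Subgroup.inclusion (le_sup_left (b := W₂)))
    (Subgroup.inclusion_injective _)
  haveI : IsCyclic W₂ := isCyclic_of_injective (Subgroup.inclusion (le_sup_right (a := W₁)))
    (Subgroup.inclusion_injective _)
  haveI : Finite (W₁ →* ℂˣ) := OddChar.finite_linearChar _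
  haveI : Finite (W₂ →* ℂˣ) := OddChar.finite_linearChar _
  letI := Fintype.ofFinite (W₁ →* ℂˣ)
  letI := Fintype.ofFinite (W₂ →* ℂˣ)
  obtain ⟨i, j, hi, hj, hbij⟩ := OddChar.exists_dual hdisj hcomm
  obtain ⟨⟨f₁, g₁⟩, e₁⟩ := hbij.2 ω
  obtain ⟨⟨f₂, g₂⟩, e₂⟩ := hbij.2 ω'
  simp only at e₁ e₂
  have hf : f₁ = f₂ := by
    refine congrArg Prod.fst (hbij.1 (a₁ := (f₁, g₂)) (a₂ := (f₂, g₂))
      (OddChar.sup_hom_ext (fun w hw => ?_) (fun w hw => ?_)))
    · have := h1 w hw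
      rw [← e₁, ← e₂] at this
      simp only [MonoidHom.mul_apply, hj _ w hw, mul_one] at this ⊢
      exact this
    · simp [hi _ w hw]
  subst hf
  have hg : g₁ ≠ g₂ := fun e => hne (by rw [← e₁, ← e₂, e])
  obtain ⟨d, hd, hsq⟩ := exists_coeff hχ (fun x : (W₁ →* ℂˣ) × (W₂ →* ℂˣ) => i x.1 * j x.2)
    hbij.1 hD (n := 2) (by simpa using hn)
  set θ := D - (χ ω - χ ω') with hθdef
  have hθ : Cfsg.IsGeneralizedCharacter G θ :=
    CfsgLib.Char.IsGeneralizedCharacter.sub hD (CfsgLib.Char.IsGeneralizedCharacter.sub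
      (isGeneralized_of_signed (hχ.irr_or_neg ω)) (isGeneralized_of_signed (hχ.irr_or_neg ω')))
  have hθV : ∀ w : ↥(W₁ ⊔ W₂), (w : G) ∉ W₁ → (w : G) ∉ W₂ → θ w = 0 := fun w ha hb => by
    simp [hθdef, hV w ha hb, hχ.eq_on _ w ha hb]
  have hcoef : ∀ f g, Cfsg.classInner θ (χ (i f * j g)) =
      ((d (f, g) - (if f = f₁ ∧ g = g₁ then 1 else 0) + (if f = f₁ ∧ g = g₂ then 1 else 0) : ℤ) : ℂ) := by
    intro f g
    have k1 : (ω = i f * j g) ↔ f = f₁ ∧ g = g₁ := by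
      rw [← e₁]
      exact ⟨fun h => by simpa [eq_comm] using hbij.1 (a₁ := (f₁, g₁)) (a₂ := (f, g)) h,
        fun h => by rw [h.1, h.2]⟩
    have k2 : (ω' = i f * j g) ↔ f = f₁ ∧ g = g₂ := by
      rw [← e₂]
      exact ⟨fun h => by simpa [eq_comm] using hbij.1 (a₁ := (f₁, g₂)) (a₂ := (f, g)) h,
        fun h => by rw [h.1, h.2]⟩
    rw [hθdef, CfsgLib.Char.classInner_sub_left, CfsgLib.Char.classInner_sub_left, hd (f, g),
      hχ.orthonormal, hχ.orthonormal]
    simp only [k1, k2]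
    split_ifs <;> push_cast <;> ring
  have hcard : ∀ {A : Subgroup G} [IsCyclic A] [Fintype (A →* ℂˣ)], A ≠ ⊥ → A ≤ W₁ ⊔ W₂ →
      3 ≤ Fintype.card (A →* ℂˣ) := fun {A} _ _ hA hle => by
    rw [← Nat.card_eq_fintype_card, OddChar.card_dual]
    exact OddChar.CyclicUnique.three_le_card hA hle hodd
  obtain ⟨d1, d2⟩ := grid_pin (fun f g => d (f, g)) f₁ hg (hcard hne1 le_sup_left)
    (hcard hne2 le_sup_right) (fun a b g g' => by
      have := Cfsg.Agent.S1506.result W₁ W₂ hW χ hχ θ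
        (CfsgLib.Char.IsGeneralizedCharacter.isClassFunction hθ) hθV (i a) (i b) (j g) (j g')
        (fun w h => ⟨hi _ w h, hi _ w h⟩) (fun w h => ⟨hj _ w h, hj _ w h⟩)
      rw [hcoef, hcoef, hcoef, hcoef] at this
      exact_mod_cast this) (by exact_mod_cast hsq)
  have a1 : Cfsg.classInner D (χ ω) = 1 := by rw [← e₁, hd (f₁, g₁), d1]; simp
  have a2 : Cfsg.classInner D (χ ω') = -1 := by rw [← e₂, hd (f₁, g₂), d2]; simp
  have b1 : Cfsg.classInner (χ ω) D = 1 := by rw [← CfsgLib.Char.classInner_conj_symm, a1, map_one]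
  have b2 : Cfsg.classInner (χ ω') D = -1 := by
    rw [← CfsgLib.Char.classInner_conj_symm, a2, map_neg, map_one]
  refine sub_eq_zero.1 (OddChar.Coh.classInner_self_eq_zero ?_)
  simp only [CfsgLib.Char.classInner_sub_left, CfsgLib.Char.classInner_sub_right, hn, a1, a2, b1, b2,
    hχ.orthonormal]
  simp [hne, hne.symm]
  norm_num

open Classical in
/-- LINE: a virtual character of norm `|W₁| + 1` vanishing on `W` outside `W₁ ∪ W₂`, orthogonal to
`1`, whose inner products along the rows are those of minus the column of `ω₁`, is minus that column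
plus a signed irreducible character orthogonal to the whole grid. -/
theorem line (hW : Cfsg.IsSelfNormalizingCyclic W₁ W₂)
    {χ : (↥(W₁ ⊔ W₂) →* ℂˣ) → (G → ℂ)} (hχ : Cfsg.IsCyclicTIFamily W₁ W₂ χ)
    [Fintype (↥(W₁ ⊔ W₂) →* ℂˣ)] (h5 : 5 ≤ Nat.card W₂)
    {D : G → ℂ} (hD : Cfsg.IsGeneralizedCharacter G D)
    (hn : Cfsg.classInner D D = (Nat.card W₁ + 1 : ℕ)) (h0 : Cfsg.classInner D (fun _ => 1) = 0)
    (hV : ∀ w : ↥(W₁ ⊔ W₂), (w : G) ∉ W₁ → (w : G) ∉ W₂ → D w = 0)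
    {ω₁ : ↥(W₁ ⊔ W₂) →* ℂˣ} (hω₁ : ¬ ∀ w : ↥(W₁ ⊔ W₂), (w : G) ∈ W₂ → ω₁ w = 1)
    (hrow : ∀ η η' : ↥(W₁ ⊔ W₂) →* ℂˣ, (∀ w : ↥(W₁ ⊔ W₂), (w : G) ∈ W₁ → η w = η' w) →
      (¬ ∀ w : ↥(W₁ ⊔ W₂), (w : G) ∈ W₂ → η w = 1) → (¬ ∀ w : ↥(W₁ ⊔ W₂), (w : G) ∈ W₂ → η' w = 1) →
      Cfsg.classInner D (χ η) - Cfsg.classInner D (χ η') =
        (if ∀ w : ↥(W₁ ⊔ W₂), (w : G) ∈ W₂ → η' w = ω₁ w then 1 else 0) -
          (if ∀ w : ↥(W₁ ⊔ W₂), (w : G) ∈ W₂ → η w = ω₁ w then 1 else 0)) :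
    ∃ ψ : G → ℂ, (Cfsg.IsIrrCharacter G ψ ∨ Cfsg.IsIrrCharacter G (-ψ)) ∧
      (∀ η, Cfsg.classInner ψ (χ η) = 0) ∧
      D = ψ - ∑ η ∈ Finset.univ.filter
        (fun η : ↥(W₁ ⊔ W₂) →* ℂˣ => ∀ w : ↥(W₁ ⊔ W₂), (w : G) ∈ W₂ → η w = ω₁ w), χ η := by
  have hW' := hW
  obtain ⟨hne1, hne2, hdisj, hcomm, hc, -⟩ := hW'
  haveI := hc
  haveI : IsCyclic W₁ := isCyclic_of_injective (Subgroup.inclusion (le_sup_left (b := W₂)))
    (Subgroup.inclusion_injective _)
  haveI : IsCyclic W₂ := isCyclic_of_injective (Subgroup.inclusion (le_sup_right (a := W₁)))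
    (Subgroup.inclusion_injective _)
  haveI : Finite (W₁ →* ℂˣ) := OddChar.finite_linearChar _
  haveI : Finite (W₂ →* ℂˣ) := OddChar.finite_linearChar _
  letI := Fintype.ofFinite (W₁ →* ℂˣ)
  letI := Fintype.ofFinite (W₂ →* ℂˣ)
  obtain ⟨i, j, hi, hj, hbij⟩ := OddChar.exists_dual hdisj hcomm
  have hI : Fintype.card (W₁ →* ℂˣ) = Nat.card W₁ := by
    rw [← Nat.card_eq_fintype_card, OddChar.card_dual]
  have hJ : Fintype.card (W₂ →* ℂˣ) = Nat.card W₂ := by
    rw [← Nat.card_eq_fintype_card, OddChar.card_dual]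
  have hagree : ∀ f g f' g', (∀ w : ↥(W₁ ⊔ W₂), (w : G) ∈ W₂ → (i f * j g) w = (i f' * j g') w) ↔
      g = g' := by
    intro f g f' g'
    constructor
    · intro h
      refine congrArg Prod.snd (hbij.1 (a₁ := (f, g)) (a₂ := (f, g'))
        (OddChar.sup_hom_ext (fun w hw => ?_) (fun w hw => ?_)))
      · simp [hj _ w hw]
      · have := h w hw
        simp only [MonoidHom.mul_apply, hi _ w hw, one_mul] at this ⊢
        exact this
    · rintro rfl w hw
      simp [hi _ w hw]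
  obtain ⟨⟨f₁, g₁⟩, e₁⟩ := hbij.2 ω₁
  simp only at e₁
  obtain ⟨⟨f₀, g₀⟩, e₀⟩ := hbij.2 1
  simp only at e₀
  have htriv : ∀ f g, (∀ w : ↥(W₁ ⊔ W₂), (w : G) ∈ W₂ → (i f * j g) w = 1) ↔ g = g₀ := by
    intro f g
    rw [← hagree f g f₀ g₀, e₀]
    simp only [MonoidHom.one_apply]
  have hcol : ∀ f g, (∀ w : ↥(W₁ ⊔ W₂), (w : G) ∈ W₂ → (i f * j g) w = ω₁ w) ↔ g = g₁ := by
    intro f g
    rw [← e₁]
    exact hagree f g f₁ g₁
  have hne : g₁ ≠ g₀ := fun e => hω₁ (by rw [← e₁]; exact (htriv f₁ g₁).2 e)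
  obtain ⟨d, hd, hsq⟩ := exists_coeff hχ (fun x : (W₁ →* ℂˣ) × (W₂ →* ℂˣ) => i x.1 * j x.2)
    hbij.1 hD hn
  have hgrid := grid_line (fun f g => d (f, g)) f₀ g₀ hne (by omega) (fun a b g g' => by
      have := Cfsg.Agent.S1506.result W₁ W₂ hW χ hχ D
        (CfsgLib.Char.IsGeneralizedCharacter.isClassFunction hD) hV (i a) (i b) (j g) (j g')
        (fun w h => ⟨hi _ w h, hi _ w h⟩) (fun w h => ⟨hj _ w h, hj _ w h⟩)
      rw [hd (a, g), hd (b, g'), hd (a, g'), hd (b, g)] at this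
      exact_mod_cast this)
    (by
      have h : Cfsg.classInner D (χ (i f₀ * j g₀)) = 0 := by rw [e₀, hχ.map_one, h0]
      rw [hd (f₀, g₀)] at h
      exact_mod_cast h)
    (fun f g hg hg' => by
      have := hrow (i f * j g) (i f * j g₁)
        (fun w hw => by simp [hj _ w hw])
        (fun h => hg ((htriv f g).1 h)) (fun h => hne ((htriv f g₁).1 h))
      rw [hd (f, g), hd (f, g₁), if_pos ((hcol f g₁).2 rfl), if_neg fun h => hg' ((hcol f g).1 h)] at this
      have h' : ((d (f, g) : ℂ)) - (d (f, g₁) : ℂ) = ((1 : ℤ) : ℂ) := by push_cast; linear_combination this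
      have h'' : d (f, g) - d (f, g₁) = 1 := by exact_mod_cast h'
      show d (f, g₁) = d (f, g) - 1
      omega)
    (by rw [hI]; exact_mod_cast hsq)
  set C := Finset.univ.filter
    (fun η : ↥(W₁ ⊔ W₂) →* ℂˣ => ∀ w : ↥(W₁ ⊔ W₂), (w : G) ∈ W₂ → η w = ω₁ w) with hC
  have hinC : ∀ f g, i f * j g ∈ C ↔ g = g₁ := fun f g => by
    rw [hC, Finset.mem_filter, hcol]; simp
  have hval : ∀ η, Cfsg.classInner D (χ η) = if η ∈ C then -1 else 0 := by
    intro η
    obtain ⟨⟨f, g⟩, rfl⟩ := hbij.2 η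
    show Cfsg.classInner D (χ (i f * j g)) = if i f * j g ∈ C then -1 else 0
    rw [hd (f, g), hgrid f g]
    by_cases hg : g = g₁
    · rw [if_pos hg, if_pos ((hinC f g).2 hg)]; simp
    · rw [if_neg hg, if_neg fun h => hg ((hinC f g).1 h)]; simp
  have hCcard : C.card = Nat.card W₁ := by
    rw [← hI, ← Finset.card_univ]
    refine (Finset.card_bij (fun f _ => i f * j g₁) (fun f _ => (hinC f g₁).2 rfl)
      (fun f _ f' _ h => ?_) (fun η hη => ?_)).symm
    · exact congrArg Prod.fst (hbij.1 (a₁ := (f, g₁)) (a₂ := (f', g₁)) h)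
    · obtain ⟨⟨f, g⟩, rfl⟩ := hbij.2 η
      exact ⟨f, Finset.mem_univ _, by rw [(hinC f g).1 hη]⟩
  set ψ := D + ∑ η ∈ C, χ η with hψ
  have hSη : ∀ η, Cfsg.classInner (∑ η' ∈ C, χ η') (χ η) = if η ∈ C then 1 else 0 := fun η => by
    rw [CfsgLib.Char.classInner_sum_left]
    simp only [hχ.orthonormal]
    split_ifs with hη
    · exact (Finset.sum_eq_single η (fun x _ hx => if_neg hx) (fun h => absurd hη h)).trans (if_pos rfl)
    · refine Finset.sum_eq_zero fun x hx => if_neg fun e => hη ?_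
      rw [← e]; exact hx
  have horth : ∀ η, Cfsg.classInner ψ (χ η) = 0 := fun η => by
    rw [hψ, CfsgLib.Char.classInner_add_left, hval, hSη]
    split_ifs <;> simp
  refine ⟨ψ, OddChar.irr_or_neg_of_norm_one ?_ ?_, horth, by rw [hψ]; simp⟩
  · exact CfsgLib.Char.IsGeneralizedCharacter.add hD
      (CfsgLib.Char.IsGeneralizedCharacter.sum _ _ fun η _ => isGeneralized_of_signed (hχ.irr_or_neg η))
  · have hψS : Cfsg.classInner ψ (∑ η ∈ C, χ η) = 0 := by
      rw [CfsgLib.Char.classInner_sum_right]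
      exact Finset.sum_eq_zero fun η _ => horth η
    have hDS : Cfsg.classInner D (∑ η ∈ C, χ η) = -(Nat.card W₁ : ℂ) := by
      rw [CfsgLib.Char.classInner_sum_right, Finset.sum_congr rfl (fun η hη => by rw [hval, if_pos hη]),
        Finset.sum_const, hCcard]
      simp
    have hψD : Cfsg.classInner ψ D = 1 := by
      rw [hψ, CfsgLib.Char.classInner_add_left, hn, ← CfsgLib.Char.classInner_conj_symm
        D (∑ η ∈ C, χ η), hDS]
      push_cast
      simp
    rw [show Cfsg.classInner ψ ψ = Cfsg.classInner ψ (D + ∑ η ∈ C, χ η) from by rw [hψ],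
      CfsgLib.Char.classInner_add_right, hψD, hψS, add_zero]

end CfsgLib.FT.PairPins
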