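import Cfsg.Agent.Lib.OddChar.Virt
import Cfsg.Agent.Lib.Char.RealOdd
import Cfsg.Agent.Lib.Char.Virtual
import Cfsg.Agent.Lib.Char.SchurBound
import Cfsg.Agent.Lib.RealChar.OrbitSum
import Mathlib.RingTheory.RootsOfUnity.Lemmas

/-!
PROJECT FT: parity and congruence lemmas for virtual characters of a group of odd order.
-/

set_option autoImplicit false

open ComplexConjugate

namespace CfsgLib.FT

open CfsgLib.Char

variable {G : Type*} [Group G] [Fintype G]

theorem classInner_conjFun_conjFun (a b : G → ℂ) :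
    Cfsg.classInner (Cfsg.conjFun a) (Cfsg.conjFun b) = conj (Cfsg.classInner a b) := by
  simp [Cfsg.classInner, Cfsg.conjFun, map_sum]

theorem isSignedIrr_norm {ψ : G → ℂ}
    (hψ : Cfsg.IsIrrCharacter G ψ ∨ Cfsg.IsIrrCharacter G (-ψ)) :
    ∃ (ε : ℤ) (χ : G → ℂ), (ε = 1 ∨ ε = -1) ∧ Cfsg.IsIrrCharacter G χ ∧ ψ = (ε : ℂ) • χ := by
  rcases hψ with h | h
  · exact ⟨1, ψ, Or.inl rfl, h, by simp⟩
  · exact ⟨-1, -ψ, Or.inr rfl, h, by simp⟩

theorem conjFun_smul_int (ε : ℤ) (χ : G → ℂ) :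
    Cfsg.conjFun ((ε : ℂ) • χ) = (ε : ℂ) • Cfsg.conjFun χ := by
  funext g
  simp [Cfsg.conjFun]

/-- A virtual character of norm `2` vanishing at `1` that does not separate `χ` from `conj χ` is
orthogonal to both. -/
theorem orth_of_conj_symm {Φ χ : G → ℂ} (hΦ : Cfsg.IsGeneralizedCharacter G Φ) (h1 : Φ 1 = 0)
    (hn : Cfsg.classInner Φ Φ = 2) (hχ : Cfsg.IsIrrCharacter G χ) (hne : Cfsg.conjFun χ ≠ χ)
    (hsym : Cfsg.classInner Φ χ = Cfsg.classInner Φ (Cfsg.conjFun χ)) :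
    Cfsg.classInner Φ χ = 0 := by
  classical
  obtain ⟨z, e, hz, hn'⟩ := OddChar.exists_int_coeff hΦ
  set a : Cfsg.IrrCharacter G := ⟨χ, hχ⟩
  set b : Cfsg.IrrCharacter G := ⟨Cfsg.conjFun χ, OddChar.isIrrCharacter_conjFun hχ⟩
  have hab : a ≠ b := fun h => hne (congrArg Subtype.val h).symm
  have hza : Cfsg.classInner Φ χ = z a := hz a
  have hzb : Cfsg.classInner Φ (Cfsg.conjFun χ) = z b := hz b
  rw [hza]
  rw [hza, hzb, Int.cast_inj] at hsym
  by_contra h0
  have h0' : z a ≠ 0 := fun h => h0 (by rw [h, Int.cast_zero])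
  rw [hn] at hn'
  have hs : ∑ c, z c ^ 2 = 2 := by exact_mod_cast hn'.symm
  rw [← Finset.add_sum_erase _ _ (Finset.mem_univ a),
    ← Finset.add_sum_erase _ _ (Finset.mem_erase.2 ⟨hab.symm, Finset.mem_univ b⟩), ← hsym] at hs
  have hpos : 0 < z a ^ 2 := by positivity
  have hrest : 0 ≤ ∑ x ∈ (Finset.univ.erase a).erase b, z x ^ 2 :=
    Finset.sum_nonneg fun _ _ => sq_nonneg _
  have hr0 : ∑ x ∈ (Finset.univ.erase a).erase b, z x ^ 2 = 0 := by omega
  have hval := congrFun e 1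
  rw [h1, Finset.sum_apply, ← Finset.add_sum_erase _ _ (Finset.mem_univ a),
    ← Finset.add_sum_erase _ _ (Finset.mem_erase.2 ⟨hab.symm, Finset.mem_univ b⟩),
    Finset.sum_eq_zero (s := (Finset.univ.erase a).erase b) (fun x hx => by
      have := (Finset.sum_eq_zero_iff_of_nonneg (fun x _ => sq_nonneg (z x))).1 hr0 x hx
      simp [pow_eq_zero_iff] at this
      simp [this])] at hval
  simp only [Pi.smul_apply, smul_eq_mul, add_zero, a, b, Cfsg.conjFun] at hval
  rw [OddChar.conj_apply_one (IsIrrCharacter.isCharacter hχ)] at hval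
  rw [← hsym] at hval
  have : (2 * (z a : ℂ)) * χ 1 = 0 := by linear_combination -hval
  rcases mul_eq_zero.1 this with h | h
  · exact h0 (by simpa using h)
  · exact IsIrrCharacter.apply_one_ne_zero hχ h

/-- If `ψ - conj ψ` and `μ - conj μ` are orthogonal then so are `ψ` and `μ`. -/
theorem orth_pair {χ μ : G → ℂ} (hχ : Cfsg.IsIrrCharacter G χ) (hμ : Cfsg.IsIrrCharacter G μ)
    (hne : Cfsg.conjFun χ ≠ χ)
    (h : Cfsg.classInner (χ - Cfsg.conjFun χ) (μ - Cfsg.conjFun μ) = 0) :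
    Cfsg.classInner χ μ = 0 ∧ Cfsg.classInner χ (Cfsg.conjFun μ) = 0 := by
  have hc := OddChar.isIrrCharacter_conjFun hχ
  have hcm := OddChar.isIrrCharacter_conjFun hμ
  have h12 : Cfsg.classInner χ (Cfsg.conjFun χ) = 0 := classInner_irr_of_ne hχ hc hne.symm
  have h21 : Cfsg.classInner (Cfsg.conjFun χ) χ = 0 := classInner_irr_of_ne hc hχ hne
  constructor
  · refine classInner_irr_of_ne hχ hμ fun e => ?_
    subst e
    rw [classInner_sub_left, classInner_sub_right, classInner_sub_right, h12, h21,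
      classInner_irr_self hχ, classInner_irr_self hc] at h
    norm_num at h
  · refine classInner_irr_of_ne hχ hcm fun e => ?_
    have e' : μ = Cfsg.conjFun χ := by rw [e, OddChar.conjFun_conjFun]
    rw [e', OddChar.conjFun_conjFun, classInner_sub_left, classInner_sub_right, classInner_sub_right,
      h12, h21, classInner_irr_self hχ, classInner_irr_self hc] at h
    norm_num at h

/-- In a group of odd order a nonprincipal irreducible character is not real. -/
theorem conjFun_ne_self (hodd : Odd (Nat.card G)) {χ : G → ℂ} (hχ : Cfsg.IsIrrCharacter G χ)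
    (hne : χ ≠ fun _ => 1) : Cfsg.conjFun χ ≠ χ := fun h =>
  hne (eq_one_of_real_of_odd hodd ⟨χ, hχ⟩ fun g => Complex.conj_eq_iff_im.1 (congrFun h g))

/-- At an element of prime order a character is congruent to its degree. -/
theorem char_congr {χ : G → ℂ} (hχ : Cfsg.IsCharacter G χ) {g : G} {p : ℕ} (hp : p.Prime)
    (hg : orderOf g = p) {ω : ℂ} (hω : IsPrimitiveRoot ω p) :
    ∃ r : ℂ, IsIntegral ℤ r ∧ χ g - χ 1 = (1 - ω) * r := by
  obtain ⟨m, μ, hμ, -, hm, hpow⟩ := exists_eigenvalues_char hχ g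
  haveI : NeZero p := ⟨hp.ne_zero⟩
  have hωint : IsIntegral ℤ ω := IsPrimitiveRoot.isIntegral hω hp.pos
  choose i hi he using fun j => hω.eq_pow_of_pow_eq_one (hg ▸ hμ j)
  refine ⟨∑ j, -∑ l ∈ Finset.range (i j), ω ^ l,
    IsIntegral.sum _ fun j _ => (IsIntegral.sum _ fun l _ => hωint.pow l).neg, ?_⟩
  have h1 := hpow 1
  rw [pow_one] at h1
  rw [h1, hm, Finset.mul_sum,
    show (m : ℂ) = ∑ _j : Fin m, (1 : ℂ) by simp, ← Finset.sum_sub_distrib]
  refine Finset.sum_congr rfl fun j _ => ?_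
  rw [pow_one, ← he j, mul_neg, mul_neg_geom_sum]
  ring

/-- A rational integer divisible by `1 - ω` is divisible by `p`. -/
theorem int_dvd_of_one_sub {p : ℕ} (hp : p.Prime) {ω : ℂ} (hω : IsPrimitiveRoot ω p) {n : ℤ}
    {r : ℂ} (hr : IsIntegral ℤ r) (h : (n : ℂ) = (1 - ω) * r) : (p : ℤ) ∣ n := by
  obtain ⟨q, rfl⟩ : ∃ q, p = q + 1 := ⟨p - 1, (Nat.sub_add_cancel hp.pos).symm⟩
  have hωint : IsIntegral ℤ ω := IsPrimitiveRoot.isIntegral hω hp.pos
  have hk : ∀ k ∈ Finset.range q, ∃ s : ℂ, IsIntegral ℤ s ∧ (n : ℂ) = (1 - ω ^ (k + 1)) * s := by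
    intro k hk
    rw [Finset.mem_range] at hk
    have hprim : IsPrimitiveRoot (ω ^ (k + 1)) (q + 1) := hω.pow_of_coprime _
      ((hp.coprime_iff_not_dvd.2 fun hd => absurd (Nat.le_of_dvd k.succ_pos hd) (by omega)).symm)
    haveI : NeZero (q + 1) := ⟨by omega⟩
    obtain ⟨j, -, hj⟩ := hprim.eq_pow_of_pow_eq_one hω.pow_eq_one
    refine ⟨(∑ l ∈ Finset.range j, (ω ^ (k + 1)) ^ l) * r,
      (IsIntegral.sum _ fun l _ => (hωint.pow _).pow l).mul hr, ?_⟩
    rw [← mul_assoc, mul_neg_geom_sum, hj]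
    exact h
  choose! s hs hns using hk
  have hprod : (n : ℂ) ^ q = ((q + 1 : ℕ) : ℂ) * ∏ k ∈ Finset.range q, s k := by
    rw [show ((q + 1 : ℕ) : ℂ) = ∏ k ∈ Finset.range q, (1 - ω ^ (k + 1)) by
      rw [hω.prod_one_sub_pow_eq_order]; push_cast; ring, ← Finset.prod_mul_distrib,
      ← Finset.prod_congr rfl hns, Finset.prod_const, Finset.card_range]
  have h2 : ((q + 1 : ℕ) : ℤ) ∣ n ^ q := RealChar.int_dvd_of_eq_mul_integral hp.ne_zero
    (IsIntegral.prod _ hs) (by push_cast at hprod ⊢; exact hprod)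
  exact (Nat.prime_iff_prime_int.1 hp).dvd_of_dvd_pow h2

end CfsgLib.FT
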