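import Cfsg.Agent.Lib.FT.Pair
import Cfsg.Agent.Lib.FT.Parity
import Cfsg.Agent.Lib.FT.Congr
import Cfsg.Agent.Lib.FT.PairPins
import Cfsg.Agent.Lib.OddChar.CyclicUnique
import Cfsg.Agent.Lib.OddChar.Virt
import Cfsg.Agent.Lib.Char.PowerMap

/-!
FT module Grid: the family `χ ω` of a self-normalising cyclic `W = W₁ W₂` of odd order.

* `apply_pow'`, `apply_inv`, `swap`: by `CyclicUnique.eq_of_eq_on`.
* `trace_nonneg`: the nonzero values `α` at `g` over a stable set multiply to a rational integer `≠ 0`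
  (an elementary symmetric function of the `χ ω` is a virtual character fixed by the powers), so
  `Σ |α|² ≥ #`, while `-Re α ≤ |α| ≤ (|α|² + 1) / 2`.
* `avg_int`: the proof of `CyclicUnique.exists_int` for the average over a coset `x R`.
* `diff_unique`: `PairPins.pin`.
-/

set_option autoImplicit false
set_option linter.style.haveILetI false
set_option linter.unusedSectionVars false

namespace CfsgLib.FT

open Subgroup

universe u

variable {G : Type u} [Group G] [Fintype G] {W₁ W₂ : Subgroup G}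

/-- A coprime power of an element outside a subgroup stays outside. -/
theorem pow_notMem_of_coprime {k : ℕ} (hk : k.Coprime (Nat.card G)) {U : Subgroup G} {w : G}
    (hw : w ∉ U) : w ^ k ∉ U := by
  intro hmem
  obtain ⟨y, hy⟩ := exists_pow_eq_self_of_coprime (x := w) (n := k)
    (hk.coprime_dvd_right (orderOf_dvd_natCard w))
  exact hw (hy ▸ pow_mem hmem y)

/-- Exponents prime to the order of an element lift to exponents prime to `|G|`. -/
theorem exists_coprime_lift {d m : ℕ} (hd : d ∣ Nat.card G) (hm : m.Coprime d) :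
    ∃ k : ℕ, k.Coprime (Nat.card G) ∧ k ≡ m [MOD d] := by
  haveI : NeZero (Nat.card G) := ⟨Nat.card_pos.ne'⟩
  obtain ⟨u, hu⟩ := ZMod.unitsMap_surjective hd (ZMod.unitOfCoprime m hm)
  refine ⟨(u : ZMod (Nat.card G)).val, ZMod.val_coe_unit_coprime u, ?_⟩
  rw [← ZMod.natCast_eq_natCast_iff]
  have h := congrArg Units.val hu
  rw [ZMod.unitsMap_val, ZMod.coe_unitOfCoprime] at h
  rw [← h, ZMod.natCast_val]

/-- A virtual character fixed by the coprime powers of `|G|` takes rational integer values. -/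
theorem exists_int_of_pow_invariant {θ : G → ℂ} (hθ : Cfsg.IsGeneralizedCharacter G θ) (g : G)
    (hinv : ∀ k : ℕ, k.Coprime (Nat.card G) → θ (g ^ k) = θ g) : ∃ n : ℤ, θ g = n := by
  obtain ⟨a, b, ha, hb, rfl⟩ := id hθ
  let ζ := Complex.exp (2 * Real.pi * Complex.I / Nat.card G)
  have hpos : 0 < Nat.card G := Nat.card_pos
  have hζ : IsPrimitiveRoot ζ (Nat.card G) := Complex.isPrimitiveRoot_exp _ hpos.ne'
  obtain ⟨P, hP⟩ := CharPower.exists_poly_of_isCharacter ha g hpos pow_card_eq_one' hζ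
  obtain ⟨Q, hQ⟩ := CharPower.exists_poly_of_isCharacter hb g hpos pow_card_eq_one' hζ
  have hval : ∀ k : ℕ, (a - b) (g ^ k) = Polynomial.aeval (ζ ^ k) (P - Q) := fun k => by
    rw [map_sub, Pi.sub_apply, hP, hQ]
  obtain ⟨q, hq⟩ := CharPower.exists_rat_of_aeval_const hpos hζ (P - Q) fun η hη => by
    haveI : NeZero (Nat.card G) := ⟨hpos.ne'⟩
    obtain ⟨i, -, rfl⟩ := hζ.eq_pow_of_pow_eq_one hη.pow_eq_one
    rw [← hval, hinv i ((hζ.pow_iff_coprime hpos i).mp hη)]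
    simpa using hval 1
  have hg : (a - b) g = (q : ℂ) := by
    rw [← hq]
    simpa using hval 1
  obtain ⟨n, hn⟩ := Char.exists_int_of_isIntegral_ratCast
    (hg ▸ Char.IsGeneralizedCharacter.isIntegral_apply hθ g)
  exact ⟨n, by rw [hg, ← hn]; norm_cast⟩

/-- A finite product of virtual characters is one. -/
theorem isGeneralized_prod {ι : Type*} (s : Finset ι) (f : ι → G → ℂ)
    (h : ∀ i ∈ s, Cfsg.IsGeneralizedCharacter G (f i)) :
    Cfsg.IsGeneralizedCharacter G (∏ i ∈ s, f i) :=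
  Finset.prod_induction f _ (fun _ _ => Char.IsGeneralizedCharacter.mul)
    Char.IsGeneralizedCharacter.one h

/-- Nonzero values with product of absolute value at least `1`: `Σ (|α|² + Re α) ≥ 0`. -/
theorem sum_norm_sq_add_re_nonneg {ι : Type*} (s : Finset ι) (α : ι → ℂ) (hne : ∀ i ∈ s, α i ≠ 0)
    (hprod : 1 ≤ ‖∏ i ∈ s, α i‖) : 0 ≤ ∑ i ∈ s, (‖α i‖ ^ 2 + (α i).re) := by
  have hpos : ∀ i ∈ s, 0 < ‖α i‖ := fun i hi => norm_pos_iff.2 (hne i hi)
  have hlog : ∀ i ∈ s, 2 * Real.log ‖α i‖ ≤ ‖α i‖ ^ 2 - 1 := fun i hi => by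
    have h := Real.log_le_sub_one_of_pos (pow_pos (hpos i hi) 2)
    rwa [Real.log_pow, Nat.cast_ofNat] at h
  have hterm : ∀ i ∈ s, Real.log ‖α i‖ ≤ ‖α i‖ ^ 2 + (α i).re := fun i hi => by
    have h1 := (neg_le_abs _).trans (Complex.abs_re_le_norm (α i))
    nlinarith [hlog i hi, sq_nonneg (‖α i‖ - 1)]
  refine le_trans ?_ (Finset.sum_le_sum hterm)
  rw [← Real.log_prod (fun i hi => (hpos i hi).ne'), ← norm_prod]
  exact Real.log_nonneg hprod

/-- Transport of induction along equal subgroups. -/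
theorem indFun_congr_of_eq {H K : Subgroup G} (e : H = K) {θ : H → ℂ} {θ' : K → ℂ}
    (h : ∀ (a : H) (b : K), (a : G) = b → θ a = θ' b) : Cfsg.indFun H θ = Cfsg.indFun K θ' := by
  subst e
  rw [funext fun a => h a a rfl]

/-- The power map on the linear characters of a finite group is injective for exponents prime to
the order. -/
theorem powHom_injective {H : Type*} [Group H] [Finite H] {k : ℕ} (hk : k.Coprime (Nat.card H)) :
    Function.Injective fun ω : H →* ℂˣ => ω ^ k := by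
  intro ω ω' h
  ext w
  obtain ⟨y, hy⟩ := exists_pow_eq_self_of_coprime (x := w) (n := k)
    (hk.coprime_dvd_right (orderOf_dvd_natCard w))
  have e := DFunLike.congr_fun h w
  simp only [MonoidHom.pow_apply, ← map_pow] at e
  rw [← hy, map_pow, map_pow ω', e]

variable (hW : Cfsg.IsSelfNormalizingCyclic W₁ W₂) (hodd : Odd (Nat.card G))
  {χ : (↥(W₁ ⊔ W₂) →* ℂˣ) → (G → ℂ)} (hχ : Cfsg.IsCyclicTIFamily W₁ W₂ χ)
include hW hodd hχ

theorem apply_pow' (ω : ↥(W₁ ⊔ W₂) →* ℂˣ) {k : ℕ} (hk : k.Coprime (Nat.card G)) (g : G) :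
    χ ω (g ^ k) = χ (ω ^ k) g := by
  have hoddW : Odd (Nat.card ↥(W₁ ⊔ W₂)) := hodd.of_dvd_nat (W₁ ⊔ W₂).card_subgroup_dvd_card
  have hs : OddChar.CyclicUnique.Signed fun x => χ ω (x ^ k) := by
    rcases hχ.irr_or_neg ω with h | h
    · exact Or.inl (CharGalois.isIrrCharacter_powMap hk h)
    · exact Or.inr (CharGalois.isIrrCharacter_powMap hk h)
  refine congrFun (OddChar.CyclicUnique.eq_of_eq_on hW hoddW hχ hs (ω ^ k) fun w h1 h2 => ?_) g
  show χ ω ((w : G) ^ k) = _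
  rw [← Subgroup.coe_pow, hχ.eq_on ω (w ^ k) (by simpa using pow_notMem_of_coprime hk h1)
    (by simpa using pow_notMem_of_coprime hk h2), map_pow, MonoidHom.pow_apply]

theorem apply_inv (ω : ↥(W₁ ⊔ W₂) →* ℂˣ) : χ ω⁻¹ = Cfsg.conjFun (χ ω) := by
  have hoddW : Odd (Nat.card ↥(W₁ ⊔ W₂)) := hodd.of_dvd_nat (W₁ ⊔ W₂).card_subgroup_dvd_card
  have hs : OddChar.CyclicUnique.Signed (Cfsg.conjFun (χ ω)) := by
    rcases hχ.irr_or_neg ω with h | h
    · exact Or.inl (OddChar.isIrrCharacter_conjFun h)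
    · refine Or.inr ?_
      have h' := OddChar.isIrrCharacter_conjFun h
      convert h' using 1
      funext x
      simp [Cfsg.conjFun]
  refine (OddChar.CyclicUnique.eq_of_eq_on hW hoddW hχ hs ω⁻¹ fun w h1 h2 => ?_).symm
  have hn : ‖(ω w : ℂ)‖ = 1 := by
    refine Complex.norm_eq_one_of_pow_eq_one ?_ (Nat.card_pos (α := ↥(W₁ ⊔ W₂))).ne'
    rw [← Units.val_pow_eq_pow_val, ← map_pow, pow_card_eq_one', map_one, Units.val_one]
  show (starRingEnd ℂ) (χ ω w) = _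
  rw [hχ.eq_on ω w h1 h2, MonoidHom.inv_apply, Units.val_inv_eq_inv_val,
    Complex.inv_eq_conj hn]

theorem swap : ∃ χ' : (↥(W₂ ⊔ W₁) →* ℂˣ) → (G → ℂ), Cfsg.IsCyclicTIFamily W₂ W₁ χ' ∧
    ∀ (ω : ↥(W₁ ⊔ W₂) →* ℂˣ) (ω' : ↥(W₂ ⊔ W₁) →* ℂˣ),
      (∀ (a : ↥(W₁ ⊔ W₂)) (b : ↥(W₂ ⊔ W₁)), (a : G) = b → ω a = ω' b) → χ' ω' = χ ω := by
  classical
  let e : ↥(W₁ ⊔ W₂) ≃* ↥(W₂ ⊔ W₁) := MulEquiv.subgroupCongr (sup_comm W₁ W₂)
  have he : ∀ a, (e a : G) = a := fun _ => rfl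
  have hinj : ∀ ω ω' : ↥(W₂ ⊔ W₁) →* ℂˣ,
      ω.comp e.toMonoidHom = ω'.comp e.toMonoidHom → ω = ω' := fun ω ω' h => by
    ext b
    have h' := DFunLike.congr_fun h (e.symm b)
    simp only [MonoidHom.comp_apply, MulEquiv.coe_toMonoidHom, MulEquiv.apply_symm_apply] at h'
    rw [h']
  refine ⟨fun ω' => χ (ω'.comp e.toMonoidHom),
    ⟨fun ω => hχ.irr_or_neg _, fun ω ω' => ?_, ?_, fun ω w h2 h1 => ?_,
      fun φ ψ hφ hψ hφ1 hψ2 => ?_⟩, fun ω ω' h => congrArg χ ?_⟩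
  · rw [hχ.orthonormal]
    by_cases h : ω = ω'
    · rw [if_pos (h ▸ rfl), if_pos h]
    · rw [if_neg fun h' => h (hinj ω ω' h'), if_neg h]
  · rw [MonoidHom.one_comp]
    exact hχ.map_one
  · obtain ⟨a, rfl⟩ := e.surjective w
    exact hχ.eq_on (ω.comp e.toMonoidHom) a h1 h2
  · have h := hχ.induced_eq (ψ.comp e.toMonoidHom) (φ.comp e.toMonoidHom)
      (fun h => hψ (hinj ψ 1 (h.trans (MonoidHom.one_comp _).symm)))
      (fun h => hφ (hinj φ 1 (h.trans (MonoidHom.one_comp _).symm)))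
      (fun w hw => hψ2 (e w) hw) (fun w hw => hφ1 (e w) hw)
    rw [indFun_congr_of_eq (sup_comm W₂ W₁) (θ' := fun w : ↥(W₁ ⊔ W₂) =>
      1 - ((ψ.comp e.toMonoidHom) w : ℂ) - ((φ.comp e.toMonoidHom) w : ℂ) +
        ((ψ.comp e.toMonoidHom) w : ℂ) * ((φ.comp e.toMonoidHom) w : ℂ)) fun a b hab => ?_, h]
    · funext g
      rw [MonoidHom.mul_comp, mul_comm (ψ.comp e.toMonoidHom)]
      ring
    · obtain rfl : a = e b := Subtype.ext hab
      simp only [MonoidHom.comp_apply, MulEquiv.coe_toMonoidHom]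
      ring
  · ext a
    rw [MonoidHom.comp_apply, MulEquiv.coe_toMonoidHom, h a (e a) rfl]

theorem trace_nonneg (Ω : Finset (↥(W₁ ⊔ W₂) →* ℂˣ))
    (hΩ : ∀ k : ℕ, k.Coprime (Nat.card G) → ∀ ω ∈ Ω, ω ^ k ∈ Ω) (g : G) :
    0 ≤ ∑ ω ∈ Ω, (‖χ ω g‖ ^ 2 + (χ ω g).re) := by
  classical
  set Ω₀ := Ω.filter fun ω => χ ω g ≠ 0 with hΩ₀
  have hsplit : ∑ ω ∈ Ω₀, (‖χ ω g‖ ^ 2 + (χ ω g).re) = ∑ ω ∈ Ω, (‖χ ω g‖ ^ 2 + (χ ω g).re) := by
    refine Finset.sum_filter_of_ne fun ω _ h h0 => h ?_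
    simp [h0]
  have hne : ∀ ω ∈ Ω₀, χ ω g ≠ 0 := fun ω h => (Finset.mem_filter.1 h).2
  rw [← hsplit]
  refine sum_norm_sq_add_re_nonneg Ω₀ (fun ω => χ ω g) hne ?_
  let E : G → ℂ := ∑ s ∈ Ω.powersetCard Ω₀.card, ∏ ω ∈ s, χ ω
  have hE : Cfsg.IsGeneralizedCharacter G E := Char.IsGeneralizedCharacter.sum _ _ fun s _ =>
    isGeneralized_prod _ _ fun ω _ => PairPins.isGeneralized_of_signed (hχ.irr_or_neg ω)
  have hEg : E g = ∏ ω ∈ Ω₀, χ ω g := by
    simp only [E, Finset.sum_apply, Finset.prod_apply]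
    refine Finset.sum_eq_single Ω₀ (fun s hs hs' => ?_) fun h =>
      absurd (Finset.mem_powersetCard.2 ⟨Finset.filter_subset _ _, rfl⟩) h
    obtain ⟨hsub, hcard⟩ := Finset.mem_powersetCard.1 hs
    obtain ⟨ω, hω, hω'⟩ := Finset.not_subset.1 fun h : s ⊆ Ω₀ =>
      hs' (Finset.eq_of_subset_of_card_le h hcard.ge)
    refine Finset.prod_eq_zero hω ?_
    by_contra h0
    exact hω' (Finset.mem_filter.2 ⟨hsub hω, h0⟩)
  have hinv : ∀ k : ℕ, k.Coprime (Nat.card G) → E (g ^ k) = E g := by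
    intro k hk
    let σ : (↥(W₁ ⊔ W₂) →* ℂˣ) ↪ (↥(W₁ ⊔ W₂) →* ℂˣ) :=
      ⟨fun ω => ω ^ k, powHom_injective (hk.coprime_dvd_right (W₁ ⊔ W₂).card_subgroup_dvd_card)⟩
    have hmap : Ω.map σ = Ω := Finset.eq_of_subset_of_card_le
      (fun ω hω => by
        obtain ⟨ω', hω', rfl⟩ := Finset.mem_map.1 hω
        exact hΩ k hk ω' hω') (Finset.card_map σ).ge
    simp only [E, Finset.sum_apply, Finset.prod_apply]
    conv_rhs => rw [← hmap, Finset.powersetCard_map, Finset.sum_map]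
    refine Finset.sum_congr rfl fun s _ => ?_
    simp only [RelEmbedding.coe_toEmbedding, Finset.mapEmbedding_apply, Finset.prod_map]
    exact Finset.prod_congr rfl fun ω _ => apply_pow' hW hodd hχ ω hk g
  obtain ⟨n, hn⟩ := exists_int_of_pow_invariant hE g hinv
  have h0 : n ≠ 0 := fun h => by
    rw [hEg, h, Int.cast_zero] at hn
    exact (Finset.prod_ne_zero_iff.2 hne) hn
  rw [← hEg, hn, Complex.norm_intCast]
  exact_mod_cast Int.one_le_abs h0

set_option linter.unusedVariables false in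
/-- The average of `χ ω` over `x R` is a rational integer when `x` has order prime to that of `ω`. -/
theorem avg_int (ω : ↥(W₁ ⊔ W₂) →* ℂˣ) {x : G} (R : Subgroup G)
    (hcomm : ∀ r ∈ R, x * r = r * x) (hco : (orderOf x).Coprime (Nat.card R))
    (hω : (orderOf x).Coprime (orderOf ω)) :
    ∃ n : ℤ, (Nat.card R : ℂ)⁻¹ * ∑ᶠ r ∈ (R : Set G), χ ω (x * r) = n := by
  classical
  letI : Fintype R := Fintype.ofFinite R
  have hoddW : Odd (Nat.card ↥(W₁ ⊔ W₂)) := hodd.of_dvd_nat (W₁ ⊔ W₂).card_subgroup_dvd_card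
  have hgen := PairPins.isGeneralized_of_signed (hχ.irr_or_neg ω)
  have hfin : ∑ᶠ r ∈ (R : Set G), χ ω (x * r) = ∑ r : R, χ ω (x * r) := by
    rw [← finsum_set_coe_eq_finsum_mem (R : Set G), finsum_eq_sum_of_fintype]
    rfl
  rw [hfin]
  have hωG : orderOf ω ∣ Nat.card G := by
    refine (orderOf_dvd_of_pow_eq_one (MonoidHom.ext fun w => ?_)).trans
      (W₁ ⊔ W₂).card_subgroup_dvd_card
    rw [MonoidHom.pow_apply, ← map_pow, pow_card_eq_one', map_one, MonoidHom.one_apply]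
  have hperm : ∀ (k : ℕ), k.Coprime (Nat.card G) →
      ∑ r : R, χ ω ((x * r) ^ k) = ∑ r : R, χ ω (x ^ k * r) := by
    intro k hk
    let e : R ≃ R := powCoprime ((hk.coprime_dvd_right R.card_subgroup_dvd_card).symm)
    rw [← Equiv.sum_comp e fun r : R => χ ω (x ^ k * r)]
    refine Finset.sum_congr rfl fun r _ => ?_
    rw [(show Commute x (r : G) from hcomm r r.2).mul_pow]
    simp [e]
  have hinv : ∀ k : ℕ, k.Coprime (Nat.card G) →
      ∑ r : R, χ ω ((x * r) ^ k) = ∑ r : R, χ ω (x * r) := by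
    intro k hk
    obtain ⟨m, hm1, hm2⟩ := Nat.chineseRemainder hω k 1
    have hmco : m.Coprime (orderOf x * orderOf ω) := by
      refine Nat.Coprime.mul_right ?_ ?_
      · rw [Nat.coprime_iff_gcd_eq_one, hm1.gcd_eq]
        exact hk.coprime_dvd_right (orderOf_dvd_natCard x)
      · rw [Nat.coprime_iff_gcd_eq_one, hm2.gcd_eq]
        exact Nat.gcd_one_left _
    obtain ⟨k₀, hk₀, hk₀m⟩ := exists_coprime_lift
      (Nat.Coprime.mul_dvd_of_dvd_of_dvd hω (orderOf_dvd_natCard x) hωG) hmco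
    rw [hperm k hk, ← pow_eq_pow_iff_modEq.2 ((hk₀m.of_mul_right _).trans hm1), ← hperm k₀ hk₀]
    exact Finset.sum_congr rfl fun r _ => OddChar.CyclicUnique.apply_pow hW hoddW hχ ω hk₀
      ((hk₀m.of_mul_left _).trans hm2) _
  let ζ := Complex.exp (2 * Real.pi * Complex.I / Nat.card G)
  have hpos : 0 < Nat.card G := Nat.card_pos
  have hζ : IsPrimitiveRoot ζ (Nat.card G) := Complex.isPrimitiveRoot_exp _ hpos.ne'
  obtain ⟨a, b, ha, hb, hab⟩ := id hgen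
  choose P hP using fun r : R =>
    CharPower.exists_poly_of_isCharacter ha (x * r) hpos pow_card_eq_one' hζ
  choose Q hQ using fun r : R =>
    CharPower.exists_poly_of_isCharacter hb (x * r) hpos pow_card_eq_one' hζ
  have hval : ∀ k : ℕ, ∑ r : R, χ ω ((x * r) ^ k) =
      Polynomial.aeval (ζ ^ k) (∑ r : R, (P r - Q r)) := fun k => by
    rw [map_sum]
    exact Finset.sum_congr rfl fun r _ => by rw [map_sub, ← hP, ← hQ, hab, Pi.sub_apply]
  have h1 : ∑ r : R, χ ω (x * r) = Polynomial.aeval ζ (∑ r : R, (P r - Q r)) := by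
    simpa using hval 1
  obtain ⟨q, hq⟩ := CharPower.exists_rat_of_aeval_const hpos hζ _ fun η hη => by
    haveI : NeZero (Nat.card G) := ⟨hpos.ne'⟩
    obtain ⟨i, -, rfl⟩ := hζ.eq_pow_of_pow_eq_one hη.pow_eq_one
    rw [← hval, hinv i ((hζ.pow_iff_coprime hpos i).mp hη), h1]
  have hrat : (Nat.card R : ℂ)⁻¹ * ∑ r : R, χ ω (x * r) = (((Nat.card R : ℚ)⁻¹ * q : ℚ) : ℂ) := by
    rw [h1, hq]
    push_cast
    ring
  obtain ⟨n, hn⟩ := Char.exists_int_of_isIntegral_ratCast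
    (hrat ▸ isIntegral_coset_average hgen x R fun r hr => (hcomm r hr).symm)
  exact ⟨n, by rw [hrat, ← hn]; norm_cast⟩

theorem diff_unique {ω ω' : ↥(W₁ ⊔ W₂) →* ℂˣ} (hne : ω ≠ ω')
    (hsame : (∀ a : ↥(W₁ ⊔ W₂), (a : G) ∈ W₁ → ω a = ω' a) ∨
      ∀ a : ↥(W₁ ⊔ W₂), (a : G) ∈ W₂ → ω a = ω' a)
    {Φ : G → ℂ} (hΦ : Cfsg.IsGeneralizedCharacter G Φ) (h2 : Cfsg.classInner Φ Φ = 2)
    (hval : ∀ a : ↥(W₁ ⊔ W₂), (a : G) ∉ W₁ → (a : G) ∉ W₂ →
      Φ a = (ω a : ℂ) - (ω' a : ℂ)) : Φ = χ ω - χ ω' := by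
  have hoddW : Odd (Nat.card ↥(W₁ ⊔ W₂)) := hodd.of_dvd_nat (W₁ ⊔ W₂).card_subgroup_dvd_card
  rcases hsame with h1 | h1
  · exact PairPins.pin hW hoddW hχ hΦ h2 hne h1 hval
  obtain ⟨χ', hχ', hc⟩ := swap hW hodd hχ
  obtain ⟨hne1, hne2, hdisj, hcomm, hcyc, hnor⟩ := id hW
  have hW' : Cfsg.IsSelfNormalizingCyclic W₂ W₁ := by
    refine ⟨hne2, hne1, by rwa [inf_comm], fun a ha b hb => (hcomm b hb a ha).symm,
      by rwa [sup_comm], fun X hX hne => ?_⟩
    rw [sup_comm]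
    exact hnor X (by rwa [sup_comm, Set.union_comm]) hne
  let e : ↥(W₂ ⊔ W₁) ≃* ↥(W₁ ⊔ W₂) := MulEquiv.subgroupCongr (sup_comm W₂ W₁)
  have hcomp : ∀ ξ : ↥(W₁ ⊔ W₂) →* ℂˣ, χ' (ξ.comp e.toMonoidHom) = χ ξ := fun ξ =>
    hc ξ _ fun a b hab => congrArg ξ (Subtype.ext hab)
  rw [← hcomp ω, ← hcomp ω']
  refine PairPins.pin hW' (by rwa [sup_comm]) hχ' hΦ h2 (fun h => hne ?_)
    (fun w hw => h1 (e w) hw) fun w ha hb => hval (e w) hb ha
  ext a
  have h' := DFunLike.congr_fun h (e.symm a)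
  simp only [MonoidHom.comp_apply, MulEquiv.coe_toMonoidHom, MulEquiv.apply_symm_apply] at h'
  rw [h']

end CfsgLib.FT
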