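import Cfsg.Prelude.Def_OddOrderChar
import Cfsg.Prelude.Def_OddOrderLocal
import Cfsg.Agent.Lib.OddChar.CyclicTI
import Cfsg.Agent.Lib.OddChar.CyclicUnique
import Cfsg.Agent.Lib.OddChar.CyclicDual

/-!
PROJECT FT module PairIneq: the quadratic inequality replacing Peterfalvi (13.5)-(13.15).

`h = χ ω₁` for `ω₁` trivial on `W₁`, and `ψ` of norm one.  Off the TI set of `S` and the conjugates of
`W` outside `W₁ ∪ W₂` one has `2 h ≤ |h|² + |ψ|²` except on a small set.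
-/

set_option autoImplicit false
set_option linter.style.haveILetI false

open ComplexConjugate

namespace CfsgLib.FT.PairIneq

variable {G : Type*} [Group G] [Fintype G]

/-- The union of the conjugates of a set. -/
def conjUnion (A : Set G) : Set G := {g | ∃ x : G, x * g * x⁻¹ ∈ A}

open Classical in
/-- Sum of a class function over the conjugates of a TI set. -/
theorem sum_conjUnion {M : Type*} [AddCommGroup M] {A : Set G} (hTI : Cfsg.IsTISubset A)
    (h1 : (1 : G) ∉ A) (f : G → M) (hf : ∀ x g : G, f (x * g * x⁻¹) = f g) :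
    ∑ g ∈ (conjUnion A).toFinset, f g =
      (Subgroup.normalizer A).index • ∑ a ∈ A.toFinset, f a := by
  set N := Subgroup.normalizer A with hN
  have hkey : ∀ q : G ⧸ N, ∀ a ∈ A, q.out * a * q.out⁻¹ ∈ conjUnion A := fun q a ha =>
    ⟨q.out⁻¹, by simpa [mul_assoc] using ha⟩
  have hb : ∑ g ∈ (conjUnion A).toFinset, f g =
      ∑ p ∈ (Finset.univ : Finset (G ⧸ N)) ×ˢ A.toFinset, f (p.1.out * p.2 * p.1.out⁻¹) := by
    refine (Finset.sum_bij (fun p _ => p.1.out * p.2 * p.1.out⁻¹) ?_ ?_ ?_ ?_).symm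
    · rintro ⟨q, a⟩ hp
      simp only [Finset.mem_product, Set.mem_toFinset] at hp ⊢
      exact hkey q a hp.2
    · rintro ⟨q, a⟩ hp ⟨q', a'⟩ hp' e
      simp only [Finset.mem_product, Set.mem_toFinset] at hp hp' e
      have hconj : (q'.out⁻¹ * q.out) * a * (q'.out⁻¹ * q.out)⁻¹ = a' := by
        calc _ = q'.out⁻¹ * (q.out * a * q.out⁻¹) * q'.out := by group
          _ = a' := by rw [e]; group
      have hmem : q'.out⁻¹ * q.out ∈ N := by
        by_contra hn
        exact h1 (hTI _ hn a hp.2 (hconj ▸ hp'.2) ▸ hp.2)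
      obtain rfl : q' = q := by
        rw [← q'.out_eq, ← q.out_eq]
        exact QuotientGroup.eq.2 hmem
      obtain rfl : a = a' := by simpa using e
      rfl
    · intro g hg
      obtain ⟨x, hx⟩ := Set.mem_toFinset.1 hg
      let q : G ⧸ N := QuotientGroup.mk x⁻¹
      have hn : x * q.out ∈ N := by
        have h' : (QuotientGroup.mk x⁻¹ : G ⧸ N) = QuotientGroup.mk q.out := q.out_eq.symm
        simpa using QuotientGroup.eq.1 h'
      have hh : q.out⁻¹ * g * q.out ∈ A := by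
        have h' := (Subgroup.mem_set_normalizer_iff.1 (inv_mem hn) (x * g * x⁻¹)).1 hx
        simpa [mul_assoc] using h'
      exact ⟨(q, q.out⁻¹ * g * q.out), by simpa using hh, by simp [mul_assoc]⟩
    · intro p _; rfl
  rw [hb, Finset.sum_product]
  simp only [hf]
  rw [Finset.sum_const, Finset.card_univ, ← Nat.card_eq_fintype_card]
  rfl

theorem classInner_self_eq (f : G → ℂ) :
    (Cfsg.classInner f f).re = (∑ g, ‖f g‖ ^ 2) / Nat.card G := by
  have h : Cfsg.classInner f f = (((∑ g, ‖f g‖ ^ 2) / Nat.card G : ℝ) : ℂ) := by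
    rw [Cfsg.classInner]
    push_cast
    rw [Nat.card_eq_fintype_card, inv_mul_eq_div]
    congr 1
    exact Finset.sum_congr rfl fun g _ => by rw [Complex.mul_conj']
  rw [h, Complex.ofReal_re]

theorem classInner_one_eq (f : G → ℂ) :
    (Cfsg.classInner f (fun _ => 1)).re = (∑ g, (f g).re) / Nat.card G := by
  rw [Cfsg.classInner]
  simp only [map_one, mul_one]
  rw [show ((Nat.card G : ℂ))⁻¹ = (((Nat.card G : ℝ))⁻¹ : ℝ) by push_cast; rfl,
    Complex.re_ofReal_mul, Complex.re_sum, inv_mul_eq_div]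

variable {W₁ W₂ : Subgroup G}

/-- `W` outside `W₁ ∪ W₂`. -/
def hat (W₁ W₂ : Subgroup G) : Set G :=
  (↑(W₁ ⊔ W₂) : Set G) \ ((W₁ : Set G) ∪ (W₂ : Set G))

theorem hat_ti (hW : Cfsg.IsSelfNormalizingCyclic W₁ W₂) :
    Cfsg.IsTISubset (hat W₁ W₂) ∧ (1 : G) ∉ hat W₁ W₂ ∧
      ((hat W₁ W₂).Nonempty → Subgroup.normalizer (hat W₁ W₂) = W₁ ⊔ W₂) := by
  have h1 : (1 : G) ∉ hat W₁ W₂ := fun h => h.2 (Or.inl (one_mem _))
  refine ⟨fun g hg x hx hgx => ?_, h1, fun hne => hW.2.2.2.2.2 _ Set.Subset.rfl hne⟩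
  exfalso
  have hW' : Subgroup.normalizer (hat W₁ W₂) = W₁ ⊔ W₂ := hW.2.2.2.2.2 _ Set.Subset.rfl ⟨x, hx⟩
  rw [hW'] at hg
  simp only [hat, Set.mem_diff, Set.mem_union, not_or, SetLike.mem_coe] at hx hgx
  exact hg (OddChar.selfNormalizingCyclic_mem_of_conj hW hx.1 hx.2.1 hx.2.2 hgx.1 hgx.2.1 hgx.2.2)

open Classical in
/-- The sum over `W` outside `W₁ ∪ W₂` of `|ω|² - 2 Re ω`, for `ω ≠ 1` trivial on `W₁`. -/
theorem hat_sum (hW : Cfsg.IsSelfNormalizingCyclic W₁ W₂) (ω : ↥(W₁ ⊔ W₂) →* ℂˣ)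
    (hω : ω ≠ 1) (h1 : ∀ w : ↥(W₁ ⊔ W₂), (w : G) ∈ W₁ → ω w = 1)
    (f : G → ℂ) (hf : ∀ w : ↥(W₁ ⊔ W₂), (w : G) ∉ W₁ → (w : G) ∉ W₂ → f w = (ω w : ℂ)) :
    ∑ a ∈ (hat W₁ W₂).toFinset, (‖f a‖ ^ 2 - 2 * (f a).re) =
      ((Nat.card W₁ : ℝ) - 1) * ((Nat.card W₂ : ℝ) + 1) := by
  obtain ⟨-, -, hdisj, hcomm, -, -⟩ := hW
  obtain ⟨p₁, p₂, hp, hp₁, hp₂⟩ := OddChar.exists_proj hdisj hcomm
  let ν : W₂ →* ℂˣ := ω.comp (Subgroup.inclusion le_sup_right)
  have hων : ∀ w, (ω w : ℂ) = (ν (p₂ w) : ℂ) := fun w => by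
    have e : w = Subgroup.inclusion le_sup_left (p₁ w) * Subgroup.inclusion le_sup_right (p₂ w) :=
      Subtype.ext (hp w).symm
    conv_lhs => rw [e, map_mul, h1 _ (p₁ w).2, one_mul]
    rfl
  have hν : ν ≠ 1 := fun e => hω (MonoidHom.ext fun w => Units.ext (by rw [hων, e]; rfl))
  have hmem : ∀ (x : W₁) (y : W₂), ((x : G) * y ∈ W₁ ↔ y = 1) ∧ ((x : G) * y ∈ W₂ ↔ x = 1) := by
    intro x y
    constructor
    · rw [Subgroup.mul_mem_cancel_left _ x.2]
      exact ⟨fun h => Subtype.ext (Subgroup.disjoint_def.1 (disjoint_iff.2 hdisj) h y.2),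
        fun h => by rw [h]; exact one_mem _⟩
    · rw [Subgroup.mul_mem_cancel_right _ y.2]
      exact ⟨fun h => Subtype.ext (Subgroup.disjoint_def.1 (disjoint_iff.2 hdisj) x.2 h),
        fun h => by rw [h]; exact one_mem _⟩
  have hsum : ∑ a ∈ (hat W₁ W₂).toFinset, (‖f a‖ ^ 2 - 2 * (f a).re) =
      ∑ p ∈ (Finset.univ.erase (1 : W₁)) ×ˢ (Finset.univ.erase (1 : W₂)),
        (1 - 2 * ((ν p.2 : ℂ)).re) := by
    refine (Finset.sum_bij (fun p _ => (p.1 : G) * p.2) ?_ ?_ ?_ ?_).symm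
    · rintro ⟨x, y⟩ h
      simp only [Finset.mem_product, Finset.mem_erase, Finset.mem_univ, and_true] at h
      rw [Set.mem_toFinset]
      refine ⟨mul_mem (Subgroup.mem_sup_left x.2) (Subgroup.mem_sup_right y.2), ?_⟩
      rintro (e | e)
      · exact h.2 ((hmem x y).1.1 e)
      · exact h.1 ((hmem x y).2.1 e)
    · rintro ⟨x, y⟩ _ ⟨x', y'⟩ _ e
      have e' := Subgroup.disjoint_def.1 (disjoint_iff.2 hdisj)
        (x := (x'⁻¹ * x : W₁)) (mul_mem (inv_mem x'.2) x.2) (by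
          rw [show ((x'⁻¹ * x : W₁) : G) = (y' : G) * (y : G)⁻¹ by
            simp only [Subgroup.coe_mul, InvMemClass.coe_inv]
            rw [eq_mul_inv_iff_mul_eq, mul_assoc, show (x : G) * y = x' * y' from e,
              inv_mul_cancel_left]]
          exact mul_mem y'.2 (inv_mem y.2))
      obtain rfl : x' = x := inv_mul_eq_one.1 (Subtype.ext (by simpa using e'))
      obtain rfl : y = y' := by simpa using e
      rfl
    · intro a ha
      rw [Set.mem_toFinset] at ha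
      simp only [hat, Set.mem_diff, Set.mem_union, not_or, SetLike.mem_coe] at ha
      refine ⟨(p₁ ⟨a, ha.1⟩, p₂ ⟨a, ha.1⟩), ?_, hp ⟨a, ha.1⟩⟩
      simp only [Finset.mem_product, Finset.mem_erase, Finset.mem_univ, and_true]
      have := hp ⟨a, ha.1⟩
      refine ⟨fun e => ha.2.2 ?_, fun e => ha.2.1 ?_⟩
      · rw [← show _ = a from this, e]; simp
      · rw [← show _ = a from this, e]; simp
    · rintro ⟨x, y⟩ h
      simp only [Finset.mem_product, Finset.mem_erase, Finset.mem_univ, and_true] at h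
      set w : ↥(W₁ ⊔ W₂) :=
        ⟨(x : G) * y, mul_mem (Subgroup.mem_sup_left x.2) (Subgroup.mem_sup_right y.2)⟩ with hwdef
      have hfw : f ((x : G) * y) = (ν y : ℂ) := by
        rw [show (x : G) * y = (w : G) from rfl,
          hf w (fun e => h.2 ((hmem x y).1.1 e)) (fun e => h.1 ((hmem x y).2.1 e)),
          show w = Subgroup.inclusion le_sup_left x * Subgroup.inclusion le_sup_right y from
            Subtype.ext rfl, map_mul, h1 _ x.2, one_mul]
        rfl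
      have hn : ‖(ν y : ℂ)‖ = 1 := by
        refine Complex.norm_eq_one_of_pow_eq_one (n := Nat.card W₂) ?_ Nat.card_pos.ne'
        rw [← Units.val_pow_eq_pow_val, ← map_pow, pow_card_eq_one', map_one, Units.val_one]
      rw [hfw, hn]
      norm_num
  have h0 : ∑ y ∈ Finset.univ.erase (1 : W₂), ((ν y : ℂ)).re = -1 := by
    obtain ⟨a, ha⟩ : ∃ a, ν a ≠ 1 := by
      by_contra h
      push Not at h
      exact hν (MonoidHom.ext h)
    have hS : ∑ y : W₂, (ν y : ℂ) = 0 := by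
      have hm : (ν a : ℂ) * ∑ y : W₂, (ν y : ℂ) = ∑ y : W₂, (ν y : ℂ) := by
        rw [Finset.mul_sum]
        exact Fintype.sum_equiv (Equiv.mulLeft a) _ _ fun y => by simp
      exact (mul_eq_zero.1 (show ((ν a : ℂ) - 1) * ∑ y : W₂, (ν y : ℂ) = 0 by
        rw [sub_mul, hm, one_mul, sub_self])).resolve_left
          (sub_ne_zero.2 fun e => ha (Units.ext e))
    rw [← Finset.add_sum_erase _ _ (Finset.mem_univ (1 : W₂)), map_one, Units.val_one] at hS
    rw [← Complex.re_sum, eq_neg_of_add_eq_zero_right hS]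
    simp
  have hin : ∑ y ∈ Finset.univ.erase (1 : W₂), (1 - 2 * ((ν y : ℂ)).re) =
      (Nat.card W₂ : ℝ) + 1 := by
    rw [Finset.sum_sub_distrib, ← Finset.mul_sum, h0, Finset.sum_const,
      Finset.card_erase_of_mem (Finset.mem_univ _), Finset.card_univ, ← Nat.card_eq_fintype_card,
      nsmul_eq_mul]
    push_cast [Nat.cast_sub Nat.card_pos]
    ring
  rw [hsum, Finset.sum_product]
  simp only [hin]
  rw [Finset.sum_const, Finset.card_erase_of_mem (Finset.mem_univ _), Finset.card_univ,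
    ← Nat.card_eq_fintype_card, nsmul_eq_mul]
  push_cast [Nat.cast_sub Nat.card_pos]
  ring

open Classical in
/-- The main inequality. -/
theorem main_ineq (hW : Cfsg.IsSelfNormalizingCyclic W₁ W₂)
    {χ : (↥(W₁ ⊔ W₂) →* ℂˣ) → (G → ℂ)} (hχ : Cfsg.IsCyclicTIFamily W₁ W₂ χ)
    {ω : ↥(W₁ ⊔ W₂) →* ℂˣ} (hω : ω ≠ 1) (hω₁ : ∀ w : ↥(W₁ ⊔ W₂), (w : G) ∈ W₁ → ω w = 1)
    {ψ : G → ℂ} (hψc : Cfsg.IsClassFunction G ψ) (hψ : Cfsg.classInner ψ ψ = 1)
    {A : Set G} {S : Subgroup G} (hA : Cfsg.IsTISubset A) (hA1 : (1 : G) ∉ A)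
    (hAN : Subgroup.normalizer A = S)
    (hdisj : ∀ g ∈ conjUnion A, g ∉ conjUnion (hat W₁ W₂)) (hne : (hat W₁ W₂).Nonempty)
    (Λ : Set G)
    (hpt : ∀ g : G, g ≠ 1 → g ∉ conjUnion A → g ∉ conjUnion (hat W₁ W₂) → g ∉ Λ →
      2 * (χ ω g).re ≤ ‖χ ω g‖ ^ 2 + ‖ψ g‖ ^ 2) :
    ((Nat.card W₁ : ℝ) - 1) * ((Nat.card W₂ : ℝ) + 1) / (Nat.card W₁ * Nat.card W₂) +
        (∑ a ∈ A.toFinset, (‖χ ω a‖ ^ 2 - 2 * (χ ω a).re + ‖ψ a‖ ^ 2)) / Nat.card S ≤
      2 + ((Λ.ncard : ℝ) + 1) / Nat.card G := by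
  set h := χ ω
  have hhc : Cfsg.IsClassFunction G h := by
    rcases hχ.irr_or_neg ω with hi | hi
    · exact CfsgLib.Char.IsIrrCharacter.isClassFunction hi
    · intro a b
      simpa [h] using CfsgLib.Char.IsIrrCharacter.isClassFunction hi a b
  obtain ⟨hBTI, hB1, hBN⟩ := hat_ti hW
  set B := hat W₁ W₂ with hB
  set u : G → ℝ := fun g => ‖h g‖ ^ 2 - 2 * (h g).re + ‖ψ g‖ ^ 2 with hu
  have hucl : ∀ x g : G, u (x * g * x⁻¹) = u g := fun x g => by
    simp only [hu, hhc g x, hψc g x]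
  have huge : ∀ g, -1 ≤ u g := fun g => by
    have : (h g).re ^ 2 ≤ ‖h g‖ ^ 2 := by
      rw [← sq_abs (h g).re]
      exact pow_le_pow_left₀ (abs_nonneg _) (Complex.abs_re_le_norm _) 2
    simp only [hu]
    nlinarith [sq_nonneg ((h g).re - 1), sq_nonneg ‖ψ g‖]
  have htot : ∑ g, u g = 2 * (Nat.card G : ℝ) := by
    have e1 : (∑ g, ‖h g‖ ^ 2) = Nat.card G := by
      have := classInner_self_eq h
      rw [hχ.orthonormal, if_pos rfl, Complex.one_re, eq_div_iff (Nat.cast_ne_zero.2 Nat.card_pos.ne'), one_mul] at this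
      exact this.symm
    have e2 : (∑ g, (h g).re) = 0 := by
      have := classInner_one_eq h
      rw [← hχ.map_one, hχ.orthonormal, if_neg hω, Complex.zero_re] at this
      rcases div_eq_zero_iff.1 this.symm with e | e
      · exact e
      · exact absurd e (Nat.cast_ne_zero.2 Nat.card_pos.ne')
    have e3 : (∑ g, ‖ψ g‖ ^ 2) = Nat.card G := by
      have := classInner_self_eq ψ
      rw [hψ, Complex.one_re, eq_div_iff (Nat.cast_ne_zero.2 Nat.card_pos.ne'), one_mul] at this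
      exact this.symm
    simp only [hu, Finset.sum_add_distrib, Finset.sum_sub_distrib, ← Finset.mul_sum, e1, e2, e3]
    ring
  set sA := (conjUnion A).toFinset
  set sB := (conjUnion B).toFinset
  have hdAB : Disjoint sA sB := by
    rw [Finset.disjoint_left]
    exact fun g hg hg' => hdisj g (Set.mem_toFinset.1 hg) (Set.mem_toFinset.1 hg')
  have hrest : -((Λ.ncard : ℝ) + 1) ≤ ∑ g ∈ Finset.univ \ (sA ∪ sB), u g := by
    have hb : ∀ g ∈ Finset.univ \ (sA ∪ sB),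
        (if g ∈ insert 1 Λ then (-1 : ℝ) else 0) ≤ u g := by
      intro g hg
      simp only [Finset.mem_sdiff, Finset.mem_union, sA, sB, Set.mem_toFinset, not_or] at hg
      split_ifs with hmem
      · exact huge g
      · rw [Set.mem_insert_iff, not_or] at hmem
        have := hpt g hmem.1 hg.2.1 hg.2.2 hmem.2
        simp only [hu]
        linarith
    refine le_trans ?_ (Finset.sum_le_sum hb)
    rw [Finset.sum_ite, Finset.sum_const, Finset.sum_const, smul_zero, add_zero, nsmul_eq_mul,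
      mul_neg, mul_one, neg_le_neg_iff]
    have hc : ((Finset.univ \ (sA ∪ sB)).filter fun g => g ∈ insert 1 Λ).card ≤ Λ.ncard + 1 := by
      refine le_trans ?_ (Set.ncard_insert_le 1 Λ)
      rw [← Set.ncard_coe_finset]
      exact Set.ncard_le_ncard (fun g hg => (Finset.mem_filter.1 hg).2) (Set.toFinite _)
    exact_mod_cast hc
  have hsplit : ∑ g, u g = ∑ g ∈ Finset.univ \ (sA ∪ sB), u g + (∑ g ∈ sA, u g + ∑ g ∈ sB, u g) := by
    rw [← Finset.sum_union hdAB, Finset.sum_sdiff (Finset.subset_univ _)]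
  rw [htot, sum_conjUnion hA hA1 u hucl, sum_conjUnion hBTI hB1 u hucl, hAN, hBN hne] at hsplit
  have hBsum : ((Nat.card W₁ : ℝ) - 1) * ((Nat.card W₂ : ℝ) + 1) ≤ ∑ a ∈ B.toFinset, u a := by
    rw [← hat_sum hW ω hω hω₁ h fun w a b => hχ.eq_on ω w a b]
    exact Finset.sum_le_sum fun a _ => by simp only [hu]; nlinarith [sq_nonneg ‖ψ a‖]
  have hG : (0 : ℝ) < Nat.card G := by exact_mod_cast Nat.card_pos
  have hidx : ∀ K : Subgroup G, (K.index : ℝ) * Nat.card K = Nat.card G := fun K => by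
    exact_mod_cast K.index_mul_card
  have hW12 : (Nat.card ↥(W₁ ⊔ W₂) : ℝ) = Nat.card W₁ * Nat.card W₂ := by
    obtain ⟨-, -, hd, hcomm, -, -⟩ := hW
    obtain ⟨p₁, p₂, hp, hp₁, hp₂⟩ := OddChar.exists_proj hd hcomm
    rw [← Nat.cast_mul, ← Nat.card_prod]
    congr 1
    refine Nat.card_congr
      { toFun := fun w => (p₁ w, p₂ w)
        invFun := fun p => ⟨(p.1 : G) * p.2,
          mul_mem (Subgroup.mem_sup_left p.1.2) (Subgroup.mem_sup_right p.2.2)⟩
        left_inv := fun w => Subtype.ext (hp w)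
        right_inv := fun p => ?_ }
    have e : (⟨(p.1 : G) * p.2, mul_mem (Subgroup.mem_sup_left p.1.2) (Subgroup.mem_sup_right p.2.2)⟩ :
        ↥(W₁ ⊔ W₂)) = Subgroup.inclusion le_sup_left p.1 * Subgroup.inclusion le_sup_right p.2 :=
      Subtype.ext rfl
    simp only [e, map_mul, (hp₁ (Subgroup.inclusion le_sup_left p.1) p.1.2).1, (hp₁ (Subgroup.inclusion le_sup_left p.1) p.1.2).2,
      (hp₂ (Subgroup.inclusion le_sup_right p.2) p.2.2).1, (hp₂ (Subgroup.inclusion le_sup_right p.2) p.2.2).2,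
      mul_one, one_mul]
    ext <;> simp
  simp only [nsmul_eq_mul] at hsplit
  have e1 := hidx S
  have e2 := hidx (W₁ ⊔ W₂)
  rw [hW12] at e2
  have hS0 : (0 : ℝ) < Nat.card S := by exact_mod_cast Nat.card_pos
  have hW0 : (0 : ℝ) < Nat.card W₁ * Nat.card W₂ := by
    rw [← hW12]; exact_mod_cast Nat.card_pos
  have i1 : (S.index : ℝ) / Nat.card G = 1 / Nat.card S := by
    field_simp
    linarith
  have i2 : ((W₁ ⊔ W₂).index : ℝ) / Nat.card G = 1 / (Nat.card W₁ * Nat.card W₂) := by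
    field_simp
    linarith
  have hmul := mul_le_mul_of_nonneg_left hBsum (show (0 : ℝ) ≤ (W₁ ⊔ W₂).index by positivity)
  rw [div_eq_mul_one_div, div_eq_mul_one_div _ (Nat.card S : ℝ), ← i1, ← i2]
  rw [← sub_nonneg]
  have : 0 ≤ (2 * (Nat.card G : ℝ) + ((Λ.ncard : ℝ) + 1) -
      ((W₁ ⊔ W₂).index : ℝ) * (((Nat.card W₁ : ℝ) - 1) * ((Nat.card W₂ : ℝ) + 1)) -
      (S.index : ℝ) * ∑ a ∈ A.toFinset, u a) / Nat.card G := by
    apply div_nonneg _ hG.le
    linarith
  refine le_of_le_of_eq this ?_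
  simp only [hu]
  field_simp
  ring

end CfsgLib.FT.PairIneq
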