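import Cfsg.Agent.Lib.FT.PairPins
import Cfsg.Agent.Lib.FT.PairIneq
import Cfsg.Agent.Lib.Char.Induced
import Cfsg.Agent.Lib.Char.TISet

/-!
PROJECT FT module PairInduce: `pin` and `line` for functions induced from the normaliser of a TI set
containing `W` outside `W₁ ∪ W₂`.
-/

set_option autoImplicit false
set_option linter.style.haveILetI false

namespace CfsgLib.FT.PairInduce

variable {G : Type*} [Group G] [Fintype G] {W₁ W₂ : Subgroup G} {A : Set G} {S : Subgroup G}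
  [Fintype S]

/-- Induction from the normaliser of a TI set: values on the set and the norm. -/
theorem ti_facts (hA : Cfsg.IsTISubset A) (hA1 : (1 : G) ∉ A) (hAN : Subgroup.normalizer A = S)
    {β : S → ℂ} (hβ : Cfsg.IsClassFunction S β) (hsupp : ∀ x : S, (x : G) ∉ A → β x = 0) :
    (∀ x : S, (x : G) ∈ A → Cfsg.indFun S β x = β x) ∧
      Cfsg.classInner (Cfsg.indFun S β) (Cfsg.indFun S β) = Cfsg.classInner β β ∧
      (∀ g : G, g ∉ PairIneq.conjUnion A → Cfsg.indFun S β g = 0) := by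
  subst hAN
  have hTI : ∀ g : G, g ∉ Subgroup.normalizer A → ∀ t ∈ A, g * t * g⁻¹ ∈ A → t = 1 := hA
  refine ⟨fun x hx => CfsgLib.Char.indFun_ti_apply A hTI β hβ hsupp x hx
      (fun e => hA1 (by rw [e] at hx; simpa using hx)),
    CfsgLib.Char.classInner_indFun_ti A hTI β β hβ hsupp hsupp (hsupp 1 (by simpa using hA1)),
    fun g hg => ?_⟩
  rw [CfsgLib.Char.indFun_apply]
  refine mul_eq_zero_of_right _ (Finset.sum_eq_zero fun x _ => ?_)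
  by_cases hx : x⁻¹ * g * x ∈ Subgroup.normalizer A
  · rw [CfsgLib.Char.extendByZero_apply_mem _ _ hx]
    exact hsupp _ fun h => hg ⟨x⁻¹, by simpa using h⟩
  · simp [Cfsg.extendByZero, hx]

/-- PIN, induced from the normaliser `S` of a TI set. -/
theorem pin_induced (hW : Cfsg.IsSelfNormalizingCyclic W₁ W₂) (hodd : Odd (Nat.card ↥(W₁ ⊔ W₂)))
    {χ : (↥(W₁ ⊔ W₂) →* ℂˣ) → (G → ℂ)} (hχ : Cfsg.IsCyclicTIFamily W₁ W₂ χ)
    (hA : Cfsg.IsTISubset A) (hA1 : (1 : G) ∉ A) (hAN : Subgroup.normalizer A = S)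
    (hVA : PairIneq.hat W₁ W₂ ⊆ A) (hWS : W₁ ⊔ W₂ ≤ S)
    {β : S → ℂ} (hβ : Cfsg.IsGeneralizedCharacter S β) (hn : Cfsg.classInner β β = 2)
    (hsupp : ∀ x : S, (x : G) ∉ A → β x = 0)
    {ω ω' : ↥(W₁ ⊔ W₂) →* ℂˣ} (hne : ω ≠ ω')
    (h1 : ∀ w : ↥(W₁ ⊔ W₂), (w : G) ∈ W₁ → ω w = ω' w)
    (hV : ∀ w : ↥(W₁ ⊔ W₂), (w : G) ∉ W₁ → (w : G) ∉ W₂ →
      β (Subgroup.inclusion hWS w) = (ω w : ℂ) - (ω' w : ℂ)) :
    Cfsg.indFun S β = χ ω - χ ω' := by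
  have hcl := CfsgLib.Char.IsGeneralizedCharacter.isClassFunction hβ
  obtain ⟨hval, hnorm, -⟩ := ti_facts hA hA1 hAN hcl hsupp
  refine PairPins.pin hW hodd hχ (CfsgLib.Char.IsGeneralizedCharacter.indFun S hβ) (hnorm.trans hn) hne h1 fun w ha hb => ?_
  have hmem : (w : G) ∈ A := hVA ⟨w.2, by rintro (h | h); exacts [ha h, hb h]⟩
  rw [← hV w ha hb, ← hval (Subgroup.inclusion hWS w) hmem]
  rfl

open Classical in
/-- LINE, induced from the normaliser `S` of a TI set missing the conjugates of `W` outside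
`W₁ ∪ W₂` in the support of `β`; inner products with the grid are given by Frobenius reciprocity. -/
theorem line_induced (hW : Cfsg.IsSelfNormalizingCyclic W₁ W₂)
    {χ : (↥(W₁ ⊔ W₂) →* ℂˣ) → (G → ℂ)} (hχ : Cfsg.IsCyclicTIFamily W₁ W₂ χ)
    [Fintype (↥(W₁ ⊔ W₂) →* ℂˣ)] (h5 : 5 ≤ Nat.card W₂)
    (hA : Cfsg.IsTISubset A) (hA1 : (1 : G) ∉ A) (hAN : Subgroup.normalizer A = S)
    (hVA : ∀ g ∈ PairIneq.hat W₁ W₂, g ∉ PairIneq.conjUnion A)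
    {β : S → ℂ} (hβ : Cfsg.IsGeneralizedCharacter S β)
    (hn : Cfsg.classInner β β = (Nat.card W₁ + 1 : ℕ)) (h0 : Cfsg.classInner β (fun _ => 1) = 0)
    (hsupp : ∀ x : S, (x : G) ∉ A → β x = 0)
    {ω₁ : ↥(W₁ ⊔ W₂) →* ℂˣ} (hω₁ : ¬ ∀ w : ↥(W₁ ⊔ W₂), (w : G) ∈ W₂ → ω₁ w = 1)
    (hrow : ∀ η η' : ↥(W₁ ⊔ W₂) →* ℂˣ, (∀ w : ↥(W₁ ⊔ W₂), (w : G) ∈ W₁ → η w = η' w) →
      (¬ ∀ w : ↥(W₁ ⊔ W₂), (w : G) ∈ W₂ → η w = 1) → (¬ ∀ w : ↥(W₁ ⊔ W₂), (w : G) ∈ W₂ → η' w = 1) →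
      Cfsg.classInner β (fun x : S => χ η x) - Cfsg.classInner β (fun x : S => χ η' x) =
        (if ∀ w : ↥(W₁ ⊔ W₂), (w : G) ∈ W₂ → η' w = ω₁ w then 1 else 0) -
          (if ∀ w : ↥(W₁ ⊔ W₂), (w : G) ∈ W₂ → η w = ω₁ w then 1 else 0)) :
    ∃ ψ : G → ℂ, (Cfsg.IsIrrCharacter G ψ ∨ Cfsg.IsIrrCharacter G (-ψ)) ∧
      (∀ η, Cfsg.classInner ψ (χ η) = 0) ∧
      Cfsg.indFun S β = ψ - ∑ η ∈ Finset.univ.filter
        (fun η : ↥(W₁ ⊔ W₂) →* ℂˣ => ∀ w : ↥(W₁ ⊔ W₂), (w : G) ∈ W₂ → η w = ω₁ w), χ η := by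
  have hcl := CfsgLib.Char.IsGeneralizedCharacter.isClassFunction hβ
  obtain ⟨-, hnorm, hzero⟩ := ti_facts hA hA1 hAN hcl hsupp
  have hrec : ∀ f : G → ℂ, Cfsg.IsClassFunction G f →
      Cfsg.classInner (Cfsg.indFun S β) f = Cfsg.classInner β (fun x : S => f x) :=
    fun f hf => CfsgLib.Char.classInner_indFun S β f hf
  refine PairPins.line hW hχ h5 (CfsgLib.Char.IsGeneralizedCharacter.indFun S hβ) (hnorm.trans hn)
    ((hrec _ fun _ _ => rfl).trans h0) (fun w ha hb => hzero _ (hVA _ ⟨w.2, by rintro (h | h); exacts [ha h, hb h]⟩))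
    hω₁ fun η η' h h' h'' => ?_
  rw [hrec _ (OddChar.CyclicUnique.Signed.isClassFunction (hχ.irr_or_neg η)),
    hrec _ (OddChar.CyclicUnique.Signed.isClassFunction (hχ.irr_or_neg η'))]
  exact hrow η η' h h' h''

end CfsgLib.FT.PairInduce
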