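import Cfsg.Agent.Lib.OddOrder.KappaMain
import Cfsg.Agent.Lib.OddOrder.Section16Cases
import Cfsg.Agent.Lib.OddChar.TypeSigma
import Cfsg.Agent.S1376

/-!
Type P data with `W₁` an arbitrary complement are standard factorisations: `W₁` is a Hall `κ`-subgroup
and `W₂ = M_σ ∩ C(W₁)`; conversely every Hall `κ`-subgroup carries type P data.
-/

set_option autoImplicit false
set_option linter.style.haveILetI false

namespace CfsgLib.FT

open Subgroup CfsgLib.OddOrder
open scoped Pointwise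

universe u

variable {G : Type u} [Group G]

theorem map_conj_eq_of_le_normalizer {M A : Subgroup G} (hA : M ≤ normalizer (A : Set G)) {m : G}
    (hm : m ∈ M) : A.map (MulAut.conj m).toMonoidHom = A := by
  have h := hA hm
  rw [mem_normalizer_iff_map_conj_eq] at h
  exact h

variable [Finite G] (hG : Cfsg.IsMinSimpleOddOrder G) {M : Subgroup G} (hM : IsCoatom M)
include hG hM

/-- A complement of `M'` in `M` of coprime order is `M`-conjugate to `K`. -/
theorem exists_conj_complement {K U W : Subgroup G} (hKU : Cfsg.IsSigmaDecomposition M K U)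
    (hK1 : K ≠ ⊥) (hW : Cfsg.IsComplIn ⁅M, M⁆ W M)
    (hco : (Nat.card W).Coprime (W.relIndex M)) : ∃ n ∈ M, MulAut.conj n • K = W := by
  have hc := isComplIn_commutator_K hG hM hKU hK1
  have card_eq : ∀ B : Subgroup G, Cfsg.IsComplIn ⁅M, M⁆ B M →
      Nat.card B = (⁅M, M⁆).relIndex M := fun B h =>
    card_eq_relIndex_of_isComplIn ⟨h.2.1, h.1, by rw [inf_comm]; exact h.2.2.1, fun z hz => by
      obtain ⟨a, ha, b, hb, e⟩ := h.2.2.2 z⁻¹ (inv_mem hz)
      exact ⟨b⁻¹, inv_mem hb, a⁻¹, inv_mem ha, by rw [← mul_inv_rev, ← e, inv_inv]⟩⟩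
  have hall : ∀ B : Subgroup G, B ≤ M → Nat.card B = Nat.card K →
      (Nat.card B).Coprime (B.relIndex M) →
      Cfsg.IsPiHallOf {q | q.Prime ∧ q ∣ Nat.card K} B M := fun B hB e hco =>
    ⟨hB, fun q hq hd => ⟨hq, e ▸ hd⟩, fun q hq hqK hd =>
      hq.one_lt.ne' (Nat.eq_one_of_dvd_coprimes hco (e ▸ hqK.2) hd)⟩
  have hKco : (Nat.card K).Coprime (K.relIndex M) := Nat.coprime_of_dvd fun q hq h1 h2 =>
    hKU.hall.2.2 q hq (hKU.hall.2.1 q hq h1) h2
  exact Solvable.exists_conj_of_isPiHallOf (isSolvable_of_ne_top hG hM.1)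
    (hall K hKU.hall.1 rfl hKco)
    (hall W hW.2.1 ((card_eq W hW).trans (card_eq K hc).symm) hco)

variable {W₁ V W₂ : Subgroup G} (hP : Cfsg.IsTypePWith M W₁ V W₂)
include hP

/-- `W₁` starts a standard factorisation. -/
theorem exists_decomposition_of_typeP : ∃ U : Subgroup G, Cfsg.IsSigmaDecomposition M W₁ U := by
  obtain ⟨K, U, hKU⟩ := CfsgLib.OddChar.MaxTypes.exists_decomposition hG hM
  obtain ⟨n, hn, hnK⟩ := exists_conj_complement hG hM hKU
    (CfsgLib.OddChar.MaxTypes.K_ne_bot_of_typeP hG hM hKU hP) hP.W₁_compl hP.W₁_hall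
  rw [← hnK]
  exact ⟨_, Cfsg.Agent.S1376.decomposition_conj hG hKU hn⟩

/-- `W₁` is a Hall `κ`-subgroup. -/
theorem isKappaPair_of_typeP : IsKappaPair M W₁ := by
  obtain ⟨U, hKU⟩ := exists_decomposition_of_typeP hG hM hP
  exact ⟨hM, hKU.hall, hP.W₁_ne⟩

/-- `W₂ = M_σ ∩ C(W₁)`. -/
theorem W₂_eq_kappaStar : W₂ = kappaStar M W₁ := by
  obtain ⟨U, hKU⟩ := exists_decomposition_of_typeP hG hM hP
  obtain ⟨⟨k, hk⟩, hk1⟩ := ne_bot_iff_exists_ne_one.1 hP.W₁_ne
  have hk1' : k ≠ 1 := fun h => hk1 (Subtype.ext h)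
  rw [← hP.W₂_centralizer k hk hk1',
    CfsgLib.OddChar.MaxTypes.derived_inf_centralizer hG hM hKU hP.W₁_ne hk hk1']

omit hP in
/-- Every `K` carries data of type P. -/
theorem exists_typeP_data {K U : Subgroup G} (hKU : Cfsg.IsSigmaDecomposition M K U)
    (hK1 : K ≠ ⊥) : ∃ U' : Subgroup G, Cfsg.IsTypePWith M K U' (kappaStar M K) := by
  obtain ⟨A, B, C, hP⟩ : Cfsg.IsOfTypeP M := by
    rcases type_cases hG hM hKU with h | h | h | h
    · exact absurd h.1 hK1
    · obtain ⟨A, B, C, h', -⟩ := isOfTypeII_of_U_ne hG hM hKU hK1 h.2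
      exact ⟨A, B, C, h'⟩
    · obtain ⟨A, B, C, h', -⟩ :=
        TypeP.exists_data_three_four (isOfTypeIII_or_IV_of_ne hG hM hKU hK1 h.2.2)
      exact ⟨A, B, C, h'⟩
    · obtain ⟨A, B, C, h', -⟩ := isOfTypeV_of_eq hG hM hKU hK1 h.2.1 h.2.2
      exact ⟨A, B, C, h'⟩
  obtain ⟨n, hn, hnK⟩ := exists_conj_complement hG hM hKU hK1 hP.W₁_compl hP.W₁_hall
  set c := (MulAut.conj n⁻¹).toMonoidHom with hc
  have hci : Function.Injective c := (MulAut.conj n⁻¹).injective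
  have hAK : A.map c = K := by
    rw [← hnK]
    show (K.map (MulAut.conj n).toMonoidHom).map c = K
    rw [hc, map_conj_map_conj, inv_mul_cancel, map_conj_one]
  have hH : (Cfsg.fittingHallOf M).map c = Cfsg.fittingHallOf M :=
    map_conj_eq_of_le_normalizer (le_normalizer_fittingHallOf M) (inv_mem hn)
  have hD : (⁅M, M⁆).map c = ⁅M, M⁆ :=
    map_conj_eq_of_le_normalizer (Solvable.le_normalizer_commutator_left M M) (inv_mem hn)
  haveI := hP.U_nilpotent
  refine ⟨B.map c, isTypePWith_of_compl hG hM hKU hK1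
    (Group.nilpotent_of_mulEquiv (B.equivMapOfInjective c hci)) ?_ ⟨?_, ?_, ?_, fun m hm => ?_⟩⟩
  · rw [← hAK, hc, ← map_equiv_normalizer_eq]
    exact Subgroup.map_mono hP.U_normal
  · exact hP.U_compl.1
  · exact hD ▸ Subgroup.map_mono hP.U_compl.2.1
  · rw [← hH, ← Subgroup.map_inf _ _ _ hci, hP.U_compl.2.2.1, Subgroup.map_bot]
  · rw [← hD] at hm
    obtain ⟨m₀, hm₀, rfl⟩ := hm
    obtain ⟨a, ha, b, hb, rfl⟩ := hP.U_compl.2.2.2 m₀ hm₀
    exact ⟨c a, hH ▸ mem_map_of_mem c ha, c b, mem_map_of_mem c hb, map_mul c a b⟩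

end CfsgLib.FT
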