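import Cfsg.Agent.Lib.FT.Pair
import Cfsg.Agent.Lib.OddOrder.Section16Cases
import Cfsg.Agent.Lib.OddOrder.KappaMain
import Cfsg.Agent.Lib.NilpPerm.Bound
import Cfsg.Agent.Lib.Parabolic.FieldModel
import Cfsg.Agent.S1351
import Cfsg.Agent.S1352
import Cfsg.Agent.S1365
import Cfsg.Agent.S1369
import Cfsg.Agent.S1378

/-!
FT module SideFacts (group theory): the two sides from the frozen types.

* `exists_pairData`: BG 14.7 and 16.1: the side with `U ≠ 1` is the type II member.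
* `regions_disjoint`: a common element of `F(S)` and `F(T)^c` has prime order `p`, say prime to
  `|H_S|`; then `H_S` lies in `T^c`, `Z(H_T^c)` in `S`, they commute, so `Z(H_T^c) ≤ F(S)` and the TI
  property gives `T^c = S`. The orders in `wRegion` are divisible by `q` and by `p`.
-/

set_option autoImplicit false
set_option maxHeartbeats 400000
set_option linter.style.haveILetI false

namespace CfsgLib.FT

open Subgroup CfsgLib.OddOrder

universe u

variable {G : Type u} [Group G] [Finite G] (hG : Cfsg.IsMinSimpleOddOrder G)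
  {S T W₁ W₂ U V : Subgroup G}
include hG

omit hG in
/-- The order of `M'` is the index of a complement `W`, and conversely. -/
theorem typeP_card_eq {M W U W' : Subgroup G} (h : Cfsg.IsTypePWith M W U W') :
    Nat.card ↥⁅M, M⁆ = W.relIndex M ∧ Nat.card W = ⁅M, M⁆.relIndex M :=
  ⟨card_eq_relIndex_of_isComplIn h.W₁_compl,
    card_eq_relIndex_of_isComplIn (isComplIn_swap h.W₁_compl)⟩

omit hG in
theorem typeP_coprime_W {M W U W' : Subgroup G} (h : Cfsg.IsTypePWith M W U W') :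
    (Nat.card ↥⁅M, M⁆).Coprime (Nat.card W) := by
  rw [(typeP_card_eq h).1]
  exact h.W₁_hall.symm

/-- Every maximal subgroup has a decomposition. -/
theorem exists_sigmaDecomposition {M : Subgroup G} (hM : IsCoatom M) :
    ∃ K U : Subgroup G, Cfsg.IsSigmaDecomposition M K U := by
  obtain ⟨⟨K, hK⟩, hc⟩ := Cfsg.Agent.S1351.result hG M hM
  exact ⟨K, (Cfsg.Agent.S1352.result hG M hM K (hc K hK) hK).1⟩

/-- Types II to V for `K ≠ 1`. -/
theorem isOfTypeP_cases {M K U : Subgroup G} (hM : IsCoatom M)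
    (hKU : Cfsg.IsSigmaDecomposition M K U) (hK : K ≠ ⊥) :
    Cfsg.IsOfTypeII M ∨ Cfsg.IsOfTypeIII M ∨ Cfsg.IsOfTypeIV M ∨ Cfsg.IsOfTypeV M := by
  by_cases hU : U = ⊥
  · by_cases hF : Cfsg.fittingHallOf M = Cfsg.sigmaCore M
    · exact Or.inr (Or.inr (Or.inr (isOfTypeV_of_eq hG hM hKU hK hU hF)))
    · rcases isOfTypeIII_or_IV_of_ne hG hM hKU hK hF with h | h
      · exact Or.inr (Or.inl h)
      · exact Or.inr (Or.inr (Or.inl h))
  · exact Or.inl (isOfTypeII_of_U_ne hG hM hKU hK hU)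

/-- A pair exists as soon as some maximal subgroup has `κ ≠ ∅`. -/
theorem exists_pairData (h : ∃ M : Subgroup G, IsCoatom M ∧ (Cfsg.kappa M).Nonempty) :
    ∃ S T W₁ W₂ U V : Subgroup G, PairData S T W₁ W₂ U V := by
  obtain ⟨M, hM, ⟨p, hpκ⟩⟩ := h
  obtain ⟨K, U, hKU⟩ := exists_sigmaDecomposition hG hM
  have hK1 : K ≠ ⊥ := fun h => hKU.hall.2.2 p hpκ.1 hpκ (by rw [h, relIndex_bot_left]; exact hpκ.2.1)
  have hP := isKappaPair_of_decomposition hM hKU hK1
  obtain ⟨L, h', he, -, hcase⟩ := hP.exists_dual hG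
  set Ks := kappaStar M K with hKs
  obtain ⟨U', hKU'⟩ :=
    (Cfsg.Agent.S1352.result hG L h'.max Ks (h'.cyclic hG) h'.hall).1
  have hinter : M ⊓ L = K ⊔ Ks := hP.inf_dual hG h' he
  have hconj : ∀ H : Subgroup G, IsCoatom H → (Cfsg.kappa H).Nonempty →
      ¬ NotConj M H ∨ ¬ NotConj L H := by
    intro H hH hκ
    obtain ⟨g, hg | hg⟩ := hP.conj_cases hG h' he hH hκ
    · exact Or.inl fun h => h g hg
    · exact Or.inr fun h => h g hg
  have hnc : NotConj M L := fun g hg =>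
    hP.ne_dual hG h' he (hP.eq_of_conj hG h' (IsKappaPair.zsub_dual he) hg)
  obtain ⟨V₀, hV₀⟩ := exists_isTypePWith hG hM hKU hK1
  obtain ⟨V₁, hV₁⟩ := exists_isTypePWith hG h'.max hKU' h'.ne_bot
  rw [show Cfsg.sigmaCore L ⊓ centralizer (Ks : Set G) = K from he] at hV₁
  by_cases hU : U = ⊥
  · have hU' : U' ≠ ⊥ := by
      rcases hcase with hq | hq
      · exact absurd hU (decomposition_U_ne_bot hG hM hKU hq)
      · exact decomposition_U_ne_bot hG h'.max hKU' hq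
    exact ⟨L, M, Ks, K, V₁, V₀, h'.max, hM, hV₁, hV₀, by rw [inf_comm, hinter, sup_comm],
      isOfTypeII_of_U_ne hG h'.max hKU' h'.ne_bot hU', isOfTypeP_cases hG hM hKU hK1,
      fun g hg => hnc g⁻¹ (by rw [hg, map_conj_map_conj, inv_mul_cancel, map_conj_one]),
      fun H hH hκ => (hconj H hH hκ).symm⟩
  · exact ⟨M, L, K, Ks, V₀, V₁, hM, h'.max, hV₀, hV₁, hinter,
      isOfTypeII_of_U_ne hG hM hKU hK1 hU, isOfTypeP_cases hG h'.max hKU' h'.ne_bot, hnc, hconj⟩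

theorem pair_basics (hpd : PairData S T W₁ W₂ U V) :
    (Nat.card W₁).Prime ∧ (Nat.card W₁).Coprime (Nat.card W₂) ∧ W₁ ≤ Cfsg.sigmaCore T ∧
      W₂ ≤ Cfsg.sigmaCore S ∧ Cfsg.sigmaCore S = Cfsg.fittingHallOf S ∧
      2 * Nat.card W₁ + 1 ≤ Nat.card U := by
  have hPS := hpd.typeS
  obtain ⟨A, B, C, hP, hB, hAp, -⟩ := hpd.typeII
  have hq : (Nat.card W₁).Prime := by
    rw [(typeP_card_eq hPS).2, ← (typeP_card_eq hP).2]
    exact hAp
  have hU : U ≠ ⊥ := (TypeP.U_ne_bot_iff hPS hP).2 hB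
  refine ⟨hq, ?_, (hpd.typeT.W₂_le.trans inf_le_left).trans (fittingHallOf_le_sigmaCore hG hpd.maxT),
    (hPS.W₂_le.trans inf_le_left).trans (fittingHallOf_le_sigmaCore hG hpd.maxS), ?_, ?_⟩
  · exact (typeP_coprime_W hPS).symm.coprime_dvd_right
      (card_dvd_of_le ((hPS.W₂_le.trans inf_le_left).trans hPS.U_compl.1))
  · obtain ⟨K, U₁, hKU⟩ := exists_sigmaDecomposition hG hpd.maxS
    exact (fittingHallOf_eq_of_U_ne hG hpd.maxS hKU
      ((isOfTypeII_iff hG hpd.maxS hKU).1 hpd.typeII).2).symm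
  · have hdvd : Nat.card W₁ ∣ Nat.card U - 1 := by
      refine CfsgLib.Parabolic.card_dvd_card_sub_one U
        (fun a ha v hv => (mem_normalizer_iff.1 (hPS.U_normal ha) v).1 hv) fun a ha v hv h => ?_
      by_cases ha1 : a = 1
      · exact Or.inl ha1
      refine Or.inr (mem_bot.1 (hPS.U_compl.2.2.1 ▸ mem_inf.2 ⟨?_, hv⟩))
      refine (hPS.W₂_le.trans inf_le_left) ((hPS.W₂_centralizer a ha ha1).le
        ⟨hPS.U_compl.2.1 hv, mem_centralizer_singleton_iff.2 ?_⟩)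
      calc v * a = a * v * a⁻¹ * a := by rw [h]
        _ = a * v := by group
    obtain ⟨i, hi⟩ := odd_card_subgroup hG U
    obtain ⟨j, hj⟩ := odd_card_subgroup hG W₁
    have h1 : 1 < Nat.card U := one_lt_card_iff_ne_bot U |>.2 hU
    obtain ⟨k, hk⟩ := hdvd
    have hk2 : 2 ≤ k := by
      by_contra hlt
      interval_cases k <;> omega
    have := Nat.mul_le_mul_left (Nat.card W₁) hk2
    omega

theorem pair_swap (hpd : PairData S T W₁ W₂ U V) (h : Cfsg.IsOfTypeII T) :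
    PairData T S W₂ W₁ V U :=
  ⟨hpd.maxT, hpd.maxS, hpd.typeT, hpd.typeS, by rw [inf_comm, hpd.inter, sup_comm], h,
    Or.inl hpd.typeII,
    fun g hg => hpd.notConj g⁻¹ (by rw [hg, map_conj_map_conj, inv_mul_cancel, map_conj_one]),
    fun H hH hκ => (hpd.cover H hH hκ).symm⟩

theorem coreSide_T (hpd : PairData S T W₁ W₂ U V) (h : ¬ Cfsg.IsOfTypeII T) :
    CoreSide T W₂ V W₁ := by
  obtain ⟨K, U₁, hKU⟩ := exists_sigmaDecomposition hG hpd.maxT
  obtain ⟨hK, hU⟩ : K ≠ ⊥ ∧ U₁ = ⊥ := by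
    rcases hpd.typeT25 with h2 | h3 | h4 | h5
    · exact absurd h2 h
    · exact ⟨((isOfTypeIII_or_IV_iff hG hpd.maxT hKU).1 (Or.inl h3)).1,
        ((isOfTypeIII_or_IV_iff hG hpd.maxT hKU).1 (Or.inl h3)).2.1⟩
    · exact ⟨((isOfTypeIII_or_IV_iff hG hpd.maxT hKU).1 (Or.inr h4)).1,
        ((isOfTypeIII_or_IV_iff hG hpd.maxT hKU).1 (Or.inr h4)).2.1⟩
    · exact ⟨((isOfTypeV_iff hG hpd.maxT hKU).1 h5).1, ((isOfTypeV_iff hG hpd.maxT hKU).1 h5).2.1⟩
  refine ⟨hpd.maxT, hpd.typeT, ?_, (pair_basics hG hpd).1, typeP_coprime_W hpd.typeT⟩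
  rw [(Cfsg.Agent.S1365.result hG T hpd.maxT K U₁ hKU hK).1, hU, bot_sup_eq]

omit hG in
/-- A point common to two TI Fitting subgroups and commuting with `H_S` forces `T^c ≤ S`. -/
theorem conj_le_of_common_fitting {W W' U U' A A' : Subgroup G}
    (hPS : Cfsg.IsTypePWith S W U A) (hPT : Cfsg.IsTypePWith T W' U' A')
    (hSTI : Cfsg.IsTISubset (Cfsg.fittingOf S : Set G))
    (hSN : normalizer (Cfsg.fittingOf S : Set G) = S)
    (hTTI : Cfsg.IsTISubset (Cfsg.fittingOf T : Set G))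
    (hTN : normalizer (Cfsg.fittingOf T : Set G) = T)
    (hco : (Nat.card (Cfsg.fittingHallOf S)).Coprime (Nat.card (Cfsg.fittingHallOf T)))
    {x c : G} (hx1 : x ≠ 1) (hxS : x ∈ Cfsg.fittingOf S) (hxT : c * x * c⁻¹ ∈ Cfsg.fittingOf T)
    (hxH : ∀ h ∈ Cfsg.fittingHallOf S, Commute h x) :
    ∀ t ∈ T, c⁻¹ * t * c ∈ S := by
  set HS := Cfsg.fittingHallOf S with hHS
  set HT := Cfsg.fittingHallOf T with hHT
  have tiS : ∀ {a g : G}, a ∈ Cfsg.fittingOf S → a ≠ 1 → g * a * g⁻¹ ∈ Cfsg.fittingOf S → g ∈ S := by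
    intro a g ha ha1 hg
    rw [← hSN]
    by_contra hn
    exact ha1 (hSTI g hn a ha hg)
  have tiT : ∀ {a g : G}, a ∈ Cfsg.fittingOf T → a ≠ 1 → g * a * g⁻¹ ∈ Cfsg.fittingOf T → g ∈ T := by
    intro a g ha ha1 hg
    rw [← hTN]
    by_contra hn
    exact ha1 (hTTI g hn a ha hg)
  have hy1 : c * x * c⁻¹ ≠ 1 := fun h => hx1 (conj_eq_one_iff.1 h)
  have hH : ∀ h ∈ HS, c * h * c⁻¹ ∈ T := fun h hh => tiT hxT hy1 (by
    rw [show c * h * c⁻¹ * (c * x * c⁻¹) * (c * h * c⁻¹)⁻¹ = c * (h * x * h⁻¹) * c⁻¹ by group,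
      (hxH h hh).eq, mul_inv_cancel_right]
    exact hxT)
  have hZS : ∀ z ∈ HT ⊓ centralizer (HT : Set G), c⁻¹ * z * c ∈ S := fun z hz => by
    have hzx : z * (c * x * c⁻¹) = c * x * c⁻¹ * z := by
      rw [← hPT.fitting_eq] at hxT
      have hle : HT ⊔ (T ⊓ centralizer (HT : Set G)) ≤ centralizer ({z} : Set G) :=
        sup_le (fun a ha => mem_centralizer_singleton_iff.2 (hz.2 a ha))
          fun a ha => mem_centralizer_singleton_iff.2 (mem_centralizer_iff.1 ha.2 z hz.1).symm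
      exact (mem_centralizer_singleton_iff.1 (hle hxT)).symm
    refine tiS hxS hx1 ?_
    rw [show c⁻¹ * z * c * x * (c⁻¹ * z * c)⁻¹ = c⁻¹ * (z * (c * x * c⁻¹) * z⁻¹) * c by group,
      hzx, show c⁻¹ * (c * x * c⁻¹ * z * z⁻¹) * c = x by group]
    exact hxS
  -- `Z(H_T)^c ≤ F(S)`
  have hzF : ∀ z ∈ HT ⊓ centralizer (HT : Set G), c⁻¹ * z * c ∈ Cfsg.fittingOf S := fun z hz => by
    rw [← hPS.fitting_eq]
    refine mem_sup_right ⟨hZS z hz, fun h hh => ?_⟩
    have hzz := hZS z hz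
    set a := c⁻¹ * z * c with ha
    have h1 : a * h * a⁻¹ * h⁻¹ ∈ HS :=
      mul_mem ((mem_normalizer_iff.1 (le_normalizer_fittingHallOf S hzz) h).1 hh) (inv_mem hh)
    have h2 : c * (a * h * a⁻¹ * h⁻¹) * c⁻¹ ∈ HT := by
      rw [show c * (a * h * a⁻¹ * h⁻¹) * c⁻¹ =
        z * ((c * h * c⁻¹) * z⁻¹ * (c * h * c⁻¹)⁻¹) by rw [ha]; group]
      exact mul_mem hz.1
        ((mem_normalizer_iff.1 (le_normalizer_fittingHallOf T (hH h hh)) _).1 (inv_mem hz.1))
    have h3 : a * h * a⁻¹ * h⁻¹ = 1 := by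
      refine orderOf_eq_one_iff.1 (Nat.eq_one_of_dvd_coprimes hco (orderOf_dvd_card_of_mem h1) ?_)
      rw [← (MulAut.conj c).orderOf_eq, MulAut.conj_apply]
      exact orderOf_dvd_card_of_mem h2
    rw [mul_inv_eq_one, mul_inv_eq_iff_eq_mul] at h3
    exact h3.symm
  obtain ⟨z, hz, hz1⟩ : ∃ z ∈ HT ⊓ centralizer (HT : Set G), z ≠ 1 := by
    haveI : Group.IsNilpotent HT := fittingHallOf_isNilpotent T
    haveI : Nontrivial HT :=
      (nontrivial_iff_ne_bot HT).2 fun h => hPT.H_not_cyclic (by rw [← hHT, h]; infer_instance)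
    obtain ⟨w, hw, hw1⟩ := (bot_or_exists_ne_one (center HT)).resolve_left
      (Group.IsNilpotent.center_ne_bot HT)
    exact ⟨w, ⟨w.2, fun a ha => congrArg Subtype.val (mem_center_iff.1 hw ⟨a, ha⟩)⟩,
      fun h => hw1 (Subtype.ext h)⟩
  intro t ht
  refine tiS (hzF z hz) (fun h => hz1 ?_) ?_
  · calc z = c * (c⁻¹ * z * c) * c⁻¹ := by group
      _ = 1 := by rw [h]; group
  have hzn : t * z * t⁻¹ ∈ HT ⊓ centralizer (HT : Set G) := by
    refine ⟨(mem_normalizer_iff.1 (le_normalizer_fittingHallOf T ht) z).1 hz.1, fun a ha => ?_⟩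
    have h1 := hz.2 _ ((mem_normalizer_iff.1
      (le_normalizer_fittingHallOf T (inv_mem ht)) a).1 ha)
    calc a * (t * z * t⁻¹) = t * (t⁻¹ * a * t⁻¹⁻¹ * z) * t⁻¹ := by group
      _ = t * (z * (t⁻¹ * a * t⁻¹⁻¹)) * t⁻¹ := by rw [h1]
      _ = t * z * t⁻¹ * a := by group
  rw [show c⁻¹ * t * c * (c⁻¹ * z * c) * (c⁻¹ * t * c)⁻¹ = c⁻¹ * (t * z * t⁻¹) * c by group]
  exact hzF _ hzn

omit hG in
/-- An element of a member of `wRegion` is of order divisible by `|W₁|`. -/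
theorem card_dvd_orderOf_of_mem_sup (hq : (Nat.card W₁).Prime)
    (hco : (Nat.card W₁).Coprime (Nat.card W₂)) (hcomm : ∀ a ∈ W₁, ∀ b ∈ W₂, a * b = b * a)
    {w : G} (hw : w ∈ W₁ ⊔ W₂) (hw2 : w ∉ W₂) : Nat.card W₁ ∣ orderOf w := by
  have hn : W₁ ≤ normalizer (W₂ : Set G) := fun a ha => centralizer_le_normalizer _
    (mem_centralizer_iff.2 fun b hb => (hcomm a ha b hb).symm)
  rw [sup_comm] at hw
  obtain ⟨b, hb, a, ha, rfl⟩ := (Solvable.mem_sup_of_le_normalizer hn).1 hw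
  have ha1 : a ≠ 1 := fun h => hw2 (by rw [h, mul_one]; exact hb)
  have hoa : orderOf a = Nat.card W₁ :=
    ((Nat.dvd_prime hq).1 (orderOf_dvd_card_of_mem ha)).resolve_left
      fun h => ha1 (orderOf_eq_one_iff.1 h)
  rw [(show Commute b a from (hcomm a ha b hb).symm).orderOf_mul_eq_mul_orderOf_of_coprime
    (hoa ▸ (hco.coprime_dvd_right (orderOf_dvd_card_of_mem hb)).symm), hoa]
  exact dvd_mul_left _ _

omit hG [Finite G] in
theorem orderOf_conj_eq (y g : G) : orderOf (y * g * y⁻¹) = orderOf g :=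
  (MulAut.conj y).orderOf_eq g

/-- The three regions of the count do not meet. -/
theorem regions_disjoint (hpd : PairData S T W₁ W₂ U V) (hS : Side S W₁ U W₂)
    (hT : Side T W₂ V W₁) :
    Disjoint (region S U) (region T V) ∧ Disjoint (region S U) (wRegion W₁ W₂) ∧
      Disjoint (region T V) (wRegion W₁ W₂) ∧ (1 : G) ∉ wRegion W₁ W₂ := by
  have hco := (pair_basics hG hpd).2.1
  have hcomm := hpd.typeS.selfNormalizing.2.2.2.1
  refine ⟨?_, ?_, ?_, fun ⟨y, _, h1, _⟩ => h1 (by simp [one_mem])⟩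
  · rw [Set.disjoint_left]
    rintro g ⟨y, hy, hyo⟩ ⟨z, hz, -⟩
    have hg1 : g ≠ 1 := fun h => hyo (by simp [h, one_mem])
    obtain ⟨p, hp, hd⟩ := Nat.exists_prime_and_dvd
      (fun h => hg1 (orderOf_eq_one_iff.1 h) : orderOf g ≠ 1)
    set e := g ^ (orderOf g / p) with he
    have heo : orderOf e = p := orderOf_pow_orderOf_div (orderOf_pos g).ne' hd
    have he1 : ∀ r : G, r * e * r⁻¹ ≠ 1 := fun r h => hp.one_lt.ne
      (by rw [← heo, conj_eq_one_iff.1 h, orderOf_one])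
    have heS : y * e * y⁻¹ ∈ Cfsg.fittingOf S := by rw [he, ← conj_pow]; exact pow_mem hy _
    have heT : z * e * z⁻¹ ∈ Cfsg.fittingOf T := by rw [he, ← conj_pow]; exact pow_mem hz _
    have hHco : (Nat.card (Cfsg.fittingHallOf S)).Coprime (Nat.card (Cfsg.fittingHallOf T)) := by
      refine Nat.coprime_of_dvd fun r hr h1 h2 => ?_
      obtain ⟨c, hc⟩ := (Cfsg.Agent.S1378.result hG).2 S T hpd.maxS hpd.maxT
        ⟨r, sigma_of_dvd_sigmaCore hr
            (h1.trans (card_dvd_of_le (fittingHallOf_le_sigmaCore hG hpd.maxS))),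
          sigma_of_dvd_sigmaCore hr
            (h2.trans (card_dvd_of_le (fittingHallOf_le_sigmaCore hG hpd.maxT)))⟩
      exact hpd.notConj c hc
    have hcomm : ∀ {M : Subgroup G} {a : G}, a ∈ Cfsg.fittingOf M → orderOf a = p →
        ¬ p ∣ Nat.card (Cfsg.fittingHallOf M) → ∀ h ∈ Cfsg.fittingHallOf M, Commute h a := by
      intro M a ha hao hnd h hh
      haveI := fittingOf_isNilpotent (G := G) M
      refine congrArg Subtype.val (CfsgLib.NilpPerm.commute_of_coprime_order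
        (a := (⟨h, fittingHallOf_le_fittingOf M hh⟩ : ↥(Cfsg.fittingOf M))) (b := ⟨a, ha⟩) ?_)
      rw [orderOf_mk, orderOf_mk, hao]
      exact ((hp.coprime_iff_not_dvd.2 hnd).coprime_dvd_right (orderOf_dvd_card_of_mem hh)).symm
    by_cases hpS : p ∣ Nat.card (Cfsg.fittingHallOf S)
    · have key := conj_le_of_common_fitting hT.typeP hS.typeP hT.fitting_TI hT.fitting_normalizer
        hS.fitting_TI hS.fitting_normalizer hHco.symm (x := z * e * z⁻¹) (c := y * z⁻¹) (he1 z) heT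
        (by
          rw [show y * z⁻¹ * (z * e * z⁻¹) * (y * z⁻¹)⁻¹ = y * e * y⁻¹ by group]
          exact heS)
        (hcomm heT (by rw [orderOf_conj_eq, heo]) fun h =>
          hp.one_lt.ne' (Nat.eq_one_of_dvd_coprimes hHco hpS h))
      have hle : S.map (MulAut.conj (z * y⁻¹)).toMonoidHom ≤ T := fun m hm => by
        obtain ⟨s, hs, rfl⟩ := mem_map.1 hm
        simpa [mul_assoc] using key s hs
      exact hpd.notConj _ ((isCoatom_conj hpd.maxS _).le_iff_eq hpd.maxT.1 |>.1 hle)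
    · have key := conj_le_of_common_fitting hS.typeP hT.typeP hS.fitting_TI hS.fitting_normalizer
        hT.fitting_TI hT.fitting_normalizer hHco (x := y * e * y⁻¹) (c := z * y⁻¹) (he1 y) heS
        (by
          rw [show z * y⁻¹ * (y * e * y⁻¹) * (z * y⁻¹)⁻¹ = z * e * z⁻¹ by group]
          exact heT)
        (hcomm heS (by rw [orderOf_conj_eq, heo]) hpS)
      have hle : T.map (MulAut.conj (y * z⁻¹)).toMonoidHom ≤ S := fun m hm => by
        obtain ⟨s, hs, rfl⟩ := mem_map.1 hm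
        simpa [mul_assoc] using key s hs
      refine hpd.notConj (z * y⁻¹) ?_
      rw [(isCoatom_conj hpd.maxT _).le_iff_eq hpd.maxS.1 |>.1 hle, map_conj_map_conj,
        show z * y⁻¹ * (y * z⁻¹) = 1 by group, map_conj_one]
  · rw [Set.disjoint_left]
    rintro g ⟨y, hy, -⟩ ⟨z, hzW, -, hz2⟩
    have h1 := card_dvd_orderOf_of_mem_sup hS.q_prime hco hcomm hzW hz2
    rw [orderOf_conj_eq] at h1
    have h2 := orderOf_dvd_card_of_mem (hS.typeP.fitting_le hy)
    rw [orderOf_conj_eq] at h2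
    exact hS.q_prime.one_lt.ne'
      (Nat.eq_one_of_dvd_coprimes hS.coprime_W (h1.trans h2) dvd_rfl)
  · rw [Set.disjoint_left]
    rintro g ⟨y, hy, -⟩ ⟨z, hzW, hz1, -⟩
    rw [sup_comm] at hzW
    have h1 := card_dvd_orderOf_of_mem_sup hT.q_prime hco.symm
      (fun a ha b hb => (hcomm b hb a ha).symm) hzW hz1
    rw [orderOf_conj_eq] at h1
    have h2 := orderOf_dvd_card_of_mem (hT.typeP.fitting_le hy)
    rw [orderOf_conj_eq] at h2
    exact hT.q_prime.one_lt.ne'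
      (Nat.eq_one_of_dvd_coprimes hT.coprime_W (h1.trans h2) dvd_rfl)

end CfsgLib.FT
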