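import Cfsg.Agent.Lib.OddChar.Coprime
import Cfsg.Agent.Lib.Char.Induced
import Cfsg.Agent.Lib.Char.Linear
import Cfsg.Agent.Lib.Char.Virtual
import Mathlib.GroupTheory.FiniteAbelian.Duality
import Mathlib.Analysis.Complex.Polynomial.Basic

/-!
PROJECT FT: induction from `Q = P W` to `M = U Q` when `U` meets `Q` trivially and no nontrivial
element of `U` conjugates an element of `Q` outside `P` into `Q`; invariant linear characters of `P`.
-/

set_option autoImplicit false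

open ComplexConjugate

namespace CfsgLib.FT

/-- A nontrivial linear character sums to zero. -/
theorem sum_hom_eq_zero {X : Type*} [Group X] [Fintype X] (f : X →* ℂˣ) (hf : f ≠ 1) :
    ∑ x, (f x : ℂ) = 0 := by
  obtain ⟨a, ha⟩ : ∃ a, f a ≠ 1 := by
    by_contra h
    push Not at h
    exact hf (MonoidHom.ext h)
  have h1 : (f a : ℂ) * ∑ x, (f x : ℂ) = ∑ x, (f x : ℂ) := by
    rw [Finset.mul_sum]
    exact Fintype.sum_equiv (Equiv.mulLeft a) _ _ fun x => by simp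
  have h2 : (f a : ℂ) - 1 ≠ 0 := sub_ne_zero.2 fun e => ha (Units.ext e)
  exact (mul_eq_zero.1 (show ((f a : ℂ) - 1) * ∑ x, (f x : ℂ) = 0 by
    linear_combination h1)).resolve_left h2

/-- The conjugate of a linear character is its inverse. -/
theorem conj_hom {X : Type*} [Group X] [Finite X] (f : X →* ℂˣ) (x : X) :
    conj (f x : ℂ) = ((f⁻¹) x : ℂ) := by
  have hn : ‖(f x : ℂ)‖ = 1 := by
    refine Complex.norm_eq_one_of_pow_eq_one ?_ (Nat.card_pos (α := X)).ne'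
    rw [← Units.val_pow_eq_pow_val, ← map_pow, pow_card_eq_one', map_one, Units.val_one]
  rw [MonoidHom.inv_apply, Units.val_inv_eq_inv_val, Complex.inv_eq_conj hn]

/-- A `W`-invariant linear character of `P` extending a character of a centralised subgroup. -/
theorem exists_invariant_hom {G : Type*} [Group G] [Finite G] (P W B : Subgroup G) {p : ℕ}
    (hab : ∀ a ∈ P, ∀ b ∈ P, a * b = b * a) (hp : ∀ a ∈ P, a ^ p = 1)
    (hBP : B ≤ P) (hWP : ∀ w ∈ W, ∀ a ∈ P, w * a * w⁻¹ ∈ P)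
    (hWB : ∀ w ∈ W, ∀ b ∈ B, w * b = b * w) (hco : (Nat.card W).Coprime p) (f : B →* ℂˣ) :
    ∃ μ : P →* ℂˣ, (∀ (b : G) (hb : b ∈ B), μ ⟨b, hBP hb⟩ = f ⟨b, hb⟩) ∧
      ∀ w ∈ W, ∀ a a' : P, (a' : G) = w * a * w⁻¹ → μ a' = μ a := by
  classical
  letI : Fintype W := Fintype.ofFinite W
  letI : CommGroup P :=
    { (inferInstance : Group P) with
      mul_comm := fun a b => Subtype.ext (hab a a.2 b b.2) }
  obtain ⟨ν, hν⟩ := MonoidHom.domRestrict_surjective ℂ (B.subgroupOf P)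
    (f.comp (Subgroup.subgroupOfEquivOfLe hBP).toMonoidHom)
  obtain ⟨i, j, hij⟩ : ∃ i j : ℤ, i * (Nat.card W : ℤ) + j * (p : ℤ) = 1 :=
    Int.isCoprime_iff_gcd_eq_one.2 (by rw [Int.gcd_natCast_natCast]; exact hco)
  let c : W → P →* P := fun w =>
    { toFun := fun a => ⟨(w : G) * a * (w : G)⁻¹, hWP w w.2 a a.2⟩
      map_one' := Subtype.ext (by simp)
      map_mul' := fun a b => Subtype.ext (by simp [mul_assoc]) }
  let μ₀ : P →* ℂˣ := ∏ w : W, ν.comp (c w)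
  let μ : P →* ℂˣ := μ₀ ^ i
  refine ⟨μ, fun b hb => ?_, fun w hw a a' e => ?_⟩
  · have h1 : ν ⟨b, hBP hb⟩ = f ⟨b, hb⟩ :=
      DFunLike.congr_fun hν (⟨⟨b, hBP hb⟩, hb⟩ : B.subgroupOf P)
    have h2 : μ₀ ⟨b, hBP hb⟩ = f ⟨b, hb⟩ ^ Nat.card W := by
      simp only [μ₀, MonoidHom.finsetProd_apply, MonoidHom.comp_apply]
      rw [Finset.prod_congr rfl (g := fun _ => f ⟨b, hb⟩) fun w _ => ?_, Finset.prod_const,
        Finset.card_univ, ← Nat.card_eq_fintype_card]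
      rw [← h1]
      congr 1
      exact Subtype.ext (by
        show (w : G) * b * (w : G)⁻¹ = b
        rw [hWB w w.2 b hb, mul_inv_cancel_right])
    have h3 : f ⟨b, hb⟩ ^ p = 1 := by
      rw [← map_pow, show (⟨b, hb⟩ : B) ^ p = 1 from Subtype.ext (by simpa using hp b (hBP hb)),
        map_one]
    show μ₀ ⟨b, hBP hb⟩ ^ i = _
    rw [h2]
    calc (f ⟨b, hb⟩ ^ Nat.card W) ^ i = f ⟨b, hb⟩ ^ (1 - j * (p : ℤ)) := by
          rw [← zpow_natCast, ← zpow_mul, mul_comm]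
          congr 1
          linarith
      _ = _ := by
          rw [zpow_sub, zpow_one, mul_comm j, zpow_mul, zpow_natCast, h3, one_zpow, inv_one,
            mul_one]
  · show μ₀ a' ^ i = μ₀ a ^ i
    congr 1
    simp only [μ₀, MonoidHom.finsetProd_apply, MonoidHom.comp_apply]
    refine Fintype.prod_equiv (Equiv.mulRight (⟨w, hw⟩ : W)) _ _ fun v => ?_
    congr 1
    exact Subtype.ext (by
      show (v : G) * a' * (v : G)⁻¹ = (v : G) * w * a * ((v : G) * w)⁻¹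
      rw [e]; group)

section Induce

variable {M : Type*} [Group M] [Fintype M] (Q : Subgroup M) [Fintype Q] (U : Subgroup M) [Fintype U]
  (hUQ : U ⊓ Q = ⊥) (hfac : ∀ m : M, ∃ u ∈ U, ∃ r ∈ Q, m = u * r)

include hUQ hfac

theorem indFun_eq_sum_compl {θ : Q → ℂ} (hθ : Cfsg.IsClassFunction Q θ) (g : M) :
    Cfsg.indFun Q θ g = ∑ u : U, Cfsg.extendByZero Q θ ((u : M)⁻¹ * g * u) := by
  classical
  rw [Char.indFun_apply]
  have hbij : Function.Bijective fun t : ↥U × ↥Q => (t.1 : M) * t.2 := by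
    refine ⟨fun s t h => ?_, fun m => ?_⟩
    · have h1 : (t.1 : M)⁻¹ * s.1 = t.2 * (s.2 : M)⁻¹ := by
        have h' : (s.1 : M) * s.2 = t.1 * t.2 := h
        calc (t.1 : M)⁻¹ * s.1 = (t.1 : M)⁻¹ * ((s.1 : M) * s.2) * (s.2 : M)⁻¹ := by group
          _ = _ := by rw [h']; group
      have h2 : (t.1 : M)⁻¹ * s.1 ∈ U ⊓ Q :=
        ⟨U.mul_mem (U.inv_mem t.1.2) s.1.2, h1 ▸ Q.mul_mem t.2.2 (Q.inv_mem s.2.2)⟩
      rw [hUQ, Subgroup.mem_bot] at h2
      have e1 : s.1 = t.1 := Subtype.ext (inv_mul_eq_one.1 h2).symm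
      refine Prod.ext e1 (Subtype.ext ?_)
      have h' : (s.1 : M) * s.2 = t.1 * t.2 := h
      rw [e1] at h'
      exact mul_left_cancel h'
    · obtain ⟨u, hu, r, hr, rfl⟩ := hfac m
      exact ⟨(⟨u, hu⟩, ⟨r, hr⟩), rfl⟩
  rw [← Fintype.sum_bijective _ hbij (fun t => Cfsg.extendByZero Q θ
    (((t.1 : M) * t.2)⁻¹ * g * ((t.1 : M) * t.2))) _ fun t => rfl, Fintype.sum_prod_type,
    Finset.mul_sum]
  refine Finset.sum_congr rfl fun u _ => ?_
  rw [Finset.sum_congr rfl (g := fun _ => Cfsg.extendByZero Q θ ((u : M)⁻¹ * g * u)) fun r _ => ?_,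
    Finset.sum_const, Finset.card_univ, ← Nat.card_eq_fintype_card, nsmul_eq_mul, ← mul_assoc,
    inv_mul_cancel₀ (Nat.cast_ne_zero.2 Nat.card_pos.ne'), one_mul]
  rw [show ((u : M) * r)⁻¹ * g * ((u : M) * r) =
    ((r⁻¹ : Q) : M) * ((u : M)⁻¹ * g * u) * ((r⁻¹ : Q) : M)⁻¹ by simp [mul_assoc]]
  exact Char.extendByZero_conj Q θ hθ _ _

open Classical in
/-- The norm of an induced class function. -/
theorem inner_indFun_self (P : Subgroup M) [Fintype P] (hPQ : P ≤ Q)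
    (hPn : ∀ u ∈ U, ∀ h ∈ P, u⁻¹ * h * u ∈ P)
    (hfus : ∀ u ∈ U, u ≠ 1 → ∀ x ∈ Q, u⁻¹ * x * u ∈ Q → x ∈ P)
    {θ : Q → ℂ} (hθ : Cfsg.IsClassFunction Q θ) :
    Cfsg.classInner (Cfsg.indFun Q θ) (Cfsg.indFun Q θ) = Cfsg.classInner θ θ +
      (Nat.card Q : ℂ)⁻¹ * ∑ u ∈ Finset.univ.filter (fun u : U => u ≠ 1),
        ∑ h : P, θ ⟨h, hPQ h.2⟩ * conj (Cfsg.extendByZero Q θ ((u : M)⁻¹ * h * u)) := by
  classical
  rw [Char.classInner_indFun Q θ _ (Char.isClassFunction_indFun Q θ)]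
  simp only [Cfsg.classInner]
  rw [← mul_add]
  congr 1
  simp only [indFun_eq_sum_compl Q U hUQ hfac hθ, map_sum, Finset.mul_sum]
  rw [Finset.sum_comm, ← Finset.add_sum_erase _ _ (Finset.mem_univ (1 : U))]
  refine congrArg₂ (· + ·) (Finset.sum_congr rfl fun x _ => by
    simp [Char.extendByZero_coe]) ?_
  rw [Finset.filter_ne']
  refine Finset.sum_congr rfl fun u hu => ?_
  have hu1 : (u : M) ≠ 1 := fun e => (Finset.mem_erase.1 hu).1 (Subtype.ext e)
  symm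
  refine Finset.sum_bij_ne_zero (fun h _ _ => (⟨(h : M), hPQ h.2⟩ : Q)) (fun _ _ _ => Finset.mem_univ _)
    (fun a _ _ b _ _ e => Subtype.ext (congrArg (fun z : Q => (z : M)) e)) (fun x _ hne => ?_)
    fun h _ _ => rfl
  have hxQ : (u : M)⁻¹ * x * u ∈ Q := by
    by_contra hn
    exact hne (by rw [Char.extendByZero_of_notMem _ _ hn, map_zero, mul_zero])
  exact ⟨⟨x, hfus u u.2 hu1 x x.2 hxQ⟩, Finset.mem_univ _, hne, rfl⟩

end Induce

end CfsgLib.FT
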