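import Cfsg.Agent.S1377
import Cfsg.Agent.S1379
import Cfsg.Agent.Lib.OddChar.Dade
import Cfsg.Agent.Lib.OddChar.CyclicTI

/-!
PROJECT FT: the partition of `G ∖ {1}` into the supported cosets of the cores and the conjugates of
`W ∖ (W₁ ∪ W₂)`, summation over it, and the resulting identity between the orders.
-/

set_option autoImplicit false
set_option linter.style.haveILetI false

namespace CfsgLib.FT

open Subgroup CfsgLib.OddOrder

universe u

variable {G : Type u} [Group G]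

/-- A set of representatives of the conjugacy classes of maximal subgroups. -/
structure IsMaxReps (R : Finset (Subgroup G)) : Prop where
  coatom : ∀ M ∈ R, IsCoatom M
  exists_mem : ∀ M : Subgroup G, IsCoatom M → ∃ N ∈ R, ∃ g : G,
    M = N.map (MulAut.conj g).toMonoidHom
  not_conj : ∀ M ∈ R, ∀ N ∈ R, M ≠ N → ∀ g : G, N ≠ M.map (MulAut.conj g).toMonoidHom

theorem conj_map_trans {A B C : Subgroup G} {g h : G}
    (hB : B = A.map (MulAut.conj g).toMonoidHom) (hC : C = B.map (MulAut.conj h).toMonoidHom) :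
    C = A.map (MulAut.conj (h * g)).toMonoidHom := by
  rw [hC, hB, map_conj_map_conj]

/-- Representatives exist, and may be chosen through any pairwise non-conjugate set. -/
theorem exists_maxReps [Finite G] (S : Finset (Subgroup G)) (hS : ∀ M ∈ S, IsCoatom M)
    (hnc : ∀ M ∈ S, ∀ N ∈ S, M ≠ N → ∀ g : G, N ≠ M.map (MulAut.conj g).toMonoidHom) :
    ∃ R : Finset (Subgroup G), S ⊆ R ∧ IsMaxReps R := by
  classical
  let P : Finset (Subgroup G) → Prop := fun R => (∀ M ∈ R, IsCoatom M) ∧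
    ∀ M ∈ R, ∀ N ∈ R, M ≠ N → ∀ g : G, N ≠ M.map (MulAut.conj g).toMonoidHom
  haveI : Fintype (Subgroup G) := Fintype.ofFinite _
  obtain ⟨R, hR, hmax⟩ := Finset.exists_max_image
    (Finset.univ.filter fun R : Finset (Subgroup G) => S ⊆ R ∧ P R) Finset.card
    ⟨S, Finset.mem_filter.2 ⟨Finset.mem_univ _, subset_rfl, hS, hnc⟩⟩
  obtain ⟨-, hSR, hRc, hRn⟩ := Finset.mem_filter.1 hR
  refine ⟨R, hSR, hRc, fun M hM => ?_, hRn⟩
  by_contra hno
  push Not at hno
  have hMR : M ∉ R := fun h => hno M h 1 (by ext; simp)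
  have hmem : insert M R ∈ Finset.univ.filter fun R : Finset (Subgroup G) => S ⊆ R ∧ P R := by
    refine Finset.mem_filter.2 ⟨Finset.mem_univ _, hSR.trans (Finset.subset_insert _ _),
      fun A hA => ?_, fun A hA B hB hAB g e => ?_⟩
    · rcases Finset.mem_insert.1 hA with rfl | hA
      · exact hM
      · exact hRc A hA
    · rcases Finset.mem_insert.1 hA with rfl | hA'
      · rcases Finset.mem_insert.1 hB with rfl | hB'
        · exact hAB rfl
        · exact hno B hB' g⁻¹ (by rw [e, map_conj_map_conj, inv_mul_cancel]; ext; simp)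
      · rcases Finset.mem_insert.1 hB with rfl | hB'
        · exact hno A hA' g e
        · exact hRn A hA' B hB' hAB g e
  have := hmax _ hmem
  rw [Finset.card_insert_of_notMem hMR] at this
  omega

theorem tildeOf_eq_dadeSupport (M : Subgroup G) (A : Set G) :
    Cfsg.tildeOf M A = OddChar.dadeSupport A (Cfsg.supportR M) := by
  ext g
  constructor
  · rintro ⟨a, ha, r, hr, y, rfl⟩
    exact ⟨a, ha, r, hr, y⁻¹, by group⟩
  · rintro ⟨a, ha, r, hr, x, e⟩
    exact ⟨a, ha, r, hr, x⁻¹, by rw [← e]; group⟩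

variable [Finite G] (hG : Cfsg.IsMinSimpleOddOrder G)
include hG

/-- The tile of a conjugate is the tile. -/
theorem tilde_subset_of_conj {M N : Subgroup G} (hN : IsCoatom N) {g : G}
    (e : M = N.map (MulAut.conj g).toMonoidHom) :
    Cfsg.tildeOf M ((Cfsg.sigmaCore M : Set G) \ {1}) ⊆
      Cfsg.tildeOf N ((Cfsg.sigmaCore N : Set G) \ {1}) := by
  rintro _ ⟨a, ⟨ha, ha1⟩, r, hr, y, rfl⟩
  subst e
  rw [SetLike.mem_coe, sigmaCore_conj] at ha
  obtain ⟨b, hb, rfl⟩ := ha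
  have hb1 : b ≠ 1 := fun h => ha1 (by simp [h])
  have hc : (MulAut.conj g).toMonoidHom b = g * b * g⁻¹ := rfl
  rw [hc, supportR_conj hG (Cfsg.Agent.S1378.result hG).2 (Cfsg.Agent.S1432.result hG) hN hb hb1]
    at hr
  obtain ⟨s, hs, rfl⟩ := hr
  refine ⟨b, ⟨hb, hb1⟩, s, hs, y * g, ?_⟩
  show y * (g * b * g⁻¹ * (g * s * g⁻¹)) * y⁻¹ = _
  group

theorem one_notMem_tilde {M : Subgroup G} (hM : IsCoatom M) :
    (1 : G) ∉ Cfsg.tildeOf M ((Cfsg.sigmaCore M : Set G) \ {1}) := by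
  rintro ⟨a, ⟨ha, ha1⟩, r, hr, y, e⟩
  have h : a * r = 1 := conj_eq_one_iff.1 e.symm
  exact one_not_mem_sigmaTilde hG hM ⟨a, ⟨ha, ha1⟩, r, hr, 1, by rw [h]; group⟩

variable {M K U : Subgroup G} (hM : IsCoatom M) (hKU : Cfsg.IsSigmaDecomposition M K U)
  (hK : K ≠ ⊥) {R : Finset (Subgroup G)} (hR : IsMaxReps R)
include hM hKU hK hR

omit hG hM hKU hK hR in
/-- The conjugates of the regular elements of `W₁ ⊔ W₂`. -/
def regConj (W₁ W₂ : Subgroup G) : Set G :=
  {a | ∃ y : G, ∃ z ∈ (↑(W₁ ⊔ W₂) : Set G) \ ((W₁ : Set G) ∪ ↑W₂), a = y * z * y⁻¹}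

/-- Every element is `1`, in exactly one tile, or a conjugate of a regular element. -/
theorem sum_partition [Fintype G] {E : Type*} [AddCommMonoid E] (F : G → E) :
    ∑ g, F g = F 1 + (∑ N ∈ R, ∑ᶠ g ∈ Cfsg.tildeOf N ((Cfsg.sigmaCore N : Set G) \ {1}), F g) +
      ∑ᶠ g ∈ regConj K (Cfsg.sigmaCore M ⊓ centralizer (K : Set G)), F g := by
  classical
  obtain ⟨h1, -, h3⟩ := Cfsg.Agent.S1379.result hG
  obtain ⟨hcov, hZ⟩ := h3 M K U hM hKU hK
  set T : Subgroup G → Set G := fun N => Cfsg.tildeOf N ((Cfsg.sigmaCore N : Set G) \ {1}) with hT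
  set V : Set G := regConj K (Cfsg.sigmaCore M ⊓ centralizer (K : Set G)) with hV
  simp only [finsum_mem_eq_toFinset_sum]
  rw [← Finset.sum_biUnion (t := fun N => (T N).toFinset)]
  swap
  · intro A hA B hB hAB
    rw [Function.onFun, Set.disjoint_toFinset, Set.disjoint_iff_inter_eq_empty]
    exact h1 A B (hR.coatom A hA) (hR.coatom B hB) (hR.not_conj A hA B hB hAB)
  set UT := R.biUnion fun N => (T N).toFinset
  have hd1 : (1 : G) ∉ UT := by
    simp only [UT, Finset.mem_biUnion, Set.mem_toFinset, not_exists, not_and]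
    exact fun N hN => one_notMem_tilde hG (hR.coatom N hN)
  have hd2 : Disjoint UT V.toFinset := by
    rw [Finset.disjoint_left]
    simp only [UT, Finset.mem_biUnion, Set.mem_toFinset]
    rintro g ⟨N, hN, hg⟩ ⟨y, z, hz, rfl⟩
    exact hZ N (hR.coatom N hN) y z hz hg
  have hd3 : (1 : G) ∉ V.toFinset := by
    rw [Set.mem_toFinset]
    rintro ⟨y, z, hz, e⟩
    exact hz.2 (Or.inl (by rw [SetLike.mem_coe, conj_eq_one_iff.1 e.symm]; exact one_mem _))
  have huniv : Finset.univ = insert 1 (UT ∪ V.toFinset) := by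
    refine (Finset.eq_univ_iff_forall.2 fun g => ?_).symm
    rw [Finset.mem_insert, Finset.mem_union]
    by_cases hg : g = 1
    · exact Or.inl hg
    refine Or.inr ((hcov g hg).imp ?_ ?_)
    · rintro ⟨N, hN, hgN⟩
      obtain ⟨N', hN', c, hc⟩ := hR.exists_mem N hN
      exact Finset.mem_biUnion.2
        ⟨N', hN', Set.mem_toFinset.2 (tilde_subset_of_conj hG (hR.coatom N' hN') hc hgN)⟩
    · exact fun h => Set.mem_toFinset.2 h
  rw [huniv, Finset.sum_insert (by simp only [Finset.mem_union, not_or]; exact ⟨hd1, hd3⟩),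
    Finset.sum_union hd2, add_assoc]

omit hG hM hKU hK hR in
/-- The Dade hypothesis for the regular elements of a self-normalising cyclic subgroup. -/
theorem dade_reg {W₁ W₂ : Subgroup G} (hW : Cfsg.IsSelfNormalizingCyclic W₁ W₂) :
    Cfsg.DadeHypothesis ((↑(W₁ ⊔ W₂) : Set G) \ ((W₁ : Set G) ∪ ↑W₂)) (W₁ ⊔ W₂) (fun _ => ⊥) := by
  haveI := hW.2.2.2.2.1
  have hcom : ∀ x ∈ W₁ ⊔ W₂, ∀ y ∈ W₁ ⊔ W₂, x * y = y * x := fun x hx y hy => by
    haveI : IsMulCommutative ↥(W₁ ⊔ W₂) := IsCyclic.isMulCommutative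
    exact congrArg Subtype.val (mul_comm' (⟨x, hx⟩ : ↥(W₁ ⊔ W₂)) ⟨y, hy⟩)
  have hfix : ∀ x ∈ W₁ ⊔ W₂, ∀ a ∈ W₁ ⊔ W₂, x * a * x⁻¹ = a := fun x hx a ha => by
    rw [hcom x hx a ha, mul_inv_cancel_right]
  refine ⟨fun h => h.2 (Or.inl (one_mem _)), fun a ha => ha.1, fun x hx a ha => ?_,
    fun a ha g hg => ⟨g, OddChar.selfNormalizingCyclic_mem_of_conj hW ha.1
      (fun h => ha.2 (Or.inl h)) (fun h => ha.2 (Or.inr h)) hg.1 (fun h => hg.2 (Or.inl h))
      (fun h => hg.2 (Or.inr h)), rfl⟩,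
    fun _ _ => bot_le, fun _ _ c _ u hu => ?_, fun _ _ => bot_inf_eq _, fun a ha => ?_,
    fun _ _ _ _ => by rw [card_bot]; exact Nat.coprime_one_left _⟩
  · rw [hfix x hx a ha.1]; exact ha
  · rw [mem_bot.1 hu]; simp
  · refine le_antisymm (sup_le bot_le inf_le_right) (le_sup_of_le_right (le_inf ?_ le_rfl))
    intro c hc
    have he : c * a * c⁻¹ = a := by rw [mem_centralizer_singleton_iff.1 hc, mul_inv_cancel_right]
    exact OddChar.selfNormalizingCyclic_mem_of_conj hW ha.1 (fun h => ha.2 (Or.inl h))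
      (fun h => ha.2 (Or.inr h)) (he.symm ▸ ha.1) (by rw [he]; exact fun h => ha.2 (Or.inl h))
      (by rw [he]; exact fun h => ha.2 (Or.inr h))

omit hG hM hKU hK hR in
/-- Summation of a class function over the conjugates of the regular elements. -/
theorem sum_regConj [Fintype G] {W₁ W₂ : Subgroup G} (hW : Cfsg.IsSelfNormalizingCyclic W₁ W₂)
    (F : G → ℂ) (hF : ∀ g x : G, F (x * g * x⁻¹) = F g) :
    (Nat.card G : ℂ)⁻¹ * ∑ᶠ g ∈ regConj W₁ W₂, F g =
      (Nat.card ↥(W₁ ⊔ W₂) : ℂ)⁻¹ *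
        ∑ᶠ z ∈ (↑(W₁ ⊔ W₂) : Set G) \ ((W₁ : Set G) ∪ ↑W₂), F z := by
  classical
  letI := Fintype.ofFinite ↥(W₁ ⊔ W₂)
  have hset : regConj W₁ W₂ = OddChar.dadeSupport
      ((↑(W₁ ⊔ W₂) : Set G) \ ((W₁ : Set G) ∪ ↑W₂)) (fun _ => (⊥ : Subgroup G)) := by
    ext g
    constructor
    · rintro ⟨y, z, hz, rfl⟩
      exact ⟨z, hz, 1, one_mem _, y⁻¹, by group⟩
    · rintro ⟨z, hz, u, hu, x, e⟩
      rw [mem_bot.1 hu, mul_one] at e
      exact ⟨x⁻¹, z, hz, by rw [← e]; group⟩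
  rw [hset, finsum_mem_eq_toFinset_sum, finsum_mem_eq_toFinset_sum, Set.toFinset_congr rfl,
    ← Set.filter_mem_univ_eq_toFinset, OddChar.dade_sum_classFun (dade_reg hW) F hF]
  congr 1
  refine Eq.trans (b := ∑ a ∈ (Finset.univ : Finset ↥(W₁ ⊔ W₂)).filter
    (fun a : ↥(W₁ ⊔ W₂) => (a : G) ∈ (↑(W₁ ⊔ W₂) : Set G) \ ((W₁ : Set G) ∪ ↑W₂)), F (a : G)) ?_ ?_
  · rw [Finset.sum_filter]
    refine Finset.sum_congr rfl fun a _ => ?_
    split_ifs with h
    · simp [show ((default : (⊥ : Subgroup G)) : G) = 1 from mem_bot.1 (SetLike.coe_mem _)]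
    · rfl
  refine Finset.sum_bij' (fun a _ => (a : G))
    (fun z hz => ⟨z, (Set.mem_toFinset.1 hz).1⟩) ?_ ?_ ?_ ?_ ?_
  · intro a ha; exact Set.mem_toFinset.2 (Finset.mem_filter.1 ha).2
  · intro z hz; exact Finset.mem_filter.2 ⟨Finset.mem_univ _, Set.mem_toFinset.1 hz⟩
  · intros; rfl
  · intros; rfl
  · intros; rfl

/-- The identity between the orders: the tiles and the regular conjugates fill `G ∖ {1}`. -/
theorem order_identity (hW : Cfsg.IsSelfNormalizingCyclic K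
    (Cfsg.sigmaCore M ⊓ centralizer (K : Set G))) :
    (∑ N ∈ R, ((Nat.card (Cfsg.sigmaCore N) : ℝ) - 1) / Nat.card N) +
      Set.ncard ((↑(K ⊔ (Cfsg.sigmaCore M ⊓ centralizer (K : Set G))) : Set G) \
          ((K : Set G) ∪ ↑(Cfsg.sigmaCore M ⊓ centralizer (K : Set G)))) /
        (Nat.card ↥(K ⊔ (Cfsg.sigmaCore M ⊓ centralizer (K : Set G))) : ℝ) +
      1 / Nat.card G = 1 := by
  classical
  letI := Fintype.ofFinite G
  set Ks := Cfsg.sigmaCore M ⊓ centralizer (K : Set G)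
  have hG0 : (Nat.card G : ℂ) ≠ 0 := Nat.cast_ne_zero.2 Nat.card_pos.ne'
  have h := congrArg ((Nat.card G : ℂ)⁻¹ * ·)
    (sum_partition hG hM hKU hK hR (fun _ : G => (1 : ℂ)))
  simp only [mul_add, Finset.mul_sum] at h
  rw [sum_regConj hW (fun _ => (1 : ℂ)) fun _ _ => rfl] at h
  have hcount : ∀ s : Set G, ∑ᶠ g ∈ s, (1 : ℂ) = (s.ncard : ℂ) := fun s => by
    rw [finsum_mem_eq_toFinset_sum, Finset.sum_const, nsmul_one, Set.ncard_eq_toFinset_card']
  simp only [hcount] at h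
  simp only [mul_one, Finset.sum_const, Finset.card_univ, nsmul_eq_mul,
    ← Nat.card_eq_fintype_card, mul_inv_cancel₀ hG0] at h
  have hN : ∀ N ∈ R, (Nat.card G : ℂ)⁻¹ *
      ((Cfsg.tildeOf N ((Cfsg.sigmaCore N : Set G) \ {1})).ncard : ℂ) =
      (((Nat.card (Cfsg.sigmaCore N) : ℝ) - 1) / Nat.card N : ℝ) := by
    intro N hN
    rw [Cfsg.Agent.S1377.result hG N (hR.coatom N hN), Nat.cast_mul,
      Nat.cast_sub (Nat.card_pos (α := Cfsg.sigmaCore N))]
    have h2 : (Nat.card N : ℂ) * N.index = Nat.card G := by exact_mod_cast N.card_mul_index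
    have hN0 : (Nat.card N : ℂ) ≠ 0 := Nat.cast_ne_zero.2 Nat.card_pos.ne'
    have hi0 : (N.index : ℂ) ≠ 0 := Nat.cast_ne_zero.2 Subgroup.index_ne_zero_of_finite
    push_cast
    rw [← h2]
    field_simp
  rw [Finset.sum_congr rfl hN] at h
  rw [← Complex.ofReal_inj]
  push_cast
  rw [← Complex.ofReal_natCast] at h
  push_cast at h ⊢
  linear_combination -h

end CfsgLib.FT
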