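import Cfsg.Agent.Lib.FT.Pair
import Cfsg.Agent.Lib.FT.PairInduce
import Cfsg.Agent.Lib.FT.SideFacts
import Cfsg.Agent.Lib.FT.SideTestAux
import Cfsg.Agent.Lib.FT.Tiles
import Cfsg.Agent.Lib.FT.Grid
import Cfsg.Agent.Lib.FT.Support
import Cfsg.Agent.Lib.FT.PairLink
import Cfsg.Agent.Lib.OddChar.Above

/-!
FT module LTwoParity: the test character of a side, `Ind_S^G (Ind_{H W₁}^S 1 - μ_{0j})`.
It is `1` on the principal character, real after adding `χ ω`, of norm at most `(u - 1)/q + 2`,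
and vanishes on the tiles of the maximal subgroups not conjugate to `S`.
-/

set_option autoImplicit false
set_option linter.style.haveILetI false

namespace CfsgLib.FT

open Subgroup
open scoped ComplexConjugate

universe u

variable {G : Type u} [Group G] [Fintype G] (hG : Cfsg.IsMinSimpleOddOrder G)
  {S T W₁ W₂ U V : Subgroup G}
include hG

theorem exists_sideTest (hpd : PairData S T W₁ W₂ U V) (hS : Side S W₁ U W₂)
    (hS' : SideFull S W₁ U W₂) (hS0 : fixCore S U = ⊥)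
    {χ : (↥(W₁ ⊔ W₂) →* ℂˣ) → (G → ℂ)} (hχ : Cfsg.IsCyclicTIFamily W₁ W₂ χ)
    {ω : ↥(W₁ ⊔ W₂) →* ℂˣ} (hω : ω ≠ 1) (hω1 : TrivialOn ω W₁) :
    ∃ Φ : G → ℂ, Cfsg.IsGeneralizedCharacter G Φ ∧
      Cfsg.classInner Φ (fun _ => 1) = 1 ∧
      Cfsg.conjFun (Φ + χ ω) = Φ + χ ω ∧
      (Cfsg.classInner Φ Φ).re * (Nat.card W₁ : ℝ) ≤ (Nat.card U : ℝ) + 2 * (Nat.card W₁ : ℝ) ∧
      ∀ M : Subgroup G, IsCoatom M → NotConj S M →
        ∀ g ∈ Cfsg.tildeOf M (coreSet M), Φ g = 0 := by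
  classical
  have hP := hS.typeP
  have hW := hP.selfNormalizing
  set P := Cfsg.fittingHallOf S with hPdef
  have hW₁S : W₁ ≤ S := hP.W₁_compl.2.1
  have hS'S : ⁅S, S⁆ ≤ S := Subgroup.commutator_le_self S
  have hPS' : P ≤ ⁅S, S⁆ := hP.U_compl.1
  have hUS' : U ≤ ⁅S, S⁆ := hP.U_compl.2.1
  have hUS : U ≤ S := hUS'.trans hS'S
  have hPS : P ≤ S := hPS'.trans hS'S
  have hW₂P : W₂ ≤ P := fun x hx => (hP.W₂_le hx).1
  have hS'W : ⁅S, S⁆ ⊓ W₁ = ⊥ := hP.W₁_compl.2.2.1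
  have hWS : W₁ ⊔ W₂ ≤ S := sup_le hW₁S (hW₂P.trans hPS)
  have hPn : S ≤ normalizer (P : Set G) := OddOrder.le_normalizer_fittingHallOf S
  have hconjP : ∀ g ∈ S, ∀ h ∈ P, g * h * g⁻¹ ∈ P := fun g hg h hh =>
    (mem_normalizer_iff.1 (hPn hg) h).1 hh
  have hconjP' : ∀ g ∈ S, ∀ h ∈ P, g⁻¹ * h * g ∈ P := fun g hg h hh => by
    simpa using hconjP g⁻¹ (inv_mem hg) h hh
  have hab : ∀ a ∈ P, ∀ b ∈ P, a * b = b * a := by
    intro a ha b hb
    have h := hS.quot_comm (Subgroup.commutator_mem_commutator ha hb)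
    rw [hS0, mem_bot, commutatorElement_def] at h
    calc a * b = a * b * a⁻¹ * b⁻¹ * (b * a) := by group
      _ = b * a := by rw [h, one_mul]
  have hexp : ∀ a ∈ P, a ^ Nat.card W₂ = 1 := by
    intro a ha
    have h := hS.quot_pow a ha
    rwa [hS0, mem_bot] at h
  have hq := hS.q_prime
  have hpr := hS.p_prime
  have hcoWP : (Nat.card W₁).Coprime (Nat.card P) :=
    (hS.coprime_W.coprime_dvd_left (card_dvd_of_le hPS')).symm
  have hcoW : (Nat.card W₁).Coprime (Nat.card W₂) :=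
    hcoWP.coprime_dvd_right (card_dvd_of_le hW₂P)
  have hcomm12 : ∀ a ∈ W₁, ∀ b ∈ W₂, a * b = b * a := hW.2.2.2.1
  have hodd : Odd (Nat.card G) := hG.1
  -- `Q = P W₁`
  let Q0 : Subgroup G := P ⊔ W₁
  have hQ0S : Q0 ≤ S := sup_le hPS hW₁S
  have hmemQ : ∀ x : G, x ∈ Q0 ↔ ∃ h ∈ P, ∃ w ∈ W₁, x = h * w := fun x => by
    rw [Solvable.mem_sup_of_le_normalizer (hW₁S.trans hPn)]
    constructor
    · rintro ⟨a, ha, b, hb, e⟩; exact ⟨a, ha, b, hb, by simpa using e.symm⟩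
    · rintro ⟨a, ha, b, hb, rfl⟩; exact ⟨a, ha, b, hb, rfl⟩
  have hPW : ∀ x : G, x ∈ P → x ∈ W₁ → x = 1 := fun x h1 h2 =>
    (mem_bot.1 (hS'W ▸ (⟨hPS' h1, h2⟩ : x ∈ ⁅S, S⁆ ⊓ W₁)))
  have huniq : ∀ h ∈ P, ∀ w ∈ W₁, ∀ h' ∈ P, ∀ w' ∈ W₁, h * w = h' * w' → h = h' ∧ w = w' := by
    intro h hh w hw h' hh' w' hw' e
    have e1 : h'⁻¹ * h = w' * w⁻¹ := by
      calc h'⁻¹ * h = h'⁻¹ * (h * w) * w⁻¹ := by group
        _ = _ := by rw [e]; group
    have e2 := hPW _ (mul_mem (inv_mem hh') hh) (e1 ▸ mul_mem hw' (inv_mem hw))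
    have e3 : h' = h := inv_mul_eq_one.1 e2
    subst e3
    exact ⟨rfl, mul_left_cancel e⟩
  have hUQ0 : ∀ x : G, x ∈ U → x ∈ Q0 → x = 1 := by
    intro x hx hxQ
    obtain ⟨h, hh, w, hw, rfl⟩ := (hmemQ x).1 hxQ
    have hw1 : w = 1 := mem_bot.1 (hS'W ▸ (⟨by
      have := mul_mem (inv_mem (hPS' hh)) (hUS' hx)
      rwa [inv_mul_cancel_left] at this, hw⟩ : w ∈ ⁅S, S⁆ ⊓ W₁))
    rw [hw1, mul_one] at hx ⊢
    exact mem_bot.1 (hP.U_compl.2.2.1 ▸ (⟨hh, hx⟩ : h ∈ P ⊓ U))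
  have hfus0 : ∀ u ∈ U, u ≠ 1 → ∀ x ∈ Q0, u⁻¹ * x * u ∈ Q0 → x ∈ P := by
    intro u hu hu1 x hx hxu
    obtain ⟨h, hh, w, hw, rfl⟩ := (hmemQ x).1 hx
    have hc : u⁻¹ * (w * u * w⁻¹) ∈ Q0 := by
      have h1 : u⁻¹ * (w * u * w⁻¹) = (u⁻¹ * h * u)⁻¹ * (u⁻¹ * (h * w) * u) * w⁻¹ := by group
      rw [h1]
      exact mul_mem (mul_mem (inv_mem (mem_sup_left (hconjP' u (hUS hu) h hh))) hxu)
        (mem_sup_right (inv_mem hw))
    have he := hUQ0 _ (mul_mem (inv_mem hu)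
      ((mem_normalizer_iff.1 (hP.U_normal hw) u).1 hu)) hc
    have hwu : u * w = w * u := by
      calc u * w = u * (u⁻¹ * (w * u * w⁻¹)) * w := by rw [he, mul_one]
        _ = w * u := by group
    by_contra hn
    have hw1 : w ≠ 1 := fun e => hn (by rw [e, mul_one]; exact hh)
    exact hu1 (mem_bot.1 (hS.U_frob w hw hw1 ▸
      (⟨hu, mem_centralizer_singleton_iff.2 hwu⟩ : u ∈ U ⊓ centralizer ({w} : Set G))))
  -- the subgroups inside `S`
  let Q : Subgroup S := Q0.subgroupOf S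
  let US : Subgroup S := U.subgroupOf S
  let PS : Subgroup S := P.subgroupOf S
  letI : Fintype Q := Fintype.ofFinite Q
  letI : Fintype US := Fintype.ofFinite US
  letI : Fintype PS := Fintype.ofFinite PS
  have hUQ : US ⊓ Q = ⊥ :=
    (Subgroup.eq_bot_iff_forall _).2 fun x hx => Subtype.ext (hUQ0 _ hx.1 hx.2)
  have hfac : ∀ m : S, ∃ u ∈ US, ∃ r ∈ Q, m = u * r := by
    intro m
    obtain ⟨d, hd, w, hw, e⟩ := hP.W₁_compl.2.2.2 (m : G) m.2
    obtain ⟨a, ha, b, hb, rfl⟩ := hP.U_compl.2.2.2 d hd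
    refine ⟨⟨b, hUS hb⟩, hb, ⟨b⁻¹ * a * b * w, hQ0S (mul_mem
      (mem_sup_left (hconjP' b (hUS hb) a ha)) (mem_sup_right hw))⟩,
      mul_mem (mem_sup_left (hconjP' b (hUS hb) a ha)) (mem_sup_right hw), Subtype.ext ?_⟩
    show (m : G) = b * (b⁻¹ * a * b * w)
    rw [e]; group
  have hPQ : PS ≤ Q := fun x hx => mem_sup_left hx
  have hPnS : ∀ u ∈ US, ∀ h ∈ PS, u⁻¹ * h * u ∈ PS := fun u hu h hh =>
    hconjP' (u : G) u.2 h hh
  have hfus : ∀ u ∈ US, u ≠ 1 → ∀ x ∈ Q, u⁻¹ * x * u ∈ Q → x ∈ PS := fun u hu hu1 x hx hxu =>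
    hfus0 u hu (fun e => hu1 (Subtype.ext e)) x hx hxu
  have hcardQ : Nat.card Q = Nat.card P * Nat.card W₁ := by
    rw [Nat.card_congr (subgroupOfEquivOfLe hQ0S).toEquiv, ← Nat.card_prod]
    refine (Nat.card_eq_of_bijective (fun t : ↥P × ↥W₁ =>
      (⟨(t.1 : G) * t.2, mul_mem (mem_sup_left t.1.2) (mem_sup_right t.2.2)⟩ : ↥Q0))
      ⟨fun s t e => ?_, fun x => ?_⟩).symm
    · obtain ⟨e1, e2⟩ := huniq _ s.1.2 _ s.2.2 _ t.1.2 _ t.2.2 (congrArg Subtype.val e)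
      exact Prod.ext (Subtype.ext e1) (Subtype.ext e2)
    · obtain ⟨h, hh, w, hw, e⟩ := (hmemQ x).1 x.2
      exact ⟨(⟨h, hh⟩, ⟨w, hw⟩), Subtype.ext e.symm⟩
  -- the invariant character of `P`
  let f2 : W₂ →* ℂˣ := ω.comp (Subgroup.inclusion le_sup_right)
  obtain ⟨μ, hμ2, hμW⟩ := exists_invariant_hom P W₁ W₂ hab hexp hW₂P
    (fun w hw a ha => hconjP w (hW₁S hw) a ha) hcomm12 hcoW f2
  have hμne : μ ≠ 1 := by
    intro e
    refine hω (MonoidHom.ext fun z => ?_)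
    have hn : W₁ ≤ normalizer (W₂ : Set G) := fun a ha => centralizer_le_normalizer _
      (mem_centralizer_iff.2 fun b hb => (hcomm12 a ha b hb).symm)
    obtain ⟨b, hb, a, ha, hz⟩ := (Solvable.mem_sup_of_le_normalizer hn).1
      (show (z : G) ∈ W₂ ⊔ W₁ by rw [sup_comm]; exact z.2)
    have hb' : b ∈ W₁ ⊔ W₂ := mem_sup_right hb
    have ha' : a ∈ W₁ ⊔ W₂ := mem_sup_left ha
    have h1 : ω ⟨b, hb'⟩ = 1 := by
      have := hμ2 b hb
      rw [e, MonoidHom.one_apply] at this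
      exact this.symm
    have h2 : ω ⟨a, ha'⟩ = 1 := hω1 ⟨a, ha'⟩ ha
    rw [show z = (⟨b, hb'⟩ : ↥(W₁ ⊔ W₂)) * ⟨a, ha'⟩ from Subtype.ext hz.symm, map_mul, h1, h2,
      MonoidHom.one_apply, one_mul]
  -- the linear character of `Q`
  have hdec : ∀ x : Q, ∃ h : P, ∃ w ∈ W₁, ((x : S) : G) = h * w := fun x => by
    obtain ⟨h, hh, w, hw, e⟩ := (hmemQ _).1 x.2
    exact ⟨⟨h, hh⟩, w, hw, e⟩
  choose hp wp hwp hxp using hdec
  have hval : ∀ (x : Q) (h : P) (w : G), w ∈ W₁ → ((x : S) : G) = h * w → hp x = h := by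
    intro x h w hw e
    exact Subtype.ext (huniq _ (hp x).2 _ (hwp x) _ h.2 _ hw ((hxp x).symm.trans e)).1
  let lam : Q →* ℂˣ := MonoidHom.mk' (fun x => μ (hp x)) fun x y => by
    let c : P := ⟨wp x * hp y * (wp x)⁻¹, hconjP _ (hW₁S (hwp x)) _ (hp y).2⟩
    have e : (((x * y : Q) : S) : G) = ((hp x * c : P) : G) * (wp x * wp y) := by
      show ((x : S) : G) * ((y : S) : G) = _
      rw [hxp x, hxp y]
      show _ = ((hp x : G) * (wp x * hp y * (wp x)⁻¹)) * (wp x * wp y)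
      group
    rw [hval _ _ _ (mul_mem (hwp x) (hwp y)) e, map_mul, hμW (wp x) (hwp x) (hp y) c rfl]
  have hlamP : ∀ (x : Q) (h : P), ((x : S) : G) = h → lam x = μ h := fun x h e => by
    show μ (hp x) = μ h
    rw [hval x h 1 (one_mem _) (by rw [mul_one]; exact e)]
  have hlamW : ∀ x : Q, ((x : S) : G) ∈ W₁ → lam x = 1 := fun x hx => by
    show μ (hp x) = 1
    rw [hval x 1 _ hx (by simp), map_one]
  have hlamne : lam ≠ 1 := fun e => hμne (MonoidHom.ext fun h => by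
    have := hlamP ⟨⟨h, hPS h.2⟩, mem_sup_left h.2⟩ h rfl
    rw [e, MonoidHom.one_apply] at this
    exact this.symm)
  have hlaminv : lam⁻¹ ≠ lam := by
    intro e
    refine hlamne (MonoidHom.ext fun x => ?_)
    have h2 : lam x * lam x = 1 := by
      nth_rewrite 1 [← e]
      simp
    have hx : x ^ Nat.card Q = 1 := pow_card_eq_one'
    obtain ⟨k, hk⟩ : Odd (Nat.card Q) := OddOrder.odd_card_subgroup hG S |>.of_dvd_nat
      (Q.card_subgroup_dvd_card)
    have h3 := congrArg lam hx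
    rw [map_one, map_pow, hk, pow_succ, pow_mul, pow_two, h2, one_pow, one_mul] at h3
    exact h3
  -- `U` moves `μ`
  let cu : US → P →* P := fun u =>
    { toFun := fun h => ⟨((u : S) : G)⁻¹ * h * (u : S), hconjP' _ (u : S).2 h h.2⟩
      map_one' := Subtype.ext (by simp)
      map_mul' := fun a b => Subtype.ext (by simp [mul_assoc]) }
  have hmove : ∀ u : US, u ≠ 1 → μ.comp (cu u) ≠ μ := by
    intro u hu e
    letI : CommGroup P :=
      { (inferInstance : Group P) with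
        mul_comm := fun a b => Subtype.ext (hab a a.2 b b.2) }
    let D : P →* P := MonoidHom.mk' (fun h => (cu u h) * h⁻¹) fun a b => by
      rw [map_mul, mul_inv]
      exact mul_mul_mul_comm _ _ _ _
    have hu1 : ((u : S) : G) ≠ 1 := fun h => hu (Subtype.ext (Subtype.ext h))
    have hinj : Function.Injective D := by
      refine (injective_iff_map_eq_one _).2 fun h hh => ?_
      have h1 : ((u : S) : G)⁻¹ * h * (u : S) * (h : G)⁻¹ = 1 := congrArg Subtype.val hh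
      have h2 := hS'.fpf _ ((U.inv_mem u.2 : ((u : S) : G)⁻¹ ∈ U))
        (inv_ne_one.2 hu1) h h.2 (by rw [hS0, mem_bot, inv_inv]; exact h1)
      rw [hS0, mem_bot] at h2
      exact Subtype.ext h2
    refine hμne (MonoidHom.ext fun h => ?_)
    obtain ⟨k, hk⟩ := Finite.injective_iff_surjective.1 hinj h
    rw [← hk]
    show μ (cu u k * k⁻¹) = 1
    have hek : μ (cu u k) = μ k := DFunLike.congr_fun e k
    rw [map_mul, map_inv, hek, mul_inv_cancel]
  have hmove' : ∀ u : US, u ≠ 1 → μ.comp (cu u) ≠ μ⁻¹ := by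
    intro u hu e
    have h2 : μ.comp (cu (u * u)) = μ := by
      ext h
      show ((μ (cu (u * u) h) : ℂˣ) : ℂ) = (μ h : ℂ)
      have e1 : cu (u * u) h = cu u (cu u h) := Subtype.ext (by
        show (((u * u : US) : S) : G)⁻¹ * h * ((u * u : US) : S) = _
        show (((u : S) : G) * (u : S))⁻¹ * h * (((u : S) : G) * (u : S)) =
          ((u : S) : G)⁻¹ * (((u : S) : G)⁻¹ * h * (u : S)) * (u : S)
        group)
      have ea : μ (cu u (cu u h)) = (μ (cu u h))⁻¹ := DFunLike.congr_fun e (cu u h)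
      have eb : μ (cu u h) = (μ h)⁻¹ := DFunLike.congr_fun e h
      rw [e1, ea, eb, inv_inv]
    by_cases huu : u * u = 1
    · obtain ⟨k, hk⟩ : Odd (orderOf u) := (OddOrder.odd_card_subgroup hG S).of_dvd_nat
        ((orderOf_dvd_natCard u).trans US.card_subgroup_dvd_card)
      have h3 := pow_orderOf_eq_one u
      rw [hk, pow_succ, pow_mul, pow_two, huu, one_pow, one_mul] at h3
      exact hu h3
    · exact hmove _ huu h2
  -- the functions to be induced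
  let θ : Q → ℂ := fun x => 1 - (lam x : ℂ)
  let θ' : Q → ℂ := fun x => (lam x : ℂ) - ((lam⁻¹) x : ℂ)
  have hirr : ∀ f : Q →* ℂˣ, Cfsg.IsIrrCharacter Q (fun x => (f x : ℂ)) :=
    Char.isIrrCharacter_linear
  have hθgen : Cfsg.IsGeneralizedCharacter Q θ := Char.IsGeneralizedCharacter.sub
    (Char.IsIrrCharacter.isGeneralizedCharacter Char.isIrrCharacter_principal)
    (Char.IsIrrCharacter.isGeneralizedCharacter (hirr lam))
  have hθ'gen : Cfsg.IsGeneralizedCharacter Q θ' := Char.IsGeneralizedCharacter.sub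
    (Char.IsIrrCharacter.isGeneralizedCharacter (hirr lam))
    (Char.IsIrrCharacter.isGeneralizedCharacter (hirr lam⁻¹))
  have hθcl := Char.IsGeneralizedCharacter.isClassFunction hθgen
  have hθ'cl := Char.IsGeneralizedCharacter.isClassFunction hθ'gen
  have hθ0 : ∀ x : Q, ((x : S) : G) ∈ W₁ → θ x = 0 := fun x hx => by
    simp [θ, hlamW x hx]
  have hθ'0 : ∀ x : Q, ((x : S) : G) ∈ W₁ → θ' x = 0 := fun x hx => by
    simp [θ', hlamW x hx]
  have hdist : ∀ f g : Q →* ℂˣ, f ≠ g →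
      (fun x => (f x : ℂ)) ≠ fun x => (g x : ℂ) := fun f g h e =>
    h (MonoidHom.ext fun x => Units.ext (congrFun e x))
  have hn2 : ∀ f g : Q →* ℂˣ, f ≠ g → Cfsg.classInner ((fun x => (f x : ℂ)) - fun x => (g x : ℂ))
      ((fun x => (f x : ℂ)) - fun x => (g x : ℂ)) = 2 := fun f g h => by
    rw [Char.classInner_sub_left, Char.classInner_sub_right, Char.classInner_sub_right,
      Char.classInner_irr_self (hirr f), Char.classInner_irr_self (hirr g),
      Char.classInner_irr_of_ne (hirr f) (hirr g) (hdist f g h),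
      Char.classInner_irr_of_ne (hirr g) (hirr f) (hdist g f (Ne.symm h))]
    norm_num
  have hθn : Cfsg.classInner θ θ = 2 := by
    have h := hn2 1 lam (Ne.symm hlamne)
    simpa [θ, Pi.sub_def] using h
  have hθ'n : Cfsg.classInner θ' θ' = 2 := hn2 lam lam⁻¹ (Ne.symm hlaminv)
  letI : Fintype P := Fintype.ofFinite P
  have hμinv : ∀ h : P, conj (μ h : ℂ) = ((μ⁻¹) h : ℂ) := conj_hom μ
  have hcross : ∀ (φ : Q → ℂ) (φ₀ : P → ℂ), (∀ (x : Q) (h : P), ((x : S) : G) = h → φ x = φ₀ h) →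
      ∀ u : US, ∑ h : PS, φ ⟨h, hPQ h.2⟩ *
        conj (Cfsg.extendByZero Q φ ((u : S)⁻¹ * h * u)) =
        ∑ h : P, φ₀ h * conj (φ₀ (cu u h)) := by
    intro φ φ₀ hφ u
    refine Fintype.sum_equiv (subgroupOfEquivOfLe hPS).toEquiv _ _ fun h => ?_
    have hmem : (u : S)⁻¹ * h * u ∈ Q := hPQ (hPnS _ u.2 _ h.2)
    rw [Char.extendByZero_apply_mem _ _ hmem,
      hφ ⟨h, hPQ h.2⟩ (subgroupOfEquivOfLe hPS h) rfl,
      hφ ⟨_, hmem⟩ (cu u (subgroupOfEquivOfLe hPS h)) rfl]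
    rfl
  have hθcross : ∀ u : US, u ≠ 1 → ∑ h : PS, θ ⟨h, hPQ h.2⟩ *
      conj (Cfsg.extendByZero Q θ ((u : S)⁻¹ * h * u)) = (Nat.card P : ℂ) := by
    intro u hu
    rw [hcross θ (fun h => 1 - (μ h : ℂ)) (fun x h e => by simp [θ, hlamP x h e]) u]
    have hterm : ∀ h : P, (1 - (μ h : ℂ)) * conj (1 - (μ (cu u h) : ℂ)) =
        1 - (μ h : ℂ) - (((μ.comp (cu u))⁻¹) h : ℂ) +
          ((μ * (μ.comp (cu u))⁻¹) h : ℂ) := fun h => by
      rw [map_sub, map_one, hμinv, MonoidHom.mul_apply, Units.val_mul]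
      simp only [MonoidHom.inv_apply, MonoidHom.comp_apply]
      ring
    rw [Finset.sum_congr rfl fun h _ => hterm h, Finset.sum_add_distrib, Finset.sum_sub_distrib,
      Finset.sum_sub_distrib, sum_hom_eq_zero μ hμne, sum_hom_eq_zero, sum_hom_eq_zero]
    · simp [Nat.card_eq_fintype_card]
    · exact fun e => hmove u hu (mul_inv_eq_one.1 e).symm
    · intro e
      have h1 : μ.comp (cu u) = 1 := MonoidHom.ext fun k => inv_eq_one.1 (DFunLike.congr_fun e k)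
      refine hμne (MonoidHom.ext fun k => ?_)
      have h2 := DFunLike.congr_fun h1 ⟨((u : S) : G) * k * ((u : S) : G)⁻¹, hconjP _ (u : S).2 k k.2⟩
      rw [MonoidHom.comp_apply, MonoidHom.one_apply] at h2
      rw [MonoidHom.one_apply, ← h2]
      congr 1
      exact Subtype.ext (by
        show (k : G) = ((u : S) : G)⁻¹ * (((u : S) : G) * k * ((u : S) : G)⁻¹) * (u : S)
        group)
  have hθ'cross : ∀ u : US, u ≠ 1 → ∑ h : PS, θ' ⟨h, hPQ h.2⟩ *
      conj (Cfsg.extendByZero Q θ' ((u : S)⁻¹ * h * u)) = 0 := by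
    intro u hu
    rw [hcross θ' (fun h => (μ h : ℂ) - ((μ⁻¹) h : ℂ)) (fun x h e => by
      simp [θ', hlamP x h e]) u]
    set ν := μ.comp (cu u) with hν
    have hterm : ∀ h : P, ((μ h : ℂ) - ((μ⁻¹) h : ℂ)) *
        conj ((μ (cu u h) : ℂ) - ((μ⁻¹) (cu u h) : ℂ)) =
        ((μ * ν⁻¹) h : ℂ) - ((μ * ν) h : ℂ) - ((μ⁻¹ * ν⁻¹) h : ℂ) + ((μ⁻¹ * ν) h : ℂ) := fun h => by
      rw [map_sub, hμinv, conj_hom μ⁻¹]
      simp only [MonoidHom.mul_apply, Units.val_mul, MonoidHom.inv_apply, hν, MonoidHom.comp_apply,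
        inv_inv]
      ring
    rw [Finset.sum_congr rfl fun h _ => hterm h, Finset.sum_add_distrib, Finset.sum_sub_distrib,
      Finset.sum_sub_distrib, sum_hom_eq_zero, sum_hom_eq_zero, sum_hom_eq_zero, sum_hom_eq_zero]
    · simp
    · exact fun e => hmove u hu (MonoidHom.ext fun k =>
        (inv_mul_eq_one.1 (DFunLike.congr_fun e k : (μ k)⁻¹ * ν k = 1)).symm)
    · refine fun e => hmove' u hu (MonoidHom.ext fun k => ?_)
      have h1 : (μ k)⁻¹ * (ν k)⁻¹ = 1 := DFunLike.congr_fun e k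
      rw [← mul_inv, inv_eq_one] at h1
      exact eq_inv_of_mul_eq_one_right h1
    · refine fun e => hmove' u hu (MonoidHom.ext fun k => ?_)
      exact eq_inv_of_mul_eq_one_right (DFunLike.congr_fun e k : μ k * ν k = 1)
    · exact fun e => hmove u hu (MonoidHom.ext fun k =>
        (mul_inv_eq_one.1 (DFunLike.congr_fun e k : μ k * (ν k)⁻¹ = 1)).symm)
  set β := Cfsg.indFun Q θ with hβ
  set β' := Cfsg.indFun Q θ' with hβ'
  have hcard : ∀ inst : DecidablePred fun u : US => u ≠ 1,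
      (@Finset.filter _ (fun u : US => u ≠ 1) inst Finset.univ).card = Nat.card U - 1 := fun inst => by
    rw [show @Finset.filter _ (fun u : US => u ≠ 1) inst Finset.univ = Finset.univ.erase 1 by
        ext; simp,
      Finset.card_erase_of_mem (Finset.mem_univ _), Finset.card_univ, ← Nat.card_eq_fintype_card,
      Nat.card_congr (subgroupOfEquivOfLe hUS).toEquiv]
  have hβn : (Nat.card W₁ : ℂ) * Cfsg.classInner β β =
      (Nat.card U : ℂ) + 2 * (Nat.card W₁ : ℂ) - 1 := by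
    rw [hβ, inner_indFun_self Q US hUQ hfac PS hPQ hPnS hfus hθcl, hθn,
      Finset.sum_eq_card_nsmul (fun u hu => hθcross u (by simpa using hu)),
      nsmul_eq_mul, hcard, Nat.cast_sub Nat.card_pos, hcardQ]
    have h1 : (Nat.card P : ℂ) ≠ 0 := Nat.cast_ne_zero.2 Nat.card_pos.ne'
    have h2 : (Nat.card W₁ : ℂ) ≠ 0 := Nat.cast_ne_zero.2 Nat.card_pos.ne'
    push_cast
    field_simp
    ring
  have hβ'n : Cfsg.classInner β' β' = 2 := by
    rw [hβ', inner_indFun_self Q US hUQ hfac PS hPQ hPnS hfus hθ'cl, hθ'n,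
      Finset.sum_eq_zero (fun u hu => hθ'cross u (by simpa using hu))]
    simp
  -- the TI set
  let A : Set G := ((P : Set G) \ {1}) ∪
    {x | ∃ s ∈ S, ∃ z ∈ PairIneq.hat W₁ W₂, x = s * z * s⁻¹}
  have hA1 : (1 : G) ∉ A := by
    rintro (h | ⟨s, -, z, hz, e⟩)
    · exact h.2 rfl
    · exact hz.2 (Or.inl (by rw [SetLike.mem_coe, conj_eq_one_iff.1 e.symm]; exact one_mem _))
  have hAS : ∀ s ∈ S, ∀ x ∈ A, s * x * s⁻¹ ∈ A := by
    rintro s hs x (⟨h1, h2⟩ | ⟨t, ht, z, hz, rfl⟩)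
    · exact Or.inl ⟨hconjP s hs x h1, fun e => h2 (conj_eq_one_iff.1 e)⟩
    · exact Or.inr ⟨s * t, mul_mem hs ht, z, hz, by group⟩
  have hordW : ∀ z ∈ PairIneq.hat W₁ W₂, ∀ y : G, y * z * y⁻¹ ∉ P := by
    intro z hz y hy
    have hd := card_dvd_orderOf_of_mem_sup hq hcoW hcomm12 hz.1 (fun h => hz.2 (Or.inr h))
    have hd' : orderOf z ∣ Nat.card P := by
      have := orderOf_dvd_natCard (⟨_, hy⟩ : P)
      rwa [Subgroup.orderOf_mk, orderOf_conj_eq] at this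
    exact hq.one_lt.ne' (Nat.eq_one_of_dvd_coprimes hcoWP dvd_rfl (hd.trans hd'))
  have hmemA : ∀ x ∈ A, ∀ g : G, g * x * g⁻¹ ∈ A → g ∈ S := by
    rintro x (⟨h1, h2⟩ | ⟨t, ht, z, hz, rfl⟩) g (⟨g1, g2⟩ | ⟨s, hs, z', hz', e⟩)
    · by_contra hg
      rw [← hS.fitting_normalizer] at hg
      have hle : P ≤ Cfsg.fittingOf S := by rw [hS.fitting_eq]; exact le_sup_left
      exact h2 (hS.fitting_TI g hg x (hle h1) (hle g1))
    · refine absurd ?_ (hordW z' hz' (g⁻¹ * s))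
      have e2 : g⁻¹ * s * z' * (g⁻¹ * s)⁻¹ = x := by
        calc g⁻¹ * s * z' * (g⁻¹ * s)⁻¹ = g⁻¹ * (s * z' * s⁻¹) * g := by group
          _ = x := by rw [← e]; group
      rw [e2]; exact h1
    · refine absurd ?_ (hordW z hz (g * t))
      rwa [show g * t * z * (g * t)⁻¹ = g * (t * z * t⁻¹) * g⁻¹ by group]
    · have e2 : s⁻¹ * g * t * z * (s⁻¹ * g * t)⁻¹ = z' := by
        calc _ = s⁻¹ * (g * (t * z * t⁻¹) * g⁻¹) * s := by group
          _ = z' := by rw [e]; group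
      have hmem := OddChar.selfNormalizingCyclic_mem_of_conj hW hz.1 (fun h => hz.2 (Or.inl h))
        (fun h => hz.2 (Or.inr h)) (e2 ▸ hz'.1) (e2 ▸ fun h => hz'.2 (Or.inl h))
        (e2 ▸ fun h => hz'.2 (Or.inr h))
      have := mul_mem (mul_mem hs (hWS hmem)) (inv_mem ht)
      rwa [show s * (s⁻¹ * g * t) * t⁻¹ = g by group] at this
  obtain ⟨x₀, hx₀⟩ : ∃ x, x ∈ A := by
    obtain ⟨⟨a, ha⟩, ha1⟩ := ne_bot_iff_exists_ne_one.1 hW.2.1
    exact ⟨a, Or.inl ⟨hW₂P ha, fun e => ha1 (Subtype.ext e)⟩⟩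
  have hAN : Subgroup.normalizer A = S := by
    ext g
    constructor
    · exact fun hg => hmemA x₀ hx₀ g ((Subgroup.mem_set_normalizer_iff.1 hg x₀).1 hx₀)
    · exact fun hg => Subgroup.mem_set_normalizer_iff.2 fun x => ⟨hAS g hg x, fun h => by
        simpa [mul_assoc] using hAS g⁻¹ (inv_mem hg) _ h⟩
  have hA : Cfsg.IsTISubset A := fun g hg x hx hgx =>
    absurd (hmemA x hx g hgx) (hAN ▸ hg)
  -- support
  have hsupp0 : ∀ φ : Q → ℂ, Cfsg.IsClassFunction Q φ →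
      (∀ x : Q, ((x : S) : G) ∈ W₁ → φ x = 0) → ∀ x : S, (x : G) ∉ A →
      Cfsg.indFun Q φ x = 0 := by
    intro φ hφ hφ0 x hx
    rw [indFun_eq_sum_compl Q US hUQ hfac hφ]
    refine Finset.sum_eq_zero fun u _ => ?_
    by_cases hy : (u : S)⁻¹ * x * u ∈ Q
    swap
    · exact Char.extendByZero_of_notMem _ _ hy
    rw [Char.extendByZero_apply_mem _ _ hy]
    by_contra hne
    obtain ⟨h, hh, w, hw, e⟩ := (hmemQ _).1 hy
    have hyA : ((u : S) : G)⁻¹ * x * (u : S) ∈ A := by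
      change ((u : S) : G)⁻¹ * (x : G) * (u : S) = h * w at e
      rw [e]
      by_cases hw1 : w = 1
      · subst hw1
        rw [mul_one] at e ⊢
        refine Or.inl ⟨hh, fun h1 => hne (hφ0 _ ?_)⟩
        show ((u : S) : G)⁻¹ * (x : G) * (u : S) ∈ W₁
        rw [e, show h = 1 from h1]
        exact one_mem _
      have hwo : (orderOf w).Coprime (Nat.card P) :=
        hcoWP.coprime_dvd_left (OddOrder.orderOf_dvd_card_of_mem hw)
      obtain ⟨x0, hx0, c, hc, hcw, ec⟩ :=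
        OddChar.exists_conj_centralizer_coset P w (hPn (hW₁S hw)) hwo h hh
      have hcW₂ : c ∈ W₂ := by
        rw [← hP.W₂_centralizer w hw hw1]
        exact ⟨hPS' hc, mem_centralizer_singleton_iff.2 hcw⟩
      let r : Q := ⟨⟨x0, hPS hx0⟩, mem_sup_left hx0⟩
      have hcl := hφ ⟨_, hy⟩ r
      have hval' : (((r * ⟨_, hy⟩ * r⁻¹ : Q) : S) : G) = c * w := by
        show x0 * (((u : S) : G)⁻¹ * (x : G) * (u : S)) * x0⁻¹ = c * w
        rw [e, ec]
      have hc1 : c ≠ 1 := fun h1 => hne (by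
        rw [← hcl]; exact hφ0 _ (by rw [hval', h1, one_mul]; exact hw))
      refine Or.inr ⟨x0⁻¹, inv_mem (hPS hx0), c * w,
        ⟨mul_mem (mem_sup_right hcW₂) (mem_sup_left hw), ?_⟩, by rw [← ec]; group⟩
      rintro (h1 | h1)
      · exact hc1 (hPW c hc (by simpa using mul_mem h1 (inv_mem hw)))
      · exact hw1 (hPW w (by simpa using mul_mem (inv_mem hc) (hW₂P h1)) hw)
    have := hAS _ (u : S).2 _ hyA
    exact hx (by simpa [mul_assoc] using this)
  have hsupp : ∀ x : S, (x : G) ∉ A → β x = 0 := hsupp0 θ hθcl hθ0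
  have hsupp' : ∀ x : S, (x : G) ∉ A → β' x = 0 := hsupp0 θ' hθ'cl hθ'0
  have hβgen : Cfsg.IsGeneralizedCharacter S β := Char.IsGeneralizedCharacter.indFun Q hθgen
  have hβ'gen : Cfsg.IsGeneralizedCharacter S β' := Char.IsGeneralizedCharacter.indFun Q hθ'gen
  -- the pin
  have hVA : PairIneq.hat W₁ W₂ ⊆ A := fun z hz => Or.inr ⟨1, one_mem _, z, hz, by group⟩
  have hωne : ω ≠ ω⁻¹ := by
    intro e
    refine hω (MonoidHom.ext fun x => ?_)
    have h2 : ω x * ω x = 1 := by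
      nth_rewrite 1 [e]
      simp
    obtain ⟨k, hk⟩ : Odd (Nat.card ↥(W₁ ⊔ W₂)) :=
      hodd.of_dvd_nat (W₁ ⊔ W₂).card_subgroup_dvd_card
    have h3 := congrArg ω (pow_card_eq_one' (x := x))
    rw [map_one, map_pow, hk, pow_succ, pow_mul, pow_two, h2, one_pow, one_mul] at h3
    exact h3
  have hpin : Cfsg.indFun S β' = χ ω - χ ω⁻¹ := by
    refine PairInduce.pin_induced hW (hodd.of_dvd_nat (W₁ ⊔ W₂).card_subgroup_dvd_card) hχ hA hA1
      hAN hVA hWS hβ'gen hβ'n hsupp' hωne (fun w hw => by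
        rw [MonoidHom.inv_apply, hω1 w hw, inv_one]) fun z hz1 hz2 => ?_
    have hn : W₁ ≤ normalizer (W₂ : Set G) := fun a ha => centralizer_le_normalizer _
      (mem_centralizer_iff.2 fun b hb => (hcomm12 a ha b hb).symm)
    obtain ⟨b, hb, a, ha, hz⟩ := (Solvable.mem_sup_of_le_normalizer hn).1
      (show (z : G) ∈ W₂ ⊔ W₁ by rw [sup_comm]; exact z.2)
    have hzQ : (Subgroup.inclusion hWS z : S) ∈ Q := by
      show (z : G) ∈ Q0
      rw [← hz]; exact mul_mem (mem_sup_left (hW₂P hb)) (mem_sup_right ha)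
    have ha1 : a ≠ 1 := fun e => hz2 (by rw [← hz, e, mul_one]; exact hb)
    rw [hβ', indFun_eq_sum_compl Q US hUQ hfac hθ'cl, Finset.sum_eq_single (1 : US) ?_ (by simp)]
    · rw [OneMemClass.coe_one, inv_one, one_mul, mul_one, Char.extendByZero_apply_mem _ _ hzQ]
      have h1 : lam ⟨_, hzQ⟩ = ω z := by
        show μ (hp _) = ω z
        rw [hval ⟨_, hzQ⟩ ⟨b, hW₂P hb⟩ a ha hz.symm, hμ2 b hb]
        show ω ⟨b, _⟩ = ω z
        rw [show z = (⟨b, mem_sup_right hb⟩ : ↥(W₁ ⊔ W₂)) * ⟨a, mem_sup_left ha⟩ from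
          Subtype.ext hz.symm, map_mul, hω1 ⟨a, mem_sup_left ha⟩ ha, mul_one]
      show (lam _ : ℂ) - ((lam⁻¹) _ : ℂ) = _
      rw [MonoidHom.inv_apply, MonoidHom.inv_apply, h1]
    · intro u _ hu
      refine Char.extendByZero_of_notMem _ _ fun h => ?_
      have hP' : (z : G) ∈ P := hfus _ u.2 (fun e => hu (Subtype.ext e)) _ hzQ h
      rw [← hz] at hP'
      exact ha1 (hPW a (by simpa using mul_mem (inv_mem (hW₂P hb)) hP') ha)
  -- conclusion
  have hti := PairInduce.ti_facts hA hA1 hAN (Char.IsGeneralizedCharacter.isClassFunction hβgen) hsupp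
  refine ⟨Cfsg.indFun S β, Char.IsGeneralizedCharacter.indFun S hβgen, ?_, ?_, ?_, ?_⟩
  · have hc : Cfsg.IsClassFunction G (fun _ : G => (1 : ℂ)) := fun _ _ => rfl
    have hcS : Cfsg.IsClassFunction S (fun _ : S => (1 : ℂ)) := fun _ _ => rfl
    rw [Char.classInner_indFun S β _ hc, hβ, Char.classInner_indFun Q θ _ hcS]
    rw [show θ = (fun _ => (1 : ℂ)) - fun x => (lam x : ℂ) from rfl, Char.classInner_sub_left,
      Char.classInner_irr_self Char.isIrrCharacter_principal,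
      Char.classInner_irr_of_ne (hirr lam) Char.isIrrCharacter_principal (by
        have := hdist lam 1 hlamne
        simpa using this), sub_zero]
  · have hdiff : θ' = Cfsg.conjFun θ - θ := by
      funext x
      simp only [θ', θ, Cfsg.conjFun, Pi.sub_apply, map_sub, map_one, conj_hom lam]
      ring
    have e1 : Cfsg.conjFun (Cfsg.indFun S β) = Cfsg.indFun S β + (χ ω - χ ω⁻¹) := by
      rw [← hpin, hβ', hdiff, Char.indFun_sub, Char.indFun_sub, hβ,
        OddChar.Above.conjFun_indFun, OddChar.Above.conjFun_indFun]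
      abel
    have e2 : Cfsg.conjFun (Cfsg.indFun S β + χ ω) =
        Cfsg.conjFun (Cfsg.indFun S β) + Cfsg.conjFun (χ ω) := by
      funext g
      simp [Cfsg.conjFun]
    rw [e2, e1, ← apply_inv hW hodd hχ ω]
    abel
  · rw [hti.2.1]
    have h := congrArg Complex.re hβn
    simp only [Complex.mul_re, Complex.natCast_re, Complex.natCast_im, zero_mul, sub_zero,
      Complex.sub_re, Complex.add_re, Complex.one_re, Complex.re_ofNat, Complex.im_ofNat] at h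
    linarith
  · intro M hM hnc g hg
    refine hti.2.2 g fun hgA => ?_
    obtain ⟨x, hx⟩ := hgA
    obtain ⟨a, ha, r, hr, y, rfl⟩ := hg
    rcases hx with ⟨h1, h2⟩ | ⟨s, -, z, hz, e⟩
    · have htm : x * (y * (a * r) * y⁻¹) * x⁻¹ ∈ Cfsg.tildeOf M (coreSet M) :=
        ⟨a, ha, r, hr, x * y, by group⟩
      refine Set.disjoint_left.1 (core_cosets_disjoint hG hS.coatom hM hnc) ?_ htm
      exact ⟨_, ⟨OddOrder.fittingHallOf_le_sigmaCore hG hS.coatom h1, h2⟩, 1, one_mem _, 1,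
        by simp⟩
    · obtain ⟨U', hKU⟩ := exists_decomposition_of_typeP hG hS.coatom hP
      obtain ⟨-, -, h3⟩ := Cfsg.Agent.S1379.result hG
      have hZ := (h3 S W₁ U' hS.coatom hKU hP.W₁_ne).2 M hM 1 z (by
        have e' : W₂ = Cfsg.sigmaCore S ⊓ centralizer (W₁ : Set G) :=
          W₂_eq_kappaStar hG hS.coatom hP
        rw [← e']; exact hz)
      refine hZ ⟨a, ha, r, hr, s⁻¹ * x * y, ?_⟩
      calc 1 * z * 1⁻¹ = s⁻¹ * (s * z * s⁻¹) * s := by group
        _ = s⁻¹ * (x * (y * (a * r) * y⁻¹) * x⁻¹) * s := by rw [e]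
        _ = _ := by group

end CfsgLib.FT
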