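import Cfsg.Agent.Lib.FT.Grid
import Cfsg.Agent.Lib.FT.Support
import Cfsg.Agent.Lib.FT.Tiles
import Cfsg.Agent.Lib.OddChar.TypeSigma
import Cfsg.Agent.S1525

/-!
FT module Weights: the cosets outside the pair.

`rest_card`: S1379, the tildes are disjoint and `|tilde M| = [G : M] (|M_σ| - 1)` (Dade, S1499 / S1525).
`rest_bound`: on a coset `x R`, `x` has order prime to `|W|`, so the averages of `χ ω` are integers, equal for
`ω` and `ω⁻¹` (`avg_int`, `apply_inv`): the average of `Ψ` is `a 1` plus an even integer, so odd, `≠ 0`;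
Cauchy on the coset.
-/

set_option autoImplicit false
set_option linter.style.haveILetI false

namespace CfsgLib.FT

open Subgroup CfsgLib.OddOrder CfsgLib.OddChar.MaxTypes

universe u


section Aux

variable {G : Type u} [Group G]

theorem notConj_conj {M N : Subgroup G} (g : G) (h : NotConj M N) :
    NotConj M (N.map (MulAut.conj g).toMonoidHom) := fun c e => h (g⁻¹ * c) (by
  rw [← map_conj_map_conj, ← e, map_conj_map_conj, inv_mul_cancel]
  ext
  simp)

theorem notConj_symm {M N : Subgroup G} (h : NotConj M N) : NotConj N M := fun c e => h c⁻¹ (by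
  rw [e, map_conj_map_conj, inv_mul_cancel]
  ext
  simp)

theorem regConj_map (m : G) (A B : Subgroup G) :
    regConj (A.map (MulAut.conj m).toMonoidHom) (B.map (MulAut.conj m).toMonoidHom) =
      regConj A B := by
  ext g
  rw [regConj, regConj, Set.mem_ofPred_eq, Set.mem_ofPred_eq]
  constructor
  · rintro ⟨y, z, ⟨hz, hn⟩, rfl⟩
    rw [SetLike.mem_coe, ← Subgroup.map_sup] at hz
    obtain ⟨w, hw, rfl⟩ := hz
    refine ⟨y * m, w, ⟨hw, fun h => hn (h.imp (mem_map_of_mem _) (mem_map_of_mem _))⟩, ?_⟩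
    show y * (m * w * m⁻¹) * y⁻¹ = _
    group
  · rintro ⟨y, z, ⟨hz, hn⟩, rfl⟩
    refine ⟨y * m⁻¹, m * z * m⁻¹, ⟨?_, ?_⟩, by group⟩
    · rw [SetLike.mem_coe, ← Subgroup.map_sup]
      exact ⟨z, hz, rfl⟩
    · rintro (⟨w, hw, e⟩ | ⟨w, hw, e⟩) <;> obtain rfl : w = z := (MulAut.conj m).injective e
      · exact hn (Or.inl hw)
      · exact hn (Or.inr hw)

theorem wRegion_eq (W₁ W₂ : Subgroup G) : wRegion W₁ W₂ = regConj W₁ W₂ := by
  ext g
  constructor
  · rintro ⟨y, h, h1, h2⟩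
    exact ⟨y⁻¹, _, ⟨h, fun e => e.elim h1 h2⟩, by group⟩
  · rintro ⟨y, z, ⟨hz, hn⟩, rfl⟩
    refine ⟨y⁻¹, ?_⟩
    rw [show y⁻¹ * (y * z * y⁻¹) * y⁻¹⁻¹ = z by group]
    exact ⟨hz, fun h => hn (Or.inl h), fun h => hn (Or.inr h)⟩

variable [Finite G]

theorem card_reg {W₁ W₂ : Subgroup G} (hW : Cfsg.IsSelfNormalizingCyclic W₁ W₂) :
    ((((↑(W₁ ⊔ W₂) : Set G) \ ((W₁ : Set G) ∪ ↑W₂)).ncard : ℝ)) =
        (Nat.card W₁ : ℝ) * Nat.card W₂ - Nat.card W₁ - Nat.card W₂ + 1 ∧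
      Nat.card ↥(W₁ ⊔ W₂) = Nat.card W₁ * Nat.card W₂ := by
  obtain ⟨-, -, hdisj, hcomm, -, -⟩ := hW
  have hn : W₁ ≤ normalizer (W₂ : Set G) := fun a ha => by
    rw [mem_normalizer_iff]
    intro b
    constructor
    · intro hb
      rw [hcomm a ha b hb, mul_inv_cancel_right]
      exact hb
    · intro hb
      have e := hcomm a ha _ hb
      have : a * b * a⁻¹ = b := by
        calc a * b * a⁻¹ = a⁻¹ * (a * (a * b * a⁻¹)) := by group
          _ = a⁻¹ * (a * b * a⁻¹ * a) := by rw [e]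
          _ = b := by group
      rwa [← this]
  have hcard : Nat.card ↥(W₁ ⊔ W₂) = Nat.card W₁ * Nat.card W₂ := by
    rw [sup_comm, Solvable.card_sup_of_disjoint hn (disjoint_iff.2 hdisj).symm, mul_comm]
  refine ⟨?_, hcard⟩
  have hint : ((W₁ : Set G) ∩ ↑W₂).ncard = 1 := by
    rw [← Subgroup.coe_inf, hdisj, Subgroup.coe_bot, Set.ncard_singleton]
  have hu := Set.ncard_union_add_ncard_inter (W₁ : Set G) (W₂ : Set G)
  rw [hint, ← Nat.card_coe_set_eq (W₁ : Set G), ← Nat.card_coe_set_eq (W₂ : Set G)] at hu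
  have hd := Set.ncard_sdiff_add_ncard_of_subset
    (Set.union_subset (fun x hx => mem_sup_left hx) fun x hx => mem_sup_right hx :
      (W₁ : Set G) ∪ ↑W₂ ⊆ ↑(W₁ ⊔ W₂))
  rw [← Nat.card_coe_set_eq (↑(W₁ ⊔ W₂) : Set G), SetLike.coe_sort_coe, hcard] at hd
  simp only [SetLike.coe_sort_coe] at hu
  have hu' : (((W₁ : Set G) ∪ ↑W₂).ncard : ℝ) + 1 = Nat.card W₁ + Nat.card W₂ := by exact_mod_cast hu
  have hd' : ((((↑(W₁ ⊔ W₂) : Set G) \ ((W₁ : Set G) ∪ ↑W₂)).ncard : ℝ)) +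
      (((W₁ : Set G) ∪ ↑W₂).ncard : ℝ) = (Nat.card W₁ : ℝ) * Nat.card W₂ := by exact_mod_cast hd
  linarith

end Aux

variable {G : Type u} [Group G] [Fintype G] (hG : Cfsg.IsMinSimpleOddOrder G)
  {S T W₁ W₂ U V : Subgroup G}
include hG

/-- The factors of the pair lie in the two cores. -/
theorem pair_le_core (hpd : PairData S T W₁ W₂ U V) :
    W₁ ≤ Cfsg.sigmaCore T ∧ W₂ ≤ Cfsg.sigmaCore S :=
  ⟨(le_inf_iff.1 hpd.typeT.W₂_le).1.trans (Cfsg.Agent.S1355.result hG T hpd.maxT).2.1,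
    (le_inf_iff.1 hpd.typeS.W₂_le).1.trans (Cfsg.Agent.S1355.result hG S hpd.maxS).2.1⟩

/-- The partition of `G` attached to the pair. -/
theorem pair_partition (hpd : PairData S T W₁ W₂ U V) {R : Finset (Subgroup G)} (hR : IsMaxReps R)
    {E : Type*} [AddCommMonoid E] (F : G → E) :
    ∑ g, F g = F 1 + (∑ N ∈ R, ∑ᶠ g ∈ Cfsg.tildeOf N (coreSet N), F g) +
      ∑ᶠ g ∈ regConj W₁ W₂, F g := by
  obtain ⟨K, U', hKU⟩ := exists_decomposition hG hpd.maxS
  have hK := K_ne_bot_of_typeP hG hpd.maxS hKU hpd.typeS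
  have hP := hpd.typeS
  have hKc := isComplIn_commutator_K hG hpd.maxS hKU hK
  haveI := isSolvable_of_ne_top hG hpd.maxS.1
  set π : Set ℕ := {r | r.Prime ∧ r ∣ Nat.card W₁} with hπ
  have hcardW : Nat.card W₁ = ⁅S, S⁆.relIndex S := card_eq_relIndex_of_isComplIn (isComplIn_swap hP.W₁_compl)
  have hcardK : Nat.card K = Nat.card W₁ := by
    rw [hcardW]; exact card_eq_relIndex_of_isComplIn (isComplIn_swap hKc)
  have hhallW : Cfsg.IsPiHallOf π W₁ S := isPiHallOf_of_coprime_relIndex hP.W₁_compl.2.1 hP.W₁_hall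
  have hidx : K.relIndex S = W₁.relIndex S := by
    have e1 : Nat.card K * K.relIndex S = Nat.card S := by
      rw [← relIndex_bot_left K, relIndex_mul_relIndex ⊥ K S bot_le hKc.2.1, relIndex_bot_left]
    have e2 : Nat.card W₁ * W₁.relIndex S = Nat.card S := by
      rw [← relIndex_bot_left W₁, relIndex_mul_relIndex ⊥ W₁ S bot_le hP.W₁_compl.2.1,
        relIndex_bot_left]
    exact Nat.eq_of_mul_eq_mul_left Nat.card_pos (e1.trans (by rw [hcardK, e2]))
  have hhallK : Cfsg.IsPiHallOf π K S := by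
    refine ⟨hKc.2.1, fun r hr hd => ⟨hr, hcardK ▸ hd⟩, fun r hr hrπ => ?_⟩
    rw [hidx]
    exact hhallW.2.2 r hr hrπ
  obtain ⟨m, hm, hmW⟩ := Solvable.exists_conj_of_isPiHallOf (G := S) inferInstance hhallW hhallK
  have hmW' : K = W₁.map (MulAut.conj m).toMonoidHom := hmW.symm
  -- the fixed subgroup
  have hKs : Cfsg.sigmaCore S ⊓ centralizer (K : Set G) = W₂.map (MulAut.conj m).toMonoidHom := by
    have hn : m ∈ normalizer (Cfsg.sigmaCore S : Set G) := le_normalizer_piCoreOf _ _ hm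
    have hsel := hP.selfNormalizing
    rw [hmW']
    ext y
    rw [mem_map_conj_iff, Subgroup.mem_inf]
    have hy : y ∈ Cfsg.sigmaCore S ↔ m⁻¹ * y * m ∈ Cfsg.sigmaCore S := by
      have := mem_normalizer_iff.1 hn (m⁻¹ * y * m)
      rw [show m * (m⁻¹ * y * m) * m⁻¹ = y by group] at this
      exact this.symm
    rw [hy]
    have hc : y ∈ centralizer (W₁.map (MulAut.conj m).toMonoidHom : Set G) ↔
        m⁻¹ * y * m ∈ centralizer (W₁ : Set G) := by
      constructor <;> intro h <;> rw [mem_centralizer_iff] at h ⊢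
      · intro x hx
        have := h (m * x * m⁻¹) (mem_map_of_mem _ hx)
        calc x * (m⁻¹ * y * m) = m⁻¹ * ((m * x * m⁻¹) * y) * m := by group
          _ = m⁻¹ * (y * (m * x * m⁻¹)) * m := by rw [this]
          _ = m⁻¹ * y * m * x := by group
      · rintro _ ⟨x, hx, rfl⟩
        have := h x hx
        show m * x * m⁻¹ * y = y * (m * x * m⁻¹)
        calc m * x * m⁻¹ * y = m * (x * (m⁻¹ * y * m)) * m⁻¹ := by group
          _ = m * (m⁻¹ * y * m * x) * m⁻¹ := by rw [this]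
          _ = y * (m * x * m⁻¹) := by group
    rw [hc]
    obtain ⟨x, hx, hx1⟩ := (W₁.bot_or_exists_ne_one).resolve_left hP.W₁_ne
    constructor
    · rintro ⟨h1, h2⟩
      rw [← hP.W₂_centralizer x hx hx1]
      exact ⟨(Cfsg.Agent.S1355.result hG S hpd.maxS).2.2.1 h1,
        mem_centralizer_singleton_iff.2 (mem_centralizer_iff.1 h2 x hx).symm⟩
    · exact fun h => ⟨(pair_le_core hG hpd).2 h, mem_centralizer_iff.2 fun a ha => hsel.2.2.2.1 a ha _ h⟩
  rw [sum_partition hG hpd.maxS hKU hK hR F, hKs, hmW', regConj_map]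
  rfl

theorem tilde_card_pair {S' : Subgroup G} (hS : IsCoatom S') :
    (((Cfsg.tildeOf S' (coreSet S')).ncard : ℝ)) = (Nat.card G : ℝ) * coreWeight S' := by
  rw [show coreSet S' = (Cfsg.sigmaCore S' : Set G) \ {1} from rfl,
    Cfsg.Agent.S1377.result hG S' hS, coreWeight, Nat.cast_mul,
    Nat.cast_sub (Nat.card_pos (α := Cfsg.sigmaCore S'))]
  have h2 : (Nat.card S' : ℝ) * S'.index = Nat.card G := by exact_mod_cast S'.card_mul_index
  have hN0 : (Nat.card S' : ℝ) ≠ 0 := Nat.cast_ne_zero.2 Nat.card_pos.ne'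
  rw [← h2]
  push_cast
  field_simp

omit hG [Fintype G] in
theorem restSet_empty_mem {E : Set (Subgroup G)} {g : G} (h : g ∈ restSet E) :
    ∃ N : Subgroup G, IsCoatom N ∧ g ∈ Cfsg.tildeOf N (coreSet N) :=
  let ⟨N, hN, _, hg⟩ := h; ⟨N, hN, hg⟩

/-- `restSet E` is the union of the tiles of the representatives outside `E`. -/
theorem restSet_eq {R : Finset (Subgroup G)} (hR : IsMaxReps R) (E : Set (Subgroup G))
    [DecidablePred fun N : Subgroup G => ∀ M ∈ E, NotConj M N] :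
    restSet E = ⋃ N ∈ R.filter (fun N => ∀ M ∈ E, NotConj M N), Cfsg.tildeOf N (coreSet N) := by
  ext g
  simp only [Set.mem_iUnion, Finset.mem_filter, exists_prop]
  constructor
  · rintro ⟨N, hN, hne, hg⟩
    obtain ⟨N', hN', c, hc⟩ := hR.exists_mem N hN
    refine ⟨N', ⟨hN', fun M hM => ?_⟩, tilde_subset_of_conj hG (hR.coatom N' hN') hc hg⟩
    intro d e
    exact hne M hM (c * d) (by rw [hc, e, map_conj_map_conj])
  · rintro ⟨N, ⟨hN, hne⟩, hg⟩
    exact ⟨N, hR.coatom N hN, hne, hg⟩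

open Classical in
theorem sum_restSet {R : Finset (Subgroup G)} (hR : IsMaxReps R) (E : Set (Subgroup G))
    {A : Type*} [AddCommMonoid A] (F : G → A) :
    ∑ᶠ g ∈ restSet E, F g = ∑ N ∈ R.filter (fun N => ∀ M ∈ E, NotConj M N),
      ∑ᶠ g ∈ Cfsg.tildeOf N (coreSet N), F g := by
  rw [restSet_eq hG hR E]
  rw [← finsum_mem_coe_finset]
  refine finsum_mem_biUnion ?_ (Finset.finite_toSet _) fun N _ => Set.toFinite (Cfsg.tildeOf N (coreSet N))
  intro A hA B hB hAB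
  rw [Finset.mem_coe, Finset.mem_filter] at hA hB
  exact Set.disjoint_iff_inter_eq_empty.2 ((Cfsg.Agent.S1379.result hG).1 A B (hR.coatom A hA.1)
    (hR.coatom B hB.1) (hR.not_conj A hA.1 B hB.1 hAB))

theorem tilde_card {M : Subgroup G} (hM : IsCoatom M) :
    ((Cfsg.tildeOf M (coreSet M)).ncard : ℝ) = (Nat.card G : ℝ) * coreWeight M :=
  tilde_card_pair hG hM

theorem rest_card (hpd : PairData S T W₁ W₂ U V) :
    ((restSet {S, T}).ncard : ℝ) + 1 = (Nat.card G : ℝ) *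
      ((Nat.card W₁ : ℝ)⁻¹ + (Nat.card W₂ : ℝ)⁻¹ - ((Nat.card W₁ : ℝ) * Nat.card W₂)⁻¹
        - coreWeight S - coreWeight T) := by
  classical
  have hnc' : ∀ A ∈ ({S, T} : Finset (Subgroup G)), ∀ B ∈ ({S, T} : Finset (Subgroup G)), A ≠ B →
      ∀ g : G, B ≠ A.map (MulAut.conj g).toMonoidHom := by
    intro A hA B hB hAB
    simp only [Finset.mem_insert, Finset.mem_singleton] at hA hB
    rcases hA with rfl | rfl <;> rcases hB with rfl | rfl
    · exact absurd rfl hAB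
    · exact hpd.notConj
    · exact notConj_symm hpd.notConj
    · exact absurd rfl hAB
  obtain ⟨R, hSR, hR⟩ := exists_maxReps ({S, T} : Finset (Subgroup G))
    (by simp [hpd.maxS, hpd.maxT]) hnc'
  have hSR' : S ∈ R := hSR (by simp)
  have hTR' : T ∈ R := hSR (by simp)
  have hne : S ≠ T := fun e => hpd.notConj 1 (by subst e; ext; simp)
  have hfil : R.filter (fun N => ∀ M ∈ ({S, T} : Set (Subgroup G)), NotConj M N) =
      (R.erase S).erase T := by
    ext N
    simp only [Finset.mem_filter, Finset.mem_erase]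
    constructor
    · rintro ⟨hN, h⟩
      exact ⟨fun e => h T (Set.mem_insert_of_mem _ rfl) 1 (by subst e; ext; simp),
        fun e => h S (Set.mem_insert _ _) 1 (by subst e; ext; simp), hN⟩
    · rintro ⟨h1, h2, hN⟩
      refine ⟨hN, fun M hM => ?_⟩
      rcases hM with rfl | rfl
      · exact hR.not_conj _ hSR' _ hN (Ne.symm h2)
      · exact hR.not_conj _ hTR' _ hN (Ne.symm h1)
  have hW := hpd.typeS.selfNormalizing
  obtain ⟨hreg, hWc⟩ := card_reg hW
  have hp := pair_partition hG hpd hR (fun _ : G => (1 : ℝ))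
  have hcount : ∀ s : Set G, ∑ᶠ g ∈ s, (1 : ℝ) = (s.ncard : ℝ) := fun s => by
    rw [finsum_mem_eq_toFinset_sum, Finset.sum_const, nsmul_one, Set.ncard_eq_toFinset_card']
  have hrest := sum_restSet hG hR ({S, T} : Set (Subgroup G)) (fun _ : G => (1 : ℝ))
  rw [hcount, Finset.sum_congr (s₂ := (R.erase S).erase T) (by convert hfil) fun _ _ => rfl] at hrest
  have hsplit : ∑ N ∈ R, ((Cfsg.tildeOf N (coreSet N)).ncard : ℝ) =
      ((Cfsg.tildeOf S (coreSet S)).ncard : ℝ) + (Cfsg.tildeOf T (coreSet T)).ncard +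
        ∑ N ∈ (R.erase S).erase T, ((Cfsg.tildeOf N (coreSet N)).ncard : ℝ) := by
    rw [← Finset.add_sum_erase _ _ hSR',
      ← Finset.add_sum_erase _ _ (Finset.mem_erase.2 ⟨Ne.symm hne, hTR'⟩), add_assoc]
  simp only [hcount, hsplit] at hp hrest
  rw [tilde_card_pair hG hpd.maxS, tilde_card_pair hG hpd.maxT, Finset.sum_const, Finset.card_univ,
    nsmul_one, ← Nat.card_eq_fintype_card] at hp
  have hv := sum_regConj hW (fun _ => (1 : ℂ)) fun _ _ => rfl
  have hcountC : ∀ s : Set G, ∑ᶠ g ∈ s, (1 : ℂ) = (s.ncard : ℂ) := fun s => by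
    rw [finsum_mem_eq_toFinset_sum, Finset.sum_const, nsmul_one, Set.ncard_eq_toFinset_card']
  rw [hcountC, hcountC, hWc] at hv
  have hG0 : (Nat.card G : ℝ) ≠ 0 := Nat.cast_ne_zero.2 Nat.card_pos.ne'
  have hv' : (Nat.card G : ℝ)⁻¹ * ((regConj W₁ W₂).ncard : ℝ) =
      ((Nat.card W₁ * Nat.card W₂ : ℕ) : ℝ)⁻¹ *
        ((((↑(W₁ ⊔ W₂) : Set G) \ ((W₁ : Set G) ∪ ↑W₂)).ncard : ℝ)) := Complex.ofReal_inj.1 (by
    push_cast at hv ⊢; exact hv)
  rw [hreg, inv_mul_eq_div, div_eq_iff hG0, Nat.cast_mul] at hv'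
  have h1 : (Nat.card W₁ : ℝ) ≠ 0 := Nat.cast_ne_zero.2 Nat.card_pos.ne'
  have h2 : (Nat.card W₂ : ℝ) ≠ 0 := Nat.cast_ne_zero.2 Nat.card_pos.ne'
  rw [hrest]
  have e : ((Nat.card W₁ : ℝ) * Nat.card W₂)⁻¹ *
      ((Nat.card W₁ : ℝ) * Nat.card W₂ - Nat.card W₁ - Nat.card W₂ + 1) =
      1 - (Nat.card W₂ : ℝ)⁻¹ - (Nat.card W₁ : ℝ)⁻¹ + ((Nat.card W₁ : ℝ) * Nat.card W₂)⁻¹ := by
    field_simp
  rw [e] at hv'
  rw [hv'] at hp
  linear_combination -hp

theorem rest_card_three (hpd : PairData S T W₁ W₂ U V) {L : Subgroup G} (hL : IsCoatom L)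
    (h1 : NotConj S L) (h2 : NotConj T L) :
    ((restSet {S, T, L}).ncard : ℝ) + (Nat.card G : ℝ) * coreWeight L =
      ((restSet {S, T}).ncard : ℝ) := by
  rw [← tilde_card_pair hG hL, ← Nat.cast_add, Nat.cast_inj, ← Set.ncard_union_eq ?_]
  · congr 1
    ext g
    constructor
    · rintro (⟨N, hN, hne, hg⟩ | hg)
      · exact ⟨N, hN, fun M hM => hne M (hM.elim (fun e => Or.inl e) fun e => Or.inr (Or.inl e)), hg⟩
      · exact ⟨L, hL, fun M hM => hM.elim (fun e => e ▸ h1) fun e => e ▸ h2, hg⟩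
    · rintro ⟨N, hN, hne, hg⟩
      by_cases hc : NotConj L N
      · refine Or.inl ⟨N, hN, fun M hM => ?_, hg⟩
        rcases hM with rfl | rfl | rfl
        · exact hne _ (Or.inl rfl)
        · exact hne _ (Or.inr rfl)
        · exact hc
      · simp only [NotConj, not_forall, not_not] at hc
        obtain ⟨c, hc⟩ := hc
        exact Or.inr (tilde_subset_of_conj hG hL hc hg)
  · rw [Set.disjoint_left]
    rintro g ⟨N, hN, hne, hg⟩ hg'
    exact Set.eq_empty_iff_forall_notMem.1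
      ((Cfsg.Agent.S1379.result hG).1 L N hL hN (hne L (Or.inr (Or.inr rfl)))) g ⟨hg', hg⟩

open Classical in
theorem rest_bound (hpd : PairData S T W₁ W₂ U V) {χ : (↥(W₁ ⊔ W₂) →* ℂˣ) → (G → ℂ)}
    (hχ : Cfsg.IsCyclicTIFamily W₁ W₂ χ) {E : Set (Subgroup G)} (hS : S ∈ E) (hT : T ∈ E)
    (a : (↥(W₁ ⊔ W₂) →* ℂˣ) → ℤ) (ha1 : Odd (a 1)) (hsym : ∀ ω, a ω⁻¹ = a ω) {Ψ : G → ℂ}
    (heq : ∀ g ∈ restSet E, Ψ g = ∑ᶠ ω, (a ω : ℂ) * χ ω g) :
    ((restSet E).ncard : ℝ) ≤ ∑ᶠ g ∈ restSet E, ‖Ψ g‖ ^ 2 := by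
  obtain ⟨R, -, hR⟩ := exists_maxReps (∅ : Finset (Subgroup G)) (by simp) (by simp)
  rw [finsum_mem_congr (f := fun g => ‖Ψ g‖ ^ 2)
    (g := fun g => ‖∑ᶠ ω, (a ω : ℂ) * χ ω g‖ ^ 2) rfl fun g hg => by rw [heq g hg]]
  clear heq Ψ
  set Ψ : G → ℂ := fun g => ∑ᶠ ω, (a ω : ℂ) * χ ω g with hΨdef
  have heq : ∀ g ∈ restSet E, Ψ g = ∑ᶠ ω, (a ω : ℂ) * χ ω g := fun g _ => rfl
  have hΨ : Cfsg.IsClassFunction G Ψ := fun g y => finsum_congr fun ω => by
    rcases hχ.irr_or_neg ω with h | h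
    · rw [CfsgLib.Char.IsIrrCharacter.isClassFunction h g y]
    · have := CfsgLib.Char.IsIrrCharacter.isClassFunction h g y
      simp only [Pi.neg_apply, neg_inj] at this
      rw [this]
  have hc : ((restSet E).ncard : ℝ) = ∑ᶠ g ∈ restSet E, (1 : ℝ) := by
    rw [finsum_mem_eq_toFinset_sum, Finset.sum_const, nsmul_one, Set.ncard_eq_toFinset_card']
  rw [hc, sum_restSet hG hR E, sum_restSet hG hR E]
  refine Finset.sum_le_sum fun N hN => ?_
  rw [Finset.mem_filter] at hN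
  have hNc := hR.coatom N hN.1
  have hgt : ∀ g ∈ Cfsg.tildeOf N (coreSet N), g ∈ restSet E := fun g hg => ⟨N, hNc, hN.2, hg⟩
  letI := Fintype.ofFinite N
  have hD := dade_core hG hNc
  have hW := hpd.typeS.selfNormalizing
  obtain ⟨hWS, hWT⟩ := pair_le_core hG hpd
  obtain ⟨-, hWc⟩ := card_reg hW
  -- the values on one coset
  have key : ∀ x ∈ coreSet N,
      (Nat.card (Cfsg.supportR N x) : ℝ) ≤ ∑ u : Cfsg.supportR N x, ‖Ψ (x * u)‖ ^ 2 := by
    intro x hx
    have hcomm : ∀ r ∈ Cfsg.supportR N x, x * r = r * x := fun r hr =>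
      (mem_centralizer_singleton_iff.1 (hD.le_centralizer x hx hr)).symm
    have hxN : x ∈ N := hD.subset hx
    have hco : (orderOf x).Coprime (Nat.card (Cfsg.supportR N x)) :=
      ((hD.coprime x hx x hx).coprime_dvd_right (orderOf_dvd_card_of_mem
        (show x ∈ N ⊓ centralizer ({x} : Set G) from
          ⟨hxN, mem_centralizer_singleton_iff.2 rfl⟩))).symm
    have hcoW : (orderOf x).Coprime (Nat.card ↥(W₁ ⊔ W₂)) := by
      rw [hWc]
      refine Nat.coprime_of_dvd fun r hr hrx hrW => ?_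
      have hrN : r ∈ Cfsg.sigma N :=
        sigma_of_dvd_sigmaCore hr (hrx.trans (orderOf_dvd_card_of_mem hx.1))
      have hclash : ∀ A : Subgroup G, IsCoatom A → A ∈ E → r ∣ Nat.card (Cfsg.sigmaCore A) →
          False := fun A hA hAE h => by
        obtain ⟨g, hg⟩ := (Cfsg.Agent.S1378.result hG).2 A N hA hNc
          ⟨r, sigma_of_dvd_sigmaCore hr h, hrN⟩
        exact hN.2 A hAE g hg
      rcases hr.dvd_mul.1 hrW with h | h
      · exact hclash T hpd.maxT hT (h.trans (card_dvd_of_le hWS))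
      · exact hclash S hpd.maxS hS (h.trans (card_dvd_of_le hWT))
    have hωc : ∀ ω : ↥(W₁ ⊔ W₂) →* ℂˣ, (orderOf x).Coprime (orderOf ω) := fun ω =>
      hcoW.coprime_dvd_right (orderOf_dvd_of_pow_eq_one (MonoidHom.ext fun w => by
        rw [MonoidHom.pow_apply, ← map_pow, pow_card_eq_one', map_one, MonoidHom.one_apply]))
    choose n hn using fun ω => avg_int hW hG.1 hχ ω (Cfsg.supportR N x) hcomm hco (hωc ω)
    have hn1 : n 1 = 1 := by
      have h := hn 1
      rw [hχ.map_one, finsum_mem_eq_toFinset_sum, Finset.sum_const, nsmul_one,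
        ← Set.ncard_eq_toFinset_card', ← Nat.card_coe_set_eq, SetLike.coe_sort_coe,
        inv_mul_cancel₀ (Nat.cast_ne_zero.2 Nat.card_pos.ne')] at h
      exact_mod_cast h.symm
    have hninv : ∀ ω, n ω⁻¹ = n ω := fun ω => by
      have h := hn ω⁻¹
      rw [apply_inv hW hG.1 hχ] at h
      have h' : (Nat.card (Cfsg.supportR N x) : ℂ)⁻¹ *
          ∑ᶠ r ∈ (Cfsg.supportR N x : Set G), Cfsg.conjFun (χ ω) (x * r) =
          (starRingEnd ℂ) ((n ω : ℂ)) := by
        rw [← hn ω, map_mul, map_inv₀, map_natCast, finsum_mem_eq_toFinset_sum,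
          finsum_mem_eq_toFinset_sum, map_sum]
        rfl
      rw [map_intCast, h] at h'
      exact_mod_cast h'
    haveI : Finite (↥(W₁ ⊔ W₂) →* ℂˣ) := CfsgLib.OddChar.finite_linearChar _
    letI := Fintype.ofFinite (↥(W₁ ⊔ W₂) →* ℂˣ)
    have hodd : Odd (∑ ω, a ω * n ω) := by
      rw [← Int.not_even_iff_odd, ← ZMod.intCast_eq_zero_iff_even]
      push_cast
      have hrest : ∑ ω ∈ Finset.univ.erase (1 : ↥(W₁ ⊔ W₂) →* ℂˣ),
          ((a ω : ZMod 2) * (n ω : ZMod 2)) = 0 := by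
        refine Finset.sum_involution (fun ω _ => ω⁻¹) (fun ω _ => ?_) (fun ω hω _ => ?_)
          (fun ω hω => ?_) fun ω _ => inv_inv ω
        · rw [hsym, hninv]
          exact CharTwo.add_self_eq_zero _
        · intro e
          have h2 : ω ^ 2 = 1 := by rw [sq]; nth_rewrite 1 [← e]; exact inv_mul_cancel ω
          have hd := orderOf_dvd_of_pow_eq_one h2
          have hd' : orderOf ω ∣ Nat.card ↥(W₁ ⊔ W₂) :=
            orderOf_dvd_of_pow_eq_one (MonoidHom.ext fun w => by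
              rw [MonoidHom.pow_apply, ← map_pow, pow_card_eq_one', map_one, MonoidHom.one_apply])
          have ho : Odd (Nat.card ↥(W₁ ⊔ W₂)) :=
            hG.1.of_dvd_nat (card_subgroup_dvd_card _)
          have := Nat.eq_one_of_dvd_coprimes (Nat.coprime_two_left.2 ho) hd hd'
          exact (Finset.mem_erase.1 hω).1 (orderOf_eq_one_iff.1 this)
        · exact Finset.mem_erase.2 ⟨fun e => (Finset.mem_erase.1 hω).1 (MonoidHom.ext fun w => by
            have := DFunLike.congr_fun e w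
            rw [MonoidHom.inv_apply, MonoidHom.one_apply, inv_eq_one] at this
            rw [this, MonoidHom.one_apply]),
            Finset.mem_univ _⟩
      rw [← Finset.add_sum_erase _ _ (Finset.mem_univ (1 : ↥(W₁ ⊔ W₂) →* ℂˣ)), hrest, add_zero, hn1]
      obtain ⟨k, hk⟩ := ha1
      rw [hk]
      push_cast
      simp [show (2 : ZMod 2) = 0 from rfl]
    set m : ℤ := ∑ ω, a ω * n ω with hm
    have hsum : ∑ u : Cfsg.supportR N x, Ψ (x * u) = (Nat.card (Cfsg.supportR N x) : ℂ) * m := by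
      have h0 : ∀ u : Cfsg.supportR N x, Ψ (x * u) = ∑ ω, (a ω : ℂ) * χ ω (x * u) := fun u => by
        rw [heq _ (hgt _ ⟨x, hx, u, u.2, 1, by group⟩), finsum_eq_sum_of_fintype]
      simp only [h0]
      rw [Finset.sum_comm, hm, Int.cast_sum, Finset.mul_sum]
      refine Finset.sum_congr rfl fun ω _ => ?_
      rw [← Finset.mul_sum, Int.cast_mul, ← hn ω, ← finsum_set_coe_eq_finsum_mem,
        finsum_eq_sum_of_fintype]
      have h0 : (Nat.card (Cfsg.supportR N x) : ℂ) ≠ 0 := Nat.cast_ne_zero.2 Nat.card_pos.ne'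
      field_simp
      rfl
    have hm1 : (1 : ℝ) ≤ ‖(m : ℂ)‖ := by
      rw [Complex.norm_intCast]
      exact_mod_cast Int.one_le_abs fun e => by rw [e] at hodd; simp at hodd
    have hle : (Nat.card (Cfsg.supportR N x) : ℝ) ≤ ∑ u : Cfsg.supportR N x, ‖Ψ (x * u)‖ := by
      refine le_trans ?_ (norm_sum_le _ _)
      rw [hsum, norm_mul, Complex.norm_natCast]
      exact le_mul_of_one_le_right (Nat.cast_nonneg _) hm1
    have h3 := sq_sum_le_card_mul_sum_sq (s := Finset.univ)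
      (f := fun u : Cfsg.supportR N x => ‖Ψ (x * u)‖)
    rw [Finset.card_univ, ← Nat.card_eq_fintype_card] at h3
    have hpos : (0 : ℝ) < Nat.card (Cfsg.supportR N x) := Nat.cast_pos.2 Nat.card_pos
    nlinarith [mul_le_mul hle hle hpos.le (le_trans hpos.le hle)]
  -- summation over the tile
  have hset : Cfsg.tildeOf N (coreSet N) =
      CfsgLib.OddChar.dadeSupport (coreSet N) (Cfsg.supportR N) := tildeOf_eq_dadeSupport _ _
  have hsum : ∀ F : G → ℝ, ∑ᶠ g ∈ Cfsg.tildeOf N (coreSet N), F g =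
      ∑ g ∈ Finset.univ.filter (fun g => g ∈ CfsgLib.OddChar.dadeSupport (coreSet N)
        (Cfsg.supportR N)), F g := fun F => by
    rw [← finsum_mem_finset_eq_sum, hset]
    simp
  have hG0 : (0 : ℝ) < (Nat.card G : ℝ)⁻¹ := by have := Nat.card_pos (α := G); positivity
  refine le_of_mul_le_mul_left ?_ hG0
  rw [hsum, hsum, CfsgLib.OddChar.dade_sum_classFun hD (fun _ => (1 : ℝ)) fun _ _ => rfl,
    CfsgLib.OddChar.dade_sum_classFun hD (fun g => ‖Ψ g‖ ^ 2) fun g y => by rw [hΨ g y]]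
  refine mul_le_mul_of_nonneg_left (Finset.sum_le_sum fun x _ => ?_) (by positivity)
  split_ifs with hx
  · refine mul_le_mul_of_nonneg_left ?_ (by positivity)
    rw [Finset.sum_const, Finset.card_univ, nsmul_one, ← Nat.card_eq_fintype_card]
    exact key _ hx
  · exact le_rfl

/-- The core of `M ∈ E` and the rest share the norm of `Ψ`. -/
theorem budget {M : Subgroup G} [Fintype M] (hM : IsCoatom M) {E : Set (Subgroup G)} (hME : M ∈ E)
    {Ψ : G → ℂ} (hΨ : Cfsg.IsClassFunction G Ψ) :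
    (Nat.card M : ℝ)⁻¹ * ∑ᶠ a ∈ {a : M | (a : G) ∈ coreSet M}, ‖rho M Ψ a‖ ^ 2 +
      (Nat.card G : ℝ)⁻¹ * ∑ᶠ g ∈ restSet E, ‖Ψ g‖ ^ 2 ≤ (Cfsg.classInner Ψ Ψ).re := by
  classical
  refine le_trans (add_le_add_left (Cfsg.Agent.S1525.result (coreSet M) M (Cfsg.supportR M)
    (dade_core hG hM) Ψ hΨ (fun a => rho M Ψ a) fun a _ => rfl) _) ?_
  have hset : {g : G | ∃ a ∈ coreSet M, ∃ u ∈ Cfsg.supportR M a, ∃ x : G, x * g * x⁻¹ = a * u} =
      Cfsg.tildeOf M (coreSet M) := (tildeOf_eq_dadeSupport M (coreSet M)).symm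
  rw [hset, ← mul_add]
  have hd : Disjoint (Cfsg.tildeOf M (coreSet M)) (restSet E) := by
    rw [Set.disjoint_left]
    rintro g hg ⟨N, hN, hne, hg'⟩
    exact Set.eq_empty_iff_forall_notMem.1 ((Cfsg.Agent.S1379.result hG).1 M N hM hN (hne M hME)) g
      ⟨hg, hg'⟩
  rw [← finsum_mem_union hd (Set.toFinite _) (Set.toFinite _)]
  have hinner : (Cfsg.classInner Ψ Ψ).re = (Nat.card G : ℝ)⁻¹ * ∑ g, ‖Ψ g‖ ^ 2 := by
    rw [Cfsg.classInner, show ∑ g, Ψ g * (starRingEnd ℂ) (Ψ g) = ((∑ g, ‖Ψ g‖ ^ 2 : ℝ) : ℂ) by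
      push_cast
      exact Finset.sum_congr rfl fun g _ => Complex.mul_conj' _]
    rw [← Complex.ofReal_natCast, ← Complex.ofReal_inv, ← Complex.ofReal_mul, Complex.ofReal_re]
  rw [hinner, finsum_mem_eq_toFinset_sum]
  exact mul_le_mul_of_nonneg_left (Finset.sum_le_univ_sum_of_nonneg fun g => sq_nonneg _)
    (by positivity)

end CfsgLib.FT
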