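import Cfsg.Agent.Lib.FT.LTwoBase
import Cfsg.Agent.Lib.FT.Weights
import Cfsg.Agent.Lib.FT.SideFacts

/-!
FT module LTwoRoom: all grid coefficients of `β` odd forces too much norm outside `S`, `T`, `L`.
-/

set_option autoImplicit false
set_option linter.style.haveILetI false
set_option linter.unusedVariables false

namespace CfsgLib.FT

open Subgroup

universe u

variable {G : Type u} [Group G]

/-- The core of a full side of type II weighs at most `1 / (u q)`. -/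
theorem coreWeight_side_le [Finite G] {M W U W' : Subgroup G}
    (h : Cfsg.IsTypePWith M W U W') (hσ : Cfsg.sigmaCore M = Cfsg.fittingHallOf M) :
    coreWeight M ≤ ((Nat.card U : ℝ) * Nat.card W)⁻¹ := by
  have hmul : ∀ {A B C : Subgroup G}, Cfsg.IsComplIn A B C →
      Nat.card C = Nat.card A * Nat.card B := fun {A B C} hc => by
    have h1 := OddOrder.card_eq_relIndex_of_isComplIn hc
    have h2 := relIndex_mul_relIndex ⊥ B C bot_le hc.2.1
    rw [relIndex_bot_left, relIndex_bot_left, ← h1] at h2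
    rw [← h2, mul_comm]
  rw [coreWeight, hmul h.W₁_compl, hmul h.U_compl, hσ, Nat.cast_mul, Nat.cast_mul]
  have h1 : (1 : ℝ) ≤ Nat.card (Cfsg.fittingHallOf M) := by exact_mod_cast Nat.card_pos
  have h2 : (0 : ℝ) < Nat.card U := by exact_mod_cast Nat.card_pos
  have h3 : (0 : ℝ) < Nat.card W := by exact_mod_cast Nat.card_pos
  rw [div_le_iff₀ (by positivity)]
  calc (Nat.card (Cfsg.fittingHallOf M) : ℝ) - 1 ≤ Nat.card (Cfsg.fittingHallOf M) := by linarith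
    _ = _ := by field_simp

/-- The numbers leave no room. -/
theorem room_arith {p q u v k G₀ rest wS wT wL : ℝ} (hq : 3 ≤ q) (hqp : q + 2 ≤ p)
    (hu : p ^ 2 + p + 1 ≤ u) (hv : 3 ≤ v) (hk : (2 * (p * q) + 1) * u ≤ k) (hG₀ : u ≤ G₀)
    (hrest : rest * k ≤ p * q + 2) (hwS : wS ≤ (u * q)⁻¹) (hwT : wT ≤ (v * p)⁻¹)
    (hwL : wL ≤ (q * p)⁻¹)
    (heq : rest + G₀⁻¹ + wL = q⁻¹ + p⁻¹ - (q * p)⁻¹ - wS - wT) : False := by
  have hq0 : 0 < q := by linarith
  have hp0 : 0 < p := by linarith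
  have hu6 : 6 * q ≤ u := by nlinarith
  have hu0 : 0 < u := by linarith
  have hi : u⁻¹ ≤ (6 * q)⁻¹ := inv_anti₀ (by positivity) hu6
  have hG : G₀⁻¹ ≤ u⁻¹ := inv_anti₀ hu0 hG₀
  have hS : (u * q)⁻¹ ≤ u⁻¹ := inv_anti₀ hu0 (by nlinarith)
  have hT : (v * p)⁻¹ ≤ (3 * q)⁻¹ := inv_anti₀ (by positivity) (by nlinarith)
  have hr : rest ≤ u⁻¹ := by
    have hk0 : 0 < k := lt_of_lt_of_le (by positivity) hk
    by_contra h
    push Not at h
    have h1 : u⁻¹ * k < rest * k := mul_lt_mul_of_pos_right h hk0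
    have h2 : (2 * (p * q) + 1) ≤ u⁻¹ * k := by
      rw [inv_mul_eq_div, le_div_iff₀ hu0]
      linarith
    nlinarith
  have hlow : q⁻¹ ≤ q⁻¹ + p⁻¹ - (q * p)⁻¹ - (q * p)⁻¹ := by
    have h1 : 2 * (q * p)⁻¹ ≤ p⁻¹ := by
      rw [mul_inv, ← mul_assoc]
      refine mul_le_of_le_one_left (inv_nonneg.2 hp0.le) ?_
      rw [mul_inv_le_iff₀ hq0]
      linarith
    linarith
  have e6 : (6 * q)⁻¹ = 6⁻¹ * q⁻¹ := mul_inv _ _
  have e3 : (3 * q)⁻¹ = 3⁻¹ * q⁻¹ := mul_inv _ _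
  have hq' : 0 < q⁻¹ := inv_pos.2 hq0
  linarith

variable [Fintype G] (hG : Cfsg.IsMinSimpleOddOrder G)
  {S T W₁ W₂ U V L : Subgroup G} [Fintype L]
include hG

set_option maxHeartbeats 1000000 in
theorem no_room (hpd : PairData S T W₁ W₂ U V) (hII : Cfsg.IsOfTypeII T)
    (hS : Side S W₁ U W₂) (hT : Side T W₂ V W₁)
    (hS' : SideFull S W₁ U W₂) (hT' : SideFull T W₂ V W₁)
    (hS0 : fixCore S U = ⊥) (hT0 : fixCore T V = ⊥) (hlt : Nat.card W₁ < Nat.card W₂)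
    (hL : LData S T W₁ W₂ U L) (hne : Cfsg.sigmaCore L ≠ U)
    (he : (Cfsg.sigmaCore L).relIndex L = Nat.card W₁ * Nat.card W₂)
    {χ : (↥(W₁ ⊔ W₂) →* ℂˣ) → (G → ℂ)} (hχ : Cfsg.IsCyclicTIFamily W₁ W₂ χ)
    {ψ : G → ℂ} {ζ : ↥L → ℂ} {b : ℤ} (hp : IsProbe L ψ ζ b)
    {a : (↥(W₁ ⊔ W₂) →* ℂˣ) → ℤ}
    (ha : ∀ ω, Cfsg.classInner (probeBeta L ζ) (χ ω) = a ω) (hodd : ∀ ω, Odd (a ω)) : False := by
  classical
  obtain ⟨hne1, hne2, hdisj, hcomm, hcyc, -⟩ := id hpd.typeS.selfNormalizing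
  haveI := hcyc
  haveI : Finite (↥(W₁ ⊔ W₂) →* ℂˣ) := OddChar.finite_linearChar _
  letI := Fintype.ofFinite (↥(W₁ ⊔ W₂) →* ℂˣ)
  obtain ⟨horth, a', ha', ha1', hsym', -, hle, hexact⟩ := exists_grid hG hpd hχ hL.isF hL.frob hp
  obtain rfl : a' = a := funext fun ω => by
    exact_mod_cast ((ha' ω).symm.trans (ha ω))
  set q := Nat.card W₁ with hq
  set p := Nat.card W₂ with hpn
  set u := Nat.card U with hu
  set k := Nat.card (Cfsg.sigmaCore L) with hk
  set e := (Cfsg.sigmaCore L).relIndex L with hee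
  obtain ⟨hreg, hWc⟩ := card_reg hpd.typeS.selfNormalizing
  have hdual : Fintype.card (↥(W₁ ⊔ W₂) →* ℂˣ) = e := by
    rw [← Nat.card_eq_fintype_card, OddChar.card_dual, hWc, he, mul_comm]
  rw [finsum_eq_sum_of_fintype] at hle hexact
  have hge : (e : ℤ) ≤ ∑ ω, a' ω ^ 2 := by
    refine le_trans (le_of_eq ?_) (Finset.card_nsmul_le_sum _ _ 1 fun ω _ => ?_)
    · rw [nsmul_one, Finset.card_univ, hdual]
    · obtain ⟨m, hm⟩ := hodd ω
      exact PairPins.one_le_sq (show a' ω ≠ 0 by omega)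
  have hb0 : (1 : ℤ) ≤ (b - 1) ^ 2 + b ^ 2 := by nlinarith [Int.le_self_sq b]
  have hb01 : b = 0 ∨ b = 1 := by
    have h1 : (b - 1) ^ 2 + b ^ 2 ≤ 1 := by omega
    have h2 : -1 ≤ b := by nlinarith
    have h3 : b ≤ 1 := by nlinarith
    interval_cases b <;> simp_all
  have hval := hexact (by omega)
  set E : Set (Subgroup G) := {S, T, L}
  have hLE : L ∈ E := Or.inr (Or.inr rfl)
  obtain ⟨-, -, -, -, -, -, hβ0⟩ := beta_facts hG hL.isF hL.frob hp
  have hrest0 : ∀ g ∈ restSet E, probeBeta L ζ g = 0 ∧ (ψ - Cfsg.conjFun ψ) g = 0 := by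
    rintro g ⟨N, hN, hnc, hg⟩
    exact hβ0 g (Set.disjoint_right.1 (core_cosets_disjoint hG hL.isF.coatom hN (hnc L hLE)) hg)
  have hψc := signed_classFun hG hp.signed
  have hψn : Cfsg.classInner ψ ψ = 1 := OddChar.CyclicUnique.Signed.inner_self hp.signed
  have hcount : ((restSet E).ncard : ℝ) ≤ ∑ᶠ g ∈ restSet E, ‖ψ g‖ ^ 2 := by
    rcases hb01 with rfl | rfl
    · refine rest_bound hG hpd hχ (Or.inl rfl) (Or.inr (Or.inl rfl)) a' (hodd 1) hsym'
        fun g hg => ?_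
      have h := hval g
      rw [(hrest0 g hg).1, finsum_eq_sum_of_fintype] at h
      rw [finsum_eq_sum_of_fintype]
      push_cast at h
      linear_combination h
    · refine rest_bound hG hpd hχ (Or.inl rfl) (Or.inr (Or.inl rfl)) (fun ω => -a' ω)
        (hodd 1).neg (fun ω => by simp only [hsym']) fun g hg => ?_
      have h := hval g
      have h2 := (hrest0 g hg).2
      rw [(hrest0 g hg).1, finsum_eq_sum_of_fintype] at h
      simp only [Pi.sub_apply] at h2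
      rw [finsum_eq_sum_of_fintype]
      push_cast at h ⊢
      simp only [neg_mul, Finset.sum_neg_distrib]
      linear_combination h2 - h
  have hbud := budget hG hL.isF.coatom hLE hψc
  rw [hψn, Complex.one_re] at hbud
  have hnp := norm_probe hG hL.isF hL.frob hp.mem hp.degree b
  have hsum : ∑ᶠ x ∈ {x : L | (x : G) ∈ coreSet L}, ‖rho L ψ x‖ ^ 2 =
      (Nat.card L : ℝ) - (e : ℝ) ^ 2 - 2 * b * (e : ℝ) + (b : ℝ) ^ 2 * ((k : ℝ) - 1) := by
    rw [hee, hk, ← hnp]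
    exact finsum_mem_congr rfl fun x hx => by rw [hp.rho_eq x hx]
  rw [hsum] at hbud
  have hLcard : (Nat.card L : ℝ) = (k : ℝ) * e := by
    have h := (coreIn L).card_mul_index
    rw [card_coreIn] at h
    rw [← h, Nat.cast_mul]
    rfl
  have hq3 : 3 ≤ q := by
    have h2 := hS.q_prime.two_le
    obtain ⟨m, hm⟩ := hG.1.of_dvd_nat W₁.card_subgroup_dvd_card
    omega
  have hqp : q + 2 ≤ p := by
    obtain ⟨m, hm⟩ := hG.1.of_dvd_nat W₁.card_subgroup_dvd_card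
    obtain ⟨m', hm'⟩ := hG.1.of_dvd_nat W₂.card_subgroup_dvd_card
    omega
  have heR : (e : ℝ) = (q : ℝ) * p := by rw [he, Nat.cast_mul]
  have hk1 : (1 : ℝ) ≤ k := by exact_mod_cast Nat.card_pos (α := Cfsg.sigmaCore L)
  have he0 : (0 : ℝ) < e := by
    rw [heR]
    have : (0 : ℝ) < (q : ℝ) := by exact_mod_cast (show 0 < q by omega)
    have : (0 : ℝ) < (p : ℝ) := by exact_mod_cast (show 0 < p by omega)
    positivity
  set N : ℝ := (Nat.card G : ℝ) with hN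
  have hN0 : (0 : ℝ) < N := Nat.cast_pos.2 Nat.card_pos
  set r : ℝ := ((restSet E).ncard : ℝ) with hr
  have hrk : r / N * k ≤ (p : ℝ) * q + 2 := by
    have hsumnn : r / N ≤ N⁻¹ * ∑ᶠ g ∈ restSet E, ‖ψ g‖ ^ 2 := by
      rw [div_eq_inv_mul]
      exact mul_le_mul_of_nonneg_left hcount (inv_nonneg.2 hN0.le)
    have hpos : (0 : ℝ) < (k : ℝ) * e := by positivity
    have h1 : r / N ≤ 1 - ((k : ℝ) * e)⁻¹ *
        ((k : ℝ) * e - (e : ℝ) ^ 2 - 2 * b * (e : ℝ) + (b : ℝ) ^ 2 * ((k : ℝ) - 1)) := by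
      rw [hLcard] at hbud
      linarith
    have h2 := mul_le_mul_of_nonneg_right h1 hpos.le
    rw [sub_mul, one_mul, mul_comm (((k : ℝ) * e)⁻¹), inv_mul_cancel_right₀ hpos.ne'] at h2
    have hb' : (b : ℝ) = 0 ∨ (b : ℝ) = 1 := by
      rcases hb01 with rfl | rfl
      · exact Or.inl Int.cast_zero
      · exact Or.inr Int.cast_one
    have h3 : r / N * k * e ≤ ((p : ℝ) * q + 2) * e := by
      rcases hb' with h | h <;> rw [h] at h2 <;> nlinarith [heR]
    exact le_of_mul_le_mul_right h3 he0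
  have hku := hL.proper hne
  have h3v : 3 ≤ Nat.card V := by
    have := (one_lt_card_iff_ne_bot V).2 hT.U_ne
    obtain ⟨m, hm⟩ := hG.1.of_dvd_nat V.card_subgroup_dvd_card
    omega
  have hu2 : p ^ 2 + p + 1 ≤ u := by
    have h := hS'.card
    obtain ⟨t, ht⟩ : ∃ t, p = t + 1 := ⟨p - 1, by omega⟩
    rw [← hu, ← hpn, ← hq, ht, Nat.add_sub_cancel] at h
    have h3 : (t + 1) ^ 3 ≤ (t + 1) ^ q := Nat.pow_le_pow_right (by omega) hq3
    rw [ht]
    refine Nat.le_of_mul_le_mul_right ?_ (show 0 < t by omega)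
    have : ((t + 1) ^ 2 + (t + 1) + 1) * t + 1 = (t + 1) ^ 3 := by ring
    omega
  have hwS := coreWeight_side_le hpd.typeS (pair_basics hG hpd).2.2.2.2.1
  have hwT := coreWeight_side_le hpd.typeT (pair_basics hG (pair_swap hG hpd hII)).2.2.2.2.1
  have hwL : coreWeight L ≤ ((q : ℝ) * p)⁻¹ := by
    rw [coreWeight, ← hk, hLcard, ← heR, div_le_iff₀ (by positivity)]
    rw [mul_comm (k : ℝ), ← mul_assoc, inv_mul_cancel₀ he0.ne', one_mul]
    linarith
  have hc3 := rest_card_three hG hpd hL.isF.coatom hL.notConjS hL.notConjT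
  have hc2 := rest_card hG hpd
  have heq : r / N + N⁻¹ + coreWeight L =
      (q : ℝ)⁻¹ + (p : ℝ)⁻¹ - ((q : ℝ) * p)⁻¹ - coreWeight S - coreWeight T := by
    refine mul_left_cancel₀ hN0.ne' ?_
    rw [mul_add, mul_add, mul_div_cancel₀ _ hN0.ne', mul_inv_cancel₀ hN0.ne', hr, hN]
    rw [← hc3] at hc2
    linear_combination hc2
  have huG : (u : ℝ) ≤ N := by
    rw [hu, hN]
    exact Nat.cast_le.2 (Nat.le_of_dvd Nat.card_pos U.card_subgroup_dvd_card)
  refine room_arith (v := (Nat.card V : ℝ)) (by exact_mod_cast hq3) (by exact_mod_cast hqp)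
    (by exact_mod_cast hu2) (by exact_mod_cast h3v) ?_ huG hrk hwS hwT hwL heq
  rw [← hee, he, mul_comm q p] at hku
  exact_mod_cast hku

end CfsgLib.FT
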