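import Cfsg.Agent.Lib.FT.Parity
import Mathlib.Data.ZMod.Basic
import Mathlib.Algebra.CharP.Two

/-!
PROJECT FT: the inner product of two real virtual characters of a group of odd order is congruent
modulo `2` to the product of their principal coefficients.
-/

set_option autoImplicit false

open ComplexConjugate

namespace CfsgLib.FT

open CfsgLib.Char

variable {G : Type*} [Group G] [Fintype G]

/-- A real class function has the same coefficient at `χ` and at `conj χ`, up to conjugation. -/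
theorem classInner_conjFun_of_real {X : G → ℂ} (hX : Cfsg.conjFun X = X) (χ : G → ℂ) :
    Cfsg.classInner X (Cfsg.conjFun χ) = conj (Cfsg.classInner X χ) := by
  conv_lhs => rw [← hX]
  exact classInner_conjFun_conjFun X χ

/-- Parity: for real virtual characters `X`, `Y` of a group of odd order, `⟨X, Y⟩` differs from
`⟨X, 1⟩ ⟨Y, 1⟩` by an even integer. -/
theorem real_inner_parity (hodd : Odd (Nat.card G)) {X Y : G → ℂ}
    (hX : Cfsg.IsGeneralizedCharacter G X) (hY : Cfsg.IsGeneralizedCharacter G Y)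
    (hXr : Cfsg.conjFun X = X) (hYr : Cfsg.conjFun Y = Y) :
    ∃ n : ℤ, Cfsg.classInner X Y =
      Cfsg.classInner X (fun _ => 1) * Cfsg.classInner Y (fun _ => 1) + 2 * (n : ℂ) := by
  classical
  obtain ⟨z, hXe, hz, -⟩ := OddChar.exists_int_coeff hX
  obtain ⟨w, hYe, hw, -⟩ := OddChar.exists_int_coeff hY
  let one : Cfsg.IrrCharacter G := ⟨fun _ => 1, Char.isIrrCharacter_principal⟩
  let σ : Cfsg.IrrCharacter G → Cfsg.IrrCharacter G :=
    fun χ => ⟨Cfsg.conjFun χ.1, OddChar.isIrrCharacter_conjFun χ.2⟩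
  have hσ : ∀ χ, σ (σ χ) = χ := fun χ => Subtype.ext (OddChar.conjFun_conjFun χ.1)
  have hreal : ∀ {V : G → ℂ} (v : Cfsg.IrrCharacter G → ℤ), Cfsg.conjFun V = V →
      (∀ χ : Cfsg.IrrCharacter G, Cfsg.classInner V χ = v χ) → ∀ χ, v (σ χ) = v χ := by
    intro V v hV hv χ
    have h := classInner_conjFun_of_real hV (χ : G → ℂ)
    rw [hv χ, hv (σ χ) |> fun e => (show Cfsg.classInner V (Cfsg.conjFun χ.1) = _ from e)] at h
    simpa using h
  have e : Cfsg.classInner X Y = ((∑ χ, z χ * w χ : ℤ) : ℂ) := by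
    conv_lhs => rw [hXe]
    rw [Char.classInner_sum_left, Int.cast_sum]
    refine Finset.sum_congr rfl fun χ _ => ?_
    rw [Char.classInner_smul_left, ← Char.classInner_conj_symm, hw χ]
    simp
  have hev : (2 : ℤ) ∣ ∑ χ ∈ Finset.univ.erase one, z χ * w χ := by
    refine (ZMod.intCast_zmod_eq_zero_iff_dvd _ 2).1 ?_
    push_cast
    refine Finset.sum_involution (fun χ _ => σ χ) (fun χ _ => ?_) (fun χ hχ _ h => ?_)
      (fun χ hχ => ?_) (fun χ _ => hσ χ)
    · rw [hreal z hXr hz χ, hreal w hYr hw χ]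
      exact CharTwo.add_self_eq_zero _
    · exact conjFun_ne_self hodd χ.2 (fun e' => (Finset.mem_erase.1 hχ).1 (Subtype.ext e'))
        (congrArg Subtype.val h)
    · refine Finset.mem_erase.2 ⟨fun h => (Finset.mem_erase.1 hχ).1 ?_, Finset.mem_univ _⟩
      rw [← hσ χ, h]
      exact Subtype.ext (funext fun g => by simp [σ, one, Cfsg.conjFun])
  obtain ⟨n, hn⟩ := hev
  refine ⟨n, ?_⟩
  rw [e, ← Finset.add_sum_erase _ _ (Finset.mem_univ one), hn,
    show Cfsg.classInner X (fun _ => 1) = (z one : ℂ) from hz one,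
    show Cfsg.classInner Y (fun _ => 1) = (w one : ℂ) from hw one]
  push_cast
  ring

end CfsgLib.FT
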