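import Cfsg.Agent.Lib.FT.LTwoBase
import Cfsg.Agent.Lib.FT.LTwoParity
import Cfsg.Agent.Lib.FT.LTwoRoom
import Cfsg.Agent.Lib.FT.LFacts
import Cfsg.Agent.Lib.FT.SideFacts
import Cfsg.Agent.Lib.FT.RealParity
import Cfsg.Agent.Lib.OddChar.CyclicExist

/-!
FT module LTwo: both of type II. `K = L_σ`, `k = |K|`, `e = [L : K]`, `β = τ(Ind 1 - ζ)` for the probe `ψ`,
`a` its coefficients on the grid. `K = U` is immediate, so let `(2e + 1) u ≤ k`.

* `side_rule`: an even coefficient on a character trivial on `W₁` gives `(k - 1) q ≤ e (u + 2q)`: false.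
  So all are odd, and the norm gives `e = p q`. An even coefficient on one trivial on `W₂` gives
  `(k - 1) p ≤ e (v + 2p)`, hence `v` is large; for `L'` over `N(V)`: if `L'` is conjugate to `L` then
  `L_σ` is a conjugate of `V`, cyclic, so `L` normalises `U`; otherwise `pair_rule` is contradicted.
* All coefficients odd: `no_room`.
-/

set_option autoImplicit false
set_option linter.style.haveILetI false

namespace CfsgLib.FT

open Subgroup CfsgLib.OddOrder

universe u

variable {G : Type u} [Group G]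

/-- The subgroups of a cyclic subgroup are normalised by its normaliser. -/
theorem le_normalizer_of_cyclic [Finite G] {K U : Subgroup G} (hK : IsCyclic K) (hU : U ≤ K) :
    normalizer (K : Set G) ≤ normalizer (U : Set G) := by
  classical
  haveI := hK
  letI := Fintype.ofFinite K
  have key : ∀ x ∈ K, x ^ Nat.card U = 1 → x ∈ U := by
    intro x hx hpow
    let A : Finset K := Finset.univ.filter fun y : K => (y : G) ∈ U
    let B : Finset K := Finset.univ.filter fun y : K => y ^ Nat.card U = 1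
    have hsub : A ⊆ B := fun y hy => Finset.mem_filter.2 ⟨Finset.mem_univ _, Subtype.ext (by
      have h := pow_card_eq_one' (x := (⟨(y : G), (Finset.mem_filter.1 hy).2⟩ : U))
      have h2 := congrArg (fun z : U => (z : G)) h
      simp only [Subgroup.coe_pow, Subgroup.coe_one] at h2 ⊢
      exact h2)⟩
    have hA : A.card = Nat.card U := by
      rw [← Fintype.card_subtype, ← Nat.card_eq_fintype_card]
      exact Nat.card_congr ⟨fun y => ⟨y.1, y.2⟩, fun y => ⟨⟨y, hU y.2⟩, y.2⟩,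
        fun _ => rfl, fun _ => rfl⟩
    have hB : B.card ≤ Nat.card U := IsCyclic.card_pow_eq_one_le Nat.card_pos
    have h := Finset.eq_of_subset_of_card_le hsub (hA ▸ hB)
    have hxB : (⟨x, hx⟩ : K) ∈ B :=
      Finset.mem_filter.2 ⟨Finset.mem_univ _, Subtype.ext (by simpa using hpow)⟩
    rw [← h] at hxB
    exact (Finset.mem_filter.1 hxB).2
  intro g hg
  have hmap : ∀ g' ∈ normalizer (K : Set G), ∀ x ∈ U, g' * x * g'⁻¹ ∈ U := fun g' hg' x hx => by
    refine key _ ((mem_normalizer_iff.1 hg' x).1 (hU hx)) ?_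
    rw [conj_pow]
    have h := congrArg Subtype.val (pow_card_eq_one' (x := (⟨x, hx⟩ : U)))
    simp only [Subgroup.coe_pow, Subgroup.coe_one] at h
    rw [h, mul_one, mul_inv_cancel]
  refine mem_normalizer_iff.2 fun x => ⟨hmap g hg x, fun h => ?_⟩
  have := hmap g⁻¹ (inv_mem hg) _ h
  simpa [mul_assoc] using this

section Rules

variable [Fintype G] (hG : Cfsg.IsMinSimpleOddOrder G) {S T W₁ W₂ U V L L' : Subgroup G}
  [Fintype L] [Fintype L']
include hG

omit [Fintype L'] in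
/-- An even coefficient on a character trivial on `W₁` bounds the core by the side. -/
theorem side_rule (hpd : PairData S T W₁ W₂ U V) (hS : Side S W₁ U W₂)
    (hS' : SideFull S W₁ U W₂) (hS0 : fixCore S U = ⊥)
    {χ : (↥(W₁ ⊔ W₂) →* ℂˣ) → (G → ℂ)} (hχ : Cfsg.IsCyclicTIFamily W₁ W₂ χ)
    (hL : IsFType L) (hfr : IsFrob L) (hns : NotConj S L) {ψ : G → ℂ} {ζ : ↥L → ℂ} {b : ℤ}
    (hp : IsProbe L ψ ζ b) {ω : ↥(W₁ ⊔ W₂) →* ℂˣ} (hω : ω ≠ 1) (hω1 : TrivialOn ω W₁) {n : ℤ}
    (hn : Cfsg.classInner (probeBeta L ζ) (χ ω) = n) (hev : Even n) :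
    ((Nat.card (Cfsg.sigmaCore L) : ℝ) - 1) * (Nat.card W₁ : ℝ) ≤
      ((Cfsg.sigmaCore L).relIndex L : ℝ) * ((Nat.card U : ℝ) + 2 * (Nat.card W₁ : ℝ)) := by
  obtain ⟨Φ, hΦg, hΦ1, hΦr, hΦn, hΦ0⟩ := exists_sideTest hG hpd hS hS' hS0 hχ hω hω1
  obtain ⟨hβg, -, hβ1, -, -, hβc, hβ0⟩ := beta_facts hG hL hfr hp
  obtain ⟨horth, -⟩ := exists_grid hG hpd hχ hL hfr hp
  have h0 := hΦ0 L hL.coatom hns
  set β := probeBeta L ζ
  have hψ1 : Cfsg.classInner ψ (fun _ => (1 : ℂ)) = 0 := by rw [← hχ.map_one]; exact (horth 1).1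
  have hω1' : Cfsg.classInner (χ ω) (fun _ => (1 : ℂ)) = 0 := by
    rw [← hχ.map_one, hχ.orthonormal, if_neg hω]
  have hone : Cfsg.classInner (fun _ : G => (1 : ℂ)) (fun _ => (1 : ℂ)) = 1 := by
    rw [← hχ.map_one, hχ.orthonormal, if_pos rfl]
  have hψg := PairPins.isGeneralized_of_signed hp.signed
  set Γ : G → ℂ := Φ + χ ω - fun _ => (1 : ℂ) with hΓ
  set X : G → ℂ := β + ψ with hX
  have hΓg : Cfsg.IsGeneralizedCharacter G Γ := Char.IsGeneralizedCharacter.sub
    (Char.IsGeneralizedCharacter.add hΦg (PairPins.isGeneralized_of_signed (hχ.irr_or_neg ω)))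
    (Char.IsIrrCharacter.isGeneralizedCharacter Char.isIrrCharacter_principal)
  have hΓr : Cfsg.conjFun Γ = Γ := by
    rw [hΓ, OddChar.conjFun_sub, hΦr]
    congr 1
    funext g
    simp [Cfsg.conjFun]
  have hXr : Cfsg.conjFun X = X := by
    funext g
    have h := congrFun hβc g
    simp only [hX, Cfsg.conjFun, Pi.add_apply, Pi.sub_apply, map_add] at h ⊢
    rw [h]
    ring
  obtain ⟨m, hm⟩ := real_inner_parity hG.1 hΓg (Char.IsGeneralizedCharacter.add hβg hψg) hΓr hXr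
  obtain ⟨z, hz⟩ := OddChar.Coh.exists_int_inner hΦg hψg
  have hΦβ : Cfsg.classInner Φ β = 0 := classInner_of_disjoint fun g => by
    by_cases hg : g ∈ Cfsg.tildeOf L (coreSet L)
    · exact Or.inl (h0 g hg)
    · exact Or.inr (hβ0 g hg).1
  have h1β : Cfsg.classInner (fun _ : G => (1 : ℂ)) β = 1 := by
    rw [← Char.classInner_conj_symm, hβ1, map_one]
  have h1ψ : Cfsg.classInner (fun _ : G => (1 : ℂ)) ψ = 0 := by
    rw [← Char.classInner_conj_symm, hψ1, map_zero]
  have hωβ : Cfsg.classInner (χ ω) β = n := by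
    rw [← Char.classInner_conj_symm, hn, map_intCast]
  have hωψ : Cfsg.classInner (χ ω) ψ = 0 := by
    rw [← Char.classInner_conj_symm, (horth ω).1, map_zero]
  rw [hΓ] at hm
  simp only [Char.classInner_sub_left, Char.classInner_add_left, Char.classInner_add_right,
    hΦβ, hz, hωβ, hωψ, h1β, h1ψ, hΦ1, hω1', hone, hψ1, hβ1] at hm
  have hz' : (n : ℂ) + (z : ℂ) - 1 = 2 * (m : ℂ) := by linear_combination hm
  have hz'' : n + z - 1 = 2 * m := by exact_mod_cast hz'
  have hzne : Cfsg.classInner Φ ψ ≠ 0 := by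
    rw [hz, Int.cast_ne_zero]
    obtain ⟨r, hr⟩ := hev
    omega
  have h := family_bound hG hL hfr hp hΦg h0 hzne
  calc _ ≤ ((Cfsg.sigmaCore L).relIndex L : ℝ) * (Cfsg.classInner Φ Φ).re * (Nat.card W₁ : ℝ) :=
        mul_le_mul_of_nonneg_right h (Nat.cast_nonneg _)
    _ ≤ _ := by rw [mul_assoc]; exact mul_le_mul_of_nonneg_left hΦn (Nat.cast_nonneg _)

/-- Two non-conjugate Frobenius subgroups of type F: one of the two families is short. -/
theorem pair_rule (hL : IsFType L) (hfr : IsFrob L) (hL' : IsFType L') (hfr' : IsFrob L')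
    (hnc : NotConj L L') {ψ ψ' : G → ℂ} {ζ : ↥L → ℂ} {ζ' : ↥L' → ℂ} {b b' : ℤ}
    (hp : IsProbe L ψ ζ b) (hp' : IsProbe L' ψ' ζ' b')
    (h1 : Cfsg.classInner ψ (fun _ => 1) = 0) (h1' : Cfsg.classInner ψ' (fun _ => 1) = 0) :
    ((Nat.card (Cfsg.sigmaCore L) : ℝ) - 1 ≤
        ((Cfsg.sigmaCore L).relIndex L : ℝ) * (((Cfsg.sigmaCore L').relIndex L' : ℝ) + 1)) ∨
      ((Nat.card (Cfsg.sigmaCore L') : ℝ) - 1 ≤
        ((Cfsg.sigmaCore L').relIndex L' : ℝ) * (((Cfsg.sigmaCore L).relIndex L : ℝ) + 1)) := by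
  obtain ⟨hβg, hβn, hβ1, -, -, hβc, hβ0⟩ := beta_facts hG hL hfr hp
  obtain ⟨hβg', hβn', hβ1', -, -, hβc', hβ0'⟩ := beta_facts hG hL' hfr' hp'
  set β := probeBeta L ζ
  set β' := probeBeta L' ζ'
  have hd := core_cosets_disjoint hG hL.coatom hL'.coatom hnc
  have hzero : ∀ g ∈ Cfsg.tildeOf L (coreSet L), β' g = 0 := fun g hg =>
    (hβ0' g (Set.disjoint_left.1 hd hg)).1
  have hzero' : ∀ g ∈ Cfsg.tildeOf L' (coreSet L'), β g = 0 := fun g hg =>
    (hβ0 g (Set.disjoint_right.1 hd hg)).1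
  have hdis : ∀ {f f' : G → ℂ}, (∀ g ∉ Cfsg.tildeOf L (coreSet L), f g = 0) →
      (∀ g ∉ Cfsg.tildeOf L' (coreSet L'), f' g = 0) → Cfsg.classInner f f' = 0 := by
    intro f f' hf hf'
    refine classInner_of_disjoint fun g => ?_
    by_cases hg : g ∈ Cfsg.tildeOf L (coreSet L)
    · exact Or.inr (hf' g (Set.disjoint_left.1 hd hg))
    · exact Or.inl (hf g hg)
  have hψg := PairPins.isGeneralized_of_signed hp.signed
  have hψg' := PairPins.isGeneralized_of_signed hp'.signed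
  have hψψ : Cfsg.classInner ψ ψ' = 0 := by
    have h := hdis (f := ψ - Cfsg.conjFun ψ) (f' := ψ' - Cfsg.conjFun ψ') (fun g hg => (hβ0 g hg).2)
      (fun g hg => (hβ0' g hg).2)
    obtain ⟨ε, θ, hε, hθ, rfl⟩ := isSignedIrr_norm hp.signed
    obtain ⟨ε', θ', hε', hθ', rfl⟩ := isSignedIrr_norm hp'.signed
    have hεC : (ε : ℂ) ≠ 0 := by rcases hε with rfl | rfl <;> simp
    have hεC' : (ε' : ℂ) ≠ 0 := by rcases hε' with rfl | rfl <;> simp
    have hne : Cfsg.conjFun θ ≠ θ := fun e => hp.conj_ne (by rw [conjFun_smul_int, e])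
    rw [conjFun_smul_int, conjFun_smul_int, ← smul_sub, ← smul_sub, Char.classInner_smul_left,
      Char.classInner_smul_right, map_intCast, mul_eq_zero, mul_eq_zero] at h
    rw [Char.classInner_smul_left, Char.classInner_smul_right,
      (orth_pair hθ hθ' hne ((h.resolve_left hεC).resolve_left hεC')).1, mul_zero, mul_zero]
  have hreal : ∀ {f θ : G → ℂ}, Cfsg.conjFun f = f + θ - Cfsg.conjFun θ →
      Cfsg.conjFun (f + θ) = f + θ := by
    intro f θ h
    funext g
    have h' := congrFun h g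
    simp only [Cfsg.conjFun, Pi.add_apply, Pi.sub_apply, map_add] at h' ⊢
    rw [h']
    ring
  obtain ⟨m, hm⟩ := real_inner_parity hG.1 (Char.IsGeneralizedCharacter.add hβg hψg)
    (Char.IsGeneralizedCharacter.add hβg' hψg') (hreal hβc) (hreal hβc')
  simp only [Char.classInner_add_left, Char.classInner_add_right,
    hdis (fun g hg => (hβ0 g hg).1) (fun g hg => (hβ0' g hg).1), hψψ, hβ1, hβ1', h1, h1',
    add_zero, zero_add, mul_one] at hm
  by_cases hne : Cfsg.classInner β ψ' = 0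
  · left
    have hne' : Cfsg.classInner β' ψ ≠ 0 := fun h => by
      rw [hne, ← Char.classInner_conj_symm, h, map_zero] at hm
      have h2 : ((0 : ℤ) : ℂ) = ((1 + 2 * m : ℤ) : ℂ) := by push_cast; linear_combination hm
      have : (0 : ℤ) = 1 + 2 * m := by exact_mod_cast h2
      omega
    refine (family_bound hG hL hfr hp hβg' hzero hne').trans (le_of_eq ?_)
    rw [hβn']
    simp
  · right
    refine (family_bound hG hL' hfr' hp' hβg hzero' hne).trans (le_of_eq ?_)
    rw [hβn]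
    simp

end Rules

/-- The numerical end of the non-conjugate case: both sides of `pair_rule` fail. -/
theorem pair_arith {p q u v k k' e' : ℕ} (hq35 : q = 3 ∨ 5 ≤ q) (hqp : q + 2 ≤ p)
    (hu : p ^ 2 + p + 1 ≤ u) (hu5 : 5 ≤ q → p ^ 4 + 1 ≤ u)
    (hk : (2 * (p * q) + 1) * u ≤ k) (hkv : k ≤ q * v + 2 * (p * q) + 1) (hv : v ≤ k')
    (he' : e' ≤ p * q) :
    ¬ (k ≤ p * q * (e' + 1) + 1 ∨ k' ≤ e' * (p * q + 1) + 1) := by
  have hq : 3 ≤ q := by omega
  have h1 : p * q * (e' + 1) + 1 ≤ p * q * (p * q + 1) + 1 :=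
    Nat.add_le_add_right (Nat.mul_le_mul_left _ (Nat.add_le_add_right he' 1)) 1
  have h2 : e' * (p * q + 1) + 1 ≤ p * q * (p * q + 1) + 1 :=
    Nat.add_le_add_right (Nat.mul_le_mul_right _ he') 1
  obtain ⟨w, rfl⟩ : ∃ w, u = w + 1 := ⟨u - 1, by omega⟩
  have hwv : 2 * p * w ≤ v := by
    by_contra h
    push Not at h
    have h3 : q * (v + 1) ≤ q * (2 * p * w) := Nat.mul_le_mul_left q h
    nlinarith
  have hbig : p * q * (p * q + 1) + 1 < 2 * p * w := by
    rcases hq35 with rfl | h5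
    · nlinarith [Nat.mul_le_mul_left (2 * p) (show p ^ 2 + p ≤ w by omega)]
    · have h4 : p ^ 4 ≤ w := by have := hu5 h5; omega
      have hqle : q * q ≤ p * p := Nat.mul_le_mul (by omega) (by omega)
      nlinarith [Nat.mul_le_mul_left (2 * p) h4, Nat.mul_le_mul_left (p * p) hqle]
  have hkbig : 2 * p * w < k := by
    refine lt_of_lt_of_le ?_ hk
    have ha : 2 * p * w ≤ 2 * (p * q) * w := by
      rw [← mul_assoc 2 p q]
      exact Nat.mul_le_mul_right w (Nat.le_mul_of_pos_right _ (by omega))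
    have hb : (2 * (p * q) + 1) * (w + 1) = 2 * (p * q) * w + 2 * (p * q) + w + 1 := by ring
    omega
  rintro (h | h) <;> omega

/-- The orders of the complements are large. -/
theorem full_card_bounds {p q u : ℕ} (hp : 2 ≤ p) (hq : 3 ≤ q) (h : u * (p - 1) = p ^ q - 1) :
    p ^ 2 + p + 1 ≤ u ∧ (5 ≤ q → p ^ 4 + 1 ≤ u) := by
  obtain ⟨r, rfl⟩ : ∃ r, p = r + 1 := ⟨p - 1, by omega⟩
  rw [Nat.add_sub_cancel] at h
  have hpow : 1 ≤ (r + 1) ^ q := Nat.one_le_pow _ _ (by omega)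
  refine ⟨?_, fun h5 => ?_⟩
  · have h3 : (r + 1) ^ 3 ≤ (r + 1) ^ q := Nat.pow_le_pow_right (by omega) hq
    refine Nat.le_of_mul_le_mul_right ?_ (show 0 < r by omega)
    have : ((r + 1) ^ 2 + (r + 1) + 1) * r + 1 = (r + 1) ^ 3 := by ring
    omega
  · have h3 : (r + 1) ^ 5 ≤ (r + 1) ^ q := Nat.pow_le_pow_right (by omega) h5
    refine Nat.le_of_mul_le_mul_right ?_ (show 0 < r by omega)
    have : ((r + 1) ^ 4 + 1) * r + 1 ≤ (r + 1) ^ 5 := by
      nlinarith [Nat.one_le_pow 4 (r + 1) (by omega),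
        Nat.pow_le_pow_right (show 1 ≤ r + 1 by omega) (show 1 ≤ 4 by omega)]
    omega

variable [Finite G] (hG : Cfsg.IsMinSimpleOddOrder G) {S T W₁ W₂ U V L : Subgroup G}
include hG

theorem normalizer_two (hfrob : ∀ M : Subgroup G, IsFType M → IsFrob M)
    (hpd : PairData S T W₁ W₂ U V) (hII : Cfsg.IsOfTypeII T)
    (hS : Side S W₁ U W₂) (hT : Side T W₂ V W₁)
    (hS' : SideFull S W₁ U W₂) (hT' : SideFull T W₂ V W₁)
    (hS0 : fixCore S U = ⊥) (hT0 : fixCore T V = ⊥) (hlt : Nat.card W₁ < Nat.card W₂)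
    (hL : LData S T W₁ W₂ U L) :
    ∃ y ∈ Cfsg.fittingHallOf T, W₂.map (MulAut.conj y).toMonoidHom ≤ normalizer (U : Set G) := by
  classical
  letI : Fintype G := Fintype.ofFinite G
  letI : Fintype L := Fintype.ofFinite L
  set q := Nat.card W₁ with hq
  set p := Nat.card W₂ with hp
  set u := Nat.card U with hu
  set v := Nat.card V with hv
  set k := Nat.card (Cfsg.sigmaCore L) with hk
  set e := (Cfsg.sigmaCore L).relIndex L with he
  have hLn : L ≤ normalizer (Cfsg.sigmaCore L : Set G) := le_normalizer_piCoreOf _ _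
  by_cases hKU : Cfsg.sigmaCore L = U
  · rcases hL.index with h | h
    · exact absurd hKU (hL.small_index h)
    · obtain ⟨y, hy, hyL⟩ := hL.large_index h
      exact ⟨y, hy, hyL.trans (hLn.trans (by rw [hKU]))⟩
  have hku : (2 * e + 1) * u ≤ k := hL.proper hKU
  have hq3 : 3 ≤ q := by
    have h2 := hS.q_prime.two_le
    obtain ⟨m, hm⟩ := hG.1.of_dvd_nat W₁.card_subgroup_dvd_card
    omega
  have hqp : q + 2 ≤ p := by
    obtain ⟨m, hm⟩ := hG.1.of_dvd_nat W₁.card_subgroup_dvd_card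
    obtain ⟨m', hm'⟩ := hG.1.of_dvd_nat W₂.card_subgroup_dvd_card
    omega
  have hq35 : q = 3 ∨ 5 ≤ q := by
    obtain ⟨m, hm⟩ := hG.1.of_dvd_nat W₁.card_subgroup_dvd_card
    omega
  obtain ⟨hu2, hu4⟩ := full_card_bounds (by omega) hq3 hS'.card
  have hW := hpd.typeS.selfNormalizing
  obtain ⟨hne1, hne2, hdisj, hcomm, hcyc, -⟩ := id hW
  haveI := hcyc
  have hoddW : Odd (Nat.card ↥(W₁ ⊔ W₂)) :=
    hG.1.of_dvd_nat (W₁ ⊔ W₂).card_subgroup_dvd_card
  obtain ⟨χ, hχ⟩ := OddChar.CyclicExist.exists_family hW hoddW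
  have hfr := hL.frob
  obtain ⟨ψ, ζ, b, hpr⟩ := exists_isProbe hG hL.isF hfr
  obtain ⟨horth, a, ha, ha1, -, hrect, hnorm, -⟩ := exists_grid hG hpd hχ hL.isF hfr hpr
  have heq : e = q ∨ e = q * p := hL.index
  -- (i)
  have hd : ∀ ω, TrivialOn ω W₁ → Odd (a ω) := by
    intro ω hω1
    by_cases hω : ω = 1
    · rw [hω, ha1]; exact odd_one
    by_contra hev
    have h := side_rule hG hpd hS hS' hS0 hχ hL.isF hfr hL.notConjS hpr hω hω1 (ha ω)
      (Int.not_odd_iff_even.1 hev)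
    have h' : k * q ≤ e * (u + 2 * q) + q := by
      have h2 : (k : ℝ) * q ≤ (e : ℝ) * ((u : ℝ) + 2 * q) + q := by linarith
      exact_mod_cast h2
    have h3 := Nat.mul_le_mul_right q hku
    rcases heq with h1 | h1 <;> rw [h1] at h' h3 <;> nlinarith
  have he' : e = q * p := by
    rcases heq with h1 | h1
    swap
    · exact h1
    exfalso
    haveI : IsCyclic W₁ :=
      isCyclic_of_injective (Subgroup.inclusion (le_sup_left (b := W₂))) (Subgroup.inclusion_injective _)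
    haveI : IsCyclic W₂ :=
      isCyclic_of_injective (Subgroup.inclusion (le_sup_right (a := W₁))) (Subgroup.inclusion_injective _)
    haveI : Finite (W₂ →* ℂˣ) := OddChar.finite_linearChar _
    haveI : Finite (↥(W₁ ⊔ W₂) →* ℂˣ) := OddChar.finite_linearChar _
    letI := Fintype.ofFinite (W₂ →* ℂˣ)
    letI := Fintype.ofFinite (↥(W₁ ⊔ W₂) →* ℂˣ)
    obtain ⟨i, j, hi, hj, hij⟩ := OddChar.exists_dual hdisj hcomm
    have hinj : Function.Injective j := fun g g' h =>
      congrArg Prod.snd (hij.1 (a₁ := (1, g)) (a₂ := (1, g')) (by simp only [h]))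
    rw [finsum_eq_sum_of_fintype] at hnorm
    have hsum : (p : ℤ) ≤ ∑ ω, a ω ^ 2 := by
      refine le_trans ?_ (Finset.sum_le_sum_of_subset_of_nonneg
        (Finset.subset_univ (Finset.univ.image j)) fun ω _ _ => sq_nonneg _)
      refine le_trans (le_of_eq ?_) (Finset.card_nsmul_le_sum _ _ 1 fun ω hω => ?_)
      · rw [nsmul_one, Finset.card_image_of_injective _ hinj, Finset.card_univ,
          ← Nat.card_eq_fintype_card, OddChar.card_dual]
      · obtain ⟨g, -, rfl⟩ := Finset.mem_image.1 hω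
        obtain ⟨m, hm⟩ := hd (j g) (hj g)
        rw [hm]
        nlinarith [PairPins.one_le_sq (show 2 * m + 1 ≠ 0 by omega)]
    have hb : (1 : ℤ) ≤ (b - 1) ^ 2 + b ^ 2 := by nlinarith [Int.le_self_sq b]
    rw [← he, h1] at hnorm
    omega
  have heR : (e : ℝ) = (q : ℝ) * p := by rw [he']; push_cast; rfl
  by_cases hc : ∀ ω, TrivialOn ω W₂ → Odd (a ω)
  · -- (iii)
    refine (no_room hG hpd hII hS hT hS' hT' hS0 hT0 hlt hL hKU he' hχ hpr ha fun ω => ?_).elim
    obtain ⟨i, j, hi, hj, hij⟩ := OddChar.exists_dual hdisj hcomm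
    obtain ⟨⟨f, g⟩, rfl⟩ := hij.2 ω
    show Odd (a (i f * j g))
    rw [hrect _ _ (hi f) (hj g)]
    obtain ⟨m, hm⟩ := hc _ (hi f)
    obtain ⟨m', hm'⟩ := hd _ (hj g)
    exact ⟨m + m', by omega⟩
  -- (ii)
  push Not at hc
  obtain ⟨ω, hω2, hev⟩ := hc
  have hω : ω ≠ 1 := fun h => hev (by rw [h, ha1]; exact odd_one)
  have hpd' := pair_swap hG hpd hII
  obtain ⟨χ', hχ', hswap⟩ := swap hW hG.1 hχ
  let ω' : ↥(W₂ ⊔ W₁) →* ℂˣ := ω.comp (MulEquiv.subgroupCongr (sup_comm W₂ W₁)).toMonoidHom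
  have hω' : ω' ≠ 1 := fun h => hω (by
    ext x
    have := DFunLike.congr_fun h ((MulEquiv.subgroupCongr (sup_comm W₂ W₁)).symm x)
    simp only [ω', MonoidHom.comp_apply, MulEquiv.coe_toMonoidHom, MulEquiv.apply_symm_apply] at this
    rw [this]
    rfl)
  have hωw : TrivialOn ω' W₂ := fun x hx => hω2 _ hx
  have hχω : χ' ω' = χ ω := hswap ω ω' fun x y hxy => congrArg ω (Subtype.ext hxy)
  have hrule := side_rule hG hpd' hT hT' hT0 hχ' hL.isF hfr hL.notConjT hpr hω' hωw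
    (n := a ω) (by rw [hχω]; exact ha ω) (Int.not_odd_iff_even.1 hev)
  have hkv : k ≤ q * v + 2 * (p * q) + 1 := by
    have h2 : (k : ℝ) * p ≤ ((q * v + 2 * (p * q) + 1 : ℕ) : ℝ) * p := by
      rw [← hk, ← he, ← hp, ← hv, heR] at hrule
      push_cast
      linarith
    exact_mod_cast le_of_mul_le_mul_right h2 (by exact_mod_cast (show 0 < p by omega))
  have hku' : (2 * (p * q) + 1) * u ≤ k := by rw [he', mul_comm q p] at hku; exact hku
  obtain ⟨L', hL'⟩ := exists_LData hG hfrob hpd' hT hS hT' hS' hT0 hS0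
  letI : Fintype L' := Fintype.ofFinite L'
  have hfr' := hL'.frob
  obtain ⟨y, hy, hyL⟩ := hL.large_index he'
  by_cases hconj : NotConj L L'
  · exfalso
    obtain ⟨ψ', ζ', b', hpr'⟩ := exists_isProbe hG hL'.isF hfr'
    obtain ⟨horth', -⟩ := exists_grid hG hpd hχ hL'.isF hfr' hpr'
    have h1 : Cfsg.classInner ψ (fun _ => (1 : ℂ)) = 0 := by rw [← hχ.map_one]; exact (horth 1).1
    have h1' : Cfsg.classInner ψ' (fun _ => (1 : ℂ)) = 0 := by
      rw [← hχ.map_one]; exact (horth' 1).1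
    have hr := pair_rule hG hL.isF hfr hL'.isF hfr' hconj hpr hpr' h1 h1'
    rw [← hk, ← he] at hr
    refine pair_arith (k' := Nat.card (Cfsg.sigmaCore L'))
      (e' := (Cfsg.sigmaCore L').relIndex L') hq35 hqp hu2 hu4 hku' hkv
      (Nat.le_of_dvd Nat.card_pos (card_dvd_of_le hL'.U_le)) ?_ ?_
    · rcases hL'.index with h | h <;> rw [h]
      · exact Nat.le_mul_of_pos_right p (by omega)
    · rcases hr with h | h
      · left
        have h2 : (k : ℝ) ≤ ((p * q * ((Cfsg.sigmaCore L').relIndex L' + 1) + 1 : ℕ) : ℝ) := by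
          rw [heR] at h
          push_cast
          linarith
        exact_mod_cast h2
      · right
        have h2 : (Nat.card (Cfsg.sigmaCore L') : ℝ) ≤
            (((Cfsg.sigmaCore L').relIndex L' * (p * q + 1) + 1 : ℕ) : ℝ) := by
          rw [heR] at h
          push_cast
          linarith
        exact_mod_cast h2
  simp only [NotConj, not_forall, not_not] at hconj
  obtain ⟨g, hg⟩ := hconj
  have hcore : Cfsg.sigmaCore L' = (Cfsg.sigmaCore L).map (MulAut.conj g).toMonoidHom := by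
    rw [hg, sigmaCore_conj]
  have hkk : Nat.card (Cfsg.sigmaCore L') = k := by
    rw [hcore]
    exact Nat.card_congr ((Cfsg.sigmaCore L).equivMapOfInjective (MulAut.conj g).toMonoidHom
      (MulAut.conj g).injective).toEquiv.symm
  have hee : (Cfsg.sigmaCore L').relIndex L' = e := by
    rw [hcore, hg]
    exact relIndex_map_map_of_injective _ _ (MulAut.conj g).injective
  by_cases hKV : Cfsg.sigmaCore L' = V
  · haveI : IsCyclic (Cfsg.sigmaCore L') := by rw [hKV]; exact hT'.cyclic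
    rw [hcore] at this
    haveI : IsCyclic (Cfsg.sigmaCore L) := isCyclic_of_surjective
      ((Cfsg.sigmaCore L).equivMapOfInjective (MulAut.conj g).toMonoidHom
        (MulAut.conj g).injective).symm.toMonoidHom
      ((Cfsg.sigmaCore L).equivMapOfInjective (MulAut.conj g).toMonoidHom
        (MulAut.conj g).injective).symm.surjective
    exact ⟨y, hy, hyL.trans (hLn.trans (le_normalizer_of_cyclic inferInstance hL.U_le))⟩
  exfalso
  have h := hL'.proper hKV
  rw [hkk, hee, he'] at h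
  have hv3 : 3 ≤ v := by
    have : V ≠ ⊥ := hT.U_ne
    have := (one_lt_card_iff_ne_bot V).2 this
    obtain ⟨m, hm⟩ := hG.1.of_dvd_nat V.card_subgroup_dvd_card
    omega
  have hgap : q + 3 ≤ 2 * (q * p) := by nlinarith
  nlinarith

end CfsgLib.FT
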