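import Cfsg.Agent.Lib.FT.TypeOne
import Cfsg.Agent.Lib.OddOrder.Exceptional
import Cfsg.Agent.Lib.OddOrder.SigmaConj
import Cfsg.Agent.Lib.OddChar.MaxDade
import Cfsg.Agent.S1351
import Cfsg.Agent.S1352
import Cfsg.Agent.S1374
import Cfsg.Agent.S1375
import Cfsg.Agent.S1378
import Cfsg.Agent.S1379
import Cfsg.Agent.S1526
import Cfsg.Agent.S1527

/-!
FT module NotAllF (PF 12.17 = S1541).

All maximal subgroups of type F: all Frobenius, so no supporting subgroups (the element of a supported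
coset would fix a core element from outside), so every core is TI with normaliser `M`, cores of
non-conjugate subgroups have coprime orders (S1378), they cover `G` (S1379) and S1526 gives a
contradiction (a single class cannot cover, S1527).
-/

set_option autoImplicit false

namespace CfsgLib.FT

open Subgroup CfsgLib.OddOrder

universe u

variable {G : Type u} [Group G] [Finite G] (hG : Cfsg.IsMinSimpleOddOrder G)
include hG

/-- When every maximal subgroup is Frobenius of type F, no core element is supported from outside. -/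
theorem centralizer_le_of_all_frob
    (hfr : ∀ N : Subgroup G, IsCoatom N → IsFrob N) {M : Subgroup G} (hM : IsCoatom M) {x : G}
    (hx : x ∈ Cfsg.sigmaCore M) (hx1 : x ≠ 1) : centralizer ({x} : Set G) ≤ M := by
  by_contra hC
  obtain ⟨N, ⟨hN, -⟩, -, -, -, -, -, hd⟩ := Cfsg.Agent.S1375.result hG M hM x hx hx1 hC
  obtain ⟨⟨K, hK⟩, hc⟩ := Cfsg.Agent.S1351.result hG N hN
  obtain ⟨U, hKU⟩ := (Cfsg.Agent.S1352.result hG N hN K (hc K hK) hK).1
  obtain ⟨-, ⟨⟨hxN, y, hy, hy1, hxy⟩, -⟩, hxσ⟩ := hd K U hKU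
  exact hxσ (hfr N hN y hy hy1 ⟨hxN, mem_centralizer_singleton_iff.2 hxy⟩)

theorem normalizer_sigmaCore {M : Subgroup G} (hM : IsCoatom M) :
    normalizer (Cfsg.sigmaCore M : Set G) = M :=
  normalizer_eq_of_isCoatom_of_le hG hM (sigmaCore_ne_bot hG hM) (piCoreOf_le _ _)
    (le_normalizer_piCoreOf (Cfsg.sigma M) M)

theorem isTISubset_sigmaCore (hfr : ∀ N : Subgroup G, IsCoatom N → IsFrob N) {M : Subgroup G}
    (hM : IsCoatom M) : Cfsg.IsTISubset (Cfsg.sigmaCore M : Set G) := by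
  intro g hg x hx hgx
  by_contra hx1
  refine hg ?_
  rw [normalizer_sigmaCore hG hM]
  obtain ⟨-, R, -, ⟨-, hR, hdis, -⟩, hu⟩ := Cfsg.Agent.S1374.result hG M hM x hx hx1
  have hC := centralizer_le_of_all_frob hG hfr hM hx hx1
  have hR1 : R = ⊥ := by
    rw [eq_bot_iff, ← hdis]
    exact le_inf (le_inf (hR.trans hC) hR) le_rfl
  have hxM : x ∈ M.map (MulAut.conj g⁻¹).toMonoidHom :=
    ⟨g * x * g⁻¹, piCoreOf_le _ _ hgx, by simp; group⟩
  obtain ⟨r, ⟨hr, he⟩, -⟩ := hu g⁻¹ hxM
  rw [hR1, mem_bot] at hr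
  subst hr
  rw [← inv_inv g]
  refine inv_mem ?_
  rw [← normalizer_eq_of_isCoatom hG hM]
  have h1 : M.map (MulAut.conj g⁻¹).toMonoidHom = M := by rw [← he]; ext z; simp
  refine mem_normalizer_iff.2 fun y => ⟨fun hy => ?_, fun hy => ?_⟩
  · exact h1 ▸ mem_map_of_mem (MulAut.conj g⁻¹).toMonoidHom hy
  · rw [← h1] at hy
    obtain ⟨z, hz, hz'⟩ := hy
    exact (MulAut.conj g⁻¹).injective hz' ▸ hz

theorem exists_kappa_nonempty : ∃ M : Subgroup G, IsCoatom M ∧ (Cfsg.kappa M).Nonempty := by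
  by_contra h
  push Not at h
  have hF : ∀ M : Subgroup G, IsCoatom M → IsFType M := fun M hM =>
    ⟨hM, h M hM⟩
  have hfr : ∀ M : Subgroup G, IsCoatom M → IsFrob M := fun M hM => isFrob_of_sup hG (fun _ N _ hN _ _ _ _ => hF N hN) (hF M hM)
  -- one representative in each class of maximal subgroups
  let S : Setoid {M : Subgroup G // IsCoatom M} :=
    { r := fun M N => ∃ g : G, M.1.map (MulAut.conj g).toMonoidHom = N.1
      iseqv :=
        { refl := fun M => ⟨1, by ext z; simp⟩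
          symm := fun {M N} ⟨g, hg⟩ => ⟨g⁻¹, by rw [← hg, map_map]; ext z; simp [mul_assoc]⟩
          trans := fun {M N P} ⟨g, hg⟩ ⟨g', hg'⟩ =>
            ⟨g' * g, by rw [← hg', ← hg, map_map]; ext z; simp [mul_assoc]⟩ } }
  haveI : Fintype (Quotient S) := Fintype.ofFinite _
  let L : Quotient S → Subgroup G := fun i => i.out.1
  let H : Quotient S → Subgroup G := fun i => Cfsg.sigmaCore (L i)
  have hL : ∀ i, IsCoatom (L i) := fun i => i.out.2
  have hcop : ∀ i j, i ≠ j → Nat.Coprime (Nat.card (H i)) (Nat.card (H j)) := fun i j hij =>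
    Nat.coprime_of_dvd fun q hq hi hj => hij (by
      obtain ⟨g, hg⟩ := (Cfsg.Agent.S1378.result hG).2 _ _ (hL i) (hL j)
        ⟨q, sigma_of_dvd_sigmaCore hq hi, sigma_of_dvd_sigmaCore hq hj⟩
      rw [← Quotient.out_eq i, ← Quotient.out_eq j]
      exact Quotient.sound ⟨g, hg.symm⟩)
  have hTI : ∀ i, Cfsg.IsTISubset (H i : Set G) := fun i => isTISubset_sigmaCore hG hfr (hL i)
  have hN : ∀ i, normalizer (H i : Set G) = L i := fun i => normalizer_sigmaCore hG (hL i)
  have hcover : ∀ g : G, g ≠ 1 → ∃ i, ∃ x : G, x * g * x⁻¹ ∈ H i := by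
    intro g hg
    obtain ⟨M, hM, a, ha, r, hr, y, rfl⟩ :=
      (Cfsg.Agent.S1379.result hG).2.1 (fun N hN => (hF N hN).kappa_eq) g hg
    rw [CfsgLib.OddChar.MaxTypes.supportR_of_le
      (centralizer_le_of_all_frob hG hfr hM ha.1 ha.2), mem_bot] at hr
    subst hr
    obtain ⟨k, hk⟩ : ∃ k : G, M.map (MulAut.conj k).toMonoidHom = L (⟦⟨M, hM⟩⟧) :=
      Setoid.symm (Quotient.mk_out (s := S) ⟨M, hM⟩)
    refine ⟨(⟦⟨M, hM⟩⟧), k * y⁻¹, ?_⟩
    show _ ∈ Cfsg.sigmaCore (L (⟦⟨M, hM⟩⟧))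
    rw [← hk, sigmaCore_conj]
    exact ⟨a, ha.1, by simp; group⟩
  have hlt : ∀ i, H i < L i := fun i => (core_facts hG (hF _ (hL i))).2.2.1
  rcases lt_or_ge 1 (Fintype.card (Quotient S)) with hc | hc
  · exact Cfsg.Agent.S1526.result hG.1 hc L H hlt (fun i => sigmaCore_ne_bot hG (hL i))
      (fun i x hx a ha => (mem_normalizer_iff.1 (hN i ▸ hx : x ∈ normalizer (H i : Set G)) a).1 ha)
      (fun i => hfr _ (hL i)) hcop (fun i => ⟨hTI i, hN i⟩) hcover
  · haveI : Subsingleton (Quotient S) := Fintype.card_le_one_iff_subsingleton.1 hc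
    obtain ⟨M, hM⟩ := eq_top_or_exists_le_coatom (⊥ : Subgroup G) |>.resolve_left
      (fun e => by
        haveI := hG.2.1
        exact (bot_ne_top (α := Subgroup G)) e)
    have e := Cfsg.Agent.S1527.result H hcop hTI hcover
    rw [Fintype.sum_subsingleton _ (⟦⟨M, hM.1⟩⟧ : Quotient S)] at e
    set i : Quotient S := ⟦⟨M, hM.1⟩⟧
    rw [hN i] at e
    have h1 : (L i).index * Nat.card (H i) ≤ Nat.card G := by
      calc (L i).index * Nat.card (H i) ≤ (L i).index * Nat.card (L i) :=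
            Nat.mul_le_mul_left _ (Nat.le_of_dvd Nat.card_pos (card_dvd_of_le (hlt i).le))
        _ = _ := Subgroup.index_mul_card _
    have h2 : 1 < (L i).index := by
      rcases Nat.lt_or_ge 1 (L i).index with h | h
      · exact h
      · have := Nat.pos_of_ne_zero (Subgroup.index_ne_zero_of_finite (H := L i))
        exact absurd (Subgroup.index_eq_one.1 (by omega)) (hL i).1
    rw [Nat.mul_sub_one] at e
    have h3 : (L i).index ≤ (L i).index * Nat.card (H i) :=
      Nat.le_mul_of_pos_right _ Nat.card_pos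
    omega

end CfsgLib.FT
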