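import Mathlib
import Cfsg.Prelude

/-!
The field model of an elementary abelian group of order `p ^ q` under a fixed-point-free abelian group of order
`(p ^ q - 1) / (p - 1)`.
-/

set_option autoImplicit false

namespace CfsgLib.FT

open Subgroup

universe u

variable {G : Type u} [Group G] [Finite G]

/-- A free orbit count: an invariant subgroup of order `p ^ e` with `1 ≤ e` is everything. -/
theorem eq_of_card_bound {p e q m : ℕ} (hp : 2 ≤ p) (he : e ≤ q) (hm : m * (p - 1) = p ^ q - 1)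
    (h : m ≤ p ^ e - 1) : e = q := by
  by_contra hne
  have h1 : m * (p - 1) ≤ (p ^ e - 1) * (p - 1) := Nat.mul_le_mul_right _ h
  have h2 : p ^ (e + 1) ≤ p ^ q := Nat.pow_le_pow_right (by omega) (by omega)
  have h3 : 1 ≤ p ^ e := Nat.one_le_pow _ _ (by omega)
  have h5 : (p ^ e - 1) * (p - 1) ≤ (p ^ e - 1) * p := Nat.mul_le_mul_left _ (by omega)
  rw [Nat.sub_mul (p ^ e) 1 p, one_mul, ← pow_succ] at h5
  have h6 : p ≤ p ^ (e + 1) := Nat.le_self_pow (by omega) p
  rw [hm] at h1
  omega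

/-- An elementary abelian group of order `p ^ q` acted on without fixed points by an abelian group of order
`(p ^ q - 1) / (p - 1)` is the additive group of a field, a given subgroup of order `p` becoming the prime field. -/
theorem exists_field_model {p q : ℕ} [hp : Fact p.Prime] (hq : q ≠ 0) {P U W : Subgroup G}
    (hP : Cfsg.IsElementaryAbelian p P) (hPc : Nat.card P = p ^ q) (hU : ∀ a ∈ U, ∀ b ∈ U, a * b = b * a)
    (hUP : U ≤ normalizer (P : Set G))
    (hfree : ∀ u ∈ U, u ≠ 1 → ∀ x ∈ P, u * x = x * u → x = 1) (hUc : Nat.card U * (p - 1) = p ^ q - 1)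
    (hW : W ≤ P) (hWc : Nat.card W = p) :
    ∃ (F : Type) (_ : Field F) (_ : Fintype F) (f : G → F) (ψ : G → F), Fintype.card F = p ^ q ∧
      Set.BijOn f (P : Set G) Set.univ ∧ (∀ x ∈ P, ∀ x' ∈ P, f (x * x') = f x + f x') ∧
      (∀ u ∈ U, ψ u ≠ 0 ∧ ∀ x ∈ P, f (u * x * u⁻¹) = ψ u * f x) ∧
      (∀ u ∈ U, ∀ v ∈ U, ψ (u * v) = ψ u * ψ v) ∧ Set.InjOn ψ (U : Set G) ∧
      (∀ x ∈ P, x ∈ W ↔ f x ^ p = f x) := by
  classical
  letI : CommGroup P := { (inferInstance : Group P) with mul_comm := fun a b => hP.1.is_comm.comm a b }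
  have hconj : ∀ u ∈ U, ∀ x ∈ P, u * x * u⁻¹ ∈ P := fun u hu x hx => (mem_normalizer_iff.1 (hUP hu) x).1 hx
  let ρ : U → AddMonoid.End (Additive P) := fun u =>
    { toFun := fun x => Additive.ofMul ⟨(u : G) * (Additive.toMul x : P) * (u : G)⁻¹, hconj u u.2 _ (Additive.toMul x).2⟩
      map_zero' := Additive.toMul.injective (Subtype.ext (by simp))
      map_add' := fun x y => Additive.toMul.injective (Subtype.ext (by simp [mul_assoc])) }
  have hρapp : ∀ u x, ((Additive.toMul (ρ u x) : P) : G) = u * (Additive.toMul x : P) * (u : G)⁻¹ := fun u x => rfl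
  have hρ1 : ρ 1 = 1 := AddMonoidHom.ext fun x => Additive.toMul.injective (Subtype.ext (by
    show (1 : G) * _ * (1 : G)⁻¹ = ((Additive.toMul x : P) : G)
    simp))
  have hρmul : ∀ u v, ρ (u * v) = ρ u * ρ v := fun u v => AddMonoidHom.ext fun x =>
    Additive.toMul.injective (Subtype.ext (by
      show ((u : G) * v) * _ * ((u : G) * v)⁻¹ = (u : G) * ((v : G) * (Additive.toMul x : P) * (v : G)⁻¹) * (u : G)⁻¹
      group))
  let A := Subring.closure (Set.range ρ)
  -- invariant subgroups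
  have hirr : ∀ S : AddSubgroup (Additive P), (∀ u, ∀ x ∈ S, ρ u x ∈ S) → (∃ x ∈ S, x ≠ 0) → S = ⊤ := by
    intro S hS hne
    obtain ⟨x, hx, hx0⟩ := hne
    have hcardA : Nat.card (Additive P) = p ^ q := hPc
    obtain ⟨e, he, hSc⟩ := (Nat.dvd_prime_pow hp.out).1 (hcardA ▸ AddSubgroup.card_addSubgroup_dvd_card S)
    have hinj : Function.Injective (fun u : U => (⟨⟨ρ u x, hS u x hx⟩, fun h => hx0 (by
        have h1 : ρ u x = 0 := congrArg Subtype.val h
        have h2 := congrArg (ρ u⁻¹) h1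
        rwa [map_zero, show ρ u⁻¹ (ρ u x) = (ρ u⁻¹ * ρ u) x from rfl, ← hρmul, inv_mul_cancel, hρ1] at h2)⟩ : {y : S // y ≠ 0})) := by
      intro u v huv
      by_contra hne
      have h1 : ρ u x = ρ v x := congrArg (fun y => (y.1 : Additive P)) huv
      have h2 : ρ (v⁻¹ * u) x = x := by
        have h := congrArg (ρ v⁻¹) h1
        rw [hρmul]
        show ρ v⁻¹ (ρ u x) = x
        rw [h]
        show (ρ v⁻¹ * ρ v) x = x
        rw [← hρmul, inv_mul_cancel, hρ1]
        rfl
      refine hx0 (Additive.toMul.injective (Subtype.ext (hfree (v⁻¹ * u : U) (v⁻¹ * u : U).2 ?_ _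
        (Additive.toMul x).2 ?_)))
      · intro h
        exact hne (inv_mul_eq_one.1 (Subtype.ext h : v⁻¹ * u = 1)).symm
      · have h3 := congrArg (fun y => ((Additive.toMul y : P) : G)) h2
        simp only [hρapp] at h3
        exact mul_inv_eq_iff_eq_mul.1 h3
    have hle := Nat.card_le_card_of_injective _ hinj
    haveI : Fintype S := Fintype.ofFinite _
    rw [Nat.card_eq_fintype_card (α := {y : S // y ≠ 0}), Fintype.card_subtype_compl, Fintype.card_subtype_eq,
      ← Nat.card_eq_fintype_card, hSc] at hle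
    obtain rfl := eq_of_card_bound hp.out.two_le he hUc hle
    exact AddSubgroup.eq_top_of_card_eq _ (hSc.trans hcardA.symm)
  -- the ring is a field
  haveI : IsMulCommutative A := Subring.isMulCommutative_closure (by
    rintro _ ⟨u, rfl⟩ _ ⟨v, rfl⟩
    rw [← hρmul, ← hρmul]
    exact congrArg ρ (Subtype.ext (hU _ u.2 _ v.2)))
  letI : CommRing A := open scoped IsMulCommutative in inferInstance
  have hcomm : ∀ a ∈ A, ∀ u, a * ρ u = ρ u * a := fun a ha u =>
    congrArg Subtype.val (mul_comm (⟨a, ha⟩ : A) ⟨ρ u, Subring.subset_closure ⟨u, rfl⟩⟩)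
  have hainj : ∀ a : A, a ≠ 0 → ∀ x, (a : AddMonoid.End (Additive P)) x = 0 → x = 0 := by
    intro a ha x hx
    by_contra hx0
    have htop := hirr (AddMonoidHom.ker (a : AddMonoid.End (Additive P))) (fun u y hy => by
      show (a : AddMonoid.End (Additive P)) (ρ u y) = 0
      show ((a : AddMonoid.End (Additive P)) * ρ u) y = 0
      rw [hcomm _ a.2 u]
      show ρ u ((a : AddMonoid.End (Additive P)) y) = 0
      rw [show (a : AddMonoid.End (Additive P)) y = 0 from hy, map_zero]) ⟨x, hx, hx0⟩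
    exact ha (Subtype.ext (AddMonoidHom.ext fun y => (htop ▸ AddSubgroup.mem_top y :
      y ∈ AddMonoidHom.ker (a : AddMonoid.End (Additive P)))))
  -- the coordinate map
  obtain ⟨w, hw, hw1⟩ : ∃ w ∈ W, w ≠ 1 := W.bot_or_exists_ne_one.resolve_left fun h => by
    rw [h, Subgroup.card_bot] at hWc
    exact hp.out.one_lt.ne hWc
  set v₀ : Additive P := Additive.ofMul ⟨w, hW hw⟩
  have hv₀ : v₀ ≠ 0 := fun h => hw1 (congrArg (fun y => ((Additive.toMul y : P) : G)) h)
  let θ : A →+ Additive P :=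
    { toFun := fun a => (a : AddMonoid.End (Additive P)) v₀
      map_zero' := rfl
      map_add' := fun _ _ => rfl }
  have hθ : Function.Bijective θ := by
    refine ⟨(injective_iff_map_eq_zero θ).2 fun a ha => by_contra fun hne => hv₀ (hainj a hne v₀ ha), ?_⟩
    rw [← AddMonoidHom.range_eq_top]
    refine hirr _ (fun u x hx => ?_) ⟨v₀, ⟨1, rfl⟩, hv₀⟩
    obtain ⟨a, rfl⟩ := hx
    exact ⟨⟨ρ u, Subring.subset_closure ⟨u, rfl⟩⟩ * a, rfl⟩
  let θe := AddEquiv.ofBijective θ hθ
  haveI : Finite A := Finite.of_equiv _ θe.toEquiv.symm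
  haveI : Nontrivial A := ⟨⟨0, 1, fun h => hv₀ (by
    have := congrArg θ h
    exact this.symm)⟩⟩
  haveI : NoZeroDivisors A := ⟨fun {a b} hab => by
    by_contra hh
    push Not at hh
    have h1 := congrArg θ hab
    exact hh.2 ((injective_iff_map_eq_zero θ).1 hθ.1 b (hainj a hh.1 _ h1))⟩
  haveI : IsDomain A := NoZeroDivisors.to_isDomain A
  letI : Field A := (Finite.isField_of_domain A).toField
  letI : Fintype A := Fintype.ofFinite A
  letI : Fintype (GaloisField p q) := Fintype.ofFinite _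
  have hcard : Fintype.card A = p ^ q := by rw [← Nat.card_eq_fintype_card, Nat.card_congr θe.toEquiv]; exact hPc
  have hgal : Fintype.card (GaloisField p q) = p ^ q := by
    rw [← Nat.card_eq_fintype_card, GaloisField.card p q hq]
  let φ : A ≃+* GaloisField p q := FiniteField.ringEquivOfCardEq (hcard.trans hgal.symm)
  let f : G → GaloisField p q := fun x => if hx : x ∈ P then φ (θe.symm (Additive.ofMul ⟨x, hx⟩)) else 0
  let ψ : G → GaloisField p q := fun x => if hx : x ∈ U then φ ⟨ρ ⟨x, hx⟩, Subring.subset_closure ⟨_, rfl⟩⟩ else 0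
  have hf : ∀ x (hx : x ∈ P), f x = φ (θe.symm (Additive.ofMul ⟨x, hx⟩)) := fun x hx => dif_pos hx
  have hfadd : ∀ x ∈ P, ∀ x' ∈ P, f (x * x') = f x + f x' := fun x hx x' hx' => by
    rw [hf x hx, hf x' hx', hf _ (mul_mem hx hx'), ← map_add, ← map_add]
    rfl
  have hinjf : Set.InjOn f (P : Set G) := fun x hx y hy h => by
    rw [hf x hx, hf y hy, φ.injective.eq_iff, θe.symm.injective.eq_iff, Additive.ofMul.injective.eq_iff] at h
    exact congrArg Subtype.val h
  have hψ : ∀ x (hx : x ∈ U), ψ x = φ ⟨ρ ⟨x, hx⟩, Subring.subset_closure ⟨_, rfl⟩⟩ := fun x hx => dif_pos hx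
  have hact : ∀ u ∈ U, ∀ x ∈ P, f (u * x * u⁻¹) = ψ u * f x := fun u hu x hx => by
    rw [hf x hx, hf _ (hconj u hu x hx), hψ u hu, ← map_mul]
    congr 1
    rw [AddEquiv.symm_apply_eq]
    show _ = ρ ⟨u, hu⟩ (θ (θe.symm (Additive.ofMul ⟨x, hx⟩)))
    rw [show θ (θe.symm (Additive.ofMul ⟨x, hx⟩)) = _ from θe.apply_symm_apply _]
    rfl
  refine ⟨GaloisField p q, inferInstance, inferInstance, f, ψ, hgal, ⟨fun _ _ => trivial, hinjf, fun a _ => ?_⟩,
    hfadd, fun u hu => ⟨?_, hact u hu⟩, fun u hu v hv => ?_, fun u hu v hv h => ?_, fun x hx => ?_⟩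
  · refine ⟨(Additive.toMul (θe (φ.symm a)) : P), (Additive.toMul (θe (φ.symm a))).2, ?_⟩
    rw [hf _ (Additive.toMul (θe (φ.symm a))).2, Subtype.coe_eta, ofMul_toMul, θe.symm_apply_apply,
      φ.apply_symm_apply]
  · rw [hψ u hu, ne_eq, map_eq_zero]
    intro h
    have h1 := congrArg (fun a : A => ((Additive.toMul ((a : AddMonoid.End (Additive P)) v₀) : P) : G)) h
    refine hw1 (conj_eq_one_iff.1 (show u * w * u⁻¹ = 1 from h1))
  · rw [hψ u hu, hψ v hv, hψ _ (mul_mem hu hv), ← map_mul]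
    exact congrArg φ (Subtype.ext (hρmul ⟨u, hu⟩ ⟨v, hv⟩))
  · rw [hψ u hu, hψ v hv, φ.injective.eq_iff] at h
    have h1 : ρ ⟨u, hu⟩ = ρ ⟨v, hv⟩ := congrArg Subtype.val h
    by_contra hne
    have h2 := congrArg (fun a : AddMonoid.End (Additive P) => ((Additive.toMul (a v₀) : P) : G)) h1
    change u * w * u⁻¹ = v * w * v⁻¹ at h2
    refine hw1 (hfree (v⁻¹ * u) (mul_mem (inv_mem hv) hu) (fun e => hne (inv_mul_eq_one.1 e).symm) w (hW hw) ?_)
    calc v⁻¹ * u * w = v⁻¹ * (u * w * u⁻¹) * u := by group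
      _ = w * (v⁻¹ * u) := by rw [h2]; group
  · -- the subgroup of order `p` is the prime field
    have hfw : f w = 1 := by
      rw [hf w (hW hw), ← map_one φ, φ.injective.eq_iff, AddEquiv.symm_apply_eq]
      rfl
    have hpow : ∀ k : ℕ, f (w ^ k) = k := fun k => by
      induction k with
      | zero =>
        have h := hfadd 1 (one_mem P) 1 (one_mem P)
        rw [one_mul] at h
        rw [pow_zero, Nat.cast_zero]
        linear_combination -h
      | succ k ih => rw [pow_succ, hfadd _ (pow_mem (hW hw) k) w (hW hw), ih, hfw, Nat.cast_succ]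
    have hwp : orderOf w = p := orderOf_eq_prime (hP.2 w (hW hw)) hw1
    have hzp : W = zpowers w := (Subgroup.eq_of_le_of_card_ge (zpowers_le.2 hw) (by
      rw [hWc, Nat.card_zpowers, hwp])).symm
    constructor
    · intro hxW
      obtain ⟨k, rfl⟩ := Submonoid.mem_powers_iff _ _ |>.1
        ((isOfFinOrder_of_finite w).mem_powers_iff_mem_zpowers.2 (hzp ▸ hxW))
      rw [hpow]
      exact (Subfield.mem_bot_iff_pow_eq_self (GaloisField p q) p).1 (natCast_mem _ k)
    · intro hfix
      obtain ⟨k, hk⟩ : ∃ k : ℕ, (k : GaloisField p q) = f x := by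
        have h := (Subfield.mem_bot_iff_pow_eq_self (GaloisField p q) p).2 hfix
        rw [← ZMod.fieldRange_castHom_eq_bot (K := GaloisField p q) p, RingHom.mem_fieldRange] at h
        obtain ⟨z, hz⟩ := h
        exact ⟨z.val, by rw [← hz, ← map_natCast (ZMod.castHom dvd_rfl (GaloisField p q)), ZMod.natCast_zmod_val]⟩
      have := hinjf hx (pow_mem (hW hw) k) (by rw [hpow, hk])
      exact this ▸ pow_mem hw k

end CfsgLib.FT
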