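import Mathlib

/-!
The reducible case: an abelian group acting on an irreducible module of odd prime dimension for its extension
by a group of that prime order is diagonal, and small.
-/

set_option autoImplicit false
set_option linter.style.haveILetI false

namespace CfsgLib.FT.SideMod

universe u v

theorem card_sup_of_disjoint {A : Type v} [AddCommGroup A] {H K : AddSubgroup A} (h : H ⊓ K = ⊥) :
    Nat.card ↥(H ⊔ K) = Nat.card H * Nat.card K := by
  rw [← Nat.card_prod]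
  refine (Nat.card_congr (Equiv.ofBijective (fun x : H × K => (⟨(x.1 : A) + x.2,
    AddSubgroup.add_mem_sup x.1.2 x.2.2⟩ : ↥(H ⊔ K))) ⟨?_, ?_⟩)).symm
  · rintro ⟨a, b⟩ ⟨c, d⟩ he
    have he' : (a : A) + b = c + d := congrArg Subtype.val he
    have hm : (a : A) - c ∈ H ⊓ K := ⟨H.sub_mem a.2 c.2, by
      rw [show (a : A) - c = d - b from sub_eq_sub_iff_add_eq_add.2 (by rw [he']; abel)]
      exact K.sub_mem d.2 b.2⟩
    rw [h, AddSubgroup.mem_bot, sub_eq_zero] at hm
    rw [hm, add_right_inj] at he'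
    exact Prod.ext (Subtype.ext hm) (Subtype.ext he')
  · rintro ⟨x, hx⟩
    obtain ⟨y, hy, z, hz, rfl⟩ := AddSubgroup.mem_sup.1 hx
    exact ⟨(⟨y, hy⟩, ⟨z, hz⟩), rfl⟩

variable {Γ : Type u} [Group Γ] [Finite Γ] {A : Type v} [AddCommGroup A] [Finite A]
  (r : Γ →* AddMonoid.End A) {U W : Subgroup Γ}

theorem apply_mul (a b : Γ) (x : A) : r (a * b) x = r a (r b x) := by rw [map_mul]; rfl

theorem apply_injective_diag (g : Γ) : Function.Injective (r g : A → A) := fun x y h => by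
  have h1 := congrArg (r g⁻¹) h
  rwa [← apply_mul r, ← apply_mul r, inv_mul_cancel, map_one] at h1

theorem apply_inv_self (a : Γ) (x : A) : r a⁻¹ (r a x) = x := by
  rw [← apply_mul r, inv_mul_cancel, map_one]; rfl

/-- The reducible case. -/
theorem diag_bound {p q : ℕ} [hp : Fact p.Prime] (hp2 : p ≠ 2) (hcard : Nat.card A = p ^ q)
    (hpA : ∀ x : A, p • x = 0) (hq : q.Prime) (hWq : Nat.card W = q)
    (hWU : W ≤ Subgroup.normalizer (U : Set Γ)) (hUodd : Odd (Nat.card U))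
    (hirr : ∀ S : AddSubgroup A, (∀ u ∈ U, ∀ x ∈ S, r u x ∈ S) → (∀ w ∈ W, ∀ x ∈ S, r w x ∈ S) →
      S = ⊥ ∨ S = ⊤)
    (hred : ∃ S : AddSubgroup A, (∀ u ∈ U, ∀ x ∈ S, r u x ∈ S) ∧ S ≠ ⊥ ∧ S ≠ ⊤)
    (hsurj : ∀ u ∈ U, ∃ w ∈ W, ∃ u' ∈ U, u = u'⁻¹ * (w * u' * w⁻¹)) :
    Nat.card (r.comp U.subtype).toHomUnits.range * 2 ^ (q - 1) ≤ (p - 1) ^ (q - 1) := by
  classical
  haveI : Fintype W := Fintype.ofFinite _
  set inv : AddSubgroup A → Prop := fun S => ∀ u ∈ U, ∀ x ∈ S, r u x ∈ S with hinv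
  have hne : ∃ n, ∃ S : AddSubgroup A, inv S ∧ S ≠ ⊥ ∧ Nat.card S = n := by
    obtain ⟨S, h1, h2, -⟩ := hred; exact ⟨_, S, h1, h2, rfl⟩
  obtain ⟨D, hDinv, hDne, hDc⟩ := Nat.find_spec hne
  have hmin : ∀ S, inv S → S ≤ D → S = ⊥ ∨ S = D := by
    intro S hS hle
    by_cases h0 : S = ⊥
    · exact Or.inl h0
    · exact Or.inr (AddSubgroup.eq_of_le_of_card_ge hle (hDc ▸ Nat.find_min' hne ⟨S, hS, h0, rfl⟩))
  have hDtop : D ≠ ⊤ := by
    intro h
    obtain ⟨S, h1, h2, h3⟩ := hred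
    rcases hmin S h1 (h ▸ le_top) with h4 | h4
    · exact h2 h4
    · exact h3 (h4.trans h)
  let tr : Γ → AddSubgroup A := fun w => D.map (r w)
  have hwU : ∀ w ∈ W, ∀ u ∈ U, w⁻¹ * u * w ∈ U := fun w hw u hu => by
    have := (Subgroup.mem_normalizer_iff.1 (hWU (inv_mem hw)) u).1 hu
    rwa [inv_inv] at this
  have htr : ∀ w ∈ W, inv (tr w) := by
    rintro w hw u hu _ ⟨x, hx, rfl⟩
    refine ⟨r (w⁻¹ * u * w) x, hDinv _ (hwU w hw u hu) x hx, ?_⟩
    exact (apply_mul r w _ x).symm.trans ((congrArg (fun g => r g x)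
      (show w * (w⁻¹ * u * w) = u * w by group)).trans (apply_mul r u w x))
  have hinvSup : ∀ T : Finset W, inv (T.sup fun v => tr v) := by
    intro T
    induction T using Finset.induction_on with
    | empty => intro u _ x hx; rw [Finset.sup_empty, AddSubgroup.mem_bot] at hx ⊢; rw [hx, map_zero]
    | insert a T ha ih =>
      intro u hu x hx
      rw [Finset.sup_insert] at hx ⊢
      obtain ⟨y, hy, z, hz, rfl⟩ := AddSubgroup.mem_sup.1 hx
      rw [map_add]
      exact AddSubgroup.add_mem_sup (htr a a.2 u hu y hy) (ih u hu z hz)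
  have hpow : ∀ T : Finset W, ∃ k : ℕ, Nat.card ↥(T.sup fun v => tr v) = Nat.card D ^ k := by
    intro T
    induction T using Finset.induction_on with
    | empty => exact ⟨0, by rw [Finset.sup_empty, AddSubgroup.card_bot, pow_zero]⟩
    | insert a T ha ih =>
      obtain ⟨k, hk⟩ := ih
      rw [Finset.sup_insert]
      set Sg := T.sup fun v => tr (v : Γ) with hSg
      have hI : inv ((tr a ⊓ Sg).comap (r (a : Γ)) ⊓ D) := fun u hu x hx => by
        refine ⟨?_, hDinv u hu x hx.2⟩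
        show r (a : Γ) (r u x) ∈ tr a ⊓ Sg
        rw [← apply_mul r, show (a : Γ) * u = ((a : Γ) * u * (a : Γ)⁻¹) * a by group, apply_mul]
        have hau : (a : Γ) * u * (a : Γ)⁻¹ ∈ U := (Subgroup.mem_normalizer_iff.1 (hWU a.2) u).1 hu
        exact ⟨htr a a.2 _ hau _ hx.1.1, hinvSup T _ hau _ hx.1.2⟩
      rcases hmin _ hI inf_le_right with h | h
      · refine ⟨k + 1, ?_⟩
        rw [card_sup_of_disjoint ?_, pow_succ', hk, Nat.card_congr (D.equivMapOfInjective _
          (apply_injective_diag r (a : Γ))).toEquiv]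
        rw [eq_bot_iff]
        rintro x ⟨⟨y, hy, rfl⟩, hx⟩
        have : y ∈ (⊥ : AddSubgroup A) := h ▸ ⟨⟨⟨y, hy, rfl⟩, hx⟩, hy⟩
        rw [AddSubgroup.mem_bot] at this ⊢
        rw [this]; exact map_zero (r (a : Γ))
      · refine ⟨k, ?_⟩
        rw [sup_eq_right.2 ?_, hk]
        rintro x ⟨y, hy, rfl⟩
        exact ((by rw [h]; exact hy : y ∈ (tr a ⊓ Sg).comap (r (a : Γ)) ⊓ D).1).2
  have htop : (Finset.univ.sup fun v : W => tr v) = ⊤ := by
    set Sg := Finset.univ.sup fun v : W => tr (v : Γ) with hSg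
    have hle : ∀ v ∈ W, tr v ≤ Sg := fun v hv =>
      Finset.le_sup (f := fun v : W => tr (v : Γ)) (Finset.mem_univ ⟨v, hv⟩)
    refine (hirr Sg (hinvSup _) ?_).resolve_left fun h => hDne ?_
    · intro w hw x hx
      suffices Sg ≤ Sg.comap (r w) from this hx
      refine Finset.sup_le fun v _ => ?_
      rintro _ ⟨y, hy, rfl⟩
      show r w (r (v : Γ) y) ∈ Sg
      rw [← apply_mul r]
      exact hle (w * v) (mul_mem hw v.2) ⟨y, hy, rfl⟩
    · rw [eq_bot_iff]
      intro x hx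
      have h1 := hle 1 (one_mem W) ⟨x, hx, rfl⟩
      rw [map_one, h] at h1
      exact h1
  have hDp : Nat.card D = p := by
    obtain ⟨k, hk⟩ := hpow Finset.univ
    rw [htop, AddSubgroup.card_top, hcard] at hk
    obtain ⟨d, hd, hdc⟩ := (Nat.dvd_prime_pow hp.out).1 (hcard ▸ D.card_addSubgroup_dvd_card)
    rw [hdc, ← pow_mul] at hk
    have hdk : d ∣ q := ⟨k, Nat.pow_right_injective hp.out.two_le hk⟩
    rcases (Nat.dvd_prime hq).1 hdk with h | h
    · rw [hdc, h, pow_one]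
    · exact absurd (AddSubgroup.eq_top_of_card_eq _ (by rw [hdc, hcard, h])) hDtop
  obtain ⟨d₀, hd₀, hd₀'⟩ := (AddSubgroup.bot_or_exists_ne_zero D).resolve_left hDne
  have hord : addOrderOf d₀ = p := addOrderOf_eq_prime (hpA d₀) hd₀'
  have hDz : D = AddSubgroup.zmultiples d₀ := (AddSubgroup.eq_of_le_of_card_ge
    (AddSubgroup.zmultiples_le_of_mem hd₀) (by rw [hDp, Nat.card_zmultiples, hord])).symm
  have hex : ∀ u : U, ∃ n : ZMod p, r (u : Γ) d₀ = n.val • d₀ := fun u => by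
    obtain ⟨k, hk⟩ := AddSubgroup.mem_zmultiples_iff.1 (hDz ▸ hDinv u u.2 d₀ hd₀)
    refine ⟨(k : ZMod p), hk ▸ ?_⟩
    rw [← natCast_zsmul, ZMod.val_intCast, zsmul_eq_zsmul_iff_modEq, hord]
    exact (Int.mod_modEq k p).symm
  choose l hl using hex
  have huniq : ∀ m n : ℕ, m • d₀ = n • d₀ → (m : ZMod p) = n := fun m n h => by
    rw [ZMod.natCast_eq_natCast_iff, ← hord]
    exact nsmul_eq_nsmul_iff_modEq.1 h
  let lam : U →* ZMod p :=
    { toFun := l
      map_one' := by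
        have h := hl 1
        rw [OneMemClass.coe_one, map_one, show (1 : AddMonoid.End A) d₀ = d₀ from rfl] at h
        rw [← ZMod.natCast_zmod_val (l 1), ← Nat.cast_one]
        exact huniq _ _ (by rw [one_nsmul, ← h])
      map_mul' := fun a b => by
        have h := hl (a * b)
        rw [Subgroup.coe_mul, apply_mul, hl b, map_nsmul, hl a, smul_smul] at h
        rw [← ZMod.natCast_zmod_val (l (a * b)), ← huniq _ _ h, Nat.cast_mul, ZMod.natCast_zmod_val,
          ZMod.natCast_zmod_val, mul_comm] }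
  let lu : U →* (ZMod p)ˣ := lam.toHomUnits
  let Φ : U →* (W → (ZMod p)ˣ) :=
    { toFun := fun u v => lu ⟨(v : Γ)⁻¹ * u * v, hwU v v.2 u u.2⟩
      map_one' := funext fun v => by
        rw [Pi.one_apply, ← map_one lu]
        exact congrArg lu (Subtype.ext (by simp))
      map_mul' := fun a b => funext fun v => by
        rw [Pi.mul_apply, ← map_mul]
        exact congrArg lu (Subtype.ext (by simp [mul_assoc])) }
  have hker : Φ.ker ≤ (r.comp U.subtype).toHomUnits.ker := by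
    intro u hu
    rw [MonoidHom.mem_ker] at hu ⊢
    refine Units.ext (AddMonoidHom.ext fun x => ?_)
    show r (u : Γ) x = x
    have hx : x ∈ Finset.univ.sup fun v : W => tr v := htop ▸ AddSubgroup.mem_top x
    refine (show (Finset.univ.sup fun v : W => tr v) ≤
      AddMonoidHom.eqLocus (r (u : Γ)) (AddMonoidHom.id A) from ?_) hx
    refine Finset.sup_le fun v _ => ?_
    rintro _ ⟨y, hy, rfl⟩
    show r (u : Γ) (r (v : Γ) y) = r (v : Γ) y
    rw [hDz] at hy
    obtain ⟨k, rfl⟩ := AddSubgroup.mem_zmultiples_iff.1 hy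
    rw [← apply_mul r, show (u : Γ) * v = v * ((v : Γ)⁻¹ * u * v) by group, apply_mul, map_zsmul (r _)]
    congr 2
    have h1 : l ⟨(v : Γ)⁻¹ * u * v, hwU v v.2 u u.2⟩ = 1 := congrArg Units.val (congrFun hu v)
    rw [show r ((v : Γ)⁻¹ * u * v) d₀ = (l ⟨(v : Γ)⁻¹ * u * v, hwU v v.2 u u.2⟩).val • d₀ from
        hl ⟨(v : Γ)⁻¹ * u * v, hwU v v.2 u u.2⟩,
      h1, ZMod.val_one, one_nsmul]
  let O : Subgroup (ZMod p)ˣ := (powMonoidHom 2).range
  have hluO : ∀ u : U, lu u ∈ O := fun u => by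
    obtain ⟨k, hk⟩ := hUodd
    refine ⟨lu (u ^ (k + 1)), ?_⟩
    show lu (u ^ (k + 1)) ^ 2 = lu u
    rw [← map_pow, ← pow_mul, show (k + 1) * 2 = (2 * k + 1) + 1 by ring, ← hk, pow_succ,
      pow_card_eq_one', one_mul]
  have hprod : ∀ u : U, ∏ v, Φ u v = 1 := fun u => by
    obtain ⟨w, hw, u', hu', he⟩ := hsurj u u.2
    have hwu : w * u' * w⁻¹ ∈ U := (Subgroup.mem_normalizer_iff.1 (hWU hw) u').1 hu'
    have hu2 : u = (⟨u', hu'⟩ : U)⁻¹ * ⟨w * u' * w⁻¹, hwu⟩ := Subtype.ext he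
    rw [hu2, map_mul, map_inv]
    simp only [Pi.mul_apply, Pi.inv_apply, Finset.prod_mul_distrib, Finset.prod_inv_distrib]
    rw [inv_mul_eq_one]
    refine Fintype.prod_equiv (Equiv.mulLeft (⟨w, hw⟩ : W)) _ _ fun v => ?_
    exact congrArg lu (Subtype.ext (show (v : Γ)⁻¹ * u' * v =
      (w * (v : Γ))⁻¹ * (w * u' * w⁻¹) * (w * (v : Γ)) by group))
  have hrange : Nat.card Φ.range ≤ Nat.card ({v : W // v ≠ 1} → O) := by
    refine Nat.card_le_card_of_injective (fun f v => (⟨(f : W → (ZMod p)ˣ) v.1, by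
      obtain ⟨_, u, rfl⟩ := f; exact hluO _⟩ : O)) ?_
    rintro ⟨_, u, rfl⟩ ⟨_, u', rfl⟩ h
    refine Subtype.ext (funext fun v => ?_)
    by_cases hv : v = 1
    · subst hv
      have h' : ∏ x ∈ Finset.univ.erase (1 : W), Φ u x = ∏ x ∈ Finset.univ.erase (1 : W), Φ u' x :=
        Finset.prod_congr rfl fun x hx =>
          congrArg Subtype.val (congrFun h ⟨x, (Finset.mem_erase.1 hx).1⟩)
      have h1 := (hprod u).trans (hprod u').symm
      rw [← Finset.mul_prod_erase _ _ (Finset.mem_univ (1 : W)), ← Finset.mul_prod_erase _ _ (Finset.mem_univ (1 : W)),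
        h', mul_left_inj] at h1
      exact h1
    · exact congrArg Subtype.val (congrFun h ⟨v, hv⟩)
  have hO : Nat.card O * 2 = p - 1 := by
    rw [IsCyclic.card_powMonoidHom_range, Nat.card_units, Nat.card_zmod]
    have h2 : 2 ∣ p - 1 := by
      have := hp.out.eq_two_or_odd.resolve_left hp2
      omega
    rw [Nat.gcd_eq_right h2, Nat.div_mul_cancel h2]
  have hW1 : Nat.card {v : W // v ≠ 1} = q - 1 := by
    rw [Nat.card_eq_fintype_card, Fintype.card_subtype_compl, Fintype.card_subtype_eq,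
      ← Nat.card_eq_fintype_card, hWq]
  have hle : Nat.card (r.comp U.subtype).toHomUnits.range ≤ Nat.card Φ.range := by
    rw [← Subgroup.index_ker, ← Subgroup.index_ker]
    exact Nat.le_of_dvd (Nat.pos_of_ne_zero Subgroup.index_ne_zero_of_finite) (Subgroup.index_dvd_of_le hker)
  calc Nat.card (r.comp U.subtype).toHomUnits.range * 2 ^ (q - 1)
      ≤ Nat.card ({v : W // v ≠ 1} → O) * 2 ^ (q - 1) := Nat.mul_le_mul_right _ (hle.trans hrange)
    _ = (p - 1) ^ (q - 1) := by rw [Nat.card_fun, hW1, ← mul_pow, hO]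

end CfsgLib.FT.SideMod
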