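import Mathlib

/-!
Commuting endomorphisms of a finite abelian group of exponent `p`: the irreducible case gives a field, and
no bilinear form is invariant when the field has odd degree.
-/

set_option autoImplicit false
set_option linter.style.haveILetI false

namespace CfsgLib.FT.SideMod

universe u v w

variable {Γ : Type u} [Group Γ] {A : Type v} [AddCommGroup A] (ρ : Γ →* AddMonoid.End A)

/-- The subring generated by the image of `ρ`. -/
def span : Subring (AddMonoid.End A) := Subring.closure (Set.range ρ)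

/-- `ρ` seen in its subring. -/
def toSpan : Γ →* span ρ where
  toFun g := ⟨ρ g, Subring.subset_closure ⟨g, rfl⟩⟩
  map_one' := Subtype.ext (map_one ρ)
  map_mul' a b := Subtype.ext (map_mul ρ a b)

theorem toSpan_apply (g : Γ) : ((toSpan ρ g : span ρ) : AddMonoid.End A) = ρ g := rfl

theorem apply_injective (g : Γ) : Function.Injective (ρ g : A → A) := by
  intro x y h
  have h1 : ∀ z, ρ g⁻¹ (ρ g z) = z := fun z => by
    show (ρ g⁻¹ * ρ g) z = z
    rw [← map_mul, inv_mul_cancel, map_one]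
    rfl
  rw [← h1 x, h, h1]

variable (hcomm : ∀ a b : Γ, ρ a * ρ b = ρ b * ρ a)
  (hirr : ∀ S : AddSubgroup A, (∀ g, ∀ x ∈ S, ρ g x ∈ S) → S = ⊥ ∨ S = ⊤)

include hcomm in
theorem comm_span {a : AddMonoid.End A} (ha : a ∈ span ρ) (g : Γ) : a * ρ g = ρ g * a := by
  induction ha using Subring.closure_induction with
  | mem x hx => obtain ⟨h, rfl⟩ := hx; exact hcomm h g
  | zero => rw [zero_mul, mul_zero]
  | one => rw [one_mul, mul_one]
  | add x y _ _ hx hy => rw [add_mul, mul_add, hx, hy]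
  | neg x _ hx => rw [neg_mul, mul_neg, hx]
  | mul x y _ _ hx hy => rw [mul_assoc, hy, ← mul_assoc, hx, mul_assoc]

include hcomm hirr in
theorem apply_eq_zero {a : span ρ} (ha : a ≠ 0) {x : A} (hx : (a : AddMonoid.End A) x = 0) :
    x = 0 := by
  rcases hirr (AddMonoidHom.ker (a : AddMonoid.End A)) (fun g y hy => by
      show ((a : AddMonoid.End A) * ρ g) y = 0
      rw [comm_span ρ hcomm a.2 g]
      show ρ g ((a : AddMonoid.End A) y) = 0
      rw [show (a : AddMonoid.End A) y = 0 from hy, map_zero]) with h | h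
  · exact AddSubgroup.mem_bot.1 (h ▸ hx : x ∈ (⊥ : AddSubgroup A))
  · exact absurd (Subtype.ext (AddMonoidHom.ext fun y =>
      (h ▸ AddSubgroup.mem_top y : y ∈ AddMonoidHom.ker (a : AddMonoid.End A))) : a = 0) ha

/-- Evaluation at a point. -/
def evalAt (v₀ : A) : span ρ →+ A where
  toFun a := (a : AddMonoid.End A) v₀
  map_zero' := rfl
  map_add' _ _ := rfl

include hcomm hirr in
theorem evalAt_bijective {v₀ : A} (hv : v₀ ≠ 0) : Function.Bijective (evalAt ρ v₀) := by
  refine ⟨(injective_iff_map_eq_zero _).2 fun a ha =>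
    by_contra fun hne => hv (apply_eq_zero ρ hcomm hirr hne ha), ?_⟩
  rw [← AddMonoidHom.range_eq_top]
  refine (hirr _ fun g x hx => ?_).resolve_left fun h => hv ?_
  · obtain ⟨a, rfl⟩ := hx
    exact ⟨toSpan ρ g * a, rfl⟩
  · exact AddSubgroup.mem_bot.1 (h ▸ (⟨1, rfl⟩ : v₀ ∈ (evalAt ρ v₀).range))

include hcomm hirr in
/-- In the irreducible case the subring is a field with as many elements as `A`. -/
theorem span_isField [Finite A] {v₀ : A} (hv : v₀ ≠ 0) :
    IsField (span ρ) ∧ Nat.card (span ρ) = Nat.card A := by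
  have hb := evalAt_bijective ρ hcomm hirr hv
  haveI : Finite (span ρ) := Finite.of_injective _ hb.1
  haveI : IsMulCommutative (span ρ) := Subring.isMulCommutative_closure (by
    rintro _ ⟨a, rfl⟩ _ ⟨b, rfl⟩; exact hcomm a b)
  letI : CommRing (span ρ) := open scoped IsMulCommutative in inferInstance
  haveI : Nontrivial (span ρ) := ⟨⟨0, 1, fun h => hv (congrArg (evalAt ρ v₀) h).symm⟩⟩
  haveI : NoZeroDivisors (span ρ) := ⟨fun {a b} hab => by
    by_contra hh
    push Not at hh
    exact hh.2 ((injective_iff_map_eq_zero _).1 hb.1 b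
      (apply_eq_zero ρ hcomm hirr hh.1 (congrArg (evalAt ρ v₀) hab)))⟩
  haveI : IsDomain (span ρ) := NoZeroDivisors.to_isDomain _
  exact ⟨Finite.isField_of_domain _, Nat.card_congr (Equiv.ofBijective _ hb)⟩

/-- An endomorphism of `A` commuting with the image and fixed by a natural number. -/
theorem natCast_apply (n : ℕ) (x : A) : (n : AddMonoid.End A) x = n • x := rfl

include hcomm hirr in
/-- The image is cyclic; if it meets the scalars trivially its order is prime to `p - 1` and
their product divides `p ^ q - 1`. -/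
theorem image_facts [Finite A] {p q : ℕ} [hp : Fact p.Prime] (hcard : Nat.card A = p ^ q) (hq : q ≠ 0)
    (hpA : ∀ x : A, p • x = 0)
    (hscal : ∀ (g : Γ) (n : ℕ), ρ g = (n : AddMonoid.End A) → ρ g = 1) :
    (∃ g : Γ, ∀ a : Γ, ∃ k : ℕ, ρ a = ρ (g ^ k)) ∧
      Nat.card ρ.toHomUnits.range * (p - 1) ∣ p ^ q - 1 ∧
      (Nat.card ρ.toHomUnits.range).Coprime (p - 1) ∧
      ∀ g, ρ g ≠ 1 → ∀ x, ρ g x = x → x = 0 := by
  classical
  haveI : Nontrivial A := Finite.one_lt_card_iff_nontrivial.1 (hcard ▸ Nat.one_lt_pow hq hp.out.one_lt)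
  obtain ⟨v₀, hv₀⟩ := exists_ne (0 : A)
  obtain ⟨hF, hFc⟩ := span_isField ρ hcomm hirr hv₀
  rw [hcard] at hFc
  letI : Field (span ρ) := hF.toField
  haveI : Finite (span ρ) := Nat.finite_of_card_ne_zero (by rw [hFc]; exact (pow_pos hp.out.pos q).ne')
  haveI : CharP (span ρ) p := (CharP.charP_iff_prime_eq_zero hp.out).2 (Subtype.ext (AddMonoidHom.ext fun x => by
    rw [SubringClass.coe_natCast]
    exact hpA x))
  let u : Γ →* (span ρ)ˣ := (toSpan ρ).toHomUnits
  have hu : ∀ g, ((u g : (span ρ)ˣ) : span ρ) = toSpan ρ g := fun g => rfl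
  let c : (ZMod p)ˣ →* (span ρ)ˣ := Units.map (ZMod.castHom dvd_rfl (span ρ) : ZMod p →* span ρ)
  have hc : Function.Injective c := Units.map_injective (ZMod.castHom_injective _)
  have hdisj : Disjoint u.range c.range := by
    rw [Subgroup.disjoint_def]
    rintro _ ⟨g, rfl⟩ ⟨z, hz⟩
    refine Units.ext (Subtype.ext ?_)
    refine hscal g (z : ZMod p).val ?_
    have h1 := congrArg (fun a : (span ρ)ˣ => ((a : span ρ) : AddMonoid.End A)) hz
    simp only [c, Units.coe_map, MonoidHom.coe_coe, hu, toSpan_apply] at h1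
    rw [← ZMod.natCast_zmod_val (z : ZMod p), map_natCast, SubringClass.coe_natCast] at h1
    exact h1.symm
  let m : u.range × (ZMod p)ˣ →* (span ρ)ˣ := u.range.subtype.coprod c
  have hm : Function.Injective m := by
    refine (injective_iff_map_eq_one m).2 fun ⟨a, b⟩ h => ?_
    change (a : (span ρ)ˣ) * c b = 1 at h
    have ha : (a : (span ρ)ˣ) = 1 := Subgroup.disjoint_def.1 hdisj a.2
      ⟨b⁻¹, by rw [map_inv]; exact (eq_inv_of_mul_eq_one_left h).symm⟩
    rw [ha, one_mul] at h
    exact Prod.ext (Subtype.ext ha) (hc (h.trans (map_one c).symm))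
  have hcu : Nat.card u.range = Nat.card ρ.toHomUnits.range := by
    have hk : u.ker = ρ.toHomUnits.ker := by
      ext g
      simp only [MonoidHom.mem_ker, Units.ext_iff, Subtype.ext_iff]
      rfl
    rw [← Subgroup.index_ker, ← Subgroup.index_ker, hk]
  haveI : IsCyclic (u.range × (ZMod p)ˣ) := isCyclic_of_injective m hm
  haveI : IsCyclic u.range := inferInstance
  refine ⟨?_, ?_, ?_, ?_⟩
  · obtain ⟨a, ha⟩ := IsCyclic.exists_monoid_generator (α := u.range)
    obtain ⟨_, g, rfl⟩ := a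
    refine ⟨g, fun b => ?_⟩
    obtain ⟨k, hk⟩ := Submonoid.mem_powers_iff _ _ |>.1 (ha ⟨u b, b, rfl⟩)
    refine ⟨k, ?_⟩
    have h := congrArg (fun x : u.range => (((x : (span ρ)ˣ) : span ρ) : AddMonoid.End A)) hk
    rw [map_pow ρ]
    simpa [hu, toSpan_apply] using h.symm
  · have h := Subgroup.card_dvd_of_injective m hm
    rwa [Nat.card_prod, hcu, Nat.card_units, Nat.card_units, Nat.card_zmod, hFc] at h
  · have h := (Group.isCyclic_prod_iff.1 (inferInstance : IsCyclic (u.range × (ZMod p)ˣ))).2.2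
    rwa [hcu, Nat.card_units, Nat.card_zmod] at h
  · intro g hg x hx
    refine apply_eq_zero ρ hcomm hirr (a := toSpan ρ g - 1) (fun h => hg ?_) ?_
    · exact congrArg Subtype.val (sub_eq_zero.1 h)
    · show ρ g x - x = 0
      rw [hx, sub_self]

include hcomm hirr in
/-- A bilinear map invariant under the image vanishes when the dimension is odd, unless some image squares
to the identity. -/
theorem form_eq_zero [Finite A] {p q : ℕ} [hp : Fact p.Prime] (hcard : Nat.card A = p ^ q) (hq : Odd q)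
    (hpA : ∀ x : A, p • x = 0) {g₀ : Γ} (hg₀ : ρ g₀ * ρ g₀ ≠ 1) {B : Type w} [AddCommGroup B]
    (b : A →+ A →+ B) (hb : ∀ g x y, b (ρ g x) (ρ g y) = b x y) (x y : A) : b x y = 0 := by
  classical
  haveI : Nontrivial A := Finite.one_lt_card_iff_nontrivial.1
    (hcard ▸ Nat.one_lt_pow (Nat.ne_of_odd_add (by simpa using hq) : q ≠ 0) hp.out.one_lt)
  obtain ⟨v₀, hv₀⟩ := exists_ne (0 : A)
  obtain ⟨hF, hFc⟩ := span_isField ρ hcomm hirr hv₀
  rw [hcard] at hFc
  letI : Field (span ρ) := hF.toField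
  haveI : Finite (span ρ) := Nat.finite_of_card_ne_zero (by rw [hFc]; exact (pow_pos hp.out.pos q).ne')
  haveI : CharP (span ρ) p := (CharP.charP_iff_prime_eq_zero hp.out).2 (Subtype.ext (AddMonoidHom.ext fun x => by
    rw [SubringClass.coe_natCast]
    exact hpA x))
  let S : Subring (span ρ × span ρ) :=
    { carrier := {c | ∀ x y, b ((c.1 : AddMonoid.End A) x) y = b x ((c.2 : AddMonoid.End A) y)}
      one_mem' := fun x y => rfl
      mul_mem' := fun {c d} hc hd x y => by
        show b (((c.1 * d.1 : span ρ) : AddMonoid.End A) x) y = b x (((c.2 * d.2 : span ρ) : AddMonoid.End A) y)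
        rw [mul_comm c.2 d.2]
        exact (hc _ y).trans (hd x _)
      add_mem' := fun {c d} hc hd x y => by
        show b ((c.1 : AddMonoid.End A) x + (d.1 : AddMonoid.End A) x) y =
          b x ((c.2 : AddMonoid.End A) y + (d.2 : AddMonoid.End A) y)
        rw [map_add, AddMonoidHom.add_apply, map_add, hc, hd]
      zero_mem' := fun x y => by
        show b 0 y = b x 0
        rw [map_zero, AddMonoidHom.zero_apply, map_zero]
      neg_mem' := fun {c} hc x y => by
        show b (-(c.1 : AddMonoid.End A) x) y = b x (-(c.2 : AddMonoid.End A) y)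
        rw [map_neg, AddMonoidHom.neg_apply, map_neg, hc] }
  have hgen : ∀ g, (toSpan ρ g, toSpan ρ g⁻¹) ∈ S := fun g x y => by
    show b (ρ g x) y = b x (ρ g⁻¹ y)
    rw [← hb g x (ρ g⁻¹ y)]
    congr 1
    show y = (ρ g * ρ g⁻¹) y
    rw [← map_mul, mul_inv_cancel, map_one]
    rfl
  by_contra hne
  have hzero : ∀ a' : span ρ, (0, a') ∈ S → a' = 0 := fun a' ha => by
    by_contra h0
    refine hne ?_
    have h1 := ha x (((a'⁻¹ : span ρ) : AddMonoid.End A) y)
    change b 0 _ = b x (((a' * a'⁻¹ : span ρ) : AddMonoid.End A) y) at h1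
    rw [mul_inv_cancel₀ h0, map_zero, AddMonoidHom.zero_apply] at h1
    exact h1.symm
  have hsurj : ∀ a : span ρ, ∃ a', (a, a') ∈ S := by
    rintro ⟨a, ha⟩
    induction ha using Subring.closure_induction with
    | mem x hx => obtain ⟨g, rfl⟩ := hx; exact ⟨_, hgen g⟩
    | zero => exact ⟨0, S.zero_mem⟩
    | one => exact ⟨1, S.one_mem⟩
    | add x y _ _ hx hy =>
      obtain ⟨x', hx'⟩ := hx; obtain ⟨y', hy'⟩ := hy; exact ⟨x' + y', S.add_mem hx' hy'⟩
    | neg x _ hx => obtain ⟨x', hx'⟩ := hx; exact ⟨-x', S.neg_mem hx'⟩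
    | mul x y _ _ hx hy =>
      obtain ⟨x', hx'⟩ := hx; obtain ⟨y', hy'⟩ := hy; exact ⟨x' * y', S.mul_mem hx' hy'⟩
  choose σ hσ using hsurj
  have huniq : ∀ a a', (a, a') ∈ S → σ a = a' := fun a a' h => by
    have h1 := S.sub_mem (hσ a) h
    rw [Prod.mk_sub_mk, sub_self] at h1
    exact sub_eq_zero.1 (hzero _ h1)
  let f : span ρ →+* span ρ :=
    { toFun := σ
      map_one' := huniq _ _ S.one_mem
      map_mul' := fun a c => huniq _ _ (S.mul_mem (hσ a) (hσ c))
      map_zero' := huniq _ _ S.zero_mem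
      map_add' := fun a c => huniq _ _ (S.add_mem (hσ a) (hσ c)) }
  have hfg : ∀ g, f (toSpan ρ g) = toSpan ρ g⁻¹ := fun g => huniq _ _ (hgen g)
  have hff : ∀ a, f (f a) = a := by
    rintro ⟨a, ha⟩
    induction ha using Subring.closure_induction with
    | mem x hx =>
      obtain ⟨g, rfl⟩ := hx
      show f (f (toSpan ρ g)) = toSpan ρ g
      rw [hfg, hfg, inv_inv]
    | zero => show f (f 0) = 0; rw [map_zero, map_zero]
    | one => show f (f 1) = 1; rw [map_one, map_one]
    | add x y hx' hy' hx hy =>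
      show f (f (⟨x, hx'⟩ + ⟨y, hy'⟩)) = ⟨x, hx'⟩ + ⟨y, hy'⟩
      rw [map_add, map_add, hx, hy]
    | neg x hx' hx =>
      show f (f (-⟨x, hx'⟩)) = -⟨x, hx'⟩
      rw [map_neg, map_neg, hx]
    | mul x y hx' hy' hx hy =>
      show f (f (⟨x, hx'⟩ * ⟨y, hy'⟩)) = ⟨x, hx'⟩ * ⟨y, hy'⟩
      rw [map_mul, map_mul, hx, hy]
  letI : Algebra (ZMod p) (span ρ) := ZMod.algebra _ p
  haveI : Fact (Nat.card (span ρ) = p ^ q) := ⟨hFc⟩
  let e : (span ρ) ≃ₐ[ZMod p] (span ρ) :=
    AlgEquiv.ofRingEquiv (f := RingEquiv.ofBijective f ⟨Function.LeftInverse.injective hff,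
      Function.RightInverse.surjective hff⟩) (fun z => by
        show f (algebraMap (ZMod p) (span ρ) z) = _
        exact RingHom.congr_fun (RingHom.ext_zmod (f.comp (algebraMap (ZMod p) (span ρ))) _) z)
  have hcardaut : Nat.card ((span ρ) ≃ₐ[ZMod p] (span ρ)) = q := by
    rw [IsGalois.card_aut_eq_finrank]
    have h := Module.natCard_eq_pow_finrank (K := ZMod p) (V := span ρ)
    rw [hFc, Nat.card_zmod] at h
    exact (Nat.pow_right_injective hp.out.two_le h).symm
  have he2 : e ^ 2 = 1 := AlgEquiv.ext fun a => by rw [pow_two]; exact hff a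
  have he : e = 1 := orderOf_eq_one_iff.1 (Nat.eq_one_of_dvd_coprimes
    (Nat.coprime_two_left.2 hq : Nat.Coprime 2 q) (orderOf_dvd_of_pow_eq_one he2)
    (hcardaut ▸ orderOf_dvd_natCard e))
  refine hg₀ ?_
  have h1 : toSpan ρ g₀⁻¹ = toSpan ρ g₀ := by
    rw [← hfg]
    exact congrArg (fun e' : (span ρ) ≃ₐ[ZMod p] (span ρ) => e' (toSpan ρ g₀)) he
  have h2 : ρ g₀⁻¹ = ρ g₀ := congrArg Subtype.val h1
  rw [← map_one ρ, ← mul_inv_cancel g₀, map_mul, h2]

end CfsgLib.FT.SideMod
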