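import Cfsg.Agent.Lib.FT.Pair
import Cfsg.Agent.Lib.FT.FieldModel
import Cfsg.Agent.Lib.FT.SideModuleRing
import Cfsg.Agent.Lib.FT.SideModuleDiag
import Cfsg.Agent.Lib.OddOrder.FHall

/-!
FT module SideModule: `R/C_R(U)`, of order `p^q`, as a module for `U W`.

Either `Ū = U/C_U(R)` is irreducible (cyclic, free, of order dividing `p^q - 1`; an element of order dividing
`p - 1` would be a scalar, commuting with `W`), or `U` is diagonal with `q` distinct characters permuted by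
`W`, of product `1` (as `U = [U, W]`) and values in the odd part of `F_p^*`.
In the full case `field`: the image of `F_p[U]` is a field.
-/

set_option autoImplicit false
set_option linter.style.haveILetI false

namespace CfsgLib.FT

open Subgroup
open scoped commutatorElement

universe u

variable {G : Type u} [Group G] [Finite G] {M W U W' : Subgroup G}

omit [Finite G] in
theorem Side.U_le (h : Side M W U W') : U ≤ M :=
  h.typeP.U_compl.2.1.trans (commutator_le_self M)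

omit [Finite G] in
theorem Side.W_le (h : Side M W U W') : W ≤ M := h.typeP.W₁_compl.2.1

omit [Finite G] in
theorem Side.core_le (h : Side M W U W') : Cfsg.fittingHallOf M ≤ M :=
  h.typeP.U_compl.1.trans (commutator_le_self M)

/-- `u ↦ u⁻¹ w u w⁻¹` is onto `U`. -/
theorem Side.surj (h : Side M W U W') {w : G} (hw : w ∈ W) (hw1 : w ≠ 1) {u : G} (hu : u ∈ U) :
    ∃ u' ∈ U, u = u'⁻¹ * (w * u' * w⁻¹) := by
  have hn : ∀ a ∈ U, w * a * w⁻¹ ∈ U := fun a ha =>
    (mem_normalizer_iff.1 (h.typeP.U_normal hw) a).1 ha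
  let f : U → U := fun a => ⟨(a : G)⁻¹ * (w * a * w⁻¹), U.mul_mem (U.inv_mem a.2) (hn a a.2)⟩
  have hf : Function.Injective f := fun a b hab => by
    have h1 : (a : G)⁻¹ * (w * a * w⁻¹) = (b : G)⁻¹ * (w * b * w⁻¹) := congrArg Subtype.val hab
    have h2 : (b : G) * (a : G)⁻¹ ∈ U ⊓ centralizer ({w} : Set G) := by
      refine ⟨U.mul_mem b.2 (U.inv_mem a.2), mem_centralizer_singleton_iff.2 ?_⟩
      calc (b : G) * (a : G)⁻¹ * w
          = (b : G) * ((a : G)⁻¹ * (w * a * w⁻¹)) * (w * (a : G)⁻¹) := by group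
        _ = w * ((b : G) * (a : G)⁻¹) := by rw [h1]; group
    rw [h.U_frob w hw hw1, mem_bot, mul_inv_eq_one] at h2
    exact Subtype.ext h2.symm
  obtain ⟨a, ha⟩ := (Finite.injective_iff_surjective.1 hf) ⟨u, hu⟩
  exact ⟨a, a.2, (congrArg Subtype.val ha).symm⟩

theorem dichotomy (hodd : Odd (Nat.card G)) (h : Side M W U W') :
    ((∃ g ∈ U, U = zpowers g ⊔ kerU M U) ∧
      (kerU M U).relIndex U * (Nat.card W' - 1) ∣ Nat.card W' ^ Nat.card W - 1 ∧
      ((kerU M U).relIndex U).Coprime (Nat.card W' - 1) ∧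
      ∀ u ∈ U, u ∉ kerU M U → ∀ x ∈ Cfsg.fittingHallOf M,
        u * x * u⁻¹ * x⁻¹ ∈ fixCore M U → x ∈ fixCore M U) ∨
    (kerU M U).relIndex U * 2 ^ (Nat.card W - 1) ≤ (Nat.card W' - 1) ^ (Nat.card W - 1) := by
  classical
  haveI : Fact (Nat.card W').Prime := ⟨h.p_prime⟩
  haveI : Fact (Nat.card W).Prime := ⟨h.q_prime⟩
  set R := Cfsg.fittingHallOf M with hR
  set C := fixCore M U with hC
  have hRn : M ≤ normalizer (R : Set G) := CfsgLib.OddOrder.le_normalizer_fittingHallOf M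
  have hCR : C ≤ R := inf_le_left
  haveI hCn : (C.subgroupOf R).Normal :=
    (normal_subgroupOf_iff_le_normalizer hCR).2 (h.core_le.trans h.fix_normal)
  letI : CommGroup (R ⧸ C.subgroupOf R) :=
    { (inferInstance : Group (R ⧸ C.subgroupOf R)) with
      mul_comm := fun a b => by
        obtain ⟨a, rfl⟩ := QuotientGroup.mk_surjective a
        obtain ⟨b, rfl⟩ := QuotientGroup.mk_surjective b
        rw [← QuotientGroup.mk_mul, ← QuotientGroup.mk_mul, QuotientGroup.eq_iff_div_mem,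
          mem_subgroupOf]
        refine h.quot_comm ?_
        have := commutator_mem_commutator a.2 b.2
        rwa [show ((a * b / (b * a) : R) : G) = ⁅(a : G), (b : G)⁆ by
          simp [div_eq_mul_inv, commutatorElement_def, mul_assoc]] }
  let cj : M →* MulAut R := R.normalizerMonoidHom.comp (inclusion hRn)
  have hcj : ∀ (m : M) (x : R), ((cj m x : R) : G) = (m : G) * x * (m : G)⁻¹ := fun m x => rfl
  let r : M →* AddMonoid.End (Additive (R ⧸ C.subgroupOf R)) :=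
    { toFun := fun m => MonoidHom.toAdditive (QuotientGroup.map (C.subgroupOf R) (C.subgroupOf R)
        (cj m).toMonoidHom (fun x hx => by
          rw [mem_comap, mem_subgroupOf]
          exact (mem_normalizer_iff.1 (h.fix_normal m.2) x).1 hx))
      map_one' := AddMonoidHom.ext fun x => by
        obtain ⟨y, hy⟩ := QuotientGroup.mk_surjective (Additive.toMul x)
        obtain rfl : Additive.ofMul (y : R ⧸ C.subgroupOf R) = x := congrArg Additive.ofMul hy
        show Additive.ofMul ((cj 1 y : R) : R ⧸ C.subgroupOf R) = Additive.ofMul (y : R ⧸ C.subgroupOf R)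
        rw [map_one]
        rfl
      map_mul' := fun a b => AddMonoidHom.ext fun x => by
        obtain ⟨y, hy⟩ := QuotientGroup.mk_surjective (Additive.toMul x)
        obtain rfl : Additive.ofMul (y : R ⧸ C.subgroupOf R) = x := congrArg Additive.ofMul hy
        show Additive.ofMul ((cj (a * b) y : R) : R ⧸ C.subgroupOf R) =
          Additive.ofMul ((cj a (cj b y) : R) : R ⧸ C.subgroupOf R)
        rw [map_mul]
        rfl }
  let q : R → Additive (R ⧸ C.subgroupOf R) := fun x => Additive.ofMul (x : R ⧸ C.subgroupOf R)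
  have hq : Function.Surjective q := fun x => by
    obtain ⟨y, hy⟩ := QuotientGroup.mk_surjective (Additive.toMul x)
    exact ⟨y, congrArg Additive.ofMul hy⟩
  have hrq : ∀ (m : M) (x : R), r m (q x) = q (cj m x) := fun m x => rfl
  have hfix : ∀ (m : M) (x : R), r m (q x) = q x ↔ (m : G) * x * (m : G)⁻¹ * (x : G)⁻¹ ∈ C := by
    intro m x
    rw [hrq]
    show Additive.ofMul _ = Additive.ofMul _ ↔ _
    rw [Additive.ofMul.injective.eq_iff, QuotientGroup.eq_iff_div_mem, mem_subgroupOf, div_eq_mul_inv]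
    rfl
  have htriv : ∀ m : M, r m = 1 ↔ TrivModFix M U m := by
    refine fun m => ⟨fun hm x hx => (hfix m ⟨x, hx⟩).1 (by rw [hm]; rfl), fun hm => AddMonoidHom.ext fun y => ?_⟩
    obtain ⟨x, rfl⟩ := hq y
    exact (hfix m x).2 (hm x x.2)
  set U₁ := U.subgroupOf M with hU₁
  set W₁ := W.subgroupOf M with hW₁
  have hker : ∀ u : M, (u : G) ∈ U → (r u = 1 ↔ (u : G) ∈ kerU M U) := by
    refine fun u hu => ⟨fun hr => h.ker_eq u hu ((htriv u).1 hr), fun hk => (htriv u).2 fun x hx => ?_⟩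
    rw [kerU, mem_inf] at hk
    rw [← mem_centralizer_iff.1 hk.2 x hx, mul_inv_cancel_right, mul_inv_cancel]
    exact one_mem _
  have hcard : Nat.card (Additive (R ⧸ C.subgroupOf R)) = Nat.card W' ^ Nat.card W := h.quot_card
  have hexp : ∀ x : Additive (R ⧸ C.subgroupOf R), Nat.card W' • x = 0 := by
    intro y
    obtain ⟨x, rfl⟩ := hq y
    show Additive.ofMul ((x : R ⧸ C.subgroupOf R) ^ Nat.card W') = Additive.ofMul 1
    rw [← QuotientGroup.mk_pow, (QuotientGroup.eq_one_iff _).2]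
    rw [mem_subgroupOf, SubmonoidClass.coe_pow]
    exact h.quot_pow x x.2
  have hidx : (kerU M U).relIndex U = Nat.card (r.comp U₁.subtype).toHomUnits.range := by
    rw [← Subgroup.index_ker]
    have hk : (r.comp U₁.subtype).toHomUnits.ker = ((kerU M U).subgroupOf M).subgroupOf U₁ := by
      ext u
      rw [MonoidHom.mem_ker, mem_subgroupOf, mem_subgroupOf, ← hker (u : M) u.2, Units.ext_iff]
      rfl
    rw [hk]
    show _ = ((kerU M U).comap M.subtype).relIndex U₁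
    rw [relIndex_comap, hU₁, map_subgroupOf_eq_of_le h.U_le]
  have hUn : ∀ w : M, (w : G) ∈ W → ∀ u : M, (u : G) ∈ U → ((w * u * w⁻¹ : M) : G) ∈ U :=
    fun w hw u hu => (mem_normalizer_iff.1 (h.typeP.U_normal hw) u).1 hu
  have hirrUW : ∀ S : AddSubgroup (Additive (R ⧸ C.subgroupOf R)),
      (∀ u ∈ U₁, ∀ x ∈ S, r u x ∈ S) → (∀ w ∈ W₁, ∀ x ∈ S, r w x ∈ S) → S = ⊥ ∨ S = ⊤ := by
    intro S hSU hSW
    let N : Subgroup G :=
      { carrier := {g | ∃ hg : g ∈ R, q ⟨g, hg⟩ ∈ S}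
        one_mem' := ⟨one_mem R, S.zero_mem⟩
        mul_mem' := fun {a b} ⟨ha, ha'⟩ ⟨hb, hb'⟩ => ⟨mul_mem ha hb, S.add_mem ha' hb'⟩
        inv_mem' := fun {a} ⟨ha, ha'⟩ => ⟨inv_mem ha, S.neg_mem ha'⟩ }
    have hinv : ∀ X : Subgroup G, (hX : X ≤ M) → (∀ m : M, (m : G) ∈ X → ∀ y ∈ S, r m y ∈ S) →
        X ≤ normalizer (N : Set G) := by
      intro X hX hS x hx
      rw [mem_normalizer_iff]
      intro g
      constructor
      · rintro ⟨hg, hg'⟩
        exact ⟨(mem_normalizer_iff.1 (hRn (hX hx)) g).1 hg, hS ⟨x, hX hx⟩ hx _ hg'⟩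
      · rintro ⟨hg, hg'⟩
        refine ⟨(mem_normalizer_iff.1 (hRn (hX hx)) g).2 hg, ?_⟩
        have h1 := hS ⟨x⁻¹, inv_mem (hX hx)⟩ (inv_mem hx) _ hg'
        rw [hrq] at h1
        convert h1 using 2
        exact Subtype.ext (by rw [hcj]; group)
    rcases h.chief N (fun x hx => ⟨hCR hx, by
        rw [show q ⟨x, hCR hx⟩ = 0 from congrArg Additive.ofMul ((QuotientGroup.eq_one_iff _).2 hx)]
        exact S.zero_mem⟩) (fun x hx => hx.1)
      (sup_le (hinv U h.U_le fun m hm => hSU m hm) (hinv W h.W_le fun m hm => hSW m hm)) with hN | hN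
    · refine Or.inl (eq_bot_iff.2 fun y hy => ?_)
      obtain ⟨x, rfl⟩ := hq y
      have hxC : (x : G) ∈ C := hN.le (⟨x.2, hy⟩ : (x : G) ∈ N)
      exact congrArg Additive.ofMul ((QuotientGroup.eq_one_iff _).2 hxC)
    · refine Or.inr (eq_top_iff.2 fun y _ => ?_)
      obtain ⟨x, rfl⟩ := hq y
      exact (hN.ge x.2 : (x : G) ∈ N).2
  obtain ⟨w₀, hw₀, hw₀1⟩ : ∃ w ∈ W, w ≠ 1 := W.bot_or_exists_ne_one.resolve_left fun e => by
    have := h.q_prime
    rw [e, card_bot] at this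
    exact Nat.not_prime_one this
  by_cases hred : ∃ S : AddSubgroup (Additive (R ⧸ C.subgroupOf R)),
      (∀ u ∈ U₁, ∀ x ∈ S, r u x ∈ S) ∧ S ≠ ⊥ ∧ S ≠ ⊤
  · right
    rw [hidx]
    refine SideMod.diag_bound (W := W₁) r ?_ hcard hexp h.q_prime ?_ ?_ ?_ hirrUW hred ?_
    · intro h2
      have hd := W'.card_subgroup_dvd_card
      rw [h2] at hd
      obtain ⟨k, hk⟩ := hodd
      omega
    · exact Nat.card_congr (subgroupOfEquivOfLe h.W_le).toEquiv
    · intro w hw
      rw [mem_normalizer_iff]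
      exact fun u => mem_normalizer_iff.1 (h.typeP.U_normal hw) u
    · rw [hU₁, Nat.card_congr (subgroupOfEquivOfLe h.U_le).toEquiv]
      exact hodd.of_dvd_nat U.card_subgroup_dvd_card
    · intro u hu
      obtain ⟨u', hu', he⟩ := h.surj hw₀ hw₀1 hu
      exact ⟨⟨w₀, h.W_le hw₀⟩, hw₀, ⟨u', h.U_le hu'⟩, hu', Subtype.ext he⟩
  · left
    have hirr : ∀ S : AddSubgroup (Additive (R ⧸ C.subgroupOf R)),
        (∀ u : U₁, ∀ x ∈ S, (r.comp U₁.subtype) u x ∈ S) → S = ⊥ ∨ S = ⊤ := fun S hS =>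
      or_iff_not_imp_left.2 fun hb => by_contra fun ht => hred ⟨S, fun u hu => hS ⟨u, hu⟩, hb, ht⟩
    have hcomm : ∀ a b : U₁, (r.comp U₁.subtype) a * (r.comp U₁.subtype) b =
        (r.comp U₁.subtype) b * (r.comp U₁.subtype) a := by
      intro a b
      rw [← map_mul, ← map_mul, show a * b = ⁅a, b⁆ * (b * a) by rw [commutatorElement_def]; group,
        map_mul _ ⁅a, b⁆, show (r.comp U₁.subtype) ⁅a, b⁆ = 1 from ?_, one_mul]
      have hm := commutator_mem_commutator (H₁ := U) (H₂ := U) (mem_subgroupOf.1 a.2) (mem_subgroupOf.1 b.2)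
      exact (hker ((⁅a, b⁆ : U₁) : M) (mem_subgroupOf.1 (⁅a, b⁆ : U₁).2)).2 (h.U_commutator hm)
    have hscal : ∀ (g : U₁) (n : ℕ), (r.comp U₁.subtype) g = (n : AddMonoid.End _) →
        (r.comp U₁.subtype) g = 1 := by
      intro g n hg
      set u : M := (g : M) with hu
      change r u = _ at hg
      show r u = 1
      set w : M := ⟨w₀, h.W_le hw₀⟩ with hw
      have h1 : r (u⁻¹ * (w * u * w⁻¹)) = 1 := by
        rw [map_mul, map_mul, map_mul, hg, ← (Nat.cast_commute n (r w)).eq, mul_assoc, ← map_mul,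
          mul_inv_cancel, map_one, mul_one, ← hg, ← map_mul, inv_mul_cancel, map_one]
      have h2 : ((u⁻¹ * (w * u * w⁻¹) : M) : G) ∈ kerU M U :=
        (hker _ (mul_mem (inv_mem g.2) (hUn w hw₀ u g.2))).1 h1
      -- `a ↦ a⁻¹ w a w⁻¹` maps `kerU` onto itself
      have hkn : ∀ a ∈ kerU M U, w₀ * a * w₀⁻¹ ∈ kerU M U := by
        intro a ha
        have ha' : (⟨a, h.U_le ha.1⟩ : M).1 ∈ U := ha.1
        refine (hker (w * ⟨a, h.U_le ha.1⟩ * w⁻¹) (hUn w hw₀ _ ha')).1 ?_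
        rw [map_mul, map_mul, (hker _ ha').2 ha, mul_one, ← map_mul, mul_inv_cancel, map_one]
      let φ : ↥(kerU M U) → ↥(kerU M U) := fun a =>
        ⟨(a : G)⁻¹ * (w₀ * a * w₀⁻¹), (kerU M U).mul_mem ((kerU M U).inv_mem a.2) (hkn a a.2)⟩
      have hinjU : ∀ a b : G, a ∈ U → b ∈ U → a⁻¹ * (w₀ * a * w₀⁻¹) = b⁻¹ * (w₀ * b * w₀⁻¹) → a = b := by
        intro a b ha hb hab
        have hm : b * a⁻¹ ∈ U ⊓ centralizer ({w₀} : Set G) := by
          refine ⟨U.mul_mem hb (U.inv_mem ha), mem_centralizer_singleton_iff.2 ?_⟩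
          calc b * a⁻¹ * w₀ = b * (a⁻¹ * (w₀ * a * w₀⁻¹)) * (w₀ * a⁻¹) := by group
            _ = w₀ * (b * a⁻¹) := by rw [hab]; group
        rw [h.U_frob w₀ hw₀ hw₀1, mem_bot, mul_inv_eq_one] at hm
        exact hm.symm
      have hφ : Function.Injective φ := fun a b hab =>
        Subtype.ext (hinjU a b a.2.1 b.2.1 (congrArg Subtype.val hab))
      obtain ⟨a, ha⟩ := Finite.injective_iff_surjective.1 hφ ⟨_, h2⟩
      refine (hker u g.2).2 ?_
      rw [← hinjU a (u : G) a.2.1 g.2 (congrArg Subtype.val ha)]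
      exact a.2
    obtain ⟨⟨g, hg⟩, hdvd, hcop, hfpf⟩ := SideMod.image_facts (r.comp U₁.subtype) hcomm hirr hcard
      h.q_prime.ne_zero hexp hscal
    rw [← hidx] at hdvd hcop
    refine ⟨⟨((g : M) : G), g.2, le_antisymm (fun x hx => ?_)
      (sup_le (zpowers_le.2 g.2) inf_le_left)⟩, hdvd, hcop, fun u hu hnk x hx hxC => ?_⟩
    · obtain ⟨k, hk⟩ := hg ⟨⟨x, h.U_le hx⟩, hx⟩
      have h1 : (r.comp U₁.subtype) ((g ^ k)⁻¹ * ⟨⟨x, h.U_le hx⟩, hx⟩) = 1 := by
        rw [map_mul, hk, ← map_mul, inv_mul_cancel, map_one]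
      have h2 : (((g : M) : G) ^ k)⁻¹ * x ∈ kerU M U :=
        (hker ((((g ^ k)⁻¹ * ⟨⟨x, h.U_le hx⟩, hx⟩ : U₁) : M)) (mem_subgroupOf.1 ((g ^ k)⁻¹ * ⟨⟨x, h.U_le hx⟩, hx⟩ : U₁).2)).1 h1
      rw [show x = (((g : M) : G) ^ k) * ((((g : M) : G) ^ k)⁻¹ * x) by group]
      exact mul_mem_sup (pow_mem (mem_zpowers _) k) h2
    · have h0 := hfpf ⟨⟨u, h.U_le hu⟩, hu⟩ (fun e => hnk ((hker _ hu).1 e)) (q ⟨x, hx⟩)
        ((hfix _ _).2 hxC)
      exact mem_subgroupOf.1 ((QuotientGroup.eq_one_iff (N := C.subgroupOf R) (⟨x, hx⟩ : R)).1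
        (congrArg Additive.toMul h0 :))

/-- The field structure in the full case. -/
theorem field (hodd : Odd (Nat.card G)) (h : Side M W U W') (hf : SideFull M W U W')
    (h0 : fixCore M U = ⊥) :
    ∃ (F : Type) (_ : Field F) (_ : Fintype F) (f : G → F) (ψ : G → F),
      Fintype.card F = Nat.card W' ^ Nat.card W ∧
      Set.BijOn f (Cfsg.fittingHallOf M : Set G) Set.univ ∧
      (∀ x ∈ Cfsg.fittingHallOf M, ∀ x' ∈ Cfsg.fittingHallOf M, f (x * x') = f x + f x') ∧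
      (∀ u ∈ U, ψ u ≠ 0 ∧ ∀ x ∈ Cfsg.fittingHallOf M, f (u * x * u⁻¹) = ψ u * f x) ∧
      (∀ u ∈ U, ∀ u' ∈ U, ψ (u * u') = ψ u * ψ u') ∧ Set.InjOn ψ (U : Set G) ∧
      ∀ x ∈ Cfsg.fittingHallOf M, x ∈ W' ↔ f x ^ Nat.card W' = f x := by
  have _ := hodd
  haveI : Fact (Nat.card W').Prime := ⟨h.p_prime⟩
  refine exists_field_model h.q_prime.ne_zero ⟨commutator_self_eq_bot_iff.1 (le_bot_iff.1 ?_), ?_⟩ ?_ ?_
    (h.U_le.trans (CfsgLib.OddOrder.le_normalizer_fittingHallOf M)) ?_ hf.card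
    (h.typeP.W₂_le.trans inf_le_left) rfl
  · exact h0 ▸ h.quot_comm
  · intro x hx
    exact mem_bot.1 (h0 ▸ h.quot_pow x hx)
  · rw [← h.quot_card, h0, relIndex_bot_left]
  · intro a ha b hb
    have := h.U_commutator (commutator_mem_commutator ha hb)
    rw [hf.ker_bot, mem_bot] at this
    exact commutatorElement_eq_one_iff_mul_comm.1 this
  · intro u hu hu1 x hx hux
    have := hf.fpf u hu hu1 x hx (by rw [hux, mul_inv_cancel_right, mul_inv_cancel]; exact one_mem _)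
    rwa [h0, mem_bot] at this

end CfsgLib.FT
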