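import Cfsg.Prelude.Def_OddOrderLocal
import Cfsg.Agent.Lib.OddOrder.LinesFix
import Cfsg.Agent.Lib.OddOrder.GL2Odd
import Cfsg.Agent.Lib.OddOrder.RankTwo
import Cfsg.Agent.Lib.Solvable.Basic

/-!
FT module Chain, general tools: fixed-point-free groups of odd order acting on a line or a plane,
and narrow groups with a central plane.
-/

set_option autoImplicit false
set_option linter.style.haveILetI false
set_option linter.unusedSectionVars false

open scoped commutatorElement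

namespace CfsgLib.FT

open Subgroup CfsgLib.OddOrder

universe u

variable {G : Type u} [Group G] [Finite G] {p : ℕ} [hp : Fact p.Prime]

/-- An elementary subgroup of (cyclic of order `p`) × cyclic has order at most `p ^ 2`. -/
theorem card_le_sq_of_mul_cyclic {R₀ R₁ E : Subgroup G} (hR₀ : Nat.card R₀ = p)
    (hR₁ : IsCyclic R₁) (hdis : R₀ ⊓ R₁ = ⊥) (hcomm : ∀ a ∈ R₀, ∀ b ∈ R₁, a * b = b * a)
    (hE : Cfsg.IsElementaryAbelian p E) (hle : E ≤ R₀ ⊔ R₁) : Nat.card E ≤ p ^ 2 := by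
  have hn : R₀ ≤ normalizer (R₁ : Set G) := fun a ha => mem_normalizer_iff.2 fun b => by
    constructor
    · intro hb
      rw [hcomm a ha b hb, mul_inv_cancel_right]; exact hb
    · intro hb
      have h := hcomm a⁻¹ (inv_mem ha) _ hb
      rw [show a⁻¹ * (a * b * a⁻¹) = b * a⁻¹ by group] at h
      rwa [mul_right_cancel h]
  have hcard : Nat.card (R₁ ⊔ R₀ : Subgroup G) = Nat.card R₁ * p := by
    rw [Solvable.card_sup_of_disjoint hn (disjoint_iff.2 (inf_comm R₀ R₁ ▸ hdis)), hR₀]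
  rw [sup_comm] at hle
  have h0 : R₁.relIndex (R₁ ⊔ R₀) ≠ 0 := by
    intro h
    have := relIndex_mul_relIndex ⊥ R₁ (R₁ ⊔ R₀) bot_le le_sup_left
    rw [relIndex_bot_left, relIndex_bot_left, h, hcard, mul_zero] at this
    exact (Nat.mul_pos Nat.card_pos hp.out.pos).ne this
  have h1 : R₁.relIndex E ≤ p := by
    refine (relIndex_le_of_le_right hle h0).trans (le_of_eq ?_)
    have := relIndex_mul_relIndex ⊥ R₁ (R₁ ⊔ R₀) bot_le le_sup_left
    rw [relIndex_bot_left, relIndex_bot_left, hcard] at this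
    exact Nat.eq_of_mul_eq_mul_left Nat.card_pos this
  have h2 : Nat.card (R₁ ⊓ E : Subgroup G) ≤ p := by
    haveI := hR₁
    haveI : IsCyclic (R₁ ⊓ E : Subgroup G) :=
      isCyclic_of_injective (inclusion (inf_le_left : R₁ ⊓ E ≤ R₁)) (inclusion_injective _)
    obtain ⟨g, hg⟩ := IsCyclic.exists_generator (α := (R₁ ⊓ E : Subgroup G))
    rw [← orderOf_eq_card_of_forall_mem_zpowers hg]
    exact orderOf_le_of_pow_eq_one hp.out.pos (Subtype.ext (by simpa using hE.2 _ g.2.2))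
  have h3 := relIndex_mul_relIndex ⊥ (R₁ ⊓ E) E bot_le inf_le_right
  rw [relIndex_bot_left, relIndex_bot_left, inf_relIndex_right] at h3
  rw [← h3, sq]
  exact Nat.mul_le_mul h2 h1

/-- A narrow group with a central plane has rank at most two. -/
theorem pRankLE_two_of_narrow_center {R : Type u} [Group R] [Finite R] (hR : Cfsg.IsNarrow p R)
    {Z : Subgroup R} (hZ : Cfsg.IsElementaryAbelian p Z) (hZc : Z ≤ Subgroup.center R)
    (hZ2 : p ^ 2 ≤ Nat.card Z) : Cfsg.PRankLE p 2 R := by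
  rcases hR with h | ⟨R₀, R₁, h0, h1, hdis, hcomm, hsup⟩
  · exact h
  have hR₀c : ∀ a ∈ R₀, ∀ b ∈ R₀, a * b = b * a := by
    haveI : IsCyclic R₀ := isCyclic_of_prime_card h0
    obtain ⟨g, hg⟩ := IsCyclic.exists_generator (α := R₀)
    intro a ha b hb
    obtain ⟨i, hi⟩ := mem_zpowers_iff.1 (hg ⟨a, ha⟩)
    obtain ⟨j, hj⟩ := mem_zpowers_iff.1 (hg ⟨b, hb⟩)
    have h := (Commute.refl g).zpow_zpow i j
    rw [hi, hj] at h
    exact congrArg Subtype.val h.eq
  haveI : Z.Normal := ⟨fun z hz g => by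
    rw [mem_center_iff.1 (hZc hz) g, mul_inv_cancel_right]; exact hz⟩
  set W := Z ⊔ R₀ with hW
  have hWe : Cfsg.IsElementaryAbelian p W := by
    have hdec : ∀ w ∈ W, ∃ z ∈ Z, ∃ r ∈ R₀, w = z * r := fun w hw => by
      obtain ⟨z, hz, r, hr, h⟩ := mem_sup_of_normal_left.1 hw
      exact ⟨z, hz, r, hr, h.symm⟩
    refine ⟨⟨⟨fun a b => Subtype.ext ?_⟩⟩, fun w hw => ?_⟩
    · obtain ⟨z, hz, r, hr, ha⟩ := hdec _ a.2
      obtain ⟨z', hz', r', hr', hb⟩ := hdec _ b.2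
      have c1 : ∀ g, g * z = z * g := mem_center_iff.1 (hZc hz)
      have c2 : ∀ g, g * z' = z' * g := mem_center_iff.1 (hZc hz')
      show (a : R) * b = b * a
      rw [ha, hb]
      calc z * r * (z' * r') = z * z' * (r * r') := by rw [mul_assoc z, ← mul_assoc r, c2 r]; group
        _ = z' * z * (r' * r) := by rw [c2 z, hR₀c r hr r' hr']
        _ = z' * r' * (z * r) := by rw [mul_assoc z', ← mul_assoc z, mul_assoc z' r',
              ← mul_assoc r' z, c1 r', mul_assoc z r' r]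
    · obtain ⟨z, hz, r, hr, rfl⟩ := hdec w hw
      rw [(show Commute z r from (mem_center_iff.1 (hZc hz) r).symm).mul_pow, hZ.2 z hz, one_mul,
        ← h0]
      exact congrArg Subtype.val (pow_card_eq_one' (x := (⟨r, hr⟩ : R₀)))
  have hWle : W ≤ R₀ ⊔ R₁ := by
    rw [hsup]
    refine sup_le (fun z hz a _ => mem_center_iff.1 (hZc hz) a) fun a ha b hb => ?_
    exact hR₀c b hb a ha
  have hR₀Z : R₀ ≤ Z := by
    have h := eq_of_le_of_card_ge (le_sup_left : Z ≤ W)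
      ((card_le_sq_of_mul_cyclic h0 h1 hdis hcomm hWe hWle).trans hZ2)
    exact (le_sup_right : R₀ ≤ W).trans h.ge
  have htop : R₀ ⊔ R₁ = ⊤ := by
    rw [hsup]
    exact top_unique fun g _ a ha => (mem_center_iff.1 (hZc (hR₀Z ha)) g).symm
  intro E hE hexp
  exact card_le_sq_of_mul_cyclic h0 h1 hdis hcomm ⟨hE, hexp⟩ (le_top.trans htop.ge)

/-- A group acting without fixed points on a group of order `p` has order dividing `p - 1`. -/
theorem card_dvd_sub_one_of_fpf {U Z : Subgroup G} (hUZ : U ≤ normalizer (Z : Set G))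
    (hZ : Nat.card Z = p) (hfpf : ∀ u ∈ U, u ≠ 1 → Z ⊓ centralizer ({u} : Set G) = ⊥) :
    Nat.card U ∣ p - 1 := by
  haveI : IsCyclic Z := isCyclic_of_prime_card hZ
  set f := Z.normalizerMonoidHom.comp (inclusion hUZ) with hf
  have hinj : Function.Injective f := by
    rw [← MonoidHom.ker_eq_bot_iff, eq_bot_iff]
    intro u hu
    have h1 : (inclusion hUZ u) ∈ Z.normalizerMonoidHom.ker := hu
    rw [normalizerMonoidHom_ker, mem_subgroupOf] at h1
    refine mem_bot.2 (by_contra fun hu1 => ?_)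
    have hZu : Z ≤ Z ⊓ centralizer ({(u : G)} : Set G) :=
      le_inf le_rfl fun z hz => mem_centralizer_singleton_iff.2 (h1 z hz)
    rw [hfpf u u.2 (fun h => hu1 (Subtype.ext h))] at hZu
    rw [le_bot_iff.1 hZu, card_bot] at hZ
    exact hp.out.ne_one hZ.symm
  refine (Subgroup.card_dvd_of_injective f hinj).trans (dvd_of_eq ?_)
  rw [IsCyclic.card_mulAut, hZ, Nat.totient_prime hp.out]

/-- The orbit of a line under `U`, as a set of elements. -/
def lineOrbit (U : Subgroup G) (y : G) : Set G :=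
  (fun a : G × G => a.1 * a.2 * a.1⁻¹) '' ((U : Set G) ×ˢ ((zpowers y : Set G) \ {1}))

theorem centralizer_zpowers_singleton (y : G) :
    centralizer (zpowers y : Set G) = centralizer ({y} : Set G) := by
  rw [zpowers_eq_closure, centralizer_closure]

theorem ncard_zpowers_diff {y : G} (hy : y ^ p = 1) (hy1 : y ≠ 1) :
    ((zpowers y : Set G) \ {1}).ncard = p - 1 := by
  rw [Set.ncard_sdiff_singleton_of_mem (one_mem (zpowers y)), ← Nat.card_coe_set_eq,
    SetLike.coe_sort_coe, Nat.card_zpowers, orderOf_eq_prime hy hy1]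

variable {U A : Subgroup G}

theorem mem_lineOrbit_of_mem_zpowers {x z t : G} (ht : t ∈ lineOrbit U x) (hz : z ∈ zpowers t)
    (hz1 : z ≠ 1) : z ∈ lineOrbit U x := by
  obtain ⟨⟨u, s⟩, ⟨hu, hs, -⟩, rfl⟩ := ht
  obtain ⟨i, rfl⟩ := mem_zpowers_iff.1 hz
  refine ⟨(u, s ^ i), ⟨hu, zpow_mem hs i, fun h => hz1 ?_⟩, ?_⟩
  · replace h : s ^ i = 1 := h
    show (u * s * u⁻¹) ^ i = 1
    rw [conj_zpow, h, mul_one, mul_inv_cancel]
  · show u * s ^ i * u⁻¹ = (u * s * u⁻¹) ^ i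
    rw [conj_zpow]

variable (hA : Cfsg.IsElementaryAbelian p A) (hA2 : Nat.card A = p ^ 2)
  (hUA : U ≤ normalizer (A : Set G))
include hA hA2 hUA

theorem lineOrbit_subset {y : G} (hy : y ∈ A) : lineOrbit U y ⊆ (A : Set G) \ {1} := by
  rintro _ ⟨⟨u, s⟩, ⟨hu, hs, hs1⟩, rfl⟩
  exact ⟨(mem_normalizer_iff.1 (hUA hu) s).1 (zpowers_le.2 hy hs),
    fun h => hs1 (conj_eq_one_iff.1 h)⟩

theorem ncard_lineOrbit {y : G} (hy : y ∈ A) (hy1 : y ≠ 1)
    (hfree : ∀ u ∈ U, u ∈ normalizer (zpowers y : Set G) → u = 1) :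
    (lineOrbit U y).ncard = Nat.card U * (p - 1) := by
  rw [lineOrbit, Set.InjOn.ncard_image, Set.ncard_prod, ncard_zpowers_diff (hA.2 y hy) hy1,
    ← Nat.card_coe_set_eq, SetLike.coe_sort_coe]
  rintro ⟨u, s⟩ ⟨hu, hs, hs1⟩ ⟨v, t⟩ ⟨hv, ht, -⟩ h
  simp only at h
  have h1 : v⁻¹ * u * s * (v⁻¹ * u)⁻¹ = t := by
    calc v⁻¹ * u * s * (v⁻¹ * u)⁻¹ = v⁻¹ * (u * s * u⁻¹) * v := by group
      _ = v⁻¹ * (v * t * v⁻¹) * v := by rw [h]
      _ = t := by group
  have hys : y ∈ zpowers s := mem_zpowers_symm (hA.2 s (zpowers_le.2 hy hs)) hs1 (hA.2 y hy) hs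
  have hw : v⁻¹ * u = 1 := by
    refine hfree _ (U.mul_mem (U.inv_mem hv) hu) (mem_normalizer_zpowers_iff.2 ?_)
    obtain ⟨i, hi⟩ := mem_zpowers_iff.1 hys
    rw [← hi, ← conj_zpow, h1, hi]
    exact zpow_mem ht i
  obtain rfl : v = u := by rwa [inv_mul_eq_one] at hw
  simp only [inv_mul_cancel, one_mul, inv_one, mul_one] at h1
  rw [h1]

theorem disjoint_lineOrbit {x y : G} (hy : y ∈ A) (hy1 : y ≠ 1) (hyx : y ∉ lineOrbit U x) :
    Disjoint (lineOrbit U y) (lineOrbit U x) := by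
  rw [Set.disjoint_left]
  rintro z ⟨⟨u, s⟩, ⟨hu, hs, hs1⟩, rfl⟩ ⟨⟨v, t⟩, ⟨hv, ht, ht1⟩, h⟩
  simp only at h
  refine hyx (mem_lineOrbit_of_mem_zpowers (t := s) ⟨(u⁻¹ * v, t), ⟨U.mul_mem (U.inv_mem hu) hv,
    ht, ht1⟩, ?_⟩ (mem_zpowers_symm (hA.2 s (zpowers_le.2 hy hs)) hs1 (hA.2 y hy) hs) hy1)
  show u⁻¹ * v * t * (u⁻¹ * v)⁻¹ = s
  calc u⁻¹ * v * t * (u⁻¹ * v)⁻¹ = u⁻¹ * (v * t * v⁻¹) * u := by group
    _ = u⁻¹ * (u * s * u⁻¹) * u := by rw [h]
    _ = s := by group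

/-- A fixed-point-free group on a plane which moves some line freely has order at most
`(p + 1) / 2`. -/
theorem two_mul_card_le_of_plane [Group.IsSolvable U] (hp2 : p ≠ 2) (hodd : Odd (Nat.card U))
    (hpU : ¬ p ∣ Nat.card U) (hfpf : ∀ u ∈ U, u ≠ 1 → A ⊓ centralizer ({u} : Set G) = ⊥)
    {x : G} (hx : x ∈ A) (hx1 : x ≠ 1)
    (hfree : ∀ u ∈ U, u ∈ normalizer (zpowers x : Set G) → u = 1) :
    2 * Nat.card U ≤ p + 1 := by
  classical
  by_contra hlt
  have hppos := hp.out.two_le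
  have hpodd := hp.out.odd_of_ne_two hp2
  -- `U` is abelian
  have hcomm : ∀ u ∈ U, ∀ v ∈ U, ⁅u, v⁆ = 1 := by
    haveI : (A.subgroupOf (normalizer (A : Set G))).Normal :=
      normal_subgroupOf_of_le_normalizer le_rfl
    let e := subgroupOfEquivOfLe (le_normalizer : A ≤ normalizer (A : Set G))
    obtain ⟨φ, hφ⟩ := exists_hom_gl2 (p := p) (V := A.subgroupOf (normalizer (A : Set G)))
      ⟨⟨⟨fun a b => e.injective (by rw [map_mul, map_mul]; exact hA.1.is_comm.comm _ _)⟩⟩,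
        fun a ha => Subtype.ext (by simpa using hA.2 _ (mem_subgroupOf.1 ha))⟩
      (by rw [Nat.card_congr e.toEquiv, hA2])
    set g := φ.comp (inclusion hUA) with hg
    have hinj : Function.Injective g := by
      rw [← MonoidHom.ker_eq_bot_iff, eq_bot_iff]
      intro u hu
      have h1 : inclusion hUA u ∈ φ.ker := hu
      rw [hφ] at h1
      refine mem_bot.2 (by_contra fun hu1 => ?_)
      have h2 := hfpf u u.2 fun h => hu1 (Subtype.ext h)
      have h3 : x ∈ A ⊓ centralizer ({(u : G)} : Set G) := ⟨hx, mem_centralizer_singleton_iff.2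
        (congrArg Subtype.val (mem_centralizer_iff.1 h1 ⟨x, le_normalizer hx⟩
          (mem_subgroupOf.2 hx)))⟩
      rw [h2] at h3
      exact hx1 (mem_bot.1 h3)
    haveI : Group.IsSolvable g.range := Group.isSolvable_of_surjective g.rangeRestrict_surjective
    have hX := gl2_commutator_pow_eq_one hp2 g.range
      (Odd.of_dvd_nat hodd (card_range_dvd g))
    intro u hu v hv
    have hm : ⁅g.rangeRestrict ⟨u, hu⟩, g.rangeRestrict ⟨v, hv⟩⁆ ∈ commutator g.range := by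
      rw [_root_.commutator_def]
      exact commutator_mem_commutator (mem_top _) (mem_top _)
    have h1 : g ⁅(⟨u, hu⟩ : U), (⟨v, hv⟩ : U)⁆ ^ p = 1 := by
      have := congrArg g.range.subtype (hX _ hm)
      rw [map_pow, map_commutatorElement, map_one] at this
      rw [map_commutatorElement]
      exact this
    rw [← map_pow, map_eq_one_iff g hinj] at h1
    have h2 : orderOf ⁅(⟨u, hu⟩ : U), (⟨v, hv⟩ : U)⁆ = 1 := Nat.eq_one_of_dvd_coprimes
      (hp.out.coprime_iff_not_dvd.2 hpU).symm (orderOf_dvd_natCard _)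
      (orderOf_dvd_of_pow_eq_one h1)
    have h3 := congrArg Subtype.val (orderOf_eq_one_iff.1 h2)
    exact h3
  -- a line fixed by a nontrivial element is fixed by all of `U`
  have hfix : ∀ y ∈ A, y ≠ 1 → (∃ u ∈ U, u ∈ normalizer (zpowers y : Set G) ∧ u ≠ 1) →
      ∀ v ∈ U, v ∈ normalizer (zpowers y : Set G) := by
    rintro y hy hy1 ⟨u, hu, huy, hu1⟩ v hv
    exact mem_normalizer_of_commute hA hA2 hy hy1 huy ⟨x, hx, fun h => hu1 (hfree u hu h)⟩
      (hUA hv) (Odd.of_dvd_nat hodd (Subgroup.orderOf_dvd_natCard U hv))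
      (by rw [hcomm u hu v hv]; exact one_mem _)
  set O := lineOrbit U x with hO
  have hOsub : O ⊆ (A : Set G) \ {1} := lineOrbit_subset hA hA2 hUA hx
  have hOcard : O.ncard = Nat.card U * (p - 1) := ncard_lineOrbit hA hA2 hUA hx hx1 hfree
  have hAcard : ((A : Set G) \ {1}).ncard = (p + 1) * (p - 1) := by
    rw [Set.ncard_sdiff_singleton_of_mem (one_mem A), ← Nat.card_coe_set_eq, SetLike.coe_sort_coe,
      hA2]
    simpa using Nat.sq_sub_sq p 1
  set C := ((A : Set G) \ {1}) \ O with hC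
  have hCcard : Nat.card U * (p - 1) + C.ncard = (p + 1) * (p - 1) := by
    rw [← hAcard, ← hOcard, add_comm, hC, Set.ncard_sdiff_add_ncard_of_subset hOsub]
  -- every point outside the orbit is fixed
  have hCfix : ∀ y ∈ C, ∀ v ∈ U, v ∈ normalizer (zpowers y : Set G) := by
    rintro y ⟨⟨hy, hy1⟩, hyO⟩
    rw [Set.mem_singleton_iff] at hy1
    refine hfix y hy hy1 (by_contra fun hno => hlt ?_)
    push Not at hno
    have h1 := ncard_lineOrbit hA hA2 hUA hy hy1 hno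
    have h2 : (lineOrbit U y ∪ O).ncard ≤ ((A : Set G) \ {1}).ncard :=
      Set.ncard_le_ncard (Set.union_subset (lineOrbit_subset hA hA2 hUA hy) hOsub) (Set.toFinite _)
    rw [Set.ncard_union_eq (disjoint_lineOrbit hA hA2 hUA hy hy1 hyO) (Set.toFinite _)
      (Set.toFinite _), h1, hOcard, hAcard, ← add_mul] at h2
    have := Nat.le_of_mul_le_mul_right h2 (by omega)
    omega
  have hline : ∀ y ∈ C, (zpowers y : Set G) \ {1} ⊆ C := by
    rintro y ⟨⟨hy, hy1⟩, hyO⟩ z ⟨hz, hz1⟩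
    refine ⟨⟨zpowers_le.2 hy hz, hz1⟩, fun hzO => hyO ?_⟩
    exact mem_lineOrbit_of_mem_zpowers hzO
      (mem_zpowers_symm (hA.2 z (zpowers_le.2 hy hz)) hz1 (hA.2 y hy) hz) hy1
  obtain ⟨c, hc⟩ := hodd
  obtain ⟨d, hd⟩ := hpodd
  rcases C.eq_empty_or_nonempty with hC0 | ⟨y₁, hy₁⟩
  · rw [hC0, Set.ncard_empty, add_zero] at hCcard
    have := Nat.eq_of_mul_eq_mul_right (by omega) hCcard
    omega
  have hL₁ := ncard_zpowers_diff (hA.2 y₁ hy₁.1.1) hy₁.1.2
  by_cases hC1 : C ⊆ (zpowers y₁ : Set G) \ {1}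
  · rw [Set.Subset.antisymm hC1 (hline y₁ hy₁), hL₁, ← Nat.succ_mul] at hCcard
    have h := Nat.eq_of_mul_eq_mul_right (by omega) hCcard
    exact hpU (by rw [show Nat.card U = p by omega])
  obtain ⟨y₂, hy₂, hy₂'⟩ := Set.not_subset.1 hC1
  have h21 : y₂ ∉ zpowers y₁ := fun h => hy₂' ⟨h, hy₂.1.2⟩
  have hL₂ := ncard_zpowers_diff (hA.2 y₂ hy₂.1.1) hy₂.1.2
  have hdis : Disjoint ((zpowers y₁ : Set G) \ {1}) ((zpowers y₂ : Set G) \ {1}) := by
    rw [Set.disjoint_left]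
    rintro z ⟨hz1, hz⟩ ⟨hz2, -⟩
    have hy2z := mem_zpowers_symm (hA.2 z (zpowers_le.2 hy₁.1.1 hz1)) hz (hA.2 y₂ hy₂.1.1) hz2
    exact h21 (zpowers_le.2 hz1 hy2z)
  have hsub : C ⊆ ((zpowers y₁ : Set G) \ {1}) ∪ ((zpowers y₂ : Set G) \ {1}) := by
    intro y₃ hy₃
    by_contra hno
    simp only [Set.mem_union, Set.mem_sdiff, SetLike.mem_coe, hy₃.1.2,
      not_false_eq_true, and_true, not_or] at hno
    obtain ⟨v, hv, hv1⟩ := U.bot_or_exists_ne_one.resolve_left fun h => by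
      rw [h, card_bot] at hlt
      omega
    refine hv1 (hfree v hv ?_)
    exact scalar_of_three hA hA2 hy₁.1.1 hy₂.1.1 hy₃.1.1 hy₁.1.2 h21 hno.1 hno.2
      (hCfix y₁ hy₁ v hv) (hCfix y₂ hy₂ v hv) (hCfix y₃ hy₃ v hv) x hx
  rw [Set.Subset.antisymm hsub (Set.union_subset (hline y₁ hy₁) (hline y₂ hy₂)),
    Set.ncard_union_eq hdis (Set.toFinite _) (Set.toFinite _), hL₁, hL₂] at hCcard
  have h : (Nat.card U + 2) * (p - 1) = (p + 1) * (p - 1) := by rw [← hCcard]; ring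
  have := Nat.eq_of_mul_eq_mul_right (by omega) h
  omega

end CfsgLib.FT
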