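import Cfsg.Agent.Lib.FT.Support
import Cfsg.Agent.Lib.FT.ChainTools
import Cfsg.Agent.Lib.OddOrder.Beta
import Cfsg.Agent.Lib.OddOrder.TauTwo
import Cfsg.Agent.Lib.Frobenius.Fpf
import Cfsg.Agent.S1360
import Cfsg.Agent.S1414
import Cfsg.Agent.S1417
import Cfsg.Agent.S1418
import Cfsg.Agent.S1420
import Cfsg.Agent.S1423
import Cfsg.Agent.S1425

/-!
FT module Chain: a non-Frobenius type F subgroup yields a `Bridge` (PF 12.8-12.11).

Take a non-Frobenius `L` and a fixing prime `p` minimal over all of them. `p ∈ τ₂(L)` (dichotomy S1432),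
`A ∈ E²_p(L)`, `A ≤ M_σ` for the maximal `M` with `p ∈ σ(M)`. As `A` is noncyclic on `H/H'`, some `x ∈ A`
has `C_H(x) ⊄ H'`; `C(x) ≤ L`, so `L = N(x)` and `M_σ` is not TI, so by BG 15.7 it is abelian of rank 2
or `exp(M/M_σ) ∣ q - 1` for all `q ∈ π(M_σ)`. A fixing prime `r` of `M` would be `< p`, so `M` is
Frobenius. Any `b ≠ 1` in `M ∩ L` outside `M_σ` has prime-order powers whose order occurs in a
Frobenius `U₀` together with an element of order `p` of `M_σ`; they commute: impossible. Hence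
`M ∩ L ≤ M_σ`. `e ≤ (p+1)/2`: `e ∣ p - 1`, or Ω₁ is a plane with `e` dividing `p + 1`
(a scalar in the Frobenius complement would lie in `N(<x>) ≤ L`).
-/

set_option autoImplicit false
set_option linter.style.haveILetI false
set_option linter.unusedSectionVars false

namespace CfsgLib.FT

open Subgroup CfsgLib.OddOrder CfsgLib.OddChar.MaxTypes

universe u

variable {G : Type u} [Group G] [Finite G] (hG : Cfsg.IsMinSimpleOddOrder G)
include hG

/-- `E` is the `U` of a standard factorisation when `κ(M)` is empty. -/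
theorem decomposition_of_compl {M E : Subgroup G} (hM : IsFType M)
    (hE : Cfsg.IsComplIn E (Cfsg.sigmaCore M) M) : Cfsg.IsSigmaDecomposition M ⊥ E := by
  refine ⟨inferInstance, ⟨bot_le, fun q hq hd => ?_, fun q hq hqκ => ?_⟩, ?_, bot_le⟩
  · rw [card_bot, Nat.dvd_one] at hd
    exact absurd hd hq.ne_one
  · exact absurd (hM.kappa_eq ▸ hqκ) (Set.notMem_empty q)
  · rw [bot_sup_eq]; exact hE

/-- A prime element of `M` outside `M_σ` fixing a point of `M_σ` is a `τ₂`-element, and `M` is the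
only maximal subgroup over its centraliser. -/
theorem fixing_tau2 {M : Subgroup G} (hM : IsFType M) {y b : G} (hy : y ∈ Cfsg.sigmaCore M)
    (hy1 : y ≠ 1) (hbM : b ∈ M) (hby : b * y = y * b) {q : ℕ} (hq : q.Prime) (hb : orderOf b = q)
    (hqσ : q ∉ Cfsg.sigma M) :
    q ∈ Cfsg.tau2 M ∧ centralizer ({b} : Set G) ≤ M ∧
      ∀ L : Subgroup G, IsCoatom L → centralizer ({b} : Set G) ≤ L → L = M := by
  rcases Cfsg.Agent.S1432.result hG M hM.coatom y hy hy1 b
      ⟨hbM, mem_centralizer_singleton_iff.2 hby⟩ (fun h => hq.one_lt.ne' (by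
        rw [← hb, h, orderOf_one]))
      (fun s hs hd => by rw [hb] at hd; rwa [(Nat.prime_dvd_prime_iff_eq hs hq).1 hd]) with
    ⟨h, -⟩ | ⟨h, -, h'⟩
  · exact absurd (hM.kappa_eq ▸ h q hq (by rw [hb])) (Set.notMem_empty q)
  · exact ⟨h q hq (by rw [hb]), h'⟩

/-- A non-Frobenius type F subgroup has a `τ₂`-prime. -/
theorem exists_tau2 {M : Subgroup G} (hM : IsFType M) (hfr : ¬ IsFrob M) :
    ∃ q, q ∈ Cfsg.tau2 M := by
  simp only [IsFrob, not_forall] at hfr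
  obtain ⟨y, hy, hy1, hC⟩ := hfr
  obtain ⟨b, ⟨hbM, hby⟩, hbσ⟩ := SetLike.not_le_iff_exists.1 hC
  rw [mem_sigmaCore_iff hG hM.coatom hbM] at hbσ
  push Not at hbσ
  obtain ⟨q, hq, hqd, hqσ⟩ := hbσ
  exact ⟨q, (fixing_tau2 hG hM hy hy1 (pow_mem hbM _)
    ((show Commute b y from mem_centralizer_singleton_iff.1 hby).pow_left _).eq hq
    (orderOf_pow_orderOf_div (orderOf_pos b).ne' hqd) hqσ).1⟩

/-- The maximal subgroup whose core contains a given nontrivial `p`-group. -/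
theorem exists_core_ge {A : Subgroup G} {p : ℕ} (hp : p.Prime) (hpA : p ∣ Nat.card A)
    (hA : IsPGroup p A) :
    ∃ M : Subgroup G, IsCoatom M ∧ p ∈ Cfsg.sigma M ∧ A ≤ Cfsg.sigmaCore M := by
  haveI := Fact.mk hp
  obtain ⟨M₀, hM₀, hpσ⟩ := (Cfsg.Agent.S1378.result hG).1 p hp
    (hpA.trans (card_subgroup_dvd_card A))
  obtain ⟨g, hg⟩ := Cfsg.Agent.S1425.result hG M₀ hM₀ A (fun h => by
      rw [h, card_bot, Nat.dvd_one] at hpA
      exact hp.ne_one hpA) fun q hq hd => by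
    obtain ⟨n, hn⟩ := hA.exists_card_eq
    rw [hn] at hd
    rwa [(Nat.prime_dvd_prime_iff_eq hq hp).1 (hq.dvd_of_dvd_pow hd)]
  refine ⟨M₀.map (MulAut.conj g⁻¹).toMonoidHom, isCoatom_conj hM₀ _, ?_, ?_⟩
  · rwa [sigma_conj]
  · rw [sigmaCore_conj]
    intro a ha
    rw [mem_map_conj_iff, inv_inv]
    exact hg ⟨a, ha, rfl⟩

/-- The fixing element: `x` of order `p` in a plane of a complement, with a fixed point outside
`[L_σ, L_σ]`. -/
theorem exists_fix {L A : Subgroup G} (hL : IsFType L) {p : ℕ} [Fact p.Prime]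
    (hpσ : p ∉ Cfsg.sigma L) (hAL : A ≤ L) (hA : Cfsg.IsElementaryAbelian p A)
    (hA2 : Nat.card A = p ^ 2) :
    ∃ x ∈ A, x ≠ 1 ∧ ∃ y ∈ Cfsg.sigmaCore L,
      y ∉ ⁅Cfsg.sigmaCore L, Cfsg.sigmaCore L⁆ ∧ x * y = y * x := by
  obtain ⟨hnil, hne, hlt, -⟩ := core_facts hG hL
  by_contra hno
  push Not at hno
  haveI := hA.1
  haveI := hnil
  have hp : p.Prime := Fact.out
  have hH : Cfsg.sigmaCore L ≤ ⁅Cfsg.sigmaCore L, Cfsg.sigmaCore L⁆ := by
    refine Solvable.le_of_centralizer_le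
      (elementary_not_isCyclic hA (by
        rw [hA2, sq]; exact lt_mul_of_one_lt_left hp.pos hp.one_lt))
      (hAL.trans (le_normalizer_piCoreOf _ L)) ?_ fun a ha ha1 => ?_
    · rw [hA2]
      exact Nat.Coprime.pow_left 2 (hp.coprime_iff_not_dvd.2 fun h =>
        hpσ (sigma_of_dvd_sigmaCore hp h))
    · rintro y ⟨hy, hay⟩
      by_contra hy'
      exact hno a ha ha1 y hy hy' (mem_centralizer_singleton_iff.1 hay).symm
  haveI : Group.IsSolvable L := isSolvable_of_ne_top hG hL.coatom.1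
  have h1 : (Cfsg.sigmaCore L).subgroupOf L ≠ ⊥ := fun h => hne <| by
    rw [← map_subgroupOf_eq_of_le hlt.le, h, Subgroup.map_bot]
  have h2 := Group.IsSolvable.commutator_lt_of_ne_bot h1
  refine h2.not_ge fun z hz => ?_
  have h3 := hH (mem_subgroupOf.1 hz)
  rw [← map_subgroupOf_eq_of_le hlt.le, ← map_commutator] at h3
  obtain ⟨w, hw, hwz⟩ := h3
  rwa [← Subtype.ext hwz]

/-- A prime larger than `p` is not a `τ₂`-prime when some `p`-point of the core is supported. -/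
theorem tau2_lt {M : Subgroup G} (hM : IsFType M) {x : G} {p r : ℕ} [Fact p.Prime]
    (hx : x ∈ Cfsg.sigmaCore M) (hxp : orderOf x = p)
    (hxM : ¬ centralizer ({x} : Set G) ≤ M) (hr : r ∈ Cfsg.tau2 M) : r < p := by
  have hp : p.Prime := Fact.out
  haveI := Fact.mk hr.1
  have hx1 : x ≠ 1 := fun h => hp.one_lt.ne' (by rw [← hxp, h, orderOf_one])
  have hxM' : x ∈ M := piCoreOf_le _ _ hx
  have hpσ : p ∈ Cfsg.sigma M :=
    sigma_of_dvd_sigmaCore hp (hxp ▸ orderOf_dvd_card_of_mem hx)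
  have hpM : p ∣ Nat.card M := hxp ▸ orderOf_dvd_card_of_mem hxM'
  have hβ : p ∉ Cfsg.beta M := fun h => hxM <| by
    obtain ⟨P⟩ : Nonempty (Sylow p (Cfsg.sigmaCore M)) := inferInstance
    rw [← centralizer_zpowers_singleton]
    exact (Cfsg.Agent.S1423.result hG M hM.coatom p hpσ (zpowers x) (zpowers_le.2 hxM')
      (by rw [Nat.card_zpowers, hxp]) P (Or.inl h)).1.1
  have hrp : r ≠ p := fun h => hr.2.1 (h ▸ hpσ)
  obtain ⟨B, hBM, hB, hB2⟩ := exists_elementary_two (p := r) (X := M) hr.2.2.2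
  obtain ⟨hnil, -, hCB⟩ := tau2_facts hG hM.coatom hr hBM hB hB2
  -- `B` is not in `O_{p'}(M)`, which centralises the `p`-part of `M_σ`
  obtain ⟨b, hbB, hbO⟩ : ∃ b, ∃ hb : b ∈ B, (⟨b, hBM hb⟩ : M) ∉ Cfsg.pPrimeCore p M := by
    by_contra hall
    push Not at hall
    set O := Cfsg.piCoreOf (Cfsg.primesNotDvd p) M with hO
    set P := Cfsg.piCoreOf {p} (Cfsg.sigmaCore M) with hP
    have hBO : B ≤ O := fun b hb => ⟨⟨b, hBM hb⟩, pPrimeCore_eq_piCore (G := M) p ▸ hall b hb, rfl⟩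
    have hMP : M ≤ normalizer (P : Set G) :=
      (le_normalizer_piCoreOf _ M).trans (normalizer_le_normalizer_piCoreOf _ _)
    have hPM : P ≤ M := (piCoreOf_le _ _).trans (piCoreOf_le _ _)
    have hOP : O ≤ centralizer (P : Set G) := commute_of_normalize_disjoint
      ((piCoreOf_le _ M).trans hMP) (hPM.trans (le_normalizer_piCoreOf _ M))
      (disjoint_of_isPiSubgroup (piCoreOf_isPiSubgroup _ M) (piCoreOf_isPiSubgroup _ _)
        fun s hs hs' _ => hs.2 (by rw [Set.mem_singleton_iff.1 hs']))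
    have hxP : x ∈ P := mem_piCoreOf_of_nilpotent hnil hx fun s hs hd => by
      rw [hxp] at hd
      exact (Nat.prime_dvd_prime_iff_eq hs hp).1 hd
    have h1 : x ∈ Cfsg.sigmaCore M ⊓ centralizer (B : Set G) :=
      ⟨hx, fun c hc => (hOP (hBO hc) x hxP).symm⟩
    exact hx1 (mem_bot.1 (hCB ▸ h1))
  haveI := Solvable.pPrimeCore_normal p M
  have hrd : r ∣ (Cfsg.pPrimeCore p M).index := by
    rw [Subgroup.index_eq_card]
    have h1 : (QuotientGroup.mk' (Cfsg.pPrimeCore p M) ⟨b, hBM hbB⟩) ^ r = 1 := by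
      rw [← map_pow, show (⟨b, hBM hbB⟩ : M) ^ r = 1 from Subtype.ext (by simpa using hB.2 b hbB),
        map_one]
    rw [← orderOf_eq_prime h1 fun h => hbO ((QuotientGroup.eq_one_iff _).1 h)]
    exact orderOf_dvd_natCard _
  exact lt_of_le_of_ne ((not_beta_conclusions hG hM.coatom hpM hβ).1 r hr.1 hrd) hrp

/-- In a complement `M ∩ L` every element lies in the core of the Frobenius group `M`. -/
theorem inter_le_core {L M A : Subgroup G} (hL : IsFType L) (hM : IsFType M) (hfr : IsFrob M)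
    (hE : Cfsg.IsComplIn (M ⊓ L) (Cfsg.sigmaCore L) L) {p : ℕ} [Fact p.Prime]
    (hpt : p ∈ Cfsg.tau2 L) (hpM : p ∈ Cfsg.sigma M) (hA : Cfsg.IsElementaryAbelian p A)
    (hA2 : Nat.card A = p ^ 2) (hAL : A ≤ L) (hAM : A ≤ Cfsg.sigmaCore M) {x : G} (hxA : x ∈ A)
    (hx1 : x ≠ 1) {y : G} (hy : y ∈ Cfsg.sigmaCore L) (hy1 : y ≠ 1) (hxy : x * y = y * x) :
    M ⊓ L ≤ Cfsg.sigmaCore M := by
  intro b hb
  by_contra hbσ
  rw [mem_sigmaCore_iff hG hM.coatom hb.1] at hbσ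
  push Not at hbσ
  obtain ⟨r, hr, hrd, hrσ⟩ := hbσ
  haveI := Fact.mk hr
  have hp : p.Prime := Fact.out
  have hrp : r ≠ p := fun h => hrσ (h ▸ hpM)
  set E := M ⊓ L with hEdef
  have hAE : A ≤ E := le_inf (hAM.trans (piCoreOf_le _ _)) hAL
  obtain ⟨U₀, hU₀E, hexp, hU₀f⟩ :=
    Cfsg.Agent.S1360.result hG L hL.coatom ⊥ E (decomposition_of_compl hG hL hE)
  have hxp : orderOf x = p := orderOf_eq_prime (hA.2 x hxA) hx1
  have hcauchy : ∀ (s : ℕ) (c : G), s.Prime → c ∈ E → s ∣ orderOf c →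
      ∃ v ∈ U₀, orderOf v = s := by
    intro s c hs hc hd
    haveI := Fact.mk hs
    have h1 : s ∣ Monoid.exponent E := hd.trans
      ((dvd_of_eq (Subgroup.orderOf_mk c hc).symm).trans (Monoid.order_dvd_exponent _))
    rw [← hexp] at h1
    obtain ⟨v, hv⟩ := exists_prime_orderOf_dvd_card' s (h1.trans Group.exponent_dvd_nat_card)
    exact ⟨v, v.2, by rw [Subgroup.orderOf_coe, hv]⟩
  obtain ⟨w, hwU, hw⟩ := hcauchy r b hr hb hrd
  obtain ⟨v, hvU, hv⟩ := hcauchy p x hp (hAE hxA) (by rw [hxp])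
  obtain ⟨⟨hEA, hAll⟩, -⟩ := Cfsg.Agent.S1418.result hG L hL.coatom E hE p hpt A ⟨hAE, hA, hA2⟩
  have hvA : v ∈ A := hAll (zpowers v) (zpowers_le.2 (hU₀E hvU)) (by rw [Nat.card_zpowers, hv])
    (mem_zpowers v)
  have hv1 : v ≠ 1 := fun h => hp.one_lt.ne' (by rw [← hv, h, orderOf_one])
  have hw1 : w ≠ 1 := fun h => hr.one_lt.ne' (by rw [← hw, h, orderOf_one])
  -- `zpowers v = U₀ ⊓ A` is normalised by `w`
  set X := U₀ ⊓ A with hXdef
  have hXv : zpowers v = X := by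
    refine eq_of_le_of_card_ge (zpowers_le.2 ⟨hvU, hvA⟩) ?_
    rw [Nat.card_zpowers, hv]
    have hd : Nat.card X ∣ p ^ 2 := hA2 ▸ card_dvd_of_le inf_le_right
    obtain ⟨i, hi, hXi⟩ := (Nat.dvd_prime_pow hp).1 hd
    rcases Nat.lt_or_ge i 2 with h | h
    · rw [hXi]
      exact (Nat.pow_le_pow_right hp.pos (by omega : i ≤ 1)).trans (pow_one p).le
    · exfalso
      have hAX : X = A := eq_of_le_of_card_ge inf_le_right (by
        rw [hA2, hXi, show i = 2 by omega])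
      exact hx1 (hU₀f x (show x ∈ X by rw [hAX]; exact hxA).1 ⟨hAL hxA, y, hy, hy1, hxy⟩)
  have hwX : zpowers w ≤ normalizer (zpowers v : Set G) := by
    rw [hXv, zpowers_le]
    exact inf_normalizer_le_normalizer_inf ⟨le_normalizer hwU, hEA (hU₀E hwU)⟩
  have hdis : Disjoint (zpowers v) (zpowers w) := disjoint_of_coprime_natCard (by
    rw [Nat.card_zpowers, Nat.card_zpowers, hv, hw]
    exact (Nat.coprime_primes hp hr).2 hrp.symm)
  set S := zpowers v ⊔ zpowers w with hSdef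
  have hSU : S ≤ U₀ := sup_le (zpowers_le.2 hvU) (zpowers_le.2 hwU)
  have hcyc : IsCyclic S := by
    set H := Cfsg.sigmaCore L with hH
    obtain ⟨hnil, hne, -, -⟩ := core_facts hG hL
    haveI : IsMulCommutative (H ⊓ centralizer (H : Set G) : Subgroup G) :=
      ⟨⟨fun a c => Subtype.ext (c.2.2 a a.2.1)⟩⟩
    refine CfsgLib.Frobenius.isCyclic_of_card_mul_fpf (V := H ⊓ centralizer (H : Set G))
      (fun h => ?_) ?_ (fun s hs hs1 => ?_) hp hr
      (by rw [Solvable.card_sup_of_disjoint hwX hdis, Nat.card_zpowers, Nat.card_zpowers, hv, hw])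
    · obtain ⟨q, hq, hqH⟩ := Nat.exists_prime_and_dvd (n := Nat.card H)
        (fun h1 => hne (card_eq_one.1 h1))
      haveI := Fact.mk hq
      obtain ⟨z, hz, hzq⟩ := exists_center_orderOf_eq hnil hqH
      rw [h] at hz
      rw [mem_bot.1 hz, orderOf_one] at hzq
      exact hq.ne_one hzq.symm
    · have hn : S ≤ normalizer (H : Set G) :=
        (hSU.trans (hU₀E.trans inf_le_right)).trans (le_normalizer_piCoreOf _ L)
      intro s hs
      refine inf_normalizer_le_normalizer_inf ⟨hn hs, ?_⟩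
      exact normalizer_le_normalizer_centralizer _ (hn hs)
    · refine (eq_bot_iff_forall _).2 fun z hz => by_contra fun hz1 => ?_
      exact hs1 (hU₀f s (hSU hs) ⟨(hU₀E (hSU hs)).2, z, hz.1.1, hz1,
        (mem_centralizer_singleton_iff.1 hz.2).symm⟩)
  have hvw : v * w = w * v := by
    haveI := hcyc
    obtain ⟨g, hg⟩ := IsCyclic.exists_generator (α := S)
    obtain ⟨i, hi⟩ := mem_zpowers_iff.1 (hg ⟨v, mem_sup_left (mem_zpowers v)⟩)
    obtain ⟨j, hj⟩ := mem_zpowers_iff.1 (hg ⟨w, mem_sup_right (mem_zpowers w)⟩)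
    have h := (Commute.refl g).zpow_zpow i j
    rw [hi, hj] at h
    exact congrArg Subtype.val h.eq
  have hwσ := hfr v (hAM hvA) hv1 ⟨(hU₀E hwU).1, mem_centralizer_singleton_iff.2 hvw.symm⟩
  exact hrσ (sigma_of_dvd_sigmaCore hr (hw ▸ orderOf_dvd_card_of_mem hwσ))

/-- The bound `2 [M : M_σ] ≤ p + 1`. -/
theorem index_le {L M : Subgroup G} (hL : IsCoatom L) (hM : IsFType M) (hfr : IsFrob M) {x : G}
    {p : ℕ} [Fact p.Prime] (hx : x ∈ Cfsg.sigmaCore M) (hxp : orderOf x = p)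
    (hxM : ¬ centralizer ({x} : Set G) ≤ M)
    (hCL : centralizer ({x} : Set G) ≤ L)
    (huniq : ∀ N : Subgroup G, IsCoatom N → centralizer ({x} : Set G) ≤ N → N = L)
    (hint : M ⊓ L ≤ Cfsg.sigmaCore M) : 2 * (Cfsg.sigmaCore M).relIndex M ≤ p + 1 := by
  have hp : p.Prime := Fact.out
  have hxM' : x ∈ M := piCoreOf_le _ _ hx
  have hx1 : x ≠ 1 := fun h => hp.one_lt.ne' (by rw [← hxp, h, orderOf_one])
  have hpσ : p ∈ Cfsg.sigma M :=
    sigma_of_dvd_sigmaCore hp (hxp ▸ orderOf_dvd_card_of_mem hx)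
  have hpM : p ∣ Nat.card M := hxp ▸ orderOf_dvd_card_of_mem hxM'
  have hp2 : p ≠ 2 := prime_ne_two_of_dvd_card hG hpM
  obtain ⟨hnil, -, -, -⟩ := core_facts hG hM
  obtain ⟨U, hKU⟩ := decomposition_of_kappa hG hM
  have hUc : Cfsg.IsComplIn U (Cfsg.sigmaCore M) M := by
    have h := hKU.compl
    rwa [bot_sup_eq] at h
  have hUM : U ≤ M := hUc.1
  rw [← card_complement hUc]
  have hpU : ¬ p ∣ Nat.card U := fun h => complement_prime_not_sigma hG hM.coatom hUc hp h hpσ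
  haveI : Group.IsSolvable U := isSolvable_of_ne_top hG fun h => hM.coatom.1 (top_le_iff.1 (h ▸ hUM))
  have hUodd := odd_card_subgroup hG U
  set P := Cfsg.piCoreOf {p} (Cfsg.sigmaCore M) with hPdef
  have hPσ : P ≤ Cfsg.sigmaCore M := piCoreOf_le _ _
  have hfpf : ∀ (Y : Subgroup G), Y ≤ Cfsg.sigmaCore M →
      ∀ u ∈ U, u ≠ 1 → Y ⊓ centralizer ({u} : Set G) = ⊥ := by
    intro Y hY u hu hu1
    refine (eq_bot_iff_forall _).2 fun z hz => by_contra fun hz1 => hu1 ?_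
    have h := hfr z (hY hz.1) hz1
      ⟨hUM hu, mem_centralizer_singleton_iff.2 (mem_centralizer_singleton_iff.1 hz.2).symm⟩
    exact mem_bot.1 (hUc.2.2.1 ▸ (⟨hu, h⟩ : u ∈ U ⊓ Cfsg.sigmaCore M))
  have hMP : M ≤ normalizer (P : Set G) :=
    (le_normalizer_piCoreOf _ M).trans (normalizer_le_normalizer_piCoreOf _ _)
  have hxP : x ∈ P := mem_piCoreOf_of_nilpotent hnil hx fun s hs hd => by
    rw [hxp] at hd
    exact (Nat.prime_dvd_prime_iff_eq hs hp).1 hd
  have hPp : IsPGroup p P := piCoreOf_singleton_isPGroup p _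
  -- `Z = Ω₁(Z(P))`
  let Z : Subgroup G :=
    { carrier := {z | (z ∈ P ∧ ∀ a ∈ P, a * z = z * a) ∧ z ^ p = 1}
      one_mem' := ⟨⟨one_mem P, fun a _ => by rw [mul_one, one_mul]⟩, one_pow p⟩
      mul_mem' := by
        rintro a c ⟨⟨ha, ha'⟩, hap⟩ ⟨⟨hc, hc'⟩, hcp⟩
        refine ⟨⟨mul_mem ha hc, fun d hd => (show Commute d (a * c) from
          (show Commute d a from ha' d hd).mul_right (hc' d hd)).eq⟩, ?_⟩
        rw [(show Commute a c from hc' a ha).mul_pow, hap, hcp, one_mul]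
      inv_mem' := by
        rintro a ⟨⟨ha, ha'⟩, hap⟩
        exact ⟨⟨inv_mem ha, fun d hd => (show Commute d a from ha' d hd).inv_right.eq⟩,
          by rw [inv_pow, hap, inv_one]⟩ }
  have hZP : Z ≤ P := fun z hz => hz.1.1
  have hZmem : ∀ z, z ∈ Z ↔ (z ∈ P ∧ ∀ a ∈ P, a * z = z * a) ∧ z ^ p = 1 := fun z => Iff.rfl
  have hZe : Cfsg.IsElementaryAbelian p Z :=
    ⟨⟨⟨fun a c => Subtype.ext (c.2.1.2 a a.2.1.1)⟩⟩, fun z hz => hz.2⟩
  have hUZ : U ≤ normalizer (Z : Set G) := by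
    intro u hu
    have key : ∀ g ∈ M, ∀ z ∈ Z, g * z * g⁻¹ ∈ Z := by
      rintro g hg z ⟨⟨hz, hz'⟩, hzp⟩
      refine ⟨⟨(mem_normalizer_iff.1 (hMP hg) z).1 hz, fun a ha => ?_⟩, by
        rw [conj_pow, hzp, mul_one, mul_inv_cancel]⟩
      have h := hz' (g⁻¹ * a * g⁻¹⁻¹) ((mem_normalizer_iff.1 (hMP (inv_mem hg)) a).1 ha)
      rw [inv_inv] at h
      calc a * (g * z * g⁻¹) = g * (g⁻¹ * a * g * z) * g⁻¹ := by group
        _ = g * (z * (g⁻¹ * a * g)) * g⁻¹ := by rw [h]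
        _ = g * z * g⁻¹ * a := by group
    refine mem_normalizer_iff.2 fun z => ⟨key u (hUM hu) z, fun h => ?_⟩
    have := key u⁻¹ (inv_mem (hUM hu)) _ h
    simpa [mul_assoc] using this
  have hZfpf := hfpf Z (hZP.trans hPσ)
  have hZne : Z ≠ ⊥ := fun h => by
    obtain ⟨z, ⟨hz, hzc⟩, hzp⟩ := exists_center_orderOf_eq hPp.isNilpotent
      (hxp ▸ orderOf_dvd_card_of_mem hxP : p ∣ Nat.card P)
    have hzZ : z ∈ Z := ⟨⟨hz, hzc⟩, hzp ▸ pow_orderOf_eq_one z⟩
    rw [h] at hzZ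
    rw [mem_bot.1 hzZ, orderOf_one] at hzp
    exact hp.ne_one hzp.symm
  obtain ⟨n, hn⟩ := (isPGroup_of_exp hZe.2).exists_card_eq
  have hn0 : n ≠ 0 := fun h => hZne (card_eq_one.1 (by rw [hn, h, pow_zero]))
  rcases Nat.lt_or_ge n 2 with hn1 | hn2
  · have hd := card_dvd_sub_one_of_fpf hUZ (by rw [hn, show n = 1 by omega, pow_one]) hZfpf
    obtain ⟨k, hk⟩ := hd
    obtain ⟨c, hc⟩ := hUodd
    obtain ⟨d, hd⟩ := hp.odd_of_ne_two hp2
    have hk2 : 2 ≤ k := by
      by_contra h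
      have := hp.two_le
      interval_cases k <;> omega
    calc 2 * Nat.card U ≤ Nat.card U * k := by rw [mul_comm]; exact Nat.mul_le_mul_left _ hk2
      _ ≤ p + 1 := by omega
  -- `P` is a narrow Sylow subgroup with central plane `Z`, so `x ∈ Z`
  have hrP : Cfsg.PRankLE p 2 P := by
    have hβ : p ∉ Cfsg.beta M := fun h => hxM <| by
      obtain ⟨T⟩ : Nonempty (Sylow p (Cfsg.sigmaCore M)) := inferInstance
      rw [← centralizer_zpowers_singleton]
      exact (Cfsg.Agent.S1423.result hG M hM.coatom p hpσ (zpowers x) (zpowers_le.2 hxM')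
        (by rw [Nat.card_zpowers, hxp]) T (Or.inl h)).1.1
    obtain ⟨S⟩ : Nonempty (Sylow p M) := inferInstance
    have hPS : (S : Subgroup M) = P.subgroupOf M := by
      refine (S.3 ((hPp.of_equiv (subgroupOfEquivOfLe
        (hPσ.trans (piCoreOf_le _ _))).symm)) fun s hs => mem_subgroupOf.2 ?_).symm
      refine mem_piCoreOf_of_nilpotent hnil ?_ fun t ht htd => ?_
      · exact ⟨s, sylow_le_sigmaCore hG hM.coatom hpσ S hs, rfl⟩
      · rw [Subgroup.orderOf_coe] at htd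
        obtain ⟨i, hi⟩ := IsPGroup.iff_orderOf.1 S.2 ⟨s, hs⟩
        rw [Subgroup.orderOf_mk] at hi
        rw [hi] at htd
        exact (Nat.prime_dvd_prime_iff_eq ht hp).1 (ht.dvd_of_dvd_pow htd)
    have hnar : Cfsg.IsNarrow p P := isNarrow_of_equiv
      ((MulEquiv.subgroupCongr hPS).trans (subgroupOfEquivOfLe (hPσ.trans (piCoreOf_le _ _))))
      (isNarrow_of_not_beta hG hM.coatom hpM hβ S)
    refine pRankLE_two_of_narrow_center hnar (Z := Z.subgroupOf P)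
      ⟨⟨⟨fun a c => Subtype.ext (Subtype.ext
        ((mem_subgroupOf.1 c.2).1.2 _ (mem_subgroupOf.1 a.2).1.1))⟩⟩,
        fun a ha => Subtype.ext (by simpa using (mem_subgroupOf.1 ha).2)⟩
      (fun a ha => mem_center_iff.2 fun c => Subtype.ext ((mem_subgroupOf.1 ha).1.2 c c.2)) ?_
    rw [Nat.card_congr (subgroupOfEquivOfLe hZP).toEquiv, hn]
    exact Nat.pow_le_pow_right hp.pos hn2
  have hxx : x ^ p = 1 := hxp ▸ pow_orderOf_eq_one x
  set W := Z ⊔ zpowers x with hWdef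
  have hWe : Cfsg.IsElementaryAbelian p W := by
    have hdec : ∀ w ∈ W, ∃ z ∈ Z, ∃ i : ℤ, w = z * x ^ i := fun w hw => by
      obtain ⟨z, hz, t, ht, h⟩ := (Solvable.mem_sup_of_le_normalizer (zpowers_le.2
        ((centralizer_le_normalizer _) fun z hz => (hz.1.2 x hxP).symm))).mp hw
      obtain ⟨i, rfl⟩ := mem_zpowers_iff.1 ht
      exact ⟨z, hz, i, h.symm⟩
    have hcz : ∀ z ∈ Z, ∀ i : ℤ, Commute z (x ^ i) := fun z hz i =>
      (show Commute z x from (hz.1.2 x hxP).symm).zpow_right i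
    refine ⟨⟨⟨fun a c => Subtype.ext ?_⟩⟩, fun w hw => ?_⟩
    · obtain ⟨z, hz, i, ha⟩ := hdec _ a.2
      obtain ⟨z', hz', j, hc⟩ := hdec _ c.2
      show (a : G) * c = c * a
      rw [ha, hc]
      have h1 : Commute z (z' * x ^ j) :=
        (show Commute z z' from hz'.1.2 z (hZP hz)).mul_right (hcz z hz j)
      have h2 : Commute (x ^ i) (z' * x ^ j) :=
        (hcz z' hz' i).symm.mul_right ((Commute.refl x).zpow_zpow i j)
      exact (h1.mul_left h2).eq
    · obtain ⟨z, hz, i, rfl⟩ := hdec w hw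
      rw [(hcz z hz i).mul_pow, hz.2, one_mul, ← zpow_natCast, zpow_comm, zpow_natCast, hxx,
        one_zpow]
  have hWle : Nat.card W ≤ p ^ 2 := by
    by_contra h
    exact not_pRankLE_of_elementary (sup_le hZP (zpowers_le.2 hxP)) hWe (not_le.1 h) hrP
  have hn' : Nat.card Z = p ^ 2 := le_antisymm ((card_le_of_le le_sup_left).trans hWle)
    (hn ▸ Nat.pow_le_pow_right hp.pos hn2)
  have hxZ : x ∈ Z := by
    have h := eq_of_le_of_card_ge (le_sup_left : Z ≤ W) (hn' ▸ hWle)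
    exact h.ge (mem_sup_right (mem_zpowers x))
  refine two_mul_card_le_of_plane hZe hn' hUZ hp2 hUodd hpU hZfpf hxZ hx1 fun u hu hux => ?_
  -- an element of `U` fixing the line of `x` lies in `M ∩ L`
  have huC : (centralizer ({x} : Set G)).map (MulAut.conj u).toMonoidHom =
      centralizer ({x} : Set G) := by
    rw [← centralizer_singleton_conj, ← centralizer_zpowers_singleton, ← centralizer_zpowers_singleton]
    congr 2
    have h1 := mem_normalizer_zpowers_iff.1 hux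
    exact le_antisymm (zpowers_le.2 h1) (zpowers_le.2 (mem_zpowers_symm
      (by rw [conj_pow, hxx, mul_one, mul_inv_cancel]) (fun h => hx1 (conj_eq_one_iff.1 h)) hxx h1))
  have huL : u ∈ L := by
    refine mem_of_map_conj_eq hG hL (huniq _ (isCoatom_conj hL u) ?_)
    rw [← huC]
    exact Subgroup.map_mono hCL
  exact mem_bot.1 (hUc.2.2.1 ▸ (⟨hu, hint ⟨hUM hu, huL⟩⟩ : u ∈ U ⊓ Cfsg.sigmaCore M))

theorem exists_bridge
    (hsup : ∀ L M : Subgroup G, IsFType L → IsCoatom M → ∀ x ∈ coreSet M,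
      ¬ centralizer ({x} : Set G) ≤ M → centralizer ({x} : Set G) ≤ L → IsFType M)
    (h : ∃ L : Subgroup G, IsFType L ∧ ¬ IsFrob L) :
    ∃ (L M : Subgroup G) (x : G) (p : ℕ), Bridge L M x p := by
  classical
  have hex : ∃ q, ∃ L : Subgroup G, IsFType L ∧ ¬ IsFrob L ∧ q ∈ Cfsg.tau2 L := by
    obtain ⟨L, hL, hfr⟩ := h
    obtain ⟨q, hq⟩ := exists_tau2 hG hL hfr
    exact ⟨q, L, hL, hfr, hq⟩
  set p := Nat.find hex
  obtain ⟨L, hL, -, hpt⟩ := Nat.find_spec hex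
  have hp : p.Prime := hpt.1
  haveI := Fact.mk hp
  obtain ⟨A, hAL, hA, hA2⟩ := exists_elementary_two (p := p) (X := L) hpt.2.2.2
  obtain ⟨M, hM, hpM, hAM⟩ := exists_core_ge hG hp (hA2 ▸ dvd_pow_self p two_ne_zero)
    (isPGroup_of_exp hA.2)
  obtain ⟨x, hxA, hx1, y, hy, hy', hxy⟩ := exists_fix hG hL hpt.2.1 hAL hA hA2
  have hy1 : y ≠ 1 := fun h => hy' (h ▸ one_mem _)
  have hxp : orderOf x = p := orderOf_eq_prime (hA.2 x hxA) hx1
  obtain ⟨-, hCL, huniq⟩ := fixing_tau2 hG hL hy hy1 (hAL hxA) hxy hp hxp hpt.2.1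
  have hxM : ¬ centralizer ({x} : Set G) ≤ M := fun hC =>
    hpt.2.1 (huniq M hM hC ▸ hpM)
  have hMF : IsFType M := hsup L M hL hM x ⟨hAM hxA, hx1⟩ hxM hCL
  have hfr : IsFrob M := by
    by_contra hnf
    obtain ⟨r, hr⟩ := exists_tau2 hG hMF hnf
    exact Nat.find_min hex (tau2_lt hG hMF (hAM hxA) hxp hxM hr) ⟨M, hMF, hnf, hr⟩
  obtain ⟨N, ⟨hN, hCN⟩, -, -, -, -, hcompl, -⟩ :=
    Cfsg.Agent.S1375.result hG M hM x (hAM hxA) hx1 hxM
  obtain rfl := huniq N hN hCN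
  have hint := inter_le_core hG hL hMF hfr hcompl hpt hpM hA hA2 hAL hAM hxA hx1 hy hy1 hxy
  exact ⟨N, M, x, p,
    { hL := hL
      hM := hMF
      frobM := hfr
      prime := hp
      order := hxp
      xM := hAM hxA
      xL := hAL hxA
      xL' := fun hx => hpt.2.1 (sigma_of_dvd_sigmaCore hp ((dvd_of_eq hxp.symm).trans (orderOf_dvd_card_of_mem hx)))
      fix := ⟨y, hy, hy', hxy⟩
      centralizer_le := hCL
      not_conj := fun g hg => hpt.2.1 (by rw [hg, sigma_conj]; exact hpM)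
      inter_le := hint
      compl := hcompl
      index_bound := index_le hG hN hMF hfr (hAM hxA) hxp hxM hCL huniq hint }⟩

end CfsgLib.FT
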