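import Cfsg.Agent.Lib.FT.Support
import Cfsg.Agent.Lib.OddChar.DadeVirtual
import Cfsg.Agent.Lib.OddChar.Coherence
import Cfsg.Agent.Lib.Char.Kernel
import Cfsg.Agent.Lib.Char.Orth
import Cfsg.Agent.S1500
import Cfsg.Agent.S1525

/-!
FT module CrossOrth: interaction of the Dade maps of non-conjugate maximal subgroups.

* `inner_tau`: adjointness of the Dade map and the coset average.
* `rho_core_tau_eq_zero`: if `x u`, `u ∈ R(x)`, meets the support of the Dade map of `L`, then a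
  conjugate of `x` is a `σ(M)`-element of `A(L) ∖ L_σ`, so the supporting subgroup of `x` is that
  conjugate of `L` and the average is a coset sum of `α`.
* `sum_coset_eq_zero`: the coset sums of a character with no constituent trivial on `L_σ` vanish.
* `norm_lt`: S1525 for both cores, whose supports are disjoint and miss `1`.
-/

set_option autoImplicit false
set_option linter.style.haveILetI false
set_option linter.unusedSectionVars false

namespace CfsgLib.FT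

open Subgroup CfsgLib.OddOrder CfsgLib.OddChar.MaxTypes

universe u

/-- The average of an irreducible character over a coset of a normal subgroup outside its kernel. -/
theorem sum_normal_coset_eq_zero {X : Type*} [Group X] [Finite X] (N : Subgroup X) [N.Normal]
    [Fintype N] {χ : X → ℂ} (hχ : Cfsg.IsIrrCharacter X χ) (hnk : ∃ u ∈ N, χ u ≠ χ 1) (a : X) :
    ∑ h : N, χ ((h : X) * a) = 0 := by
  obtain ⟨n, ρ, hρ, rfl⟩ := hχ
  haveI := hρ
  have hker : ∃ u ∈ N, ρ u ≠ 1 := by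
    obtain ⟨u, hu, hne⟩ := hnk
    refine ⟨u, hu, fun h => hne ?_⟩
    simp only [Representation.character, h, map_one]
  have hP : ∑ h : N, ρ (h : X) = 0 := by
    refine LinearMap.ext fun v => ?_
    have hv : (∑ h : N, ρ (h : X)) v ∈ CharKernel.fixedSpace ρ N := by
      rw [CharKernel.mem_fixedSpace]
      intro u hu
      rw [LinearMap.sum_apply, map_sum]
      refine Fintype.sum_equiv (Equiv.mulLeft (⟨u, hu⟩ : N)) _ _ fun h => ?_
      rw [← Module.End.mul_apply, ← map_mul]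
      rfl
    rw [CharKernel.fixedSpace_eq_bot ρ N hker, Submodule.mem_bot] at hv
    simpa using hv
  calc ∑ h : N, ρ.character ((h : X) * a)
      = LinearMap.trace ℂ _ ((∑ h : N, ρ (h : X)) * ρ a) := by
        simp only [Representation.character, map_mul, Finset.sum_mul, map_sum]
    _ = 0 := by rw [hP, zero_mul, map_zero]

variable {G : Type u} [Group G] [Fintype G] (hG : Cfsg.IsMinSimpleOddOrder G) {M L : Subgroup G}
  [Fintype M] [Fintype L]
include hG

theorem inner_tau (hM : IsFType M) {φ : ↥M → ℂ} (hφ : Cfsg.IsClassFunction M φ)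
    (hsupp : ∀ a : M, (a : G) ∉ supFull M → φ a = 0) {Φ : G → ℂ} (hΦ : Cfsg.IsClassFunction G Φ) :
    Cfsg.classInner (tau M φ) Φ = Cfsg.classInner φ (fun a : M => rho M Φ a) :=
  (Cfsg.Agent.S1500.result (supFull M) M (Cfsg.supportR M) (dade_full hG hM) φ hφ hsupp).2 Φ
    (fun a : M => rho M Φ a) hΦ fun _ _ => rfl

theorem sum_coset_eq_zero (hL : IsFType L) {χ : ↥L → ℂ} (hχ : Cfsg.IsIrrCharacter L χ)
    (hnk : ∃ a : L, (a : G) ∈ Cfsg.sigmaCore L ∧ χ a ≠ χ 1) {a : L}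
    (hco : (orderOf a).Coprime (Nat.card (Cfsg.sigmaCore L))) :
    ∑ᶠ u ∈ {u : L | (u : G) ∈ Cfsg.sigmaCore L ⊓ centralizer ({(a : G)} : Set G)}, χ (a * u) = 0 := by
  classical
  have hle : Cfsg.sigmaCore L ≤ L := piCoreOf_le _ _
  set N := (Cfsg.sigmaCore L).subgroupOf L with hN
  haveI : N.Normal :=
    (normal_subgroupOf_iff_le_normalizer hle).2 (le_normalizer_piCoreOf (Cfsg.sigma L) L)
  obtain ⟨u, hu, hne⟩ := hnk
  have h0 := sum_normal_coset_eq_zero N hχ ⟨u, mem_subgroupOf.2 hu, hne⟩ a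
  have h1 := OddChar.sum_coset_eq N a (by rw [normalizer_eq_top_iff.2 inferInstance]; exact mem_top _)
    (by rwa [Nat.card_congr (subgroupOfEquivOfLe hle).toEquiv]) χ
    fun x _ z => Char.IsIrrCharacter.isClassFunction hχ z x
  rw [h0, mul_zero, eq_comm, mul_eq_zero] at h1
  have h2 := h1.resolve_left (Nat.cast_ne_zero.2 Nat.card_pos.ne')
  have hmem : ∀ c : L, c ∈ N ⊓ centralizer ({a} : Set L) ↔
      (c : G) ∈ Cfsg.sigmaCore L ⊓ centralizer ({(a : G)} : Set G) := fun c => by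
    rw [Subgroup.mem_inf, Subgroup.mem_inf, mem_subgroupOf, mem_centralizer_singleton_iff,
      mem_centralizer_singleton_iff, Subtype.ext_iff, Subgroup.coe_mul, Subgroup.coe_mul]
  rw [← h2, ← finsum_eq_sum_of_fintype]
  refine Eq.trans ?_ (finsum_set_coe_eq_finsum_mem
    ((N ⊓ centralizer ({a} : Set L) : Subgroup L) : Set L) (f := fun c => χ (c * a))).symm
  refine finsum_mem_congr (Set.ext fun c => (hmem c).symm) fun c hc => ?_
  rw [Char.IsClassFunction.mul_comm' (Char.IsIrrCharacter.isClassFunction hχ)]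

theorem rho_core_tau_eq_zero (hM : IsCoatom M) (hL : IsFType L)
    (hnc : ∀ g : G, L ≠ M.map (MulAut.conj g).toMonoidHom) {α : ↥L → ℂ}
    (hα : Cfsg.IsClassFunction L α) (hsupp : ∀ a : L, (a : G) ∉ supFull L → α a = 0)
    (hsum : ∀ a : L, (a : G) ∉ Cfsg.sigmaCore L →
      (orderOf a).Coprime (Nat.card (Cfsg.sigmaCore L)) →
      ∑ᶠ u ∈ {u : L | (u : G) ∈ Cfsg.sigmaCore L ⊓ centralizer ({(a : G)} : Set G)}, α (a * u) = 0)
    {x : G} (hx : x ∈ coreSet M) : rho M (tau L α) x = 0 := by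
  classical
  set R := Cfsg.supportR M x with hR
  suffices h0 : ∑ᶠ u ∈ (R : Set G), tau L α (x * u) = 0 by
    rw [rho, ← hR, h0, mul_zero]
  have hDL := dade_full hG hL
  have hDM := dade_core hG hM
  by_cases hex : ∃ u ∈ R, x * u ∈ OddChar.dadeSupport (supFull L) (Cfsg.supportR L)
  swap
  · refine (finsum_mem_congr (t := (R : Set G)) (g := fun _ => (0 : ℂ)) rfl fun u hu => ?_).trans
      (finsum_mem_zero _)
    exact OddChar.dadeIsometry_eq_zero fun h => hex ⟨u, hu, h⟩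
  obtain ⟨u₀, hu₀, a, ha, v, hv, g, hgu⟩ := hex
  -- the two supports meet only outside `L_σ`
  have haH : a ∉ Cfsg.sigmaCore L := fun h =>
    Set.disjoint_left.1 (core_cosets_disjoint hG hM hL.coatom hnc)
      (⟨x, hx, u₀, hu₀, 1, by group⟩ : x * u₀ ∈ Cfsg.tildeOf M (coreSet M))
      ⟨a, ⟨h, ha.2⟩, v, hv, g⁻¹, by rw [← hgu]; group⟩
  have hv1 : v = 1 := by
    rw [(centralizer_le_of_notMem_core hG hL ha haH).2] at hv
    exact mem_bot.1 hv
  rw [hv1, mul_one] at hgu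
  obtain ⟨k, hk⟩ := OddChar.exists_pow_split (G := G) (hDM.coprime x hx x hx).symm
  have hxk : (x * u₀) ^ k = x := hk x u₀ (OddChar.dade_commute hDM hx hu₀)
    (OddChar.dade_pow_card_eq_one hDM hx) (OddChar.pow_card_mem hu₀)
  set x' := g * x * g⁻¹ with hx'
  have hx'a : x' = a ^ k := by rw [← hgu, conj_pow, hxk]
  have hx'L : x' ∈ L := hx'a ▸ pow_mem ha.1.1 k
  have hx'1 : x' ≠ 1 := fun h => hx.2 (conj_eq_one_iff.1 h)
  have hord : orderOf x' = orderOf x := by rw [hx', ← MulAut.conj_apply, MulEquiv.orderOf_eq]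
  have hprime : ∀ p : ℕ, p.Prime → p ∣ orderOf x' → p ∈ Cfsg.sigma M ∧ p ∉ Cfsg.sigma L := by
    intro p hp hd
    have hσ := isPiSubgroup_zpowers_of_mem hG hM hx.1 p hp (hord ▸ hd)
    refine ⟨hσ, fun h => ?_⟩
    obtain ⟨y, hy⟩ := (Cfsg.Agent.S1378.result hG).2 M L hM hL.coatom ⟨p, hσ, h⟩
    exact hnc y hy
  have hx'H : x' ∉ Cfsg.sigmaCore L := fun h => by
    obtain ⟨p, hp, hd⟩ := Nat.exists_prime_and_dvd (mt orderOf_eq_one_iff.1 hx'1)
    exact (hprime p hp hd).2 (isPiSubgroup_zpowers_of_mem hG hL.coatom h p hp hd)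
  obtain ⟨w, hw, hw1, haw⟩ := ha.1.2
  have hx'w : x' * w = w * x' := by
    rw [hx'a]
    exact ((show Commute a w from haw).pow_left k).eq
  have hx'A : x' ∈ supFull L := ⟨⟨hx'L, w, hw, hw1, hx'w⟩, hx'1⟩
  obtain ⟨hCx', -⟩ := centralizer_le_of_notMem_core hG hL hx'A hx'H
  have huniq : ∀ L' : Subgroup G, IsCoatom L' → centralizer ({x'} : Set G) ≤ L' → L' = L := by
    obtain ⟨p, hp, hd⟩ := Nat.exists_prime_and_dvd (mt orderOf_eq_one_iff.1 hx'1)
    rcases Cfsg.Agent.S1432.result hG L hL.coatom w hw hw1 x'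
        ⟨hx'L, mem_centralizer_singleton_iff.2 hx'w⟩ hx'1 (fun p hp hd => (hprime p hp hd).2) with
      ⟨h, -⟩ | ⟨-, -, -, h⟩
    · exact absurd (hL.kappa_eq ▸ h p hp hd) (Set.notMem_empty p)
    · exact h
  -- the supporting subgroup of `x` is `g⁻¹ L g`
  have hxx' : g⁻¹ * x' * g⁻¹⁻¹ = x := by rw [hx']; group
  have hCxx' : centralizer ({x} : Set G) =
      (centralizer ({x'} : Set G)).map (MulAut.conj g⁻¹).toMonoidHom := by
    rw [← centralizer_singleton_conj, hxx']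
  have hxM : ¬ centralizer ({x} : Set G) ≤ M := fun h => by
    refine hnc g (huniq (M.map (MulAut.conj g).toMonoidHom) (isCoatom_conj hM g) ?_).symm
    rw [hx', centralizer_singleton_conj]
    exact map_mono h
  obtain ⟨N, ⟨hN, hCN⟩, hNu, hNF, -⟩ := Cfsg.Agent.S1375.result hG M hM x hx.1 hx.2 hxM
  have hLN : L.map (MulAut.conj g⁻¹).toMonoidHom = N :=
    hNu _ (isCoatom_conj hL.coatom g⁻¹) (hCxx' ▸ map_mono hCx')
  have hRmem : ∀ u : G, u ∈ R ↔ g * u * g⁻¹ ∈ Cfsg.sigmaCore L ⊓ centralizer ({x'} : Set G) := by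
    intro u
    rw [hR, OddOrder.supportR_eq hxM hN hCN hNu hNF, ← hLN, sigmaCore_conj, hCxx',
      Subgroup.mem_inf, Subgroup.mem_inf, mem_map_conj_iff, mem_map_conj_iff, inv_inv]
  have hS := hsum ⟨x', hx'L⟩ hx'H (by
    rw [Subgroup.orderOf_mk]
    exact Nat.coprime_of_dvd fun p hp h1 h2 => (hprime p hp h1).2 (sigma_of_dvd_sigmaCore hp h2))
  rw [← hS]
  symm
  refine finsum_mem_eq_of_bijOn (fun c : L => g⁻¹ * c * g)
    ⟨fun c hc => ?_, fun c _ d _ h => ?_, fun u hu => ?_⟩ fun c hc => ?_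
  · show g⁻¹ * (c : G) * g ∈ R
    rw [hRmem]
    have hc' : (c : G) ∈ Cfsg.sigmaCore L ⊓ centralizer ({x'} : Set G) := hc
    rwa [show g * (g⁻¹ * (c : G) * g) * g⁻¹ = c by group]
  · exact Subtype.ext (mul_left_cancel (mul_right_cancel h))
  · have hu' := (hRmem u).1 hu
    exact ⟨⟨g * u * g⁻¹, piCoreOf_le _ _ hu'.1⟩, hu',
      show g⁻¹ * (g * u * g⁻¹) * g = u by group⟩
  · have hc' : (c : G) ∈ Cfsg.sigmaCore L ⊓ centralizer ({x'} : Set G) := hc
    have hcx : (c : G) * x' = x' * c := mem_centralizer_singleton_iff.1 hc'.2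
    have hA : x' * c ∈ supFull L := by
      refine ⟨?_, fun h => hx'H ?_⟩
      · by_cases h1 : (c : G) = 1
        · rw [h1, mul_one]; exact hx'A.1
        · exact ⟨L.mul_mem hx'L c.2, c, hc'.1, h1, by
            rw [← mul_assoc, hcx]⟩
      · rw [eq_inv_of_mul_eq_one_left h]
        exact inv_mem hc'.1
    exact (OddChar.dadeIsometry_apply hDL hα (⟨x', hx'L⟩ * c) hA (u := 1) (one_mem _) (x := g)
      (by
        show g * (x * (g⁻¹ * (c : G) * g)) * g⁻¹ = g * x * g⁻¹ * (c : G) * 1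
        group)).symm

theorem norm_lt (hM : IsCoatom M) (hL : IsCoatom L)
    (hnc : ∀ g : G, L ≠ M.map (MulAut.conj g).toMonoidHom) {ψ : G → ℂ}
    (hψ : Cfsg.IsIrrCharacter G ψ ∨ Cfsg.IsIrrCharacter G (-ψ)) :
    (Nat.card M : ℝ)⁻¹ * ∑ᶠ a ∈ {a : M | (a : G) ∈ coreSet M}, ‖rho M ψ a‖ ^ 2 +
      (Nat.card L : ℝ)⁻¹ * ∑ᶠ a ∈ {a : L | (a : G) ∈ coreSet L}, ‖rho L ψ a‖ ^ 2 < 1 := by
  classical
  have hcf : Cfsg.IsClassFunction G ψ := by
    rcases hψ with h | h
    · exact Char.IsIrrCharacter.isClassFunction h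
    · intro a b
      simpa using Char.IsIrrCharacter.isClassFunction h a b
  have hnorm : Cfsg.classInner ψ ψ = 1 := by
    rcases hψ with h | h
    · exact Char.classInner_irr_self h
    · rw [← Char.classInner_irr_self h, Char.classInner_neg_left, Char.classInner_neg_right,
        neg_neg]
  have hψ1 : ψ 1 ≠ 0 := by
    rcases hψ with h | h
    · exact Char.IsIrrCharacter.apply_one_ne_zero h
    · simpa using Char.IsIrrCharacter.apply_one_ne_zero h
  have htot : (Nat.card G : ℝ)⁻¹ * ∑ g, ‖ψ g‖ ^ 2 = 1 := by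
    rw [OddChar.Coh.classInner_self_eq] at hnorm
    exact_mod_cast hnorm
  set TM := {z : G | ∃ a ∈ coreSet M, ∃ u ∈ Cfsg.supportR M a, ∃ y : G, y * z * y⁻¹ = a * u} with hTM
  set TL := {z : G | ∃ a ∈ coreSet L, ∃ u ∈ Cfsg.supportR L a, ∃ y : G, y * z * y⁻¹ = a * u} with hTL
  have hbM : (Nat.card M : ℝ)⁻¹ * ∑ᶠ a ∈ {a : M | (a : G) ∈ coreSet M}, ‖rho M ψ a‖ ^ 2 ≤
      (Nat.card G : ℝ)⁻¹ * ∑ᶠ z ∈ TM, ‖ψ z‖ ^ 2 :=
    Cfsg.Agent.S1525.result (coreSet M) M (Cfsg.supportR M) (dade_core hG hM) ψ hcf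
      (fun a : M => rho M ψ a) fun _ _ => rfl
  have hbL : (Nat.card L : ℝ)⁻¹ * ∑ᶠ a ∈ {a : L | (a : G) ∈ coreSet L}, ‖rho L ψ a‖ ^ 2 ≤
      (Nat.card G : ℝ)⁻¹ * ∑ᶠ z ∈ TL, ‖ψ z‖ ^ 2 :=
    Cfsg.Agent.S1525.result (coreSet L) L (Cfsg.supportR L) (dade_core hG hL) ψ hcf
      (fun a : L => rho L ψ a) fun _ _ => rfl
  have htilde : ∀ (X : Subgroup G) (z : G),
      (∃ a ∈ coreSet X, ∃ u ∈ Cfsg.supportR X a, ∃ y : G, y * z * y⁻¹ = a * u) →
      z ∈ Cfsg.tildeOf X (coreSet X) := by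
    rintro X z ⟨a, ha, u, hu, y, e⟩
    exact ⟨a, ha, u, hu, y⁻¹, by rw [← e]; group⟩
  have hone : ∀ X : Subgroup G, IsCoatom X →
      ¬ ∃ a ∈ coreSet X, ∃ u ∈ Cfsg.supportR X a, ∃ y : G, y * 1 * y⁻¹ = a * u := by
    rintro X hX ⟨a, ha, u, hu, y, e⟩
    rw [mul_one, mul_inv_cancel] at e
    have h1 : a ∈ Cfsg.supportR X a := by
      have h3 := inv_mem hu
      rwa [← eq_inv_of_mul_eq_one_left e.symm] at h3
    have h2 : a ∈ Cfsg.supportR X a ⊓ (X ⊓ centralizer ({a} : Set G)) :=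
      ⟨h1, (dade_core hG hX).subset ha, mem_centralizer_singleton_iff.2 rfl⟩
    rw [(dade_core hG hX).inf_eq_bot a ha, mem_bot] at h2
    exact ha.2 h2
  have hdisj : Disjoint TM.toFinset TL.toFinset := by
    rw [Set.disjoint_toFinset, Set.disjoint_left]
    exact fun z h1 h2 => Set.disjoint_left.1 (core_cosets_disjoint hG hM hL hnc)
      (htilde M z h1) (htilde L z h2)
  have h1U : (1 : G) ∉ TM.toFinset ∪ TL.toFinset := by
    rw [Finset.mem_union, Set.mem_toFinset, Set.mem_toFinset]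
    exact fun h => h.elim (hone M hM) (hone L hL)
  have hlt : ∑ z ∈ TM.toFinset ∪ TL.toFinset, ‖ψ z‖ ^ 2 < ∑ z, ‖ψ z‖ ^ 2 :=
    Finset.sum_lt_sum_of_subset (i := (1 : G)) (Finset.subset_univ _) (Finset.mem_univ _) h1U
      (by positivity) fun z _ _ => by positivity
  rw [Finset.sum_union hdisj, ← finsum_mem_eq_toFinset_sum, ← finsum_mem_eq_toFinset_sum] at hlt
  refine (add_le_add hbM hbL).trans_lt ?_
  rw [← mul_add, ← htot]
  exact mul_lt_mul_of_pos_left hlt (inv_pos.2 (Nat.cast_pos.2 Nat.card_pos))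

end CfsgLib.FT
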