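import Cfsg.Agent.Lib.FT.HallChars
import Cfsg.Agent.Lib.FT.Parity
import Cfsg.Agent.Lib.OddChar.Criteria
import Cfsg.Agent.Lib.OddChar.DadeVirtual
import Cfsg.Agent.S1500
import Cfsg.Agent.S1518

/-!
PROJECT FT (PF 12.4, 12.5): a function orthogonal to the pairs `μ, -μ̄` of the characters over the
nonprincipal characters of `K` takes one value on all `τ (Ind θ - Ind θ')`, `θ` linear.
-/

set_option autoImplicit false

open ComplexConjugate

namespace CfsgLib.FT

section Linear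

variable {G : Type*} [Group G] (A : Set G) (L : Subgroup G) (H : G → Subgroup G)

theorem dade_map_add (a b : L → ℂ) : Cfsg.dadeIsometry A L H (a + b) =
    Cfsg.dadeIsometry A L H a + Cfsg.dadeIsometry A L H b := by
  funext g
  simp only [Cfsg.dadeIsometry, Pi.add_apply]
  split_ifs <;> simp

theorem dade_map_zero : Cfsg.dadeIsometry A L H (0 : L → ℂ) = 0 := by
  funext g
  simp [Cfsg.dadeIsometry]

theorem dade_map_sub (a b : L → ℂ) : Cfsg.dadeIsometry A L H (a - b) =
    Cfsg.dadeIsometry A L H a - Cfsg.dadeIsometry A L H b := by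
  funext g
  simp only [Cfsg.dadeIsometry, Pi.sub_apply]
  split_ifs <;> simp

theorem dade_map_zsmul (n : ℤ) (a : L → ℂ) :
    Cfsg.dadeIsometry A L H (n • a) = n • Cfsg.dadeIsometry A L H a := by
  funext g
  simp only [Cfsg.dadeIsometry, Pi.smul_apply]
  split_ifs <;> simp

theorem dade_map_sum {ι : Type*} (s : Finset ι) (f : ι → L → ℂ) :
    Cfsg.dadeIsometry A L H (∑ i ∈ s, f i) = ∑ i ∈ s, Cfsg.dadeIsometry A L H (f i) := by
  classical
  induction s using Finset.induction_on with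
  | empty => simp [dade_map_zero]
  | insert i s hi ih => rw [Finset.sum_insert hi, Finset.sum_insert hi, dade_map_add, ih]

theorem dade_apply_one [Finite G] (hD : Cfsg.DadeHypothesis A L H) (a : L → ℂ) :
    Cfsg.dadeIsometry A L H a 1 = 0 := by
  apply OddChar.dadeIsometry_eq_zero
  rintro ⟨b, hb, u, hu, x, e⟩
  have e' : b * u = 1 := by rw [← e]; group
  have hbH : b ∈ H b := by
    have := (H b).inv_mem hu
    rwa [← inv_eq_of_mul_eq_one_right e', inv_inv] at this
  have : b ∈ H b ⊓ (L ⊓ Subgroup.centralizer ({b} : Set G)) :=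
    ⟨hbH, hD.subset hb, Subgroup.mem_centralizer_singleton_iff.2 rfl⟩
  rw [hD.inf_eq_bot b hb, Subgroup.mem_bot] at this
  exact hD.one_not_mem (this ▸ hb)

end Linear

namespace Hall

variable {G : Type*} [Group G] [Fintype G] {A : Set G} {L : Subgroup G} [Fintype L]
  {H : G → Subgroup G} (K : Subgroup L) [K.Normal] [Fintype K]

/-- Functions induced from the nonprincipal linear characters of `K`. -/
def linSet : Set (L → ℂ) :=
  {φ | ∃ θ : K → ℂ, Cfsg.IsIrrCharacter K θ ∧ θ ≠ (fun _ => 1) ∧ θ 1 = 1 ∧ φ = Cfsg.indFun K θ}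

omit [Fintype G] in
theorem linSet_conj {φ : L → ℂ} (hφ : φ ∈ linSet K) : Cfsg.conjFun φ ∈ linSet K := by
  obtain ⟨θ, h1, h2, h3, rfl⟩ := hφ
  refine ⟨Cfsg.conjFun θ, OddChar.isIrrCharacter_conjFun h1, fun e => h2 ?_, ?_,
    OddChar.Above.conjFun_indFun K θ⟩
  · rw [← OddChar.conjFun_conjFun θ, e]
    funext x; simp [Cfsg.conjFun]
  · simp [Cfsg.conjFun, h3]

omit [Fintype G] in
theorem nTriv_conjFun {χ : L → ℂ} (h : NTriv K χ) : NTriv K (Cfsg.conjFun χ) := by
  obtain ⟨k, hk, hne⟩ := h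
  exact ⟨k, hk, fun e => hne ((starRingEnd ℂ).injective e)⟩

omit [Fintype G] in
/-- An induced nonprincipal character is not real. -/
theorem conjFun_indFun_ne (hodd : Odd (Nat.card L)) {θ : K → ℂ} (hθ : Cfsg.IsIrrCharacter K θ)
    (hθ1 : θ ≠ fun _ => 1) : Cfsg.conjFun (Cfsg.indFun K θ) ≠ Cfsg.indFun K θ := by
  intro e
  rw [OddChar.Above.conjFun_indFun] at e
  obtain ⟨g, hg⟩ := OddChar.Above.exists_conj_of_indFun_eq K hθ
    (OddChar.isIrrCharacter_conjFun hθ) e
  have hc : CharTwist.conjFun K (Cfsg.conjFun θ) g = Cfsg.conjFun (CharTwist.conjFun K θ g) := rfl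
  have h2 : g ^ 2 ∈ CharTwist.inertia K θ := by
    rw [CharTwist.mem_inertia, sq, CharTwist.conjFun_mul, hg, hc, hg, OddChar.conjFun_conjFun]
  obtain ⟨k, hk⟩ := hodd.of_dvd_nat (orderOf_dvd_natCard g)
  have hgI : g ∈ CharTwist.inertia K θ := by
    have : (g ^ 2) ^ (k + 1) = g := by
      rw [← pow_mul, show 2 * (k + 1) = orderOf g + 1 by omega, pow_succ, pow_orderOf_eq_one,
        one_mul]
    exact this ▸ pow_mem h2 _
  rw [CharTwist.mem_inertia.1 hgI] at hg
  exact conjFun_ne_self (hodd.of_dvd_nat K.card_subgroup_dvd_card) hθ hθ1 hg.symm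

omit [Fintype G] in
theorem eq_of_constituent {θ θ' : K → ℂ} (hθ : Cfsg.IsIrrCharacter K θ)
    (hθ' : Cfsg.IsIrrCharacter K θ') {χ : L → ℂ} (hχ : Cfsg.IsIrrCharacter L χ)
    (h : Cfsg.classInner (fun k : K => χ k) θ ≠ 0)
    (h' : Cfsg.classInner (fun k : K => χ k) θ' ≠ 0) : Cfsg.indFun K θ = Cfsg.indFun K θ' := by
  obtain ⟨g, rfl⟩ := Clifford.exists_conjFun_eq K hχ hθ hθ' h h'
  exact (OddChar.Above.indFun_conjFun K hθ g).symm

theorem linear_diff_orth (hD : Cfsg.DadeHypothesis A L H)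
    (hKA : ∀ k : L, k ∈ K → k ≠ 1 → (k : G) ∈ A)
    (hvan : ∀ χ : L → ℂ, Cfsg.IsIrrCharacter L χ → NTriv K χ →
      ∀ a : L, a ≠ 1 → (a : G) ∉ A → χ a = 0)
    (hcop : (Nat.card K).Coprime K.index) (hab : AbelInertial K) (hodd : Odd (Nat.card L))
    {ψ : G → ℂ}
    (horth : ∀ (χ : L → ℂ) (μ : G → ℂ), Cfsg.IsIrrCharacter L χ → NTriv K χ →
      Cfsg.IsIrrCharacter G μ →
      Cfsg.dadeIsometry A L H (χ - Cfsg.conjFun χ) = μ - Cfsg.conjFun μ →
      Cfsg.classInner ψ μ = 0 ∧ Cfsg.classInner ψ (Cfsg.conjFun μ) = 0)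
    {φ φ' : L → ℂ} (hφ : φ ∈ linSet K) (hφ' : φ' ∈ linSet K) :
    Cfsg.classInner (Cfsg.dadeIsometry A L H (φ - φ')) ψ = 0 := by
  classical
  let τ := Cfsg.dadeIsometry A L H
  -- blocks
  have hD' : ∀ f ∈ linSet K, ∃ (D : Finset (L → ℂ)) (θ : K → ℂ), Cfsg.IsIrrCharacter K θ ∧
      θ ≠ (fun _ => 1) ∧ f = Cfsg.indFun K θ ∧ f = ∑ χ ∈ D, χ ∧
      ∀ χ ∈ D, Cfsg.IsIrrCharacter L χ ∧ NTriv K χ ∧ Cfsg.classInner (fun k : K => χ k) θ ≠ 0 := by
    rintro f ⟨θ, h1, h2, -, rfl⟩
    obtain ⟨D, hD1, hdec, hmem, -, hnt⟩ := blocks K hcop hab h1 h2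
    exact ⟨D, θ, h1, h2, rfl, hdec, fun χ hχ => ⟨hD1 χ hχ, hnt χ hχ, (hmem χ (hD1 χ hχ)).1 hχ⟩⟩
  choose! D θ hθ hθ1 hfθ hfD hmemD using hD'
  have hcompare : ∀ f ∈ linSet K, ∀ f' ∈ linSet K, f' ≠ Cfsg.conjFun f →
      ∀ a ∈ D f, ∀ b ∈ D f', b ≠ Cfsg.conjFun a := by
    intro f hf f' hf' hne a ha b hb e
    apply hne
    obtain ⟨ha1, -, ha3⟩ := hmemD f hf a ha
    obtain ⟨hb1, -, hb3⟩ := hmemD f' hf' b hb
    have hc : Cfsg.classInner (fun k : K => b k) (Cfsg.conjFun (θ f)) ≠ 0 := by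
      rw [e, show (fun k : K => Cfsg.conjFun a k) = Cfsg.conjFun (fun k : K => a k) from rfl,
        classInner_conjFun_conjFun]
      simpa using ha3
    rw [hfθ f' hf', hfθ f hf, OddChar.Above.conjFun_indFun]
    exact eq_of_constituent K (hθ f' hf') (OddChar.isIrrCharacter_conjFun (hθ f hf)) hb1 hb3 hc
  have hsame : ∀ f ∈ linSet K, ∀ f' ∈ linSet K, f ≠ f' → ∀ a ∈ D f, ∀ b ∈ D f', a ≠ b := by
    intro f hf f' hf' hne a ha b hb e
    subst e
    apply hne
    rw [hfθ f hf, hfθ f' hf']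
    exact eq_of_constituent K (hθ f hf) (hθ f' hf') (hmemD f hf a ha).1 (hmemD f hf a ha).2.2
      (hmemD f' hf' a hb).2.2
  have hfne : ∀ f ∈ linSet K, Cfsg.conjFun f ≠ f := fun f hf => by
    rw [hfθ f hf]; exact conjFun_indFun_ne K hodd (hθ f hf) (hθ1 f hf)
  -- pairs
  have hsupp : ∀ χ : L → ℂ, Cfsg.IsIrrCharacter L χ → NTriv K χ → ∀ a : L, (a : G) ∉ A →
      (χ - Cfsg.conjFun χ) a = 0 := by
    intro χ hχ hn a ha
    by_cases h1 : a = 1
    · subst h1
      simp [Cfsg.conjFun, OddChar.conj_apply_one (Char.IsIrrCharacter.isCharacter hχ)]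
    · simp [Cfsg.conjFun, hvan χ hχ hn a h1 ha]
  have hμ' : ∀ χ : L → ℂ, Cfsg.IsIrrCharacter L χ → NTriv K χ → ∃ μ : G → ℂ,
      Cfsg.IsIrrCharacter G μ ∧ τ (χ - Cfsg.conjFun χ) = μ - Cfsg.conjFun μ :=
    fun χ hχ hn => Cfsg.Agent.S1518.result A L H hD χ hχ (hvan χ hχ hn)
  choose! μ hμ hτμ using hμ'
  have hcne : ∀ χ : L → ℂ, Cfsg.IsIrrCharacter L χ → NTriv K χ → Cfsg.conjFun χ ≠ χ := by
    intro χ hχ hn
    refine conjFun_ne_self hodd hχ fun e => ?_
    obtain ⟨k, -, hne⟩ := hn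
    exact hne (by rw [e])
  have hinn : ∀ χ χ' : L → ℂ, Cfsg.IsIrrCharacter L χ → NTriv K χ → Cfsg.IsIrrCharacter L χ' →
      NTriv K χ' → Cfsg.classInner (μ χ - Cfsg.conjFun (μ χ)) (μ χ' - Cfsg.conjFun (μ χ')) =
        Cfsg.classInner (χ - Cfsg.conjFun χ) (χ' - Cfsg.conjFun χ') := by
    intro χ χ' h1 h2 h3 h4
    rw [← hτμ χ h1 h2, ← hτμ χ' h3 h4]
    have hcl : ∀ ν : L → ℂ, Cfsg.IsIrrCharacter L ν →
        Cfsg.IsClassFunction L (ν - Cfsg.conjFun ν) := fun ν hν =>
      Char.IsGeneralizedCharacter.isClassFunction (Char.IsGeneralizedCharacter.sub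
        (Char.IsIrrCharacter.isGeneralizedCharacter hν)
        (Char.IsIrrCharacter.isGeneralizedCharacter (OddChar.isIrrCharacter_conjFun hν)))
    exact (Cfsg.Agent.S1500.result A L H hD _ (hcl χ h1) (hsupp χ h1 h2)).1 _ (hcl χ' h3)
      (hsupp χ' h3 h4)
  have hμne : ∀ χ : L → ℂ, Cfsg.IsIrrCharacter L χ → NTriv K χ →
      Cfsg.conjFun (μ χ) ≠ μ χ := by
    intro χ h1 h2 e
    have h := hinn χ χ h1 h2 h1 h2
    have hc := OddChar.isIrrCharacter_conjFun h1
    rw [e, sub_self, Char.classInner_zero_left, Char.classInner_sub_left, Char.classInner_sub_right,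
      Char.classInner_sub_right, Char.classInner_irr_self h1, Char.classInner_irr_self hc,
      Char.classInner_irr_of_ne hc h1 (hcne χ h1 h2),
      Char.classInner_irr_of_ne h1 hc (hcne χ h1 h2).symm] at h
    norm_num at h
  have hpair : ∀ χ χ' : L → ℂ, Cfsg.IsIrrCharacter L χ → NTriv K χ → Cfsg.IsIrrCharacter L χ' →
      NTriv K χ' → χ ≠ χ' → χ' ≠ Cfsg.conjFun χ →
      Cfsg.classInner (μ χ) (μ χ') = 0 ∧ Cfsg.classInner (μ χ) (Cfsg.conjFun (μ χ')) = 0 := by
    intro χ χ' h1 h2 h3 h4 hne hne'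
    refine orth_pair (hμ χ h1 h2) (hμ χ' h3 h4) (hμne χ h1 h2) ?_
    have hc := OddChar.isIrrCharacter_conjFun h1
    have hc' := OddChar.isIrrCharacter_conjFun h3
    have n3 : χ ≠ Cfsg.conjFun χ' := fun e => hne' (by rw [e, OddChar.conjFun_conjFun])
    have n4 : Cfsg.conjFun χ ≠ Cfsg.conjFun χ' := fun e => hne (by
      rw [← OddChar.conjFun_conjFun χ, e, OddChar.conjFun_conjFun])
    rw [hinn χ χ' h1 h2 h3 h4, Char.classInner_sub_left, Char.classInner_sub_right,
      Char.classInner_sub_right, Char.classInner_irr_of_ne h1 h3 hne,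
      Char.classInner_irr_of_ne h1 hc' n3, Char.classInner_irr_of_ne hc h3 hne'.symm,
      Char.classInner_irr_of_ne hc hc' n4]
    ring
  let R : (L → ℂ) → Finset (G → ℂ) := fun f =>
    (D f).image μ ∪ (D f).image (fun χ => -Cfsg.conjFun (μ χ))
  -- inner products inside one `R f`
  have hwithin : ∀ f ∈ linSet K, ∀ a ∈ D f, ∀ b ∈ D f,
      Cfsg.classInner (μ a) (μ b) = (if a = b then 1 else 0) ∧
      Cfsg.classInner (μ a) (Cfsg.conjFun (μ b)) = 0 := by
    intro f hf a ha b hb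
    obtain ⟨ha1, ha2, -⟩ := hmemD f hf a ha
    obtain ⟨hb1, hb2, -⟩ := hmemD f hf b hb
    by_cases e : a = b
    · subst e
      rw [if_pos rfl]
      exact ⟨Char.classInner_irr_self (hμ a ha1 ha2), Char.classInner_irr_of_ne (hμ a ha1 ha2)
        (OddChar.isIrrCharacter_conjFun (hμ a ha1 ha2)) (hμne a ha1 ha2).symm⟩
    · rw [if_neg e]
      exact hpair a b ha1 ha2 hb1 hb2 e (hcompare f hf f hf (hfne f hf).symm a ha b hb)
  have hμinj : ∀ f ∈ linSet K, Set.InjOn μ (D f : Set (L → ℂ)) := by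
    intro f hf a ha b hb e
    by_contra hne
    have h1 := (hwithin f hf a ha b hb).1
    rw [e, if_neg hne, Char.classInner_irr_self
      (hμ b (hmemD f hf b hb).1 (hmemD f hf b hb).2.1)] at h1
    exact one_ne_zero h1
  have hνinj : ∀ f ∈ linSet K,
      Set.InjOn (fun χ => -Cfsg.conjFun (μ χ)) (D f : Set (L → ℂ)) := by
    intro f hf a ha b hb e
    refine hμinj f hf ha hb ?_
    rw [← OddChar.conjFun_conjFun (μ a), neg_injective e, OddChar.conjFun_conjFun]
  have hdisj : ∀ f ∈ linSet K,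
      Disjoint ((D f).image μ) ((D f).image fun χ => -Cfsg.conjFun (μ χ)) := by
    intro f hf
    rw [Finset.disjoint_left]
    intro x hx hy
    obtain ⟨a, ha, rfl⟩ := Finset.mem_image.1 hx
    obtain ⟨b, hb, e⟩ := Finset.mem_image.1 hy
    have h1 := (hwithin f hf a ha b hb).2
    have h2 := Char.classInner_irr_self (OddChar.isIrrCharacter_conjFun
      (hμ b (hmemD f hf b hb).1 (hmemD f hf b hb).2.1))
    rw [show μ a = -Cfsg.conjFun (μ b) from e.symm, Char.classInner_neg_left, h2] at h1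
    norm_num at h1
  have hgen : ∀ α ∈ Cfsg.zspan (linSet K), Cfsg.IsGeneralizedCharacter L α ∧
      ∀ a : L, a ∉ K → α a = 0 := by
    intro α hα
    refine Submodule.span_induction (fun f hf => ?_) ⟨Char.IsGeneralizedCharacter.zero,
      fun a _ => rfl⟩ (fun a b _ _ ha hb => ⟨Char.IsGeneralizedCharacter.add ha.1 hb.1, fun x hx => by
        simp [ha.2 x hx, hb.2 x hx]⟩)
      (fun n a _ ha => ⟨Char.IsGeneralizedCharacter.zsmul ha.1 n, fun x hx => by simp [ha.2 x hx]⟩) hα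
    obtain ⟨θ, h1, -, -, rfl⟩ := hf
    exact ⟨Char.IsGeneralizedCharacter.indFun K (Char.IsIrrCharacter.isGeneralizedCharacter h1),
      fun a ha => Char.indFun_eq_zero_of_normal K θ ha⟩
  have hon : ∀ α ∈ Cfsg.zspanOn (linSet K) {1}ᶜ, Cfsg.IsGeneralizedCharacter L α ∧
      ∀ a : L, (a : G) ∉ A → α a = 0 := by
    intro α hα
    refine ⟨(hgen α hα.1).1, fun a ha => ?_⟩
    by_cases h1 : a = 1
    · exact hα.2 a (by simp [h1])
    · exact (hgen α hα.1).2 a fun hk => ha (hKA a hk h1)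
  have hchar : ∀ f ∈ linSet K, Cfsg.IsCharacter L f := by
    rintro f ⟨θ, h1, -, -, rfl⟩
    exact Char.IsCharacter.indFun K (Char.IsIrrCharacter.isCharacter h1)
  have hsys : Cfsg.IsCoherenceSystem (linSet K) τ R := by
    refine ⟨⟨φ, hφ⟩, hchar, fun f hf => linSet_conj K hf, hfne, ?_,
      fun α _ => dade_apply_one A L H hD α, ?_, ?_, ?_, ?_, ?_⟩
    · exact ⟨fun a _ b _ => dade_map_add A L H a b, fun a _ n => dade_map_zsmul A L H n a,
        fun a ha b hb => (Cfsg.Agent.S1500.result A L H hD a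
          (Char.IsGeneralizedCharacter.isClassFunction (hon a ha).1) (hon a ha).2).1 b
          (Char.IsGeneralizedCharacter.isClassFunction (hon b hb).1) (hon b hb).2,
        fun a ha => OddChar.dadeIsometry_isGeneralizedCharacter hD (hon a ha).1 (hon a ha).2⟩
    · intro f hf f' hf' hne
      rw [hfD f hf, hfD f' hf', Char.classInner_sum_left]
      refine Finset.sum_eq_zero fun a ha => ?_
      rw [Char.classInner_sum_right]
      exact Finset.sum_eq_zero fun b hb => Char.classInner_irr_of_ne (hmemD f hf a ha).1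
        (hmemD f' hf' b hb).1 (hsame f hf f' hf' hne a ha b hb)
    · intro f hf x hx y hy
      simp only [R, Finset.mem_union, Finset.mem_image] at hx hy
      rcases hx with ⟨a, ha, rfl⟩ | ⟨a, ha, rfl⟩ <;> rcases hy with ⟨b, hb, rfl⟩ | ⟨b, hb, rfl⟩
      · rw [(hwithin f hf a ha b hb).1]
        exact if_congr ⟨fun e => by rw [e], fun e => hμinj f hf ha hb e⟩ rfl rfl
      · rw [Char.classInner_neg_right, (hwithin f hf a ha b hb).2, neg_zero, if_neg]
        exact fun e => Finset.disjoint_left.1 (hdisj f hf) (Finset.mem_image_of_mem μ ha)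
          (e ▸ Finset.mem_image_of_mem (fun χ => -Cfsg.conjFun (μ χ)) hb)
      · rw [Char.classInner_neg_left, ← Char.classInner_conj_symm, (hwithin f hf b hb a ha).2,
          map_zero, neg_zero, if_neg]
        exact fun e => Finset.disjoint_left.1 (hdisj f hf) (Finset.mem_image_of_mem μ hb)
          (e ▸ Finset.mem_image_of_mem (fun χ => -Cfsg.conjFun (μ χ)) ha)
      · rw [Char.classInner_neg_left, Char.classInner_neg_right, neg_neg,
          classInner_conjFun_conjFun, (hwithin f hf a ha b hb).1]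
        by_cases e : a = b
        · subst e; simp
        · rw [if_neg e, if_neg fun h => e (hνinj f hf ha hb h), map_zero]
    · intro f hf x hx
      simp only [R, Finset.mem_union, Finset.mem_image] at hx
      rcases hx with ⟨a, ha, rfl⟩ | ⟨a, ha, rfl⟩
      · exact Char.IsIrrCharacter.isGeneralizedCharacter
          (hμ a (hmemD f hf a ha).1 (hmemD f hf a ha).2.1)
      · exact Char.IsGeneralizedCharacter.neg (Char.IsIrrCharacter.isGeneralizedCharacter
          (OddChar.isIrrCharacter_conjFun (hμ a (hmemD f hf a ha).1 (hmemD f hf a ha).2.1)))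
    · intro f hf
      have hdec : f - Cfsg.conjFun f = ∑ χ ∈ D f, (χ - Cfsg.conjFun χ) := by
        conv_lhs => rw [hfD f hf]
        rw [Finset.sum_sub_distrib]
        congr 1
        funext x
        simp [Cfsg.conjFun, Finset.sum_apply, map_sum]
      rw [hdec]
      show Cfsg.dadeIsometry A L H _ = _
      rw [dade_map_sum, Finset.sum_union (hdisj f hf), Finset.sum_image (hμinj f hf),
        Finset.sum_image (hνinj f hf), ← Finset.sum_add_distrib]
      exact Finset.sum_congr rfl fun χ hχ => by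
        rw [← sub_eq_add_neg]
        exact hτμ χ (hmemD f hf χ hχ).1 (hmemD f hf χ hχ).2.1
    · intro f hf f' hf' o1 o2 x hx y hy
      have hne : f' ≠ f := by
        intro e
        subst e
        exact hfne f' hf' (by
          by_contra
          have := OddChar.Coh.classInner_self_eq_zero o1
          exact hfne f' hf' (by rw [this]; funext z; simp [Cfsg.conjFun]))
      have hne' : f' ≠ Cfsg.conjFun f := by
        intro e
        subst e
        have := OddChar.Coh.classInner_self_eq_zero o2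
        exact hfne f hf (by
          rw [this, ← OddChar.conjFun_conjFun f, this]
          funext z; simp [Cfsg.conjFun])
      simp only [R, Finset.mem_union, Finset.mem_image] at hx hy
      have key : ∀ a ∈ D f', ∀ b ∈ D f, Cfsg.classInner (μ a) (μ b) = 0 ∧
          Cfsg.classInner (μ a) (Cfsg.conjFun (μ b)) = 0 := fun a ha b hb =>
        hpair a b (hmemD f' hf' a ha).1 (hmemD f' hf' a ha).2.1 (hmemD f hf b hb).1
          (hmemD f hf b hb).2.1 (hsame f' hf' f hf hne a ha b hb)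
          (hcompare f' hf' f hf (fun e => hne' (by rw [e, OddChar.conjFun_conjFun])) a ha b hb)
      rcases hx with ⟨a, ha, rfl⟩ | ⟨a, ha, rfl⟩ <;> rcases hy with ⟨b, hb, rfl⟩ | ⟨b, hb, rfl⟩
      · exact (key a ha b hb).1
      · rw [Char.classInner_neg_right, (key a ha b hb).2, neg_zero]
      · rw [Char.classInner_neg_left]
        have h := congrArg conj (key a ha b hb).2
        rw [← classInner_conjFun_conjFun, OddChar.conjFun_conjFun, map_zero] at h
        rw [h, neg_zero]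
      · rw [Char.classInner_neg_left, Char.classInner_neg_right, neg_neg,
          classInner_conjFun_conjFun, (key a ha b hb).1, map_zero]
  obtain ⟨-, τ₁, hτ₁, hag⟩ := OddChar.Coh.coherent_of_constant hsys (by
    rintro f ⟨θ, -, -, h, rfl⟩ f' ⟨θ', -, -, h', rfl⟩
    rw [Char.indFun_apply_one, Char.indFun_apply_one, h, h'])
  have hval : ∀ f ∈ linSet K, Cfsg.classInner (τ₁ f) ψ = 0 := by
    intro f hf
    obtain ⟨U, hU, e⟩ := OddChar.Coh.image_of_coherent hsys (T₁ := linSet K) (fun _ h => h) hτ₁ hag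
      hf (linSet_conj K hf)
    rw [e, Char.classInner_sum_left]
    refine Finset.sum_eq_zero fun x hx => ?_
    have hx' := hU hx
    simp only [R, Finset.mem_union, Finset.mem_image] at hx'
    rcases hx' with ⟨a, ha, rfl⟩ | ⟨a, ha, rfl⟩ <;>
      obtain ⟨ha1, ha2, -⟩ := hmemD f hf a ha <;>
      obtain ⟨o1, o2⟩ := horth a (μ a) ha1 ha2 (hμ a ha1 ha2) (hτμ a ha1 ha2)
    · rw [← Char.classInner_conj_symm, o1, map_zero]
    · rw [Char.classInner_neg_left, ← Char.classInner_conj_symm, o2, map_zero, neg_zero]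
  have hm : φ - φ' ∈ Cfsg.zspanOn (linSet K) {1}ᶜ := by
    refine ⟨Submodule.sub_mem _ (OddChar.mem_zspan_self hφ) (OddChar.mem_zspan_self hφ'),
      fun a ha => ?_⟩
    have : a = 1 := by simpa using ha
    subst this
    obtain ⟨θ₁, -, -, h, rfl⟩ := hφ
    obtain ⟨θ₂, -, -, h', rfl⟩ := hφ'
    rw [Pi.sub_apply, Char.indFun_apply_one, Char.indFun_apply_one, h, h', sub_self]
  show Cfsg.classInner (τ (φ - φ')) ψ = 0
  rw [← hag _ hm, OddChar.Coh.zspan_isometry_sub hτ₁ (OddChar.mem_zspan_self hφ)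
    (OddChar.mem_zspan_self hφ'), Char.classInner_sub_left, hval φ hφ, hval φ' hφ', sub_zero]

end Hall

end CfsgLib.FT
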