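import Cfsg.Agent.Lib.FT.Support
import Cfsg.Agent.Lib.FT.LinearPairs
import Cfsg.Agent.Lib.FT.Congr
import Cfsg.Agent.S1359
import Cfsg.Agent.S1501
import Cfsg.Agent.S1536

/-!
FT module TypeFChars: characters of `L` of type F (PF 12.2, 12.4, 12.5). `H = L_σ`, `U` a complement.

* For `θ ≠ 1` in `Irr H` the inertia group modulo `H` is abelian (type F: its elements fix some
  `h ≠ 1` by S1536, so lie in the abelian `U₁`), so `Ind θ` is a sum of distinct irreducibles of equal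
  degree, all vanishing outside `H ∪ A(L)`.
* `const_on_cosets`: `F := ψ` on `A ∖ H`, zero elsewhere; equal coefficients inside each θ-block,
  so `F` is (inflated from `L/H`) + (a function carried by `H`).
* `core_average`: linear θ: the `Ind θ` have one degree; `R(Ind θ)` = the pairs `μ, -μ̄`
  (S1518) of the constituents; S1517 gives `τ₁`, whose values are 0/1 sums over `R`;
  hence `⟨ψ, τ (Ind θ - Ind θ')⟩ = 0`, so the coset averages of `ρ ψ` are one `c = ⟨ψ, τ (Ind (1 - θ))⟩`.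
* `rho_congr`: `x` permutes `R(y)` without fixed points off `1` (as `C(x) ≤ L`), so
  `|R| ≡ 1` and `|R| ρψ(y) ≡ ψ(y) ≡ ψ(xy)` modulo `1 - ω`.
-/

set_option autoImplicit false

namespace CfsgLib.FT

open Subgroup CfsgLib.OddOrder
open scoped ComplexConjugate

universe u

variable {G : Type u} [Group G] [Fintype G] (hG : Cfsg.IsMinSimpleOddOrder G) {L : Subgroup G}
  [Fintype L]
include hG

/-- `ψ` meets no Dade image of a difference of constituents lying over one `θ`. -/
def BlockOrth (L : Subgroup G) [Fintype L] (ψ : G → ℂ) : Prop :=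
  ∀ χ χ' : ↥L → ℂ, Cfsg.IsIrrCharacter L χ → Cfsg.IsIrrCharacter L χ' →
    (∀ a : L, (a : G) ∈ Cfsg.sigmaCore L → χ a = χ' a) →
    (∃ a : L, (a : G) ∈ Cfsg.sigmaCore L ∧ χ a ≠ χ 1) →
    Cfsg.classInner ψ (tau L (χ - χ')) = 0

/-- `ψ` is orthogonal to every `R(χ) = {μ, -μ̄}`. -/
def PairOrth (L : Subgroup G) [Fintype L] (ψ : G → ℂ) : Prop :=
  ∀ (χ : ↥L → ℂ) (μ : G → ℂ), Cfsg.IsIrrCharacter L χ →
    (∃ a : L, (a : G) ∈ Cfsg.sigmaCore L ∧ χ a ≠ χ 1) →
    Cfsg.IsIrrCharacter G μ → tau L (χ - Cfsg.conjFun χ) = μ - Cfsg.conjFun μ →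
    Cfsg.classInner ψ μ = 0 ∧ Cfsg.classInner ψ (Cfsg.conjFun μ) = 0

/-- `L_σ` as a subgroup of `L`. -/
abbrev coreIn (L : Subgroup G) : Subgroup L := (Cfsg.sigmaCore L).subgroupOf L

omit hG [Fintype G] [Fintype L] in
instance coreIn_normal : (coreIn L).Normal :=
  normal_subgroupOf_of_le_normalizer (le_normalizer_piCoreOf _ _)

omit hG [Fintype L] in
theorem card_coreIn : Nat.card (coreIn L) = Nat.card (Cfsg.sigmaCore L) :=
  Nat.card_congr (subgroupOfEquivOfLe (piCoreOf_le _ _)).toEquiv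

omit hG [Fintype L] in
/-- `|M_σ|` is coprime to its index. -/
theorem coreIn_coprime (hG : Cfsg.IsMinSimpleOddOrder G) (hM : IsCoatom L) :
    (Nat.card (coreIn L)).Coprime (coreIn L).index := by
  obtain ⟨h1, -⟩ := hall_of_subset hG hM (π := Cfsg.sigma L) subset_rfl
    fun p _ S hp => sylow_le_sigmaCore hG hM hp S
  rw [card_coreIn]
  exact Nat.coprime_of_dvd fun q hq hd hd' => h1.2.2 q hq (h1.2.1 q hq hd) hd'

omit hG [Fintype G] [Fintype L] in
theorem mem_supFull_of_comm {a : L} (ha : a ≠ 1) {k : L} (hk : k ∈ coreIn L) (hk1 : k ≠ 1)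
    (h : a * k = k * a) : (a : G) ∈ supFull L :=
  ⟨⟨a.2, k, hk, fun e => hk1 (Subtype.ext e), congrArg Subtype.val h⟩,
    fun e => ha (Subtype.ext e)⟩

omit hG [Fintype G] [Fintype L] in
theorem core_subset_supFull {a : L} (hk : a ∈ coreIn L) (ha : a ≠ 1) : (a : G) ∈ supFull L :=
  mem_supFull_of_comm ha hk ha rfl

/-- The inertia groups over `L_σ` are abelian modulo `L_σ`. -/
theorem abelInertial (hL : IsFType L) [Fintype (coreIn L)] :
    Hall.AbelInertial (coreIn L) := by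
  obtain ⟨U, hKU⟩ := decomposition_of_kappa hG hL
  have hc := hKU.compl
  rw [bot_sup_eq] at hc
  obtain ⟨hUL, -, -, hfac⟩ := hc
  have hcomm := Cfsg.Agent.S1359.result hG L hL.coatom ⊥ U hKU
  intro θ hθ hθ1
  have hdec : ∀ x ∈ CharTwist.inertia (coreIn L) θ, ∃ u : L, ∃ k ∈ coreIn L, x = u * k ∧
      (u : G) ∈ Subgroup.closure ((U : Set G) ∩ Cfsg.sigmaHat L) := by
    intro x hx
    obtain ⟨u, hu, k, hk, e⟩ := hfac x x.2
    let u' : L := ⟨u, hUL hu⟩
    let k' : L := ⟨k, piCoreOf_le _ _ hk⟩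
    have hk' : k' ∈ coreIn L := hk
    have e' : x = u' * k' := Subtype.ext e
    refine ⟨u', k', hk', e', ?_⟩
    have huI : u' ∈ CharTwist.inertia (coreIn L) θ := by
      have h := mul_mem hx (inv_mem (CharTwist.le_inertia (coreIn L)
        (Char.IsIrrCharacter.isClassFunction hθ) hk'))
      rwa [e', mul_inv_cancel_right] at h
    obtain ⟨h, hh, hh1, hcm⟩ := (Cfsg.Agent.S1536.result (coreIn L) (coreIn_coprime hG hL.coatom)
      u').1 ⟨θ, hθ, hθ1, CharTwist.mem_inertia.1 huI⟩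
    exact Subgroup.subset_closure ⟨hu, hUL hu, h, hh, fun e => hh1 (Subtype.ext e),
      congrArg Subtype.val hcm⟩
  intro x hx y hy
  obtain ⟨u, k, hk, rfl, hu⟩ := hdec x hx
  obtain ⟨v, l, hl, rfl, hv⟩ := hdec y hy
  have huv' := hcomm.is_comm.comm ⟨(u : G), hu⟩ ⟨(v : G), hv⟩
  have huv : u * v = v * u := Subtype.ext (congrArg Subtype.val huv' :)
  rw [← QuotientGroup.eq_one_iff]
  have hk' : (k : L ⧸ coreIn L) = 1 := (QuotientGroup.eq_one_iff k).2 hk
  have hl' : (l : L ⧸ coreIn L) = 1 := (QuotientGroup.eq_one_iff l).2 hl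
  simp only [QuotientGroup.mk_mul, QuotientGroup.mk_inv, hk', hl', mul_one]
  rw [← QuotientGroup.mk_mul, huv, QuotientGroup.mk_mul]
  group

omit hG [Fintype L] in
/-- `rho` on `A(L)`, extended by zero. -/
noncomputable def rhoExt (L : Subgroup G) (ψ : G → ℂ) (b : L) : ℂ :=
  open Classical in if (b : G) ∈ supFull L then rho L ψ b else 0

omit [Fintype L] in
theorem rho_eq_sum (ψ : G → ℂ) (a : G) [Fintype (Cfsg.supportR L a)] :
    rho L ψ a = (Nat.card (Cfsg.supportR L a) : ℂ)⁻¹ *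
      ∑ u : Cfsg.supportR L a, ψ (a * u) := by
  rw [rho, ← finsum_set_coe_eq_finsum_mem, finsum_eq_sum_of_fintype]
  rfl

theorem rho_conj (hL : IsFType L) {ψ : G → ℂ} (hψ : Cfsg.IsClassFunction G ψ) {x a : G}
    (hx : x ∈ L) (ha : a ∈ supFull L) : rho L ψ (x * a * x⁻¹) = rho L ψ a := by
  classical
  have hD := dade_full hG hL
  rw [rho_eq_sum hG, rho_eq_sum hG, OddChar.dade_card_H_conj hD ha (hD.conj_mem x hx a ha)]
  congr 1
  have hH := OddChar.dade_H_conj hD ha hx
  refine (Fintype.sum_bijective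
    (fun u : Cfsg.supportR L a => (⟨x * u * x⁻¹, OddChar.dade_H_conj_mem hD ha hx u.2⟩ :
      Cfsg.supportR L (x * a * x⁻¹))) ⟨fun u v h => ?_, fun v => ?_⟩ _ _ fun u => ?_).symm
  · exact Subtype.ext (mul_left_cancel (mul_right_cancel (congrArg Subtype.val h)))
  · have hv : (v : G) ∈ (Cfsg.supportR L a).map (MulAut.conj x).toMonoidHom := hH ▸ v.2
    obtain ⟨u, hu, e⟩ := Subgroup.mem_map.1 hv
    exact ⟨⟨u, hu⟩, Subtype.ext (by simpa using e)⟩
  · show ψ (a * u) = ψ (x * a * x⁻¹ * (x * u * x⁻¹))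
    rw [← hψ (a * u) x]
    congr 1
    group

theorem rhoExt_class (hL : IsFType L) {ψ : G → ℂ} (hψ : Cfsg.IsClassFunction G ψ) :
    Cfsg.IsClassFunction L (rhoExt L ψ) := by
  intro b y
  have hiff : ((y * b * y⁻¹ : L) : G) ∈ supFull L ↔ (b : G) ∈ supFull L := by
    refine ⟨fun h => ?_, fun h => supFull_conj y.2 h⟩
    have := supFull_conj (inv_mem y.2) h
    simpa [mul_assoc] using this
  unfold rhoExt
  by_cases h : (b : G) ∈ supFull L
  · rw [if_pos h, if_pos (hiff.2 h)]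
    exact rho_conj hG hL hψ y.2 h
  · rw [if_neg h, if_neg (mt hiff.1 h)]

theorem adjoint (hL : IsFType L) {α : ↥L → ℂ} (hα : Cfsg.IsClassFunction L α)
    (hs : ∀ a : L, (a : G) ∉ supFull L → α a = 0) {ψ : G → ℂ} (hψ : Cfsg.IsClassFunction G ψ) :
    Cfsg.classInner (tau L α) ψ = Cfsg.classInner α (rhoExt L ψ) :=
  (Cfsg.Agent.S1500.result (supFull L) L (Cfsg.supportR L) (dade_full hG hL) α hα hs).2 ψ _ hψ
    fun a ha => by simp only [rhoExt, if_pos ha, rho]

omit [Fintype L] in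
theorem rho_of_notMem_core (hL : IsFType L) (ψ : G → ℂ) {a : G} (ha : a ∈ supFull L)
    (ha' : a ∉ Cfsg.sigmaCore L) : rho L ψ a = ψ a := by
  rw [rho, (centralizer_le_of_notMem_core hG hL ha ha').2]
  simp

omit [Fintype L] in
/-- `ρ ψ` is integral on `A(L)`. -/
theorem isIntegral_rho (hL : IsFType L) {ψ : G → ℂ} (hψ : Cfsg.IsGeneralizedCharacter G ψ) {a : G}
    (ha : a ∈ supFull L) : IsIntegral ℤ (rho L ψ a) := by
  classical
  rw [rho_eq_sum hG]
  exact isIntegral_coset_average hψ a _ fun u hu =>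
    (OddChar.dade_commute (dade_full hG hL) ha hu).symm

omit hG [Fintype L] in
theorem commutator_conj {x m : G} (hx : x ∈ L)
    (hm : m ∈ ⁅Cfsg.sigmaCore L, Cfsg.sigmaCore L⁆) :
    x * m * x⁻¹ ∈ ⁅Cfsg.sigmaCore L, Cfsg.sigmaCore L⁆ := by
  have hle : (Cfsg.sigmaCore L).map (MulAut.conj x).toMonoidHom ≤ Cfsg.sigmaCore L := by
    rintro _ ⟨k, hk, rfl⟩
    exact (mem_normalizer_iff.1 (le_normalizer_piCoreOf (Cfsg.sigma L) L hx) k).1 hk
  have h := Subgroup.mem_map_of_mem (MulAut.conj x).toMonoidHom hm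
  rw [Subgroup.map_commutator] at h
  exact Subgroup.commutator_mono hle hle h

/-- Characters over a nonprincipal character of `H` vanish outside `H ∪ A(L)`. -/
theorem vanish_off_supFull (hL : IsFType L) {χ : ↥L → ℂ} (hχ : Cfsg.IsIrrCharacter L χ)
    (hnk : ∃ a : L, (a : G) ∈ Cfsg.sigmaCore L ∧ χ a ≠ χ 1) {a : L} (ha1 : a ≠ 1)
    (ha : (a : G) ∉ supFull L) : χ a = 0 := by
  obtain ⟨k₀, hk₀, hne⟩ := hnk
  refine Hall.apply_eq_zero (coreIn L) hχ ⟨k₀, hk₀, hne⟩ fun k hk hka => ?_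
  by_contra hk1
  exact ha (mem_supFull_of_comm ha1 hk hk1 hka.symm)

theorem const_on_cosets (hL : IsFType L) {ψ : G → ℂ} (hψ : Cfsg.IsClassFunction G ψ)
    (h : BlockOrth L ψ) {a u : G} (ha : a ∈ supFull L) (haH : a ∉ Cfsg.sigmaCore L)
    (hu : u ∈ Cfsg.sigmaCore L) (hau : a * u ∈ supFull L) : ψ (a * u) = ψ a := by
  classical
  have haL : a ∈ L := ha.1.1
  have huL : u ∈ L := piCoreOf_le _ _ hu
  let F : L → ℂ := fun b => if (b : G) ∈ supFull L ∧ b ∉ coreIn L then ψ b else 0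
  have hF : Cfsg.IsClassFunction L F := by
    intro b y
    have h1 : ((y * b * y⁻¹ : L) : G) ∈ supFull L ↔ (b : G) ∈ supFull L := by
      refine ⟨fun h => ?_, fun h => supFull_conj y.2 h⟩
      have := supFull_conj (inv_mem y.2) h
      simpa [mul_assoc] using this
    have h2 : y * b * y⁻¹ ∈ coreIn L ↔ b ∈ coreIn L := by
      refine ⟨fun h => ?_, fun h => (coreIn_normal (L := L)).conj_mem b h y⟩
      simpa [mul_assoc] using (coreIn_normal (L := L)).conj_mem _ h y⁻¹
    exact if_congr (by rw [h1, h2]) (by rw [← hψ b y]; rfl) rfl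
  have hblock : ∀ χ χ' : L → ℂ, Cfsg.IsIrrCharacter L χ → Cfsg.IsIrrCharacter L χ' →
      (∀ k ∈ coreIn L, χ k = χ' k) → Hall.NTriv (coreIn L) χ →
      Cfsg.classInner F χ = Cfsg.classInner F χ' := by
    intro χ χ' hχ hχ' heq hnk
    obtain ⟨k, hk, hne⟩ := hnk
    have hnk' : ∃ c : L, (c : G) ∈ Cfsg.sigmaCore L ∧ χ' c ≠ χ' 1 :=
      ⟨k, hk, by rwa [← heq k hk, ← heq 1 (one_mem _)]⟩
    have hs : ∀ b : L, (b : G) ∉ supFull L → (χ - χ') b = 0 := by
      intro b hb
      by_cases h1 : b = 1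
      · rw [Pi.sub_apply, heq b (h1 ▸ one_mem _), sub_self]
      · rw [Pi.sub_apply, vanish_off_supFull hG hL hχ ⟨k, hk, hne⟩ h1 hb,
          vanish_off_supFull hG hL hχ' hnk' h1 hb, sub_self]
    have hcl : Cfsg.IsClassFunction L (χ - χ') := Char.IsGeneralizedCharacter.isClassFunction
      (Char.IsGeneralizedCharacter.sub (Char.IsIrrCharacter.isGeneralizedCharacter hχ)
        (Char.IsIrrCharacter.isGeneralizedCharacter hχ'))
    have h0 : Cfsg.classInner (χ - χ') F = 0 := by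
      have h2 := adjoint hG hL hcl hs hψ
      rw [← Char.classInner_conj_symm, h χ χ' hχ hχ' (fun b hb => heq b hb) ⟨k, hk, hne⟩,
        map_zero] at h2
      refine Eq.trans ?_ h2.symm
      unfold Cfsg.classInner
      congr 1
      refine Finset.sum_congr rfl fun b _ => ?_
      by_cases hb : (b : G) ∈ supFull L
      · by_cases hbK : b ∈ coreIn L
        · rw [Pi.sub_apply, heq b hbK, sub_self, zero_mul, zero_mul]
        · simp only [F, rhoExt, if_pos hb, if_pos (And.intro hb hbK),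
            rho_of_notMem_core hG hL ψ hb hbK]
      · rw [hs b hb, zero_mul, zero_mul]
    have h3 := congrArg conj h0
    rw [map_zero, Char.classInner_conj_symm, Char.classInner_sub_right] at h3
    exact sub_eq_zero.1 h3
  have hmain := Hall.const_mul_right (coreIn L) (coreIn_coprime hG hL.coatom) (abelInertial hG hL)
    hF hblock (g := ⟨a, haL⟩) (u := ⟨u, huL⟩) haH hu
  have hauH : a * u ∉ Cfsg.sigmaCore L := fun h => haH (by simpa using mul_mem h (inv_mem hu))
  have e1 : F (⟨a, haL⟩ * ⟨u, huL⟩) = ψ (a * u) := if_pos ⟨hau, hauH⟩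
  have e2 : F ⟨a, haL⟩ = ψ a := if_pos ⟨ha, haH⟩
  rw [← e1, ← e2, hmain]

theorem core_average (hL : IsFType L) {ψ : G → ℂ} (hψ : Cfsg.IsGeneralizedCharacter G ψ)
    (h : PairOrth L ψ) :
    ∃ c : ℤ, (∀ y ∈ Cfsg.sigmaCore L, y ∉ ⁅Cfsg.sigmaCore L, Cfsg.sigmaCore L⁆ →
        ∑ᶠ z ∈ ((⁅Cfsg.sigmaCore L, Cfsg.sigmaCore L⁆ : Subgroup G) : Set G), rho L ψ (y * z) =
          (Nat.card ↥⁅Cfsg.sigmaCore L, Cfsg.sigmaCore L⁆ : ℂ) * c) ∧
      (c : ℝ) ^ 2 * ((Nat.card (Cfsg.sigmaCore L) : ℝ) -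
          (Nat.card ↥⁅Cfsg.sigmaCore L, Cfsg.sigmaCore L⁆ : ℝ)) ≤
        ∑ᶠ y ∈ {y : L | (y : G) ∈ coreSet L}, ‖rho L ψ y‖ ^ 2 := by
  classical
  let H' : Subgroup G := ⁅Cfsg.sigmaCore L, Cfsg.sigmaCore L⁆
  have hH'σ : H' ≤ Cfsg.sigmaCore L := Subgroup.commutator_le_self _
  let M : Subgroup (coreIn L) := (H'.subgroupOf L).subgroupOf (coreIn L)
  have hψc : Cfsg.IsClassFunction G ψ := Char.IsGeneralizedCharacter.isClassFunction hψ
  have hcomm : ∀ x y : coreIn L, x * y * x⁻¹ * y⁻¹ ∈ M := fun x y =>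
    Subgroup.commutator_mem_commutator (H₁ := Cfsg.sigmaCore L) (H₂ := Cfsg.sigmaCore L) x.2 y.2
  haveI : M.Normal := ⟨fun m hm x => by
    have h := mul_mem (hcomm x m) hm
    rwa [inv_mul_cancel_right] at h⟩
  obtain ⟨Λ, hΛ, hΛ1, hΛ0⟩ := OddChar.AbelInertia.exists_linear_kernel_sum M hcomm
  -- the integer attached to a linear character
  let one' : coreIn L → ℂ := fun _ => 1
  let lin : (coreIn L →* ℂˣ) → coreIn L → ℂ := fun f k => (f k : ℂ)
  let val : (coreIn L →* ℂˣ) → ℂ := fun f =>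
    Cfsg.classInner (tau L (Cfsg.indFun (coreIn L) (one' - lin f))) ψ
  have hgen : ∀ f, Cfsg.IsGeneralizedCharacter L (Cfsg.indFun (coreIn L) (one' - lin f)) ∧
      ∀ a : L, (a : G) ∉ supFull L → Cfsg.indFun (coreIn L) (one' - lin f) a = 0 := by
    intro f
    refine ⟨Char.IsGeneralizedCharacter.indFun _ (Char.IsGeneralizedCharacter.sub
      (Char.IsIrrCharacter.isGeneralizedCharacter Char.isIrrCharacter_principal)
      (Char.IsIrrCharacter.isGeneralizedCharacter (Char.isIrrCharacter_linear f))), fun a ha => ?_⟩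
    by_cases h1 : a = 1
    · subst h1
      rw [Char.indFun_apply_one, Pi.sub_apply]
      simp [one', lin]
    · exact Char.indFun_eq_zero_of_normal _ _ fun hk => ha (core_subset_supFull hk h1)
  have hvalint : ∀ f, ∃ z : ℤ, val f = z := fun f => OddChar.exists_int_classInner_gen
    (Cfsg.Agent.S1501.result _ L _ (dade_full hG hL) _ (hgen f).1 (hgen f).2) hψ
  have hvalsum : ∀ f, val f = (Nat.card (coreIn L) : ℂ)⁻¹ *
      ∑ y : coreIn L, (1 - (f y : ℂ)) * conj (rhoExt L ψ y) := by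
    intro f
    simp only [val]
    rw [adjoint hG hL (Char.IsGeneralizedCharacter.isClassFunction (hgen f).1) (hgen f).2 hψc,
      Char.classInner_indFun _ _ _ (rhoExt_class hG hL hψc)]
    simp [Cfsg.classInner, one', lin]
  have hodd : Odd (Nat.card L) := OddOrder.odd_card_subgroup hG L
  have hlinmem : ∀ f : coreIn L →* ℂˣ, f ≠ 1 →
      Cfsg.indFun (coreIn L) (lin f) ∈ Hall.linSet (coreIn L) := fun f hf =>
    ⟨lin f, Char.isIrrCharacter_linear f,
      fun e => hf (MonoidHom.ext fun k => Units.ext (congrFun e k)), by simp [lin], rfl⟩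
  have hsame : ∀ f g : coreIn L →* ℂˣ, f ≠ 1 → g ≠ 1 → val f = val g := by
    intro f g hf hg
    have h0 := Hall.linear_diff_orth (coreIn L) (dade_full hG hL)
      (fun k hk hk1 => core_subset_supFull hk hk1)
      (fun χ hχ hnk a ha ha' => by
        obtain ⟨k, hk, hne⟩ := hnk
        exact vanish_off_supFull hG hL hχ ⟨k, hk, hne⟩ ha ha')
      (coreIn_coprime hG hL.coatom) (abelInertial hG hL) hodd
      (fun χ μ hχ hnk hμ e => h χ μ hχ (by
        obtain ⟨k, hk, hne⟩ := hnk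
        exact ⟨k, hk, hne⟩) hμ e)
      (hlinmem f hf) (hlinmem g hg)
    change Cfsg.classInner (tau L _) ψ = 0 at h0
    rw [show Cfsg.indFun (coreIn L) (lin f) - Cfsg.indFun (coreIn L) (lin g) =
        Cfsg.indFun (coreIn L) (one' - lin g) - Cfsg.indFun (coreIn L) (one' - lin f) by
      rw [Char.indFun_sub, Char.indFun_sub]; abel] at h0
    simp only [tau] at h0
    rw [dade_map_sub, Char.classInner_sub_left] at h0
    exact (sub_eq_zero.1 h0).symm
  obtain ⟨z, hz⟩ : ∃ z : ℤ, ∀ f : coreIn L →* ℂˣ, f ≠ 1 → val f = z := by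
    by_cases hf : ∃ f : coreIn L →* ℂˣ, f ≠ 1
    · obtain ⟨f, hf⟩ := hf
      obtain ⟨z, hz⟩ := hvalint f
      exact ⟨z, fun g hg => (hsame g f hg hf).trans hz⟩
    · exact ⟨0, fun g hg => absurd ⟨g, hg⟩ hf⟩
  -- Fourier inversion
  let P : coreIn L → ℂ := fun y => conj (rhoExt L ψ y) - z
  have hF : ∀ f ∈ Λ, ∑ y, (f y : ℂ) * P y = ∑ y, P y := by
    intro f _
    by_cases hf : f = 1
    · subst hf; simp
    have hzero : ∑ y : coreIn L, (f y : ℂ) = 0 := by
      have hne : lin f ≠ one' := fun e => hf (MonoidHom.ext fun k => Units.ext (congrFun e k))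
      have hi := Char.classInner_irr_of_ne (Char.isIrrCharacter_linear f)
        Char.isIrrCharacter_principal hne
      simpa [Cfsg.classInner, Nat.card_pos.ne'] using hi
    have hv := hz f hf
    rw [hvalsum, inv_mul_eq_iff_eq_mul₀ (Nat.cast_ne_zero.2 Nat.card_pos.ne')] at hv
    simp only [sub_mul, one_mul, Finset.sum_sub_distrib] at hv
    simp only [P, mul_sub, Finset.sum_sub_distrib, ← Finset.sum_mul, hzero, zero_mul,
      Finset.sum_const, Finset.card_univ, ← Nat.card_eq_fintype_card, nsmul_eq_mul]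
    linear_combination -hv
  have havg : ∀ y₀ : coreIn L, y₀ ∉ M →
      ∑ m : M, rhoExt L ψ (y₀ * m : coreIn L) = (Nat.card M : ℂ) * z := by
    intro y₀ hy₀
    have h1 : ∑ f ∈ Λ, (f y₀⁻¹ : ℂ) * ∑ y, (f y : ℂ) * P y = 0 := by
      rw [Finset.sum_congr rfl (fun f hf => by rw [hF f hf]), ← Finset.sum_mul,
        hΛ0 _ (fun h => hy₀ (by simpa using inv_mem h)), zero_mul]
    simp only [Finset.mul_sum] at h1
    rw [Finset.sum_comm] at h1
    have h2 : ∀ y : coreIn L, ∑ f ∈ Λ, (f y₀⁻¹ : ℂ) * ((f y : ℂ) * P y) =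
        if y₀⁻¹ * y ∈ M then (Λ.card : ℂ) * P y else 0 := by
      intro y
      simp only [← mul_assoc, ← Units.val_mul, ← map_mul, ← Finset.sum_mul]
      split_ifs with hm
      · rw [Finset.sum_congr rfl (fun f hf => by rw [hΛ1 f hf _ hm, Units.val_one]),
          Finset.sum_const, nsmul_eq_mul, mul_one]
      · rw [hΛ0 _ hm, zero_mul]
    rw [Finset.sum_congr rfl (fun y _ => h2 y), ← Finset.sum_filter, ← Finset.mul_sum] at h1
    have h3 := (mul_eq_zero.1 h1).resolve_left (Nat.cast_ne_zero.2 hΛ.ne')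
    have h4 : ∑ m : M, P (y₀ * m) = 0 := by
      refine Eq.trans (Finset.sum_bij' (fun m _ => y₀ * (m : coreIn L))
        (fun y hy => ⟨y₀⁻¹ * y, (Finset.mem_filter.1 hy).2⟩) (fun m _ => by simp)
        (fun y _ => Finset.mem_univ _) (fun m _ => by simp) (fun y _ => by simp)
        (fun m _ => rfl)) h3
    simp only [P, Finset.sum_sub_distrib, Finset.sum_const, Finset.card_univ,
      ← Nat.card_eq_fintype_card, nsmul_eq_mul] at h4
    have h5 := congrArg conj h4
    simp only [map_sub, map_sum, Complex.conj_conj, map_zero, map_mul, map_natCast, map_intCast] at h5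
    exact sub_eq_zero.1 h5
  have hM' : ∀ m : G, m ∈ H' → ∃ h : m ∈ L, (⟨m, h⟩ : L) ∈ coreIn L := fun m hm =>
    ⟨piCoreOf_le _ _ (hH'σ hm), hH'σ hm⟩
  let e : M ≃ H' :=
    { toFun := fun m => ⟨((m : coreIn L) : L), m.2⟩
      invFun := fun m => ⟨⟨⟨m, (hM' m m.2).1⟩, (hM' m m.2).2⟩, m.2⟩
      left_inv := fun m => rfl
      right_inv := fun m => rfl }
  have hcardM : Nat.card M = Nat.card H' := Nat.card_congr e
  refine ⟨z, fun y hy hy' => ?_, ?_⟩
  · have h1 := havg ⟨⟨y, piCoreOf_le _ _ hy⟩, hy⟩ hy'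
    rw [hcardM] at h1
    rw [← h1, ← finsum_set_coe_eq_finsum_mem, finsum_eq_sum_of_fintype]
    refine (Fintype.sum_equiv e _ _ fun m => ?_).symm
    have hne : (⟨⟨y, piCoreOf_le _ _ hy⟩, hy⟩ : coreIn L) * (m : coreIn L) ≠ 1 := fun e' => hy' (by
      have h' : y = (((m : coreIn L) : L) : G)⁻¹ :=
        eq_inv_of_mul_eq_one_left (congrArg (fun w : coreIn L => ((w : L) : G)) e')
      rw [h']
      exact H'.inv_mem m.2)
    exact if_pos (core_subset_supFull
      ((⟨⟨y, piCoreOf_le _ _ hy⟩, hy⟩ : coreIn L) * (m : coreIn L)).2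
      fun e' => hne (Subtype.ext e'))
  · let S : Finset (coreIn L) := Finset.univ.filter fun y => y ∉ M
    have hcs : ∀ y ∈ S, (z : ℝ) ^ 2 * (Nat.card M : ℝ) ≤
        ∑ m : M, ‖rhoExt L ψ (y * m : coreIn L)‖ ^ 2 := by
      intro y hy
      have hn := norm_sum_le (Finset.univ : Finset M) fun m => rhoExt L ψ (y * m : coreIn L)
      rw [havg y (Finset.mem_filter.1 hy).2, norm_mul, Complex.norm_natCast,
        Complex.norm_intCast] at hn
      have h2 := sq_sum_le_card_mul_sum_sq (s := (Finset.univ : Finset M))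
        (f := fun m => ‖rhoExt L ψ (y * m : coreIn L)‖)
      rw [Finset.card_univ, ← Nat.card_eq_fintype_card] at h2
      have h3 := (pow_le_pow_left₀ (by positivity) hn 2).trans h2
      rw [mul_pow, sq_abs] at h3
      have hpos : (0 : ℝ) < Nat.card M := Nat.cast_pos.2 Nat.card_pos
      nlinarith
    have hsum := Finset.sum_le_sum hcs
    rw [Finset.sum_const, nsmul_eq_mul, Finset.sum_comm] at hsum
    have htr : ∀ m : M, ∑ y ∈ S, ‖rhoExt L ψ (y * m : coreIn L)‖ ^ 2 =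
        ∑ y ∈ S, ‖rhoExt L ψ (y : L)‖ ^ 2 := fun m =>
      Finset.sum_equiv (Equiv.mulRight (m : coreIn L))
        (fun y => by simp [S, Subgroup.mul_mem_cancel_right M m.2]) (fun y _ => rfl)
    rw [Finset.sum_congr rfl (fun m _ => htr m), Finset.sum_const, Finset.card_univ,
      ← Nat.card_eq_fintype_card, nsmul_eq_mul] at hsum
    have hpos : (0 : ℝ) < Nat.card M := Nat.cast_pos.2 Nat.card_pos
    have hScard : (S.card : ℝ) = (Nat.card (coreIn L) : ℝ) - Nat.card M := by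
      have hadd := Finset.card_filter_add_card_filter_not
        (s := (Finset.univ : Finset (coreIn L))) (fun y => y ∈ M)
      rw [Finset.card_univ, ← Fintype.card_subtype, ← Nat.card_eq_fintype_card,
        ← Nat.card_eq_fintype_card] at hadd
      rw [eq_sub_iff_add_eq', ← Nat.cast_add]
      exact_mod_cast hadd
    have hmain : (z : ℝ) ^ 2 * ((Nat.card (coreIn L) : ℝ) - Nat.card M) ≤
        ∑ y ∈ S, ‖rhoExt L ψ (y : L)‖ ^ 2 := by
      rw [hScard] at hsum
      nlinarith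
    rw [← card_coreIn, ← hcardM]
    refine hmain.trans ?_
    rw [finsum_mem_eq_toFinset_sum]
    refine le_trans (le_of_eq ?_) (Finset.sum_le_sum_of_subset_of_nonneg
      (s := S.map (Function.Embedding.subtype _)) ?_ fun _ _ _ => by positivity)
    · rw [Finset.sum_map]
      refine Finset.sum_congr rfl fun y hy => ?_
      rw [Function.Embedding.coe_subtype, rhoExt, if_pos (core_subset_supFull y.2 fun e' => ?_)]
      exact (Finset.mem_filter.1 hy).2 (by rw [show y = 1 from Subtype.ext e']; exact one_mem _)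
    · intro b hb
      obtain ⟨y, hy, rfl⟩ := Finset.mem_map.1 hb
      rw [Set.mem_toFinset]
      refine ⟨y.2, fun e' => (Finset.mem_filter.1 hy).2 ?_⟩
      rw [show y = 1 from Subtype.ext (Subtype.ext e')]; exact one_mem _

theorem rho_congr (hL : IsFType L) {ψ : G → ℂ} (hψ : Cfsg.IsGeneralizedCharacter G ψ)
    {p : ℕ} (hp : p.Prime) {x y : G} (hx : x ∈ L) (hxo : orderOf x = p)
    (hxH : x ∉ Cfsg.sigmaCore L) (hCx : centralizer ({x} : Set G) ≤ L)
    (hy : y ∈ coreSet L) (hxy : x * y = y * x) {ω : ℂ} (hω : IsPrimitiveRoot ω p) :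
    ∃ r : ℂ, IsIntegral ℤ r ∧ rho L ψ y - ψ (x * y) = (1 - ω) * r := by
  classical
  show CongOne ω (rho L ψ y) (ψ (x * y))
  have hD := dade_full hG hL
  have hyA : y ∈ supFull L := ⟨coreSet_subset_sigmaHat hy, hy.2⟩
  have hψc : Cfsg.IsClassFunction G ψ := Char.IsGeneralizedCharacter.isClassFunction hψ
  set R := Cfsg.supportR L y
  have hxC : x ∈ centralizer ({y} : Set G) := mem_centralizer_singleton_iff.2 hxy
  let σ : Equiv.Perm R :=
    { toFun := fun u => ⟨x * u * x⁻¹, hD.conj_mem_H y hyA x hxC u u.2⟩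
      invFun := fun u => ⟨x⁻¹ * u * x,
        by simpa using hD.conj_mem_H y hyA x⁻¹ (inv_mem hxC) u u.2⟩
      left_inv := fun u => Subtype.ext (by simp [mul_assoc])
      right_inv := fun u => Subtype.ext (by simp [mul_assoc]) }
  have hpow : ∀ (n : ℕ) (u : R), (((σ ^ n) u : R) : G) = x ^ n * u * (x ^ n)⁻¹ := by
    intro n
    induction n with
    | zero => simp
    | succ n ih =>
      intro u
      rw [pow_succ', Equiv.Perm.mul_apply]
      show x * (((σ ^ n) u : R) : G) * x⁻¹ = _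
      rw [ih, pow_succ']; group
  have hσ : σ ^ p = 1 := by
    refine Equiv.ext fun u => Subtype.ext ?_
    rw [hpow, show x ^ p = 1 by rw [← hxo, pow_orderOf_eq_one]]
    simp
  have hfix : Finset.univ.filter (fun u : R => σ u = u) = {1} := by
    ext u
    simp only [Finset.mem_filter, Finset.mem_univ, true_and, Finset.mem_singleton]
    constructor
    · intro hu
      have hu' : x * (u : G) * x⁻¹ = u := congrArg Subtype.val hu
      have hcomm : (u : G) * x = x * u := by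
        conv_lhs => rw [← hu']
        group
      have hmem : (u : G) ∈ R ⊓ (L ⊓ centralizer ({y} : Set G)) :=
        ⟨u.2, hCx (mem_centralizer_singleton_iff.2 hcomm), hD.le_centralizer y hyA u.2⟩
      rw [hD.inf_eq_bot y hyA, mem_bot] at hmem
      exact Subtype.ext hmem
    · rintro rfl
      exact Subtype.ext (by simp [σ])
  have hF : ∀ u : R, ψ (y * ((σ u : R) : G)) = ψ (y * u) := by
    intro u
    rw [← hψc (y * u) x]
    congr 1
    show y * (x * u * x⁻¹) = _
    calc y * (x * u * x⁻¹) = (y * x) * u * x⁻¹ := by group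
      _ = (x * y) * u * x⁻¹ := by rw [hxy]
      _ = _ := by group
  have hint : ∀ u : R, IsIntegral ℤ (ψ (y * u)) := fun u =>
    Char.IsGeneralizedCharacter.isIntegral_apply hψ _
  have h1 := congOne_sum_fixed hp hω σ hσ (fun u => ψ (y * u)) hF hint
  have h2 := congOne_sum_fixed hp hω σ hσ (fun _ => rho L ψ y) (fun _ => rfl)
    fun _ => isIntegral_rho hG hL hψ hyA
  rw [hfix, Finset.sum_singleton, OneMemClass.coe_one, mul_one] at h1
  rw [hfix, Finset.sum_singleton, Finset.sum_const, Finset.card_univ,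
    ← Nat.card_eq_fintype_card, nsmul_eq_mul] at h2
  have e : ∑ u : R, ψ (y * u) = (Nat.card R : ℂ) * rho L ψ y := by
    rw [rho_eq_sum hG, mul_inv_cancel_left₀ (Nat.cast_ne_zero.2 Nat.card_pos.ne')]
  rw [e] at h1
  exact (h2.symm.trans h1).trans
    (congOne_mul_of_order hψ hp hω (by rw [← hxo, pow_orderOf_eq_one]) hxy).symm

/-- The averaged congruence: `c ≡ ψ x`. -/
theorem average_congr (hL : IsFType L) {ψ : G → ℂ} (hψ : Cfsg.IsGeneralizedCharacter G ψ)
    (h : BlockOrth L ψ) {p : ℕ} (hp : p.Prime) {x y : G} (hx : x ∈ L) (hxo : orderOf x = p)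
    (hxH : x ∉ Cfsg.sigmaCore L) (hCx : centralizer ({x} : Set G) ≤ L)
    (hy : y ∈ Cfsg.sigmaCore L) (hy' : y ∉ ⁅Cfsg.sigmaCore L, Cfsg.sigmaCore L⁆)
    (hxy : x * y = y * x) {c : ℤ}
    (hc : ∑ᶠ z ∈ ((⁅Cfsg.sigmaCore L, Cfsg.sigmaCore L⁆ : Subgroup G) : Set G), rho L ψ (y * z) =
      (Nat.card ↥⁅Cfsg.sigmaCore L, Cfsg.sigmaCore L⁆ : ℂ) * c)
    {ω : ℂ} (hω : IsPrimitiveRoot ω p) :
    ∃ r : ℂ, IsIntegral ℤ r ∧ (c : ℂ) - ψ x = (1 - ω) * r := by
  classical
  show CongOne ω (c : ℂ) (ψ x)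
  set H' : Subgroup G := ⁅Cfsg.sigmaCore L, Cfsg.sigmaCore L⁆
  have hH'σ : H' ≤ Cfsg.sigmaCore L := Subgroup.commutator_le_self _
  have hψc : Cfsg.IsClassFunction G ψ := Char.IsGeneralizedCharacter.isClassFunction hψ
  have hx1 : x ≠ 1 := fun e => hp.one_lt.ne' (by rw [← hxo, e, orderOf_one])
  have hne : ∀ m ∈ H', y * m ≠ 1 := fun m hm e =>
    hy' (by rw [eq_inv_of_mul_eq_one_left e]; exact inv_mem hm)
  have hymA : ∀ m ∈ H', y * m ∈ coreSet L := fun m hm =>
    ⟨mul_mem hy (hH'σ hm), hne m hm⟩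
  have hymS : ∀ m ∈ H', y * m ∈ supFull L := fun m hm =>
    ⟨coreSet_subset_sigmaHat (hymA m hm), hne m hm⟩
  let σ : Equiv.Perm H' :=
    { toFun := fun u => ⟨x * u * x⁻¹, commutator_conj hx u.2⟩
      invFun := fun u => ⟨x⁻¹ * u * x, by simpa using commutator_conj (inv_mem hx) u.2⟩
      left_inv := fun u => Subtype.ext (by simp [mul_assoc])
      right_inv := fun u => Subtype.ext (by simp [mul_assoc]) }
  have hpow : ∀ (n : ℕ) (u : H'), (((σ ^ n) u : H') : G) = x ^ n * u * (x ^ n)⁻¹ := by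
    intro n
    induction n with
    | zero => simp
    | succ n ih =>
      intro u
      rw [pow_succ', Equiv.Perm.mul_apply]
      show x * (((σ ^ n) u : H') : G) * x⁻¹ = _
      rw [ih, pow_succ']; group
  have hσ : σ ^ p = 1 := by
    refine Equiv.ext fun u => Subtype.ext ?_
    rw [hpow, show x ^ p = 1 by rw [← hxo, pow_orderOf_eq_one]]
    simp
  have hF : ∀ m : H', rho L ψ (y * ((σ m : H') : G)) = rho L ψ (y * m) := by
    intro m
    rw [← rho_conj hG hL hψc hx (hymS m m.2)]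
    congr 1
    show y * (x * m * x⁻¹) = _
    calc y * (x * m * x⁻¹) = (y * x) * m * x⁻¹ := by group
      _ = (x * y) * m * x⁻¹ := by rw [hxy]
      _ = _ := by group
  have hint : ∀ m : H', IsIntegral ℤ (rho L ψ (y * m)) := fun m =>
    isIntegral_rho hG hL hψ (hymS m m.2)
  have h1 := congOne_sum_fixed hp hω σ hσ (fun m => rho L ψ (y * m)) hF hint
  have hψx : IsIntegral ℤ (ψ x) := Char.IsGeneralizedCharacter.isIntegral_apply hψ _
  have h2 := congOne_sum_fixed hp hω σ hσ (fun _ => ψ x) (fun _ => rfl) fun _ => hψx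
  have h3 : CongOne ω (∑ m ∈ Finset.univ.filter (fun m : H' => σ m = m), rho L ψ (y * m))
      (∑ m ∈ Finset.univ.filter (fun m : H' => σ m = m), ψ x) := by
    refine CongOne.sum _ fun m hm => ?_
    have hm' : x * (m : G) * x⁻¹ = m := congrArg Subtype.val (Finset.mem_filter.1 hm).2
    have hc : x * (y * m) = y * m * x := by
      calc x * (y * m) = (x * y) * m := by group
        _ = (y * x) * m := by rw [hxy]
        _ = y * (x * m * x⁻¹) * x := by group
        _ = _ := by rw [hm']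
    have hxA : x ∈ supFull L :=
      ⟨⟨hx, y * m, (hymA m m.2).1, hne m m.2, hc⟩, hx1⟩
    have hxym : x * (y * m) ∈ supFull L :=
      ⟨⟨mul_mem hx (piCoreOf_le _ _ (hymA m m.2).1), y * m, (hymA m m.2).1, hne m m.2, by
        rw [hc, mul_assoc, hc]⟩, fun e => hxH (by
          rw [eq_inv_of_mul_eq_one_left e]; exact inv_mem (hymA m m.2).1)⟩
    have h4 : CongOne ω (rho L ψ (y * m)) (ψ (x * (y * m))) :=
      rho_congr hG hL hψ hp hx hxo hxH hCx (hymA m m.2) hc hω
    rwa [const_on_cosets hG hL hψc h hxA hxH (hymA m m.2).1 hxym] at h4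
  have hkey := (h1.trans h3).trans h2.symm
  have e1 : ∑ m : H', rho L ψ (y * m) = (Nat.card H' : ℂ) * c := by
    rw [← hc, ← finsum_set_coe_eq_finsum_mem, finsum_eq_sum_of_fintype]
    rfl
  rw [e1, Finset.sum_const, Finset.card_univ, ← Nat.card_eq_fintype_card, nsmul_eq_mul] at hkey
  refine CongOne.cancel hp hω (fun hd => hxH ?_)
    (by simpa using isIntegral_algebraMap (R := ℤ) (A := ℂ) (x := c)) hψx hkey
  have hdK : p ∣ Nat.card (coreIn L) := by
    rw [card_coreIn]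
    exact hd.trans (card_dvd_of_le hH'σ)
  show (⟨x, hx⟩ : L) ∈ coreIn L
  rw [← QuotientGroup.eq_one_iff, ← orderOf_eq_one_iff]
  refine Nat.eq_one_of_dvd_coprimes (coreIn_coprime hG hL.coatom) (dvd_trans ?_ hdK) ?_
  · refine (orderOf_map_dvd (QuotientGroup.mk' (coreIn L)) (⟨x, hx⟩ : L)).trans ?_
    rw [Subgroup.orderOf_mk, hxo]
  · rw [index_eq_card]
    exact orderOf_dvd_natCard _

end CfsgLib.FT
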