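import Cfsg.Agent.Lib.FT.Probe
import Cfsg.Agent.Lib.FT.TypeFChars
import Cfsg.Agent.Lib.FT.CrossOrth
import Cfsg.Agent.Lib.FT.Chain
import Cfsg.Agent.Lib.FT.Parity
import Cfsg.Agent.Lib.OddChar.FrobSection
import Cfsg.Agent.S1426
import Cfsg.Agent.S1500
import Cfsg.Agent.S1501

/-!
FT module TypeOne (PF 12.7).
-/

set_option autoImplicit false
set_option linter.style.haveILetI false

namespace CfsgLib.FT

open Subgroup CfsgLib.OddOrder CfsgLib.Char CfsgLib.OddChar.MaxTypes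

universe u

variable {G : Type u} [Group G] [Finite G] (hG : Cfsg.IsMinSimpleOddOrder G)
include hG

omit hG in
theorem classFun_sub {K : Type*} [Group K] {f g : K → ℂ} (hf : Cfsg.IsClassFunction K f)
    (hg : Cfsg.IsClassFunction K g) : Cfsg.IsClassFunction K (f - g) := fun a b => by
  rw [Pi.sub_apply, Pi.sub_apply, hf, hg]

section Setting

variable [Fintype G] {L M : Subgroup G} [Fintype L] [Fintype M]

/-- Virtual characters of `L` over non-principal characters of `L_σ`, supported on `A(L)`. -/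
theorem irr_sub_supported (hL : IsFType L) {χ χ' : ↥L → ℂ} (hχ : Cfsg.IsIrrCharacter L χ)
    (hχ' : Cfsg.IsIrrCharacter L χ') (h1 : χ 1 = χ' 1)
    (hn : ∃ a : L, (a : G) ∈ Cfsg.sigmaCore L ∧ χ a ≠ χ 1)
    (hn' : ∃ a : L, (a : G) ∈ Cfsg.sigmaCore L ∧ χ' a ≠ χ' 1) (a : L) (ha : (a : G) ∉ supFull L) :
    (χ - χ') a = 0 := by
  by_cases e : a = 1
  · rw [e, Pi.sub_apply, h1, sub_self]
  · rw [Pi.sub_apply, vanish_off_supFull hG hL hχ hn e ha, vanish_off_supFull hG hL hχ' hn' e ha,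
      sub_self]

/-- The Dade images for a Frobenius `M` and for `L` are orthogonal. -/
theorem cross_zero (hM : IsFType M) (hfr : IsFrob M) (hL : IsFType L)
    (hnc : ∀ g : G, L ≠ M.map (MulAut.conj g).toMonoidHom) {φ : ↥M → ℂ}
    (hφ : Cfsg.IsClassFunction M φ) (hφs : ∀ a : M, (a : G) ∉ supFull M → φ a = 0)
    {χ χ' : ↥L → ℂ} (hχ : Cfsg.IsIrrCharacter L χ)
    (hχ' : Cfsg.IsIrrCharacter L χ') (h1 : χ 1 = χ' 1)
    (hn : ∃ a : L, (a : G) ∈ Cfsg.sigmaCore L ∧ χ a ≠ χ 1)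
    (hn' : ∃ a : L, (a : G) ∈ Cfsg.sigmaCore L ∧ χ' a ≠ χ' 1) :
    Cfsg.classInner (tau M φ) (tau L (χ - χ')) = 0 := by
  have hcl : Cfsg.IsClassFunction L (χ - χ') :=
    classFun_sub (IsIrrCharacter.isClassFunction hχ) (IsIrrCharacter.isClassFunction hχ')
  have hs := irr_sub_supported hG hL hχ hχ' h1 hn hn'
  rw [inner_tau hG hM hφ hφs (Φ := tau L (χ - χ'))
    (OddChar.dadeIsometry_isClassFunction (dade_full hG hL) hcl)]
  rw [Cfsg.classInner]
  refine mul_eq_zero_of_right _ (Finset.sum_eq_zero fun a _ => ?_)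
  by_cases ha : (a : G) ∈ supFull M
  · rw [rho_core_tau_eq_zero hG hM.coatom hL hnc hcl hs (fun b hb hco => ?_)
      (supFull_eq_coreSet hG hM hfr ▸ ha), map_zero, mul_zero]
    simp only [Pi.sub_apply]
    rw [finsum_mem_sub_distrib _ _ (Set.toFinite _), sum_coset_eq_zero hG hL hχ hn hco,
      sum_coset_eq_zero hG hL hχ' hn' hco, sub_self]
  · rw [hφs a ha, zero_mul]

theorem nonkernel_conj {χ : ↥L → ℂ} (hχ : Cfsg.IsIrrCharacter L χ)
    (hn : ∃ a : L, (a : G) ∈ Cfsg.sigmaCore L ∧ χ a ≠ χ 1) :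
    ∃ a : L, (a : G) ∈ Cfsg.sigmaCore L ∧ Cfsg.conjFun χ a ≠ Cfsg.conjFun χ 1 := by
  obtain ⟨a, ha, hne⟩ := hn
  exact ⟨a, ha, fun h => hne ((starRingEnd ℂ).injective h)⟩

theorem conjFun_one {χ : ↥L → ℂ} (hχ : Cfsg.IsIrrCharacter L χ) : χ 1 = Cfsg.conjFun χ 1 :=
  (OddChar.conj_apply_one (IsIrrCharacter.isCharacter hχ)).symm

/-- The probe of `M` is orthogonal to the differences and to the pairs of `L`. -/
theorem probe_orth (hM : IsFType M) (hfr : IsFrob M) (hL : IsFType L)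
    (hnc : ∀ g : G, L ≠ M.map (MulAut.conj g).toMonoidHom) {ψ : G → ℂ} {φ : ↥M → ℂ}
    (hψ : Cfsg.IsIrrCharacter G ψ ∨ Cfsg.IsIrrCharacter G (-ψ)) (hψne : Cfsg.conjFun ψ ≠ ψ)
    (hφ : Cfsg.IsClassFunction M φ) (hφs : ∀ a : M, (a : G) ∉ supFull M → φ a = 0)
    (hτ : tau M φ = ψ - Cfsg.conjFun ψ) : BlockOrth L ψ ∧ PairOrth L ψ := by
  obtain ⟨ε, ξ, hε, hξ, rfl⟩ := isSignedIrr_norm hψ
  have hε0 : (ε : ℂ) ≠ 0 := by rcases hε with rfl | rfl <;> norm_num
  have hξne : Cfsg.conjFun ξ ≠ ξ := fun h => hψne (by rw [conjFun_smul_int, h])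
  rw [conjFun_smul_int, ← smul_sub] at hτ
  have hzero : ∀ χ χ' : ↥L → ℂ, Cfsg.IsIrrCharacter L χ → Cfsg.IsIrrCharacter L χ' → χ 1 = χ' 1 →
      (∃ a : L, (a : G) ∈ Cfsg.sigmaCore L ∧ χ a ≠ χ 1) →
      (∃ a : L, (a : G) ∈ Cfsg.sigmaCore L ∧ χ' a ≠ χ' 1) →
      Cfsg.classInner (ξ - Cfsg.conjFun ξ) (tau L (χ - χ')) = 0 := by
    intro χ χ' h h' h1 hn hn'
    have := cross_zero hG hM hfr hL hnc hφ hφs h h' h1 hn hn'
    rw [hτ, classInner_smul_left] at this
    exact (mul_eq_zero.1 this).resolve_left hε0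
  refine ⟨fun χ χ' h h' heq hn => ?_, fun χ μ h hn hμ hμ' => ?_⟩
  · by_cases hcc : χ = χ'
    · subst hcc
      rw [sub_self, show tau L (0 : ↥L → ℂ) = 0 by
        funext g; simp [tau, Cfsg.dadeIsometry]]
      exact classInner_zero_right _
    have h1 : χ 1 = χ' 1 := heq 1 (one_mem _)
    have hn' : ∃ a : L, (a : G) ∈ Cfsg.sigmaCore L ∧ χ' a ≠ χ' 1 := by
      obtain ⟨a, ha, hne⟩ := hn
      exact ⟨a, ha, by rwa [← heq a ha, ← h1]⟩
    have hs := irr_sub_supported hG hL h h' h1 hn hn'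
    have hgen : Cfsg.IsGeneralizedCharacter L (χ - χ') :=
      IsGeneralizedCharacter.sub (IsCharacter.isGeneralizedCharacter (IsIrrCharacter.isCharacter h))
        (IsCharacter.isGeneralizedCharacter (IsIrrCharacter.isCharacter h'))
    have hΦ : Cfsg.IsGeneralizedCharacter G (tau L (χ - χ')) :=
      Cfsg.Agent.S1501.result (supFull L) L _ (dade_full hG hL) _ hgen hs
    have hcl : Cfsg.IsClassFunction L (χ - χ') :=
      classFun_sub (IsIrrCharacter.isClassFunction h) (IsIrrCharacter.isClassFunction h')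
    have hnorm : Cfsg.classInner (tau L (χ - χ')) (tau L (χ - χ')) = 2 := by
      rw [tau, (Cfsg.Agent.S1500.result (supFull L) L _ (dade_full hG hL) _ hcl hs).1 _ hcl hs,
        classInner_sub_left, classInner_sub_right, classInner_sub_right, classInner_irr_self h,
        classInner_irr_self h', classInner_irr_of_ne h h' hcc,
        classInner_irr_of_ne h' h (Ne.symm hcc)]
      norm_num
    have hΦ1 : tau L (χ - χ') 1 = 0 := by
      refine OddChar.dadeIsometry_eq_zero ?_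
      rintro ⟨a, ha, u, hu, z, hz⟩
      have hau : a * u = 1 := by simpa using hz.symm
      have haM : a⁻¹ ∈ Cfsg.supportR L a := by rwa [← eq_inv_of_mul_eq_one_right hau]
      have hD := dade_full hG hL
      refine ha.2 (mem_bot.1 (hD.inf_eq_bot a ha ▸ mem_inf.2 ⟨inv_mem_iff.1 haM, ha.1.1, ?_⟩))
      exact mem_centralizer_singleton_iff.2 rfl
    have hsym : Cfsg.classInner (tau L (χ - χ')) ξ =
        Cfsg.classInner (tau L (χ - χ')) (Cfsg.conjFun ξ) := by
      rw [← sub_eq_zero, ← classInner_sub_right, ← classInner_conj_symm,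
        hzero χ χ' h h' h1 hn hn', map_zero]
    rw [classInner_smul_left, ← classInner_conj_symm,
      orth_of_conj_symm hΦ hΦ1 hnorm hξ hξne hsym, map_zero, mul_zero]
  · have := hzero χ _ h (OddChar.isIrrCharacter_conjFun h) (conjFun_one hG h) hn
      (nonkernel_conj hG h hn)
    rw [hμ'] at this
    obtain ⟨e1, e2⟩ := orth_pair hξ hμ hξne this
    exact ⟨by rw [classInner_smul_left, e1, mul_zero], by rw [classInner_smul_left, e2, mul_zero]⟩

end Setting

/-- `p² ≤ |M_σ|` in a bridge. -/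
theorem Bridge.sq_le {L M : Subgroup G} {x : G} {p : ℕ} (h : Bridge L M x p) :
    p ^ 2 ≤ Nat.card (Cfsg.sigmaCore M) := by
  haveI := Fact.mk h.prime
  obtain ⟨y, hy, hy', hxy⟩ := h.fix
  have hy1 : y ≠ 1 := fun e => hy' (e ▸ one_mem _)
  have hx1 : x ≠ 1 := fun e => h.prime.one_lt.ne' (by rw [← h.order, e, orderOf_one])
  have hσ : p ∉ Cfsg.sigma L := fun hσ => h.xL' (le_sigmaCore_of_piSubgroup hG h.hL.coatom
    (fun q hq hd => by
      rw [Nat.card_zpowers, h.order] at hd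
      rwa [(Nat.prime_dvd_prime_iff_eq hq h.prime).1 hd]) (zpowers_le.2 h.xL) (mem_zpowers x))
  rcases Cfsg.Agent.S1432.result hG L h.hL.coatom y hy hy1 x
      ⟨h.xL, mem_centralizer_singleton_iff.2 hxy⟩ hx1 (fun q hq hd => by
        rw [h.order] at hd
        rwa [(Nat.prime_dvd_prime_iff_eq hq h.prime).1 hd]) with ⟨hκ, -⟩ | ⟨hτ, -⟩
  · exact absurd (hκ p h.prime (by rw [h.order])) (by simp [h.hL.kappa_eq])
  obtain ⟨-, -, -, hr⟩ := hτ p h.prime (by rw [h.order])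
  unfold Cfsg.PRankLE at hr
  push Not at hr
  obtain ⟨A, hA, hAp, hcard⟩ := hr
  have hPA : IsPGroup p A := fun a => ⟨1, Subtype.ext (by simpa using hAp a a.2)⟩
  obtain ⟨n, hn⟩ := hPA.exists_card_eq
  have hn2 : 2 ≤ n := by
    by_contra hlt
    rw [hn] at hcard
    exact absurd (Nat.pow_le_pow_right h.prime.pos (Nat.lt_succ_iff.1 (not_le.1 hlt)))
      (not_le.2 hcard)
  have hd : p ^ 2 ∣ Nat.card L := ((pow_dvd_pow p hn2).trans (hn ▸ dvd_rfl)).trans
    (Subgroup.card_subgroup_dvd_card A)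
  rw [← relIndex_bot_left L, ← relIndex_mul_relIndex ⊥ _ L bot_le h.compl.2.1, relIndex_bot_left,
    ← card_eq_relIndex_of_isComplIn h.compl] at hd
  have hco : (p ^ 2).Coprime (Nat.card (Cfsg.sigmaCore L)) :=
    (h.prime.coprime_iff_not_dvd.2 fun hd' => hσ (sigma_of_dvd_sigmaCore h.prime hd')).pow_left 2
  exact (Nat.le_of_dvd Nat.card_pos (hco.dvd_of_dvd_mul_left hd)).trans
    (Nat.le_of_dvd Nat.card_pos (card_dvd_of_le h.inter_le))

/-- `[H : H'] ≥ 5` in a bridge. -/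
theorem Bridge.five_le {L M : Subgroup G} {x : G} {p : ℕ} (h : Bridge L M x p) :
    5 * Nat.card ↥⁅Cfsg.sigmaCore L, Cfsg.sigmaCore L⁆ ≤ Nat.card (Cfsg.sigmaCore L) := by
  set H := Cfsg.sigmaCore L with hH
  obtain ⟨y, hy, hy', -⟩ := h.fix
  have hle : ⁅H, H⁆ ≤ H := commutator_le_self H
  have hmul : Nat.card ↥⁅H, H⁆ * ⁅H, H⁆.relIndex H = Nat.card H := by
    rw [← relIndex_bot_left ⁅H, H⁆, relIndex_mul_relIndex ⊥ _ H bot_le hle, relIndex_bot_left]
  have hr1 : ⁅H, H⁆.relIndex H ≠ 1 := fun e => hy' (relIndex_eq_one.1 e hy)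
  have hodd : Odd (⁅H, H⁆.relIndex H) :=
    (Odd.of_dvd_nat hG.1 (H.card_subgroup_dvd_card)).of_dvd_nat ⟨_, by rw [mul_comm]; exact hmul.symm⟩
  have hne3 : ⁅H, H⁆.relIndex H ≠ 3 := by
    intro e
    obtain ⟨hnil, hne, -, -⟩ := core_facts hG h.hL
    haveI := hnil
    have hc : (commutator H).index = 3 := by
      rw [← e, Subgroup.relIndex, ← map_subtype_commutator, ← comap_subtype,
        comap_map_eq_self_of_injective H.subtype_injective]
    have hbot := OddChar.FrobSection.commutator_eq_bot_of_index_prime (Q := H)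
      (hc.symm ▸ Nat.prime_three)
    have hcard : Nat.card H = 3 := by
      rw [← hc, hbot, Subgroup.index_bot]
    -- an odd order group normalising a group of order `3` centralises it
    have hcent : ∀ l ∈ L, ∀ z ∈ H, l * z = z * l := by
      intro l hl z hz
      have hn := le_normalizer_piCoreOf (Cfsg.sigma L) L hl
      haveI : IsCyclic H := isCyclic_of_prime_card (p := 3) hcard
      let f : MulAut H := Subgroup.normalizerMonoidHom H ⟨l, hn⟩
      have h2 : f ^ 2 = 1 := by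
        have hA : Nat.card (MulAut H) = 2 := by
          rw [Nat.card_congr (IsCyclic.mulAutMulEquiv H).toEquiv, hcard, Nat.card_eq_fintype_card,
            ZMod.card_units_eq_totient, Nat.totient_prime Nat.prime_three]
        rw [← hA]; exact pow_card_eq_one'
      obtain ⟨m, hm⟩ := Odd.of_dvd_nat hG.1 (orderOf_dvd_natCard l)
      have hf : f = 1 := by
        have : f ^ (2 * m + 1) = 1 := by
          rw [← map_pow, show (⟨l, hn⟩ : normalizer (H : Set G)) ^ (2 * m + 1) = 1 from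
            Subtype.ext (by push_cast; rw [← hm]; exact pow_orderOf_eq_one l), map_one]
        rwa [pow_succ, pow_mul, h2, one_pow, one_mul] at this
      have := congrArg (fun g : MulAut H => ((g ⟨z, hz⟩ : H) : G)) hf
      change l * z * l⁻¹ = z at this
      calc l * z = l * z * l⁻¹ * l := by group
        _ = z * l := by rw [this]
    obtain ⟨-, hE, -⟩ := Cfsg.Agent.S1426.result hG L h.hL.coatom (M ⊓ L) h.compl
    refine hne (le_bot_iff.1 (hE.symm.le.trans ((commutator_le).2 fun a ha b hb => ?_)))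
    rw [mem_bot, commutatorElement_eq_one_iff_mul_comm]
    exact (hcent b hb.2 a ha).symm
  have h5 : 5 ≤ ⁅H, H⁆.relIndex H := by
    obtain ⟨m, hm⟩ := hodd
    omega
  calc 5 * Nat.card ↥⁅H, H⁆ ≤ ⁅H, H⁆.relIndex H * Nat.card ↥⁅H, H⁆ :=
        Nat.mul_le_mul_right _ h5
    _ = _ := by rw [mul_comm]; exact hmul

/-- The elementary inequality closing PF 12.7. -/
theorem bridge_arith {p e k h h' u : ℕ} {b c : ℤ} (he : 3 ≤ e) (hep : 2 * e ≤ p + 1)
    (hk : p ^ 2 ≤ k) (hu : u ≤ k) (hu0 : 0 < u) (hh : 0 < h) (hh' : 5 * h' ≤ h)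
    (hdvd : (p : ℤ) ∣ c - e - b)
    (hlt : ((k * e : ℕ) : ℝ)⁻¹ *
        ((k * e : ℕ) - (e : ℝ) ^ 2 - 2 * b * e + (b : ℝ) ^ 2 * ((k : ℝ) - 1)) +
        ((u * h : ℕ) : ℝ)⁻¹ * ((c : ℝ) ^ 2 * ((h : ℝ) - h')) < 1) : False := by
  have heR : (3 : ℝ) ≤ e := by exact_mod_cast he
  have hpR : 2 * (e : ℝ) ≤ p + 1 := by exact_mod_cast hep
  have hkR : (p : ℝ) ^ 2 ≤ k := by exact_mod_cast hk
  have huR : (u : ℝ) ≤ k := by exact_mod_cast hu
  have hu0R : (0 : ℝ) < u := by exact_mod_cast hu0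
  have hhR : (0 : ℝ) < h := by exact_mod_cast hh
  have hh'R : 5 * (h' : ℝ) ≤ h := by exact_mod_cast hh'
  have hk0 : (0 : ℝ) < k := lt_of_lt_of_le hu0R huR
  push_cast at hlt
  have hke : (0 : ℝ) < k * e := by positivity
  have hnn : (0 : ℝ) ≤ (c : ℝ) ^ 2 * ((h : ℝ) - h') := mul_nonneg (sq_nonneg _) (by linarith)
  -- clear the denominators
  have key : -(e : ℝ) ^ 2 - 2 * b * e + (b : ℝ) ^ 2 * ((k : ℝ) - 1) +
      (c : ℝ) ^ 2 * e * (4 / 5) < 0 := by
    have h2 : (c : ℝ) ^ 2 * e * (4 / 5) ≤ (k * e : ℝ) * (((u : ℝ) * h)⁻¹ *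
        ((c : ℝ) ^ 2 * ((h : ℝ) - h'))) := by
      have h3 : (4 / 5 : ℝ) * h ≤ (h : ℝ) - h' := by linarith
      have h4 : (1 : ℝ) ≤ k / u := (one_le_div hu0R).2 huR
      calc (c : ℝ) ^ 2 * e * (4 / 5) = 1 * ((c : ℝ) ^ 2 * e * ((4 / 5 * h) / h)) := by
            field_simp
        _ ≤ k / u * ((c : ℝ) ^ 2 * e * (((h : ℝ) - h') / h)) := by gcongr
        _ = _ := by field_simp
    have h5 := mul_lt_mul_of_pos_left hlt hke
    rw [mul_add, ← mul_assoc, mul_inv_cancel₀ hke.ne', one_mul, mul_one] at h5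
    linarith
  by_cases hb : b = 0
  · subst hb
    have hc : ((e : ℝ) - 1) ^ 2 ≤ (c : ℝ) ^ 2 := by
      have hc' : (e : ℤ) - 1 ≤ |c| := by
        rcases eq_or_ne (c - (e : ℤ) - 0) 0 with h0 | h0
        · rw [abs_of_nonneg (by omega)]; omega
        · have hp := Int.le_of_dvd (abs_pos.2 h0) ((dvd_abs _ _).2 hdvd)
          have := abs_sub c (e : ℤ)
          rw [sub_zero] at hp
          rw [Nat.abs_cast] at this
          omega
      rw [← sq_abs (c : ℝ)]
      refine pow_le_pow_left₀ (by linarith) ?_ 2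
      exact_mod_cast hc'
    push_cast at key
    nlinarith
  · have hb1 : (1 : ℝ) ≤ |(b : ℝ)| := by exact_mod_cast Int.one_le_abs hb
    have hbb : (1 : ℝ) ≤ (b : ℝ) ^ 2 := by nlinarith [sq_abs (b : ℝ), abs_nonneg (b : ℝ)]
    have hble : |(b : ℝ)| ≤ (b : ℝ) ^ 2 := by nlinarith [sq_abs (b : ℝ)]
    have hk2 : (e : ℝ) ^ 2 + 2 * e + 1 ≤ k := by nlinarith
    have h6 : 2 * (b : ℝ) * e ≤ 2 * (b : ℝ) ^ 2 * e := by nlinarith [le_abs_self (b : ℝ)]
    have h7 : (e : ℝ) ^ 2 ≤ (e : ℝ) ^ 2 * (b : ℝ) ^ 2 := le_mul_of_one_le_right (sq_nonneg _) hbb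
    nlinarith [mul_nonneg (sq_nonneg (c : ℝ)) (show (0 : ℝ) ≤ e by linarith)]

theorem false_of_bridge {L M : Subgroup G} {x : G} {p : ℕ} (h : Bridge L M x p) : False := by
  classical
  haveI := Fintype.ofFinite G
  haveI := Fintype.ofFinite L
  haveI := Fintype.ofFinite M
  haveI := Fact.mk h.prime
  obtain ⟨ψ, ζ, b, hζS, hζ, hζ1, hψ, hψne, hτ, hρ⟩ := exists_probe hG h.hM h.frobM
  obtain ⟨hnilL, -, -, hFL⟩ := core_facts hG h.hL
  obtain ⟨y, hy, hy', hxy⟩ := h.fix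
  have hy1 : y ≠ 1 := fun e => hy' (e ▸ one_mem _)
  have hx1 : x ≠ 1 := fun e => h.prime.one_lt.ne' (by rw [← h.order, e, orderOf_one])
  -- `ζ - conj ζ` lives on the kernel
  have hφcl : Cfsg.IsClassFunction M (ζ - Cfsg.conjFun ζ) :=
    classFun_sub (IsIrrCharacter.isClassFunction hζ)
      (IsIrrCharacter.isClassFunction (OddChar.isIrrCharacter_conjFun hζ))
  have hφs : ∀ a : M, (a : G) ∉ supFull M → (ζ - Cfsg.conjFun ζ) a = 0 := by
    intro a ha
    by_cases e : a = 1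
    · subst e
      rw [Pi.sub_apply, ← conjFun_one hG hζ, sub_self]
    obtain ⟨θ, hθ, -, -, rfl⟩ := hζS
    have haS : (a : G) ∉ Cfsg.sigmaCore M := fun hm => ha (by
      rw [supFull_eq_coreSet hG h.hM h.frobM]; exact ⟨hm, fun e' => e (Subtype.ext e')⟩)
    haveI : ((Cfsg.sigmaCore M).subgroupOf M).Normal :=
      normal_subgroupOf_of_le_normalizer (le_normalizer_piCoreOf _ _)
    have hz := indFun_eq_zero_of_normal (H := (Cfsg.sigmaCore M).subgroupOf M) θ
      (fun hm => haS (mem_subgroupOf.1 hm))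
    simp [Cfsg.conjFun, hz]
  obtain ⟨hB, hP⟩ := probe_orth hG h.hM h.frobM h.hL h.not_conj hψ hψne hφcl hφs hτ
  have hψgen : Cfsg.IsGeneralizedCharacter G ψ := by
    rcases hψ with hi | hi
    · exact IsCharacter.isGeneralizedCharacter (IsIrrCharacter.isCharacter hi)
    · simpa using IsGeneralizedCharacter.neg
        (IsCharacter.isGeneralizedCharacter (IsIrrCharacter.isCharacter hi))
  obtain ⟨c, hc, hcnorm⟩ := core_average hG h.hL hψgen hP
  obtain ⟨ω, hω⟩ : ∃ ω : ℂ, IsPrimitiveRoot ω p :=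
    ⟨_, Complex.isPrimitiveRoot_exp p h.prime.ne_zero⟩
  obtain ⟨r, hr, hcr⟩ := average_congr hG h.hL hψgen hB h.prime h.xL h.order h.xL'
    h.centralizer_le hy hy' hxy (hc y hy hy') hω
  -- `L` supports `x`
  have hxM : ¬ centralizer ({x} : Set G) ≤ M := fun hle => hy1 <| mem_bot.1 <|
    h.compl.2.2.1 ▸ mem_inf.2 ⟨⟨hle (mem_centralizer_singleton_iff.2 hxy.symm),
      piCoreOf_le _ _ hy⟩, hy⟩
  obtain ⟨N, -, huniq, hF, -⟩ := Cfsg.Agent.S1375.result hG M h.hM.coatom x h.xM hx1 hxM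
  have hLN : L = N := huniq L h.hL.coatom h.centralizer_le
  subst hLN
  have hR : Cfsg.supportR M x = Cfsg.sigmaCore L ⊓ centralizer ({x} : Set G) :=
    OddOrder.supportR_eq hxM h.hL.coatom h.centralizer_le huniq hF
  have hxA : x ∈ supFull L := ⟨⟨h.xL, y, hy, hy1, hxy⟩, hx1⟩
  have hval : rho M ψ x = ψ x := by
    have hconst : ∀ u ∈ (Cfsg.supportR M x : Set G), ψ (x * u) = ψ x := by
      intro u hu
      rw [SetLike.mem_coe, hR, mem_inf] at hu
      refine const_on_cosets hG h.hL (IsGeneralizedCharacter.isClassFunction hψgen) hB hxA h.xL'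
        hu.1 ⟨⟨mul_mem h.xL (piCoreOf_le _ _ hu.1), ?_⟩, fun e => h.xL' ?_⟩
      · by_cases hu1 : u = 1
        · exact ⟨y, hy, hy1, by rw [hu1, mul_one]; exact hxy⟩
        · refine ⟨u, hu.1, hu1, ?_⟩
          have := mem_centralizer_singleton_iff.1 hu.2
          rw [← mul_assoc, this]
      · rw [eq_inv_of_mul_eq_one_left (Set.mem_singleton_iff.1 e)]
        exact inv_mem hu.1
    have hn : (Nat.card (Cfsg.supportR M x) : ℂ) ≠ 0 := Nat.cast_ne_zero.2 Nat.card_pos.ne'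
    rw [rho, finsum_mem_congr rfl hconst, finsum_mem_eq_finite_toFinset_sum _ (Set.toFinite _),
      Finset.sum_const, nsmul_eq_mul, ← Set.ncard_eq_toFinset_card _ (Set.toFinite _)]
    rw [← Nat.card_coe_set_eq, SetLike.coe_sort_coe, ← mul_assoc, inv_mul_cancel₀ hn, one_mul]
  set e := (Cfsg.sigmaCore M).relIndex M with he
  set xM : M := ⟨x, piCoreOf_le _ _ h.xM⟩ with hxMdef
  have hψx : ψ x = ζ xM + b := by rw [← hval]; exact hρ xM ⟨h.xM, hx1⟩
  obtain ⟨r', hr', hζr⟩ := char_congr (IsIrrCharacter.isCharacter hζ) h.prime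
    (show orderOf xM = p by rw [hxMdef, Subgroup.orderOf_mk]; exact h.order) hω
  have hdvd : (p : ℤ) ∣ c - e - b := int_dvd_of_one_sub h.prime hω (hr.add hr') (by
    push_cast
    rw [hζ1] at hζr
    linear_combination hcr + hψx + hζr)
  -- the orders
  set k := Nat.card (Cfsg.sigmaCore M) with hk
  have hkM : k * e = Nat.card M := by
    rw [hk, ← relIndex_bot_left (Cfsg.sigmaCore M),
      relIndex_mul_relIndex ⊥ (Cfsg.sigmaCore M) M bot_le (piCoreOf_le _ _), relIndex_bot_left]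
  set h₀ := Nat.card (Cfsg.sigmaCore L) with hh₀
  set u₀ := Nat.card ↥(M ⊓ L) with hu₀
  have hLu : u₀ * h₀ = Nat.card L := by
    rw [hu₀, hh₀, card_eq_relIndex_of_isComplIn h.compl, mul_comm,
      ← relIndex_bot_left (Cfsg.sigmaCore L),
      relIndex_mul_relIndex ⊥ (Cfsg.sigmaCore L) L bot_le (piCoreOf_le _ _), relIndex_bot_left]
  have he3 : 3 ≤ e := by
    obtain ⟨-, -, hlt, -⟩ := core_facts hG h.hM
    have h1 : e ≠ 1 := fun e1 => hlt.not_ge (relIndex_eq_one.1 e1)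
    obtain ⟨m, hm⟩ := (Odd.of_dvd_nat hG.1 (M.card_subgroup_dvd_card)).of_dvd_nat
      (relIndex_dvd_card (Cfsg.sigmaCore M) M)
    omega
  have hlt := norm_lt hG h.hM.coatom h.hL.coatom h.not_conj hψ
  rw [finsum_mem_congr rfl (g := fun a : M => ‖ζ a + b‖ ^ 2) (fun a ha => by rw [hρ a ha]),
    norm_probe hG h.hM h.frobM hζS hζ1 b, ← hkM, ← hLu] at hlt
  refine bridge_arith hG he3 h.index_bound (h.sq_le hG)
    (Nat.le_of_dvd Nat.card_pos (card_dvd_of_le h.inter_le)) Nat.card_pos Nat.card_pos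
    (h.five_le hG) hdvd (lt_of_le_of_lt ?_ hlt)
  exact add_le_add le_rfl (mul_le_mul_of_nonneg_left hcnorm (by positivity))

/-- A maximal subgroup with empty `κ` is a Frobenius group, if only such subgroups are supported by
them. -/
theorem isFrob_of_sup (hsup : ∀ L M : Subgroup G, IsFType L → IsCoatom M → ∀ x ∈ coreSet M,
      ¬ centralizer ({x} : Set G) ≤ M → centralizer ({x} : Set G) ≤ L → IsFType M)
    {M : Subgroup G} (hM : IsFType M) : IsFrob M := by
  by_contra hn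
  obtain ⟨L, M', x, p, hb⟩ := exists_bridge hG hsup ⟨M, hM, hn⟩
  exact false_of_bridge hG hb

end CfsgLib.FT
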