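import Cfsg.Agent.Lib.FT.PairStructure
import Cfsg.Agent.Lib.FT.PairLink
import Cfsg.Agent.Lib.FT.TypeOne
import Cfsg.Agent.Lib.OddOrder.SigmaConj
import Cfsg.Agent.S1375
import Cfsg.Agent.S1378

/-!
FT module Supported: if `C(x)`, `x ∈ M_σ`, lies in a maximal `L` with empty `κ` and not in `M`, then `κ(M)`
is empty. In a member of the pair an element of the core is either in `R`, where the Fitting subgroup is
a TI set, or has a power of prime order `s ∤ |R|`; then the Sylow `s`-subgroups of `G` are cyclic and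
`s ∉ σ(L)`, so `s ∈ κ(L)`.
-/

set_option autoImplicit false
set_option linter.style.haveILetI false

namespace CfsgLib.FT

open Subgroup CfsgLib.OddOrder

universe u

variable {G : Type u} [Group G] [Finite G]

/-- `κ` is empty in all conjugates. -/
theorem kappa_eq_empty_of_conj {M L : Subgroup G} {g : G}
    (h : L = M.map (MulAut.conj g).toMonoidHom) (hL : Cfsg.kappa L = ∅) : Cfsg.kappa M = ∅ := by
  refine Set.eq_empty_iff_forall_notMem.2 fun p hp => Set.notMem_empty p (hL ▸ ?_)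
  subst h
  obtain ⟨hpp, hpd, hpσ, hP⟩ := hp
  haveI := Fact.mk hpp
  set c := (MulAut.conj g).toMonoidHom with hc
  have hci : Function.Injective c := (MulAut.conj g).injective
  let e := M.equivMapOfInjective c hci
  refine ⟨hpp, by rwa [card_map_of_injective hci], by rwa [hc, sigma_conj], fun P => ?_⟩
  obtain ⟨hcyc, z, hz, hz1, w, hw, hw1, hzw⟩ := hP (P.mapSurjective (f := e.symm.toMonoidHom) e.symm.surjective)
  have hzP : e z ∈ (P : Subgroup (M.map c)) := by
    obtain ⟨a, ha, rfl⟩ := hz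
    rw [show e (e.symm.toMonoidHom a) = a from e.apply_symm_apply a]
    exact ha
  refine ⟨?_, e z, hzP, fun h => hz1 ((map_eq_one_iff e e.injective).1 h), c w, ?_, fun h => hw1 (hci (h.trans (map_one c).symm)), ?_⟩
  · exact ((P : Subgroup (M.map c)).equivMapOfInjective e.symm.toMonoidHom e.symm.injective).isCyclic.2 hcyc
  · rw [hc, sigmaCore_conj]
    exact mem_map_of_mem _ hw
  · show c z * c w = c w * c z
    rw [← map_mul, ← map_mul, hzw]

variable (hG : Cfsg.IsMinSimpleOddOrder G)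
include hG

/-- In a side of the pair an element of the core either has its centraliser inside, or has a prime
divisor `s ∈ σ` with cyclic Sylow subgroups. -/
theorem centralizer_le_or_exists_prime {M W U W' : Subgroup G} (h : Side M W U W')
    (hf : SideFull M W U W') {x : G} (hx : x ∈ Cfsg.sigmaCore M) (hx1 : x ≠ 1) :
    centralizer ({x} : Set G) ≤ M ∨ ∃ s : ℕ, s.Prime ∧ s ∣ orderOf x ∧ s ∈ Cfsg.sigma M ∧
      ∀ P : Subgroup G, IsPGroup s P → IsCyclic P := by
  set R := Cfsg.fittingHallOf M with hR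
  by_cases hxR : x ∈ R
  · refine Or.inl fun c hc => ?_
    by_contra hcM
    have hcN : c ∉ normalizer (Cfsg.fittingOf M : Set G) := fun hn => hcM (h.fitting_normalizer ▸ hn)
    refine hx1 (h.fitting_TI c hcN x (fittingHallOf_le_fittingOf M hxR) ?_)
    rw [mem_centralizer_singleton_iff.1 hc, mul_inv_cancel_right]
    exact fittingHallOf_le_fittingOf M hxR
  obtain ⟨hRD, hUD, hdis, hmul⟩ := h.typeP.U_compl
  have hDM : ⁅M, M⁆ ≤ M := h.typeP.W₁_compl.1
  have hDn : ⁅M, M⁆ ≤ normalizer (R : Set G) := hDM.trans (le_normalizer_fittingHallOf M)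
  have hxD : x ∈ ⁅M, M⁆ := sigmaCore_le_commutator hG h.coatom hx
  have hRU : R.relIndex ⁅M, M⁆ = Nat.card U :=
    (card_eq_relIndex_of_isComplIn (B := R) ⟨hUD, hRD, by rw [inf_comm]; exact hdis, fun z hz => by
      obtain ⟨a, ha, b, hb, e⟩ := hmul z⁻¹ (inv_mem hz)
      exact ⟨b⁻¹, inv_mem hb, a⁻¹, inv_mem ha, by rw [← mul_inv_rev, ← e, inv_inv]⟩⟩).symm
  obtain ⟨s, hs, hsx, hsU⟩ : ∃ s : ℕ, s.Prime ∧ s ∣ orderOf x ∧ s ∣ Nat.card U := by
    by_contra hcon
    push Not at hcon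
    exact hxR (mem_of_orderOf_coprime_relIndex hDn hxD (hRU ▸ Nat.coprime_of_dvd hcon))
  haveI := Fact.mk hs
  have hsσ : s ∈ Cfsg.sigma M :=
    sigma_of_dvd_sigmaCore hs (hsx.trans (orderOf_dvd_card_of_mem hx))
  refine Or.inr ⟨s, hs, hsx, hsσ, fun P hP => ?_⟩
  have hUM : U ≤ M := hUD.trans hDM
  -- a Sylow subgroup of `M` inside `U`
  obtain ⟨S, hS⟩ : ∃ S : Sylow s M, (S : Subgroup M) ≤ U.subgroupOf M := by
    have hW : (U.subgroupOf M).index.Coprime s := by
      show (U.relIndex M).Coprime s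
      rw [← relIndex_mul_relIndex U ⁅M, M⁆ M hUD hDM]
      refine Nat.Coprime.mul_left ?_ ?_
      · rw [← card_eq_relIndex_of_isComplIn h.typeP.U_compl]
        exact h.coprime.coprime_dvd_right hsU
      · rw [← card_eq_relIndex_of_isComplIn (B := ⁅M, M⁆)
          ⟨h.typeP.W₁_compl.2.1, hDM, by rw [inf_comm]; exact h.typeP.W₁_compl.2.2.1, fun z hz => by
            obtain ⟨a, ha, b, hb, e⟩ := h.typeP.W₁_compl.2.2.2 z⁻¹ (inv_mem hz)
            exact ⟨b⁻¹, inv_mem hb, a⁻¹, inv_mem ha, by rw [← mul_inv_rev, ← e, inv_inv]⟩⟩]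
        exact (h.coprime_W.coprime_dvd_left (hsU.trans (card_dvd_of_le hUD))).symm
    obtain ⟨S₀⟩ : Nonempty (Sylow s ↥(U.subgroupOf M)) := inferInstance
    have hd : ¬ s ∣ ((S₀ : Subgroup ↥(U.subgroupOf M)).map (U.subgroupOf M).subtype).index := by
      intro hd
      rw [Subgroup.index_map_subtype] at hd
      rcases hs.dvd_mul.1 hd with hd | hd
      · exact S₀.not_dvd_index hd
      · exact hs.one_lt.ne' (Nat.eq_one_of_dvd_coprimes hW hd dvd_rfl)
    exact ⟨(S₀.2.map _).toSylow hd, Subgroup.map_subtype_le _⟩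
  haveI := hf.cyclic
  haveI hSc : IsCyclic ↥((S : Subgroup M).map M.subtype) := by
    have hle : (S : Subgroup M).map M.subtype ≤ U := by
      rintro _ ⟨a, ha, rfl⟩
      exact hS ha
    exact isCyclic_of_le hle
  obtain ⟨Q, hQ⟩ := (isMaxPIn_top_of_sigma hsσ (isMaxPIn_of_sylow S)).exists_sylow
  obtain ⟨P', hP'⟩ := (hP.of_equiv (Subgroup.topEquiv.symm.subgroupMap P)).exists_le_sylow
  obtain ⟨g, hg⟩ := MulAction.exists_smul_eq ↥(⊤ : Subgroup G) P' Q
  haveI : IsCyclic ↥(Q : Subgroup ↥(⊤ : Subgroup G)) := by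
    refine ((Q : Subgroup ↥(⊤ : Subgroup G)).equivMapOfInjective _
      (⊤ : Subgroup G).subtype_injective).isCyclic.2 ?_
    rw [hQ]
    exact hSc
  haveI : IsCyclic ↥(P' : Subgroup ↥(⊤ : Subgroup G)) := by
    have e := Sylow.equiv P' Q
    exact isCyclic_of_injective e.toMonoidHom e.injective
  haveI := isCyclic_of_le hP'
  exact (Subgroup.topEquiv.symm.subgroupMap P).isCyclic.2 inferInstance

omit hG in
/-- A prime with cyclic Sylow subgroups dividing the order of an element of `L \ L_σ` which centralises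
a non-identity element of `L_σ` lies in `κ(L)`. -/
theorem mem_kappa_of_cyclic {L : Subgroup G} {x : G} {s : ℕ} (hs : s.Prime) (hsx : s ∣ orderOf x)
    (hx : x ∈ Cfsg.sigmaHat L) (hsL : s ∉ Cfsg.sigma L)
    (hcyc : ∀ P : Subgroup G, IsPGroup s P → IsCyclic P) : s ∈ Cfsg.kappa L := by
  haveI := Fact.mk hs
  obtain ⟨hxL, w, hw, hw1, hxw⟩ := hx
  refine ⟨hs, hsx.trans (orderOf_dvd_card_of_mem hxL), hsL, fun P => ?_⟩
  set y := x ^ (orderOf x / s) with hy
  have hyo : orderOf y = s := orderOf_pow_orderOf_div (orderOf_pos x).ne' hsx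
  have hyL : y ∈ L := pow_mem hxL _
  obtain ⟨P₀, hP₀⟩ := (IsPGroup.of_card (n := 1)
    (show Nat.card (zpowers (⟨y, hyL⟩ : L)) = s ^ 1 by
      rw [Nat.card_zpowers, Subgroup.orderOf_mk, hyo, pow_one])).exists_le_sylow
  obtain ⟨n, hn⟩ := MulAction.exists_smul_eq L P₀ P
  have hy1 : y ≠ 1 := fun h => hs.one_lt.ne' (by rw [← hyo, h, orderOf_one])
  refine ⟨?_, n * ⟨y, hyL⟩ * n⁻¹, ?_, fun h => hy1 (congrArg Subtype.val (conj_eq_one_iff.1 h)),
    (n : G) * w * (n : G)⁻¹,
    (mem_normalizer_iff.1 (le_normalizer_piCoreOf (Cfsg.sigma L) L n.2) w).1 hw,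
    fun h => hw1 (conj_eq_one_iff.1 h), ?_⟩
  · haveI := hcyc _ (P.2.map L.subtype)
    exact ((P : Subgroup L).equivMapOfInjective _ L.subtype_injective).isCyclic.2 inferInstance
  · rw [← hn, Sylow.coe_subgroup_smul]
    exact Subgroup.smul_mem_pointwise_smul _ (MulAut.conj n) _ (hP₀ (mem_zpowers _))
  · have hc : y * w = w * y := ((show Commute x w from hxw).pow_left _).eq
    show (n : G) * y * (n : G)⁻¹ * ((n : G) * w * (n : G)⁻¹) =
      (n : G) * w * (n : G)⁻¹ * ((n : G) * y * (n : G)⁻¹)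
    calc _ = (n : G) * (y * w) * (n : G)⁻¹ := by group
      _ = (n : G) * (w * y) * (n : G)⁻¹ := by rw [hc]
      _ = _ := by group

theorem supported_isFType' {L M : Subgroup G} (hL : IsFType L) (hM : IsCoatom M) {x : G}
    (hx : x ∈ coreSet M) (hxM : ¬ centralizer ({x} : Set G) ≤ M)
    (hCL : centralizer ({x} : Set G) ≤ L) : IsFType M := by
  refine ⟨hM, ?_⟩
  by_contra hκ
  obtain ⟨S, T, W₁, W₂, U, V, hpd⟩ :=
    exists_pairData hG ⟨M, hM, Set.nonempty_iff_ne_empty.2 hκ⟩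
  obtain ⟨hS, hT, hSf, hTf, -⟩ := pair_structure hG hpd
  obtain ⟨X, W, Y, W', hX, hXf, g, hg⟩ : ∃ X W Y W', Side X W Y W' ∧ SideFull X W Y W' ∧
      ∃ g : G, M = X.map (MulAut.conj g).toMonoidHom := by
    rcases hpd.cover M hM (Set.nonempty_iff_ne_empty.2 hκ) with h | h <;>
      simp only [NotConj, not_forall, not_not] at h
    · exact ⟨S, W₁, U, W₂, hS, hSf, h⟩
    · exact ⟨T, W₂, V, W₁, hT, hTf, h⟩
  obtain ⟨hxs, hx1⟩ := hx
  have hx1 : x ≠ 1 := hx1
  set y := g⁻¹ * x * g with hy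
  have hys : y ∈ Cfsg.sigmaCore X := by
    have h : x ∈ Cfsg.sigmaCore M := hxs
    rw [hg, sigmaCore_conj, mem_map_conj_iff] at h
    exact h
  have hxy : x = g * y * g⁻¹ := by rw [hy]; group
  have hy1 : y ≠ 1 := fun h => hx1 (by rw [hxy, h]; group)
  rcases centralizer_le_or_exists_prime hG hX hXf hys hy1 with h | ⟨s, hs, hsy, hsσ, hcyc⟩
  · exact hxM (by rw [hxy, centralizer_singleton_conj, hg]; exact Subgroup.map_mono h)
  obtain ⟨N, -, huniq, -, -, -, -, hd⟩ := Cfsg.Agent.S1375.result hG M hM x hxs hx1 hxM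
  obtain rfl := huniq L hL.coatom hCL
  obtain ⟨U', hLd⟩ := decomposition_of_kappa hG hL
  obtain ⟨-, hxA, -⟩ := hd ⊥ U' hLd
  have hsx : s ∣ orderOf x := by
    rw [hxy, ← MulAut.conj_apply, MulEquiv.orderOf_eq]; exact hsy
  have hsL : s ∉ Cfsg.sigma L := fun h => by
    obtain ⟨k, hk⟩ := (Cfsg.Agent.S1378.result hG).2 M L hM hL.coatom
      ⟨s, by rw [hg, sigma_conj]; exact hsσ, h⟩
    exact hκ (kappa_eq_empty_of_conj hk hL.kappa_eq)
  exact Set.notMem_empty s (hL.kappa_eq ▸ mem_kappa_of_cyclic hs hsx hxA.1 hsL hcyc)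

/-- Every maximal subgroup with empty `κ` is a Frobenius group. -/
theorem isFrob_of_isFType {M : Subgroup G} (hM : IsFType M) : IsFrob M :=
  isFrob_of_sup hG (fun _ _ hL hM' _ hx hC hCL => supported_isFType' hG hL hM' hx hC hCL) hM

end CfsgLib.FT
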