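import Cfsg.Agent.Lib.FT.LThree
import Cfsg.Agent.Lib.FT.LTwo
import Cfsg.Agent.Lib.FT.Supported
import Cfsg.Agent.Lib.FT.NotAllF
import Cfsg.Agent.Lib.FT.SideModule
import Cfsg.Agent.S1472
import Cfsg.Prelude.Def_OddOrder

/-!
FT module Final: no minimal simple group of odd order; the odd order theorem.
-/

set_option autoImplicit false

namespace CfsgLib.FT

open Subgroup

universe u

private theorem le_normalizer_fittingHallOf {G : Type u} [Group G] (M : Subgroup G) :
    M ≤ normalizer (Cfsg.fittingHallOf M : Set G) := by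
  intro m hm
  rw [mem_normalizer_iff]
  intro x
  constructor
  · rintro ⟨a, ha, rfl⟩
    exact ⟨⟨m, hm⟩ * a * ⟨m, hm⟩⁻¹, (Cfsg.fittingHall_normal (M : Type u)).conj_mem a ha _, rfl⟩
  · rintro ⟨a, ha, hax⟩
    refine ⟨⟨m, hm⟩⁻¹ * a * ⟨m, hm⟩, ?_, ?_⟩
    · simpa using (Cfsg.fittingHall_normal (M : Type u)).conj_mem a ha ⟨m, hm⟩⁻¹
    · simp only [map_mul, map_inv, Subgroup.coe_subtype] at hax ⊢
      rw [hax]
      group

variable {G : Type u} [Group G] [Finite G]

/-- The last step: `W₂ ^ y` normalises `U`, so `|W₂| ≤ |W₁|`. -/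
private theorem contradiction_of_lt (hG : Cfsg.IsMinSimpleOddOrder G) {S T W₁ W₂ U V : Subgroup G}
    (hpd : PairData S T W₁ W₂ U V)
    (hS : Side S W₁ U W₂) (hT : Side T W₂ V W₁)
    (hS' : SideFull S W₁ U W₂) (hT' : SideFull T W₂ V W₁)
    (hS0 : fixCore S U = ⊥) (hT0 : fixCore T V = ⊥) (hlt : Nat.card W₁ < Nat.card W₂)
    (hcs : ¬ Cfsg.IsOfTypeII T → CoreSide T W₂ V W₁) : False := by
  classical
  obtain ⟨L, hL⟩ := exists_LData hG (fun M hM => isFrob_of_isFType hG hM) hpd hS hT hS' hT' hS0 hT0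
  obtain ⟨y, hy, hyU⟩ : ∃ y ∈ Cfsg.fittingHallOf T,
      W₂.map (MulAut.conj y).toMonoidHom ≤ normalizer (U : Set G) := by
    by_cases hII : Cfsg.IsOfTypeII T
    · exact normalizer_two hG (fun M hM => isFrob_of_isFType hG hM) hpd hII hS hT hS' hT' hS0 hT0
        hlt hL
    · exact normalizer_three hG hpd (hcs hII) hS hT hS' hT' hS0 hT0 hlt hL
  haveI : Fact (Nat.card W₂).Prime := ⟨hS.p_prime⟩
  haveI : Fact (Nat.card W₁).Prime := ⟨hS.q_prime⟩
  obtain ⟨F, hF, hFf, f, ψ, hcard, hf, hfadd, hψ, hψmul, hψinj, hW⟩ :=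
    field hG.1 hS hS' hS0
  letI := hF
  letI := hFf
  have hQ : IsMulCommutative (Cfsg.fittingHallOf T) :=
    commutator_self_eq_bot_iff.1 (le_bot_iff.1 (hT0 ▸ hT.quot_comm))
  have hQp : (Nat.card (Cfsg.fittingHallOf T)).Coprime (Nat.card W₂) :=
    hT.coprime_W.coprime_dvd_left (Subgroup.card_dvd_of_le hpd.typeT.U_compl.1)
  have hW₂T : W₂ ≤ T := hpd.typeT.W₁_compl.2.1
  have hUS : U ≤ S := hpd.typeS.U_compl.2.1.trans hpd.typeS.W₁_compl.1
  refine absurd (Cfsg.Agent.S1472.result (Nat.card W₂) (Nat.card W₁) hS'.coprime F hcard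
    (Cfsg.fittingHallOf S) U (Cfsg.fittingHallOf T) f ψ hf hfadd
    (hUS.trans (le_normalizer_fittingHallOf S)) hψ hψmul hψinj hS'.card hQ hQp ?_ y hy ?_)
    (not_le.2 hlt)
  · intro x hx hfx
    exact le_normalizer_fittingHallOf T (hW₂T ((hW x hx).2 hfx))
  · intro x hx hfx
    exact hyU (Subgroup.mem_map_of_mem (MulAut.conj y).toMonoidHom ((hW x hx).2 hfx))

theorem no_minSimpleOdd {G : Type u} [Group G] (hG : Cfsg.IsMinSimpleOddOrder G) : False := by
  haveI : Finite G := Nat.finite_of_card_ne_zero hG.1.pos.ne'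
  obtain ⟨S, T, W₁, W₂, U, V, hpd⟩ := exists_pairData hG (exists_kappa_nonempty hG)
  obtain ⟨hS, hT, hS', hT', hS0, hT0, hcs⟩ := pair_structure hG hpd
  rcases lt_trichotomy (Nat.card W₁) (Nat.card W₂) with hlt | heq | hgt
  · exact contradiction_of_lt hG hpd hS hT hS' hT' hS0 hT0 hlt fun h => (hcs h).1
  · have hcop := (pair_basics hG hpd).2.1
    rw [heq, Nat.coprime_self] at hcop
    exact hS.p_prime.one_lt.ne' hcop
  · by_cases hII : Cfsg.IsOfTypeII T
    · exact contradiction_of_lt hG (pair_swap hG hpd hII) hT hS hT' hS' hT0 hS0 hgt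
        fun h => absurd hpd.typeII h
    · exact absurd (hcs hII).2 hgt.asymm

/-- The odd order theorem. -/
theorem solvable_of_odd {G : Type u} [Group G] [Finite G] (hG : Odd (Nat.card G)) :
    Group.IsSolvable G := by
  suffices H : ∀ (n : ℕ) (G : Type u) [Group G] [Finite G],
      Nat.card G = n → Odd (Nat.card G) → Group.IsSolvable G from H _ G rfl hG
  clear hG
  intro n
  induction n using Nat.strong_induction_on with
  | _ n ih =>
    intro G _ _ hn hG
    have hsub : ∀ H : Subgroup G, H ≠ ⊤ → Group.IsSolvable H := fun H hH =>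
      ih (Nat.card H) (hn ▸ lt_of_le_of_ne (Nat.le_of_dvd Nat.card_pos H.card_subgroup_dvd_card)
        (fun h => hH (H.eq_top_of_card_eq h))) H rfl
        (hG.of_dvd_nat H.card_subgroup_dvd_card)
    rcases subsingleton_or_nontrivial G with h | h
    · infer_instance
    by_cases hN : ∃ N : Subgroup G, N.Normal ∧ N ≠ ⊥ ∧ N ≠ ⊤
    · obtain ⟨N, hNn, hbot, htop⟩ := hN
      haveI := hsub N htop
      have hdvd : Nat.card (G ⧸ N) ∣ Nat.card G := Subgroup.card_quotient_dvd_card N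
      have hlt : Nat.card (G ⧸ N) < n := by
        rw [← hn, Subgroup.card_eq_card_quotient_mul_card_subgroup N]
        exact lt_mul_of_one_lt_right Nat.card_pos ((Subgroup.one_lt_card_iff_ne_bot N).2 hbot)
      haveI := ih _ hlt (G ⧸ N) rfl (hG.of_dvd_nat hdvd)
      exact Group.isSolvable_of_ker_le_range N.subtype (QuotientGroup.mk' N)
        (by rw [QuotientGroup.ker_mk', Subgroup.range_subtype])
    · by_cases hc : IsMulCommutative G
      · exact Group.isSolvable_of_comm fun a b => mul_comm' a b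
      · refine (no_minSimpleOdd (G := G) ⟨hG, ⟨⟨fun N hNn => ?_⟩, hc, hsub⟩⟩).elim
        by_contra hne
        rw [not_or] at hne
        exact hN ⟨N, hNn, hne.1, hne.2⟩

end CfsgLib.FT
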