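import Cfsg.Agent.Lib.FT.CorePins

/-!
PROJECT FT, helpers for CoreAdjoin: the linear family avoids the grid, and the coefficients of
`τ (μ - θ ζ)` on the grid have square sum at least `w`, with a single column in the case of equality.
-/

set_option autoImplicit false
set_option linter.style.haveILetI false
set_option linter.unusedSectionVars false

open ComplexConjugate

namespace CfsgLib.FT

open Subgroup CoreFamAux

universe u

/-- The arithmetic of the grid part. -/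
theorem grid_arith {A B : Type*} [Fintype A] [Fintype B] [DecidableEq B] (d : A → B → ℤ)
    {o g₀ g₁ : B} (hg₀ : g₀ ≠ o) (hg₁ : g₁ ≠ o) (hne : g₀ ≠ g₁) {s : ℤ} (hs : s = 1 ∨ s = -1)
    (hd : ∀ a, d a g₀ - d a g₁ = s)
    (hrect : ∀ a a' g g', d a g + d a' g' = d a g' + d a' g) :
    (Fintype.card A : ℤ) ≤ ∑ a, ∑ g, d a g ^ 2 ∧
      (∑ a, ∑ g, d a g ^ 2 ≤ Fintype.card A → Nonempty A →
        ∃ (g : B) (s' : ℤ), g ≠ o ∧ (s' = 1 ∨ s' = -1) ∧ ∀ a b, d a b = if b = g then s' else 0) := by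
  have hone : ∀ a, 1 ≤ d a g₀ ^ 2 + d a g₁ ^ 2 := by
    intro a
    have h := hd a
    by_contra hc
    have h0 : d a g₀ = 0 := by nlinarith
    have h1 : d a g₁ = 0 := by nlinarith
    rcases hs with e | e <;> omega
  have hrow : ∀ a, d a g₀ ^ 2 + d a g₁ ^ 2 ≤ ∑ g, d a g ^ 2 := fun a => by
    rw [← Finset.sum_pair (f := fun g => d a g ^ 2) hne]
    exact Finset.sum_le_sum_of_subset_of_nonneg (Finset.subset_univ _) fun g _ _ => sq_nonneg _
  have hge : ∀ a, 1 ≤ ∑ g, d a g ^ 2 := fun a => (hone a).trans (hrow a)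
  refine ⟨?_, fun hle hA => ?_⟩
  · have h := Finset.sum_le_sum (s := Finset.univ) fun a _ => hge a
    simpa using h
  have heq : ∀ a, ∑ g, d a g ^ 2 = 1 := by
    intro a
    have h0 : ∑ a, (∑ g, d a g ^ 2 - 1) = 0 := by
      refine le_antisymm ?_ (Finset.sum_nonneg fun a _ => by linarith [hge a])
      rw [Finset.sum_sub_distrib]
      simp only [Finset.sum_const, Finset.card_univ, nsmul_eq_mul, mul_one]
      linarith
    have := (Finset.sum_eq_zero_iff_of_nonneg fun a _ => by linarith [hge a]).1 h0 a (Finset.mem_univ _)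
    linarith
  have hrest : ∀ a b, b ≠ g₀ → b ≠ g₁ → d a b = 0 := by
    intro a b hb0 hb1
    have h3 : d a b ^ 2 + (d a g₀ ^ 2 + d a g₁ ^ 2) ≤ ∑ g, d a g ^ 2 := by
      rw [← Finset.sum_pair (f := fun g => d a g ^ 2) hne,
        ← Finset.sum_insert (f := fun g => d a g ^ 2) (a := b) (by simp [hb0, hb1])]
      exact Finset.sum_le_sum_of_subset_of_nonneg (Finset.subset_univ _) fun g _ _ => sq_nonneg _
    have := hone a
    have := heq a
    nlinarith
  obtain ⟨a₀⟩ := hA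
  have hconst : ∀ a b, d a b = d a₀ b := fun a b => by
    have h := hrect a a₀ b o
    rw [hrest a o hg₀.symm hg₁.symm, hrest a₀ o hg₀.symm hg₁.symm] at h
    linarith
  have h2 : d a₀ g₀ ^ 2 + d a₀ g₁ ^ 2 ≤ 1 := (hrow a₀).trans (heq a₀).le
  have hb : -1 ≤ d a₀ g₀ ∧ d a₀ g₀ ≤ 1 := ⟨by nlinarith, by nlinarith⟩
  have hb' : -1 ≤ d a₀ g₁ ∧ d a₀ g₁ ≤ 1 := ⟨by nlinarith, by nlinarith⟩
  by_cases h0 : d a₀ g₁ = 0
  · refine ⟨g₀, s, hg₀, hs, fun a b => ?_⟩
    rw [hconst]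
    by_cases hb0 : b = g₀
    · subst hb0
      rw [if_pos rfl]
      have := hd a₀
      omega
    · rw [if_neg hb0]
      by_cases hb1 : b = g₁
      · exact hb1 ▸ h0
      · exact hrest a₀ b hb0 hb1
  · have hg00 : d a₀ g₀ = 0 := by
      by_contra hc
      have : 1 ≤ d a₀ g₀ ^ 2 := by nlinarith [sq_pos_of_ne_zero hc]
      have : 1 ≤ d a₀ g₁ ^ 2 := by nlinarith [sq_pos_of_ne_zero h0]
      omega
    refine ⟨g₁, -s, hg₁, by omega, fun a b => ?_⟩
    rw [hconst]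
    by_cases hb1 : b = g₁
    · subst hb1
      rw [if_pos rfl]
      have := hd a₀
      omega
    · rw [if_neg hb1]
      by_cases hb0 : b = g₀
      · exact hb0 ▸ hg00
      · exact hrest a₀ b hb0 hb1

variable {G : Type u} [Group G] [Fintype G] (hG : Cfsg.IsMinSimpleOddOrder G)
  {T W V W' : Subgroup G} [Fintype T]
include hG

/-- `linChars T` sits in the family over `T'`. -/
theorem linChars_above : linChars T ⊆ Cfsg.inducedIrrAbove (derIn T) ⊥ :=
  OddChar.Above.above_mono _ bot_le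

theorem linMap_sub {f : (↥T → ℂ) → (G → ℂ)} (hf : IsLinMap T f) {a b : ↥T → ℂ}
    (ha : a ∈ linChars T) (hb : b ∈ linChars T) : f (a - b) = f a - f b := by
  have h1 := OddChar.mem_zspan_self ha
  have h2 := OddChar.mem_zspan_self hb
  have h3 := hf.1.1 (a - b) (Submodule.sub_mem _ h1 h2) b h2
  rw [sub_add_cancel] at h3
  exact eq_sub_of_add_eq h3.symm

theorem linMap_orthonormal (h : CoreSide T W V W') {f : (↥T → ℂ) → (G → ℂ)} (hf : IsLinMap T f)
    {a b : ↥T → ℂ} (ha : a ∈ linChars T) (hb : b ∈ linChars T) [Decidable (a = b)] :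
    Cfsg.classInner (f a) (f b) = if a = b then 1 else 0 := by
  rw [hf.1.2.2.1 a (OddChar.mem_zspan_self ha) b (OddChar.mem_zspan_self hb)]
  split_ifs with e
  · subst e
    exact Char.classInner_irr_self (linChars_mem hG h a ha).1
  · exact h.above_orth hG (linChars_above hG ha) (linChars_above hG hb) e

/-- The linear family avoids the grid. -/
theorem linMap_grid_orth (h : CoreSide T W V W') {χ : (↥(W ⊔ W') →* ℂˣ) → (G → ℂ)}
    (hχ : Cfsg.IsCyclicTIFamily W W' χ) {f : (↥T → ℂ) → (G → ℂ)} (hf : IsLinMap T f)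
    {ξ : ↥T → ℂ} (hξ : ξ ∈ linChars T) (ω : ↥(W ⊔ W') →* ℂˣ) :
    Cfsg.classInner (f ξ) (χ ω) = 0 := by
  classical
  have hS := linChars_above hG hξ
  have hξc : Cfsg.conjFun ξ ∈ linChars T := OddChar.Above.above_conj _ _ hξ
  have hne : Cfsg.conjFun ξ ≠ ξ := h.above_conj_ne hG hS
  obtain ⟨μ, hμ, -, hτ, k1, k2⟩ := h.irr_image hG hχ hS (linChars_mem hG h ξ hξ).1
  have hmem : ξ - Cfsg.conjFun ξ ∈ Cfsg.zspanOn (linChars T) {1}ᶜ := by
    refine ⟨Submodule.sub_mem _ (OddChar.mem_zspan_self hξ) (OddChar.mem_zspan_self hξc), fun x hx => ?_⟩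
    exact (h.sub_conj_mem hG hS).2 x hx
  rw [← hf.2 _ hmem, linMap_sub hG hf hξ hξc] at hτ
  have h1 : Cfsg.classInner (f ξ) (f ξ - f (Cfsg.conjFun ξ)) = 1 := by
    rw [Char.classInner_sub_right, linMap_orthonormal hG h hf hξ hξ,
      linMap_orthonormal hG h hf hξ hξc, if_pos rfl, if_neg (Ne.symm hne), sub_zero]
  rw [hτ, Char.classInner_sub_right] at h1
  have hgen := hf.1.2.2.2 ξ (OddChar.mem_zspan_self hξ)
  have hnorm : Cfsg.classInner (f ξ) (f ξ) = 1 := by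
    rw [linMap_orthonormal hG h hf hξ hξ, if_pos rfl]
  have hμc := OddChar.isIrrCharacter_conjFun hμ
  rcases OddChar.irr_or_neg_of_norm_one hgen hnorm with hi | hi
  · by_cases e : Cfsg.classInner (f ξ) μ = 0
    · rw [e, zero_sub] at h1
      rw [Char.eq_of_classInner_ne_zero hi hμc (fun e' => by simp [e'] at h1)]
      exact k2 ω
    · rw [Char.eq_of_classInner_ne_zero hi hμ e]
      exact k1 ω
  · rw [← neg_neg (f ξ), Char.classInner_neg_left, neg_eq_zero]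
    by_cases e : Cfsg.classInner (f ξ) μ = 0
    · rw [e, zero_sub] at h1
      rw [Char.eq_of_classInner_ne_zero hi hμc (fun e' => by
        rw [Char.classInner_neg_left, neg_eq_zero] at e'; simp [e'] at h1)]
      exact k2 ω
    · rw [Char.eq_of_classInner_ne_zero hi hμ (fun e' => by
        rw [Char.classInner_neg_left, neg_eq_zero] at e'; exact e e')]
      exact k1 ω

/-- The data of `τ (μ - θ ζ)`. -/
theorem adjoin_data (h : CoreSide T W V W') {μ ζ : ↥T → ℂ} {θ : ℕ} (hμ : IsFixedInd T W μ θ)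
    (hζ : ζ ∈ linChars T) :
    μ - (θ : ℂ) • ζ ∈ Cfsg.zspanOn (Cfsg.inducedIrrAbove (derIn T) ⊥) {1}ᶜ ∧
      Cfsg.IsGeneralizedCharacter G (tauCore T (μ - (θ : ℂ) • ζ)) ∧
      Cfsg.classInner (tauCore T (μ - (θ : ℂ) • ζ)) (tauCore T (μ - (θ : ℂ) • ζ)) =
        ((Nat.card W + θ ^ 2 : ℕ) : ℂ) ∧
      (∀ ξ ∈ linChars T, Cfsg.classInner μ ξ = 0) ∧
      ∀ w : ↥(W ⊔ W'), (w : G) ∉ W → (w : G) ∉ W' → tauCore T (μ - (θ : ℂ) • ζ) w = 0 := by
  classical
  have hy := h.hyp hG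
  obtain ⟨hμS, hμn, hμ1⟩ := hμ
  have hζS := linChars_above hG hζ
  have horth : ∀ ξ ∈ linChars T, Cfsg.classInner μ ξ = 0 := fun ξ hξ => by
    refine h.above_orth hG hμS (linChars_above hG hξ) fun e => ?_
    rw [e, Char.classInner_irr_self (linChars_mem hG h ξ hξ).1] at hμn
    have h1 : (1 : ℕ) = Nat.card W := by exact_mod_cast hμn
    have := three_le hy
    rw [h.card_W hG] at this
    omega
  have hmem : μ - (θ : ℂ) • ζ ∈ Cfsg.zspanOn (Cfsg.inducedIrrAbove (derIn T) ⊥) {1}ᶜ := by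
    refine ⟨?_, fun x hx => ?_⟩
    · rw [Nat.cast_smul_eq_nsmul]
      exact Submodule.sub_mem _ (OddChar.mem_zspan_self hμS)
        (nsmul_mem (OddChar.mem_zspan_self hζS) θ)
    · have hx1 : x = 1 := by simpa using hx
      subst hx1
      rw [Pi.sub_apply, Pi.smul_apply, smul_eq_mul, hμ1, (linChars_mem hG h ζ hζ).2]
      ring
  obtain ⟨hiso, -⟩ := h.tauCore_isometry hG
  refine ⟨hmem, hiso.2.2.2 _ hmem, ?_, horth, fun w h1 h2 => ?_⟩
  · have hζμ : Cfsg.classInner ζ μ = 0 := by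
      rw [← Char.classInner_conj_symm, horth ζ hζ, map_zero]
    rw [hiso.2.2.1 _ hmem _ hmem]
    simp only [Char.classInner_sub_left, Char.classInner_sub_right, Char.classInner_smul_left,
      Char.classInner_smul_right, hμn, horth ζ hζ, hζμ,
      Char.classInner_irr_self (linChars_mem hG h ζ hζ).1, map_natCast, Nat.cast_add, Nat.cast_pow]
    ring
  · have hcl := (span_above hmem.1).2.1
    rw [← h.tauA0_eq hG hcl (h.zero_off_core hmem), h.tauA0_apply hG hcl h1 h2]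
    refine h.zero_off_core hmem _ fun hc => h1 ?_
    have hwd : (w : G) ∈ ⁅T, T⁆ := h.core_eq ▸ (show (w : G) ∈ Cfsg.sigmaCore T from hc.1)
    refine absurd ?_ h2
    obtain ⟨⟨a, ha⟩, ha1⟩ := ne_bot_iff_exists_ne_one.1 h.typeP.W₁_ne
    refine le_of_eq (h.typeP.W₂_centralizer a ha (fun e => ha1 (Subtype.ext e)))
      ⟨hwd, mem_centralizer_singleton_iff.2 ?_⟩
    haveI := h.typeP.selfNormalizing.2.2.2.2.1
    letI : CommGroup ↥(W ⊔ W') := IsCyclic.commGroup
    exact congrArg Subtype.val (mul_comm w ⟨a, mem_sup_left ha⟩)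

/-- The part of `τ (μ - θ ζ)` on the grid. -/
theorem adjoin_grid (h : CoreSide T W V W') {χ : (↥(W ⊔ W') →* ℂˣ) → (G → ℂ)}
    (hχ : Cfsg.IsCyclicTIFamily W W' χ) {μ ζ : ↥T → ℂ} {θ : ℕ} (hμ : IsFixedInd T W μ θ)
    (hζ : ζ ∈ linChars T) [Fintype (↥(W ⊔ W') →* ℂˣ)] :
    ∃ d : (↥(W ⊔ W') →* ℂˣ) → ℤ,
      (∀ ω, Cfsg.classInner (tauCore T (μ - (θ : ℂ) • ζ)) (χ ω) = (d ω : ℂ)) ∧
      (Nat.card W : ℤ) ≤ ∑ ω, d ω ^ 2 ∧
      (∑ ω, d ω ^ 2 ≤ (Nat.card W : ℤ) → ∃ (s : ℤ) (φ : ↥(W ⊔ W') →* ℂˣ), (s = 1 ∨ s = -1) ∧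
        ¬ TrivialOn φ W' ∧ ∑ ω, ((d ω : ℂ)) • χ ω = (s : ℂ) • colSum W W' χ φ) := by
  classical
  obtain ⟨hmem, hgen, -, horth, hV⟩ := adjoin_data hG h hμ hζ
  have hW := h.typeP.selfNormalizing
  choose d hd using fun ω => OddChar.Coh.exists_int_inner hgen
    (PairPins.isGeneralized_of_signed (hχ.irr_or_neg ω))
  refine ⟨d, hd, ?_⟩
  obtain ⟨s, θ₀, M, hs, hM, hMc, hMcol, hMall, hpin⟩ := exists_corePins hG h hχ
  obtain ⟨-, φ₀, hφ₀, rfl⟩ := hMall μ θ hμ
  haveI := hW.2.2.2.2.1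
  haveI : IsCyclic W := isCyclic_of_injective (Subgroup.inclusion (le_sup_left (b := W')))
    (Subgroup.inclusion_injective _)
  haveI : Finite (W →* ℂˣ) := OddChar.finite_linearChar _
  haveI : Finite (W' →* ℂˣ) := OddChar.finite_linearChar _
  letI := Fintype.ofFinite (W →* ℂˣ)
  letI := Fintype.ofFinite (W' →* ℂˣ)
  obtain ⟨i, j, hi, hj, hbij⟩ := OddChar.exists_dual hW.2.2.1 hW.2.2.2.1
  let e := Equiv.ofBijective _ hbij
  have hsame : ∀ {f : W →* ℂˣ} {g : W' →* ℂˣ} (x : ↥(W ⊔ W')), (x : G) ∈ W' →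
      (i f * j g) x = j g x := fun {f g} x hx => by simp [hi f x hx]
  have hjinj : ∀ {g g' : W' →* ℂˣ}, (∀ x : ↥(W ⊔ W'), (x : G) ∈ W' → j g x = j g' x) → g = g' := by
    intro g g' hgg
    have h1 : j g = j g' := OddChar.sup_hom_ext (fun w hw => by rw [hj g w hw, hj g' w hw]) hgg
    exact congrArg Prod.snd (hbij.1 (a₁ := (1, g)) (a₂ := (1, g'))
      (show i 1 * j g = i 1 * j g' by rw [h1]))
  obtain ⟨⟨f₀, g₀⟩, e0⟩ := hbij.2 φ₀
  simp only at e0
  obtain ⟨⟨f₁, g₁⟩, e1⟩ := hbij.2 φ₀⁻¹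
  simp only at e1
  obtain ⟨⟨fo, o⟩, eo⟩ := hbij.2 1
  simp only at eo
  have hodd : Odd (Nat.card ↥(W ⊔ W')) := hG.1.of_dvd_nat (card_subgroup_dvd_card _)
  have hg₀ : g₀ ≠ o := fun e2 => hφ₀ fun x hx => by
    rw [← e0, hsame x hx, e2, ← hsame (f := fo) x hx, eo, MonoidHom.one_apply]
  have hg₁ : g₁ ≠ o := fun e2 => hφ₀ fun x hx => by
    have h1 : φ₀⁻¹ x = 1 := by rw [← e1, hsame x hx, e2, ← hsame (f := fo) x hx, eo, MonoidHom.one_apply]
    simpa using h1
  have hφi : ¬ TrivialOn φ₀⁻¹ W' := fun h1 => hφ₀ fun x hx => by simpa using h1 x hx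
  have hne : g₀ ≠ g₁ := fun e2 => hφ₀ fun x hx => by
    have h1 : φ₀ x = (φ₀ x)⁻¹ := by
      rw [← MonoidHom.inv_apply, ← e0, hsame x hx]
      nth_rewrite 1 [e2]
      rw [← hsame (f := f₁) x hx, e1, ← e0]
    have h4 : φ₀ x ^ 2 = 1 := by rw [sq]; nth_rewrite 1 [h1]; exact inv_mul_cancel _
    have h5 : orderOf (φ₀ x) ∣ 2 := orderOf_dvd_of_pow_eq_one h4
    have h6 : Odd (orderOf (φ₀ x)) :=
      hodd.of_dvd_nat ((orderOf_map_dvd φ₀ x).trans (orderOf_dvd_natCard x))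
    rcases (Nat.dvd_prime Nat.prime_two).1 h5 with e | e
    · exact orderOf_eq_one_iff.1 e
    · rw [e] at h6
      exact absurd h6 (by decide)
  have hcol : ∀ (φ : ↥(W ⊔ W') →* ℂˣ) (g : W' →* ℂˣ), (∀ x : ↥(W ⊔ W'), (x : G) ∈ W' → φ x = j g x) →
      colSum W W' χ φ = ∑ f, χ (i f * j g) := by
    intro φ g hg
    have hinj : Function.Injective fun f => i f * j g := fun a b e2 =>
      congrArg Prod.fst (hbij.1 (a₁ := (a, g)) (a₂ := (b, g)) e2)
    rw [colSum, ← Finset.sum_image (f := χ) hinj.injOn, ← finsum_mem_coe_finset]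
    refine finsum_mem_congr ?_ fun _ _ => rfl
    ext ω
    simp only [Finset.coe_image, Set.mem_image, Finset.coe_univ, Set.mem_univ, true_and,
      Set.mem_ofPred_eq]
    constructor
    · intro hω
      obtain ⟨⟨f, g'⟩, rfl⟩ := hbij.2 ω
      refine ⟨f, ?_⟩
      have : g' = g := hjinj fun x hx => by rw [← hg x hx, ← hsame (f := f) x hx]; exact hω x hx
      rw [this]
    · rintro ⟨f, rfl⟩ x hx
      rw [hsame x hx, hg x hx]
  have hrect : ∀ f f' g g', d (i f * j g) + d (i f' * j g') = d (i f * j g') + d (i f' * j g) := by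
    intro f f' g g'
    have h1 := Cfsg.Agent.S1506.result W W' hW χ hχ _ (Char.IsGeneralizedCharacter.isClassFunction hgen)
      hV (i f) (i f') (j g) (j g')
      (fun w hw => ⟨hi _ w hw, hi _ w hw⟩) (fun w hw => ⟨hj _ w hw, hj _ w hw⟩)
    simp only [hd] at h1
    exact_mod_cast h1
  have hk0 : ∀ x : ↥(W ⊔ W'), (x : G) ∈ W' → φ₀ x = j g₀ x := fun x hx => by rw [← e0, hsame x hx]
  have hk1 : ∀ x : ↥(W ⊔ W'), (x : G) ∈ W' → φ₀⁻¹ x = j g₁ x := fun x hx => by rw [← e1, hsame x hx]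
  have hμS := hμ.1
  have hsum : ∑ f, (d (i f * j g₀) - d (i f * j g₁)) = s * (Nat.card W : ℤ) := by
    have h1 : Cfsg.classInner (tauCore T (M φ₀ - (θ : ℂ) • ζ))
        (tauCore T (M φ₀ - Cfsg.conjFun (M φ₀))) = (Nat.card W : ℂ) := by
      rw [(h.tauCore_isometry hG).1.2.2.1 _ hmem _ (h.sub_conj_mem hG hμS)]
      have hcl : Cfsg.conjFun (M φ₀) ∈ Cfsg.inducedIrrAbove (derIn T) ⊥ :=
        OddChar.Above.above_conj _ _ hμS
      have z1 : Cfsg.classInner (M φ₀) (Cfsg.conjFun (M φ₀)) = 0 :=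
        h.above_orth hG hμS hcl (Ne.symm (h.above_conj_ne hG hμS))
      have z2 : Cfsg.classInner ζ (M φ₀) = 0 := by
        rw [← Char.classInner_conj_symm, horth ζ hζ, map_zero]
      have z3 : Cfsg.classInner ζ (Cfsg.conjFun (M φ₀)) = 0 := by
        refine h.above_orth hG (linChars_above hG hζ) hcl fun e2 => ?_
        have h3 := horth _ (OddChar.Above.above_conj _ _ hζ)
        rw [e2, OddChar.conjFun_conjFun, hμ.2.1] at h3
        exact Nat.cast_ne_zero.2 (Nat.card_pos (α := W)).ne' h3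
      simp only [Char.classInner_sub_left, Char.classInner_sub_right, Char.classInner_smul_left,
        hμ.2.1, z1, z2, z3]
      ring
    rw [← hMc, hpin φ₀ φ₀⁻¹ hφ₀ hφi, hcol φ₀ g₀ hk0, hcol φ₀⁻¹ g₁ hk1, ← Finset.sum_sub_distrib,
      Char.classInner_smul_right, Char.classInner_sum_right] at h1
    simp only [Char.classInner_sub_right, hd, map_intCast] at h1
    have h2 : s * ∑ f, (d (i f * j g₀) - d (i f * j g₁)) = (Nat.card W : ℤ) := by exact_mod_cast h1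
    rcases hs with e2 | e2 <;> subst e2 <;> linarith
  have hD : ∀ f, d (i f * j g₀) - d (i f * j g₁) = s := by
    intro f
    have hconst : ∀ f', d (i f' * j g₀) - d (i f' * j g₁) = d (i f * j g₀) - d (i f * j g₁) :=
      fun f' => by linarith [hrect f' f g₀ g₁]
    have hcard : (Finset.univ : Finset (W →* ℂˣ)).card = Nat.card W := by
      rw [Finset.card_univ, ← Nat.card_eq_fintype_card, OddChar.card_dual]
    rw [Finset.sum_congr rfl (fun f' _ => hconst f'), Finset.sum_const, hcard, nsmul_eq_mul,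
      mul_comm s] at hsum
    exact mul_left_cancel₀ (Nat.cast_ne_zero.2 Nat.card_pos.ne') hsum
  obtain ⟨hlow, hex⟩ := grid_arith (fun f g => d (i f * j g)) hg₀ hg₁ hne hs hD hrect
  have hcardW : (Fintype.card (W →* ℂˣ) : ℤ) = Nat.card W := by
    rw [← Nat.card_eq_fintype_card, OddChar.card_dual]
  have hsq : ∑ ω, d ω ^ 2 = ∑ f, ∑ g, d (i f * j g) ^ 2 := by
    rw [← e.sum_comp (fun ω => d ω ^ 2), Fintype.sum_prod_type]
    rfl
  rw [← hcardW, hsq]
  refine ⟨hlow, fun hle => ?_⟩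
  obtain ⟨g, s', hg, hs', hdd⟩ := hex hle ⟨1⟩
  refine ⟨s', i 1 * j g, hs', fun ht => hg (hjinj fun x hx => ?_), ?_⟩
  · rw [← hsame (f := 1) x hx, ht x hx, ← hsame (f := fo) x hx, eo, MonoidHom.one_apply]
  · rw [← e.sum_comp (fun ω => (d ω : ℂ) • χ ω), Fintype.sum_prod_type,
      hcol (i 1 * j g) g (fun x hx => hsame x hx), Finset.smul_sum]
    refine Finset.sum_congr rfl fun f _ => ?_
    show ∑ g', ((d (i f * j g') : ℤ) : ℂ) • χ (i f * j g') = _
    rw [Finset.sum_eq_single g (fun g' _ hg' => by simp [hdd f g', hg']) (by simp), hdd f g,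
      if_pos rfl]

end CfsgLib.FT
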