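import Cfsg.Agent.Lib.FT.CoreFam
import Cfsg.Agent.Lib.FT.CoreAdjoinAux

/-!
FT module CoreAdjoin: `T` with `T' = T_σ`, complement `W` of order `w`, fixed line `W'` of prime order.

The adjoining of `α = μ - θ ζ`: coefficients `a - θ δ` on the family, grid part of norm `≥ w`
(CoreAdjoinAux), so `a (m a - 2θ) ≤ 0`, and for `a = 0` the rest is exactly a column.
-/

set_option autoImplicit false
set_option linter.style.haveILetI false
set_option linter.unusedSectionVars false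

namespace CfsgLib.FT

open Subgroup CoreFamAux

universe u

variable {G : Type u} [Group G] [Fintype G] (hG : Cfsg.IsMinSimpleOddOrder G)
  {T W V W' : Subgroup G} [Fintype T]
include hG

open Classical in
/-- The coefficients on the linear family. -/
theorem adjoin_coeff (h : CoreSide T W V W') {f : (↥T → ℂ) → (G → ℂ)} (hf : IsLinMap T f)
    {μ ζ : ↥T → ℂ} {θ : ℕ} (hμ : IsFixedInd T W μ θ) (hζ : ζ ∈ linChars T) :
    ∃ a : ℤ, ∀ ξ ∈ linChars T, Cfsg.classInner (tauCore T (μ - (θ : ℂ) • ζ)) (f ξ) =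
        (a : ℂ) - if ξ = ζ then (θ : ℂ) else 0 := by
  obtain ⟨hmem, hgen, -, horth, -⟩ := adjoin_data hG h hμ hζ
  obtain ⟨z, hz⟩ := OddChar.Coh.exists_int_inner hgen (hf.1.2.2.2 ζ (OddChar.mem_zspan_self hζ))
  refine ⟨z + θ, fun ξ hξ => ?_⟩
  have hdiff : Cfsg.classInner (tauCore T (μ - (θ : ℂ) • ζ)) (f ξ - f ζ) =
      (θ : ℂ) - if ξ = ζ then (θ : ℂ) else 0 := by
    have hm : ξ - ζ ∈ Cfsg.zspanOn (linChars T) {1}ᶜ := by
      refine ⟨Submodule.sub_mem _ (OddChar.mem_zspan_self hξ) (OddChar.mem_zspan_self hζ),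
        fun x hx => ?_⟩
      have hx1 : x = 1 := by simpa using hx
      subst hx1
      rw [Pi.sub_apply, (linChars_mem hG h ξ hξ).2, (linChars_mem hG h ζ hζ).2, sub_self]
    rw [← linMap_sub hG hf hξ hζ, hf.2 _ hm,
      (h.tauCore_isometry hG).1.2.2.1 _ hmem _ (OddChar.Coh.zspanOn_mono (linChars_above hG) hm)]
    simp only [Char.classInner_sub_left, Char.classInner_sub_right, Char.classInner_smul_left,
      horth ξ hξ, horth ζ hζ, Char.classInner_irr_self (linChars_mem hG h ζ hζ).1]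
    by_cases e : ξ = ζ
    · subst e
      rw [if_pos rfl, Char.classInner_irr_self (linChars_mem hG h ξ hξ).1]
      ring
    · rw [if_neg e, h.above_orth hG (linChars_above hG hζ) (linChars_above hG hξ) (Ne.symm e)]
      ring
  rw [Char.classInner_sub_right, hz] at hdiff
  push_cast
  linear_combination hdiff

open Classical in
/-- Bessel on the linear family and the grid together. -/
theorem adjoin_bessel (h : CoreSide T W V W') {χ : (↥(W ⊔ W') →* ℂˣ) → (G → ℂ)}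
    (hχ : Cfsg.IsCyclicTIFamily W W' χ) {f : (↥T → ℂ) → (G → ℂ)} (hf : IsLinMap T f)
    {μ ζ : ↥T → ℂ} {θ : ℕ} (hμ : IsFixedInd T W μ θ) (hζ : ζ ∈ linChars T) {a : ℤ}
    (ha : ∀ ξ ∈ linChars T, Cfsg.classInner (tauCore T (μ - (θ : ℂ) • ζ)) (f ξ) =
      (a : ℂ) - if ξ = ζ then (θ : ℂ) else 0) :
    a * (a * Nat.card ↥(linChars T) - 2 * θ) ≤ 0 ∧
      (a = 0 → ∃ (s : ℤ) (φ : ↥(W ⊔ W') →* ℂˣ), (s = 1 ∨ s = -1) ∧ ¬ TrivialOn φ W' ∧
        tauCore T (μ - (θ : ℂ) • ζ) + (θ : ℂ) • f ζ = (s : ℂ) • colSum W W' χ φ) := by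
  have hfin := linChars_finite hG (T := T)
  haveI : Finite (↥(W ⊔ W') →* ℂˣ) := by
    haveI := h.typeP.selfNormalizing.2.2.2.2.1
    exact OddChar.finite_linearChar _
  letI := Fintype.ofFinite (↥(W ⊔ W') →* ℂˣ)
  obtain ⟨-, -, hnorm, -, -⟩ := adjoin_data hG h hμ hζ
  obtain ⟨d, hd, hlow, hex⟩ := adjoin_grid hG h hχ hμ hζ
  set β := tauCore T (μ - (θ : ℂ) • ζ) with hβ
  set L := hfin.toFinset with hL
  have hmemL : ∀ {ξ}, ξ ∈ L → ξ ∈ linChars T := fun {ξ} hξ => hfin.mem_toFinset.1 hξ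
  have hζL : ζ ∈ L := hfin.mem_toFinset.2 hζ
  let F : ((↥T → ℂ) ⊕ (↥(W ⊔ W') →* ℂˣ)) → G → ℂ := Sum.elim f χ
  let k : ((↥T → ℂ) ⊕ (↥(W ⊔ W') →* ℂˣ)) → ℝ :=
    Sum.elim (fun ξ => (a : ℝ) - if ξ = ζ then (θ : ℝ) else 0) fun ω => (d ω : ℝ)
  obtain ⟨hb1, hb2⟩ := OddChar.Coh.bessel (L.disjSum Finset.univ) F β
    (by
      intro i hi j hj hij
      rcases i with ξ | ω <;> rcases j with ξ' | ω' <;>
        simp only [Finset.inl_mem_disjSum, Finset.inr_mem_disjSum] at hi hj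
      · show Cfsg.classInner (f ξ) (f ξ') = 0
        rw [linMap_orthonormal hG h hf (hmemL hi) (hmemL hj), if_neg fun e => hij (by rw [e])]
      · exact linMap_grid_orth hG h hχ hf (hmemL hi) ω'
      · show Cfsg.classInner (χ ω) (f ξ') = 0
        rw [← Char.classInner_conj_symm, linMap_grid_orth hG h hχ hf (hmemL hj) ω, map_zero]
      · show Cfsg.classInner (χ ω) (χ ω') = 0
        rw [hχ.orthonormal, if_neg fun e => hij (by rw [e])])
    (fun _ => 1) k
    (by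
      intro i hi
      rcases i with ξ | ω <;> simp only [Finset.inl_mem_disjSum, Finset.inr_mem_disjSum] at hi
      · show Cfsg.classInner (f ξ) (f ξ) = _
        rw [linMap_orthonormal hG h hf (hmemL hi) (hmemL hi), if_pos rfl]; simp
      · show Cfsg.classInner (χ ω) (χ ω) = _
        rw [hχ.orthonormal, if_pos rfl]; simp)
    (fun _ _ => one_pos)
    (by
      intro i hi
      rcases i with ξ | ω <;> simp only [Finset.inl_mem_disjSum, Finset.inr_mem_disjSum] at hi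
      · show Cfsg.classInner β (f ξ) = _
        rw [ha ξ (hmemL hi)]
        simp only [k, Sum.elim_inl]
        split_ifs <;> simp
      · show Cfsg.classInner β (χ ω) = _
        rw [hd ω]
        simp [k])
  have hlin : ∑ ξ ∈ L, ((a : ℝ) - if ξ = ζ then (θ : ℝ) else 0) ^ 2 =
      (L.card : ℝ) * (a : ℝ) ^ 2 - 2 * a * θ + (θ : ℝ) ^ 2 := by
    have e1 : ∀ ξ : ↥T → ℂ, ((a : ℝ) - if ξ = ζ then (θ : ℝ) else 0) ^ 2 =
        (a : ℝ) ^ 2 + if ξ = ζ then -2 * (a : ℝ) * θ + (θ : ℝ) ^ 2 else 0 := fun ξ => by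
      split_ifs <;> ring
    simp only [e1, Finset.sum_add_distrib, Finset.sum_ite_eq', hζL, if_true, Finset.sum_const,
      nsmul_eq_mul]
    ring
  simp only [div_one, Finset.sum_disjSum, k, Sum.elim_inl, Sum.elim_inr, hlin, hnorm,
    Complex.natCast_re] at hb1 hb2
  have hlowR : (Nat.card W : ℝ) ≤ ∑ ω, (d ω : ℝ) ^ 2 := by exact_mod_cast hlow
  push_cast at hb1 hb2
  refine ⟨?_, fun h0 => ?_⟩
  · rw [Nat.card_eq_card_finite_toFinset hfin, ← hL]
    have : ((a * (a * (L.card : ℤ) - 2 * θ) : ℤ) : ℝ) ≤ 0 := by push_cast; nlinarith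
    exact_mod_cast this
  subst h0
  have hupR : ∑ ω, (d ω : ℝ) ^ 2 ≤ (Nat.card W : ℝ) := by push_cast at hb1; nlinarith
  obtain ⟨s, φ, hs, hφ, hsum⟩ := hex (by exact_mod_cast hupR)
  refine ⟨s, φ, hs, hφ, ?_⟩
  have heq := hb2 (by push_cast; nlinarith)
  rw [← hsum]
  nth_rewrite 1 [heq]
  simp only [F, Sum.elim_inl, Sum.elim_inr, Int.cast_zero, zero_sub]
  rw [Finset.sum_eq_single ζ (fun ξ _ hξ => by rw [if_neg hξ]; simp) (fun hh => absurd hζL hh),
    if_pos rfl]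
  push_cast
  rw [neg_smul]
  abel

open Classical in
theorem adjoin (h : CoreSide T W V W') {f : (↥T → ℂ) → (G → ℂ)} (hf : IsLinMap T f)
    {μ ζ : ↥T → ℂ} {θ : ℕ} (hμ : IsFixedInd T W μ θ) (hζ : ζ ∈ linChars T) :
    ∃ a : ℤ, (∀ ξ ∈ linChars T, Cfsg.classInner (tauCore T (μ - (θ : ℂ) • ζ)) (f ξ) =
        (a : ℂ) - if ξ = ζ then (θ : ℂ) else 0) ∧
      a * (a * Nat.card ↥(linChars T) - 2 * θ) ≤ 0 ∧
      (a = θ → Nat.card ↥(linChars T) = 2 → Linked T W) := by
  obtain ⟨χ, hχ⟩ := Cfsg.Agent.S1502.result W W' h.typeP.selfNormalizing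
    (hG.1.of_dvd_nat (card_subgroup_dvd_card _))
  obtain ⟨a, ha⟩ := adjoin_coeff hG h hf hμ hζ
  refine ⟨a, ha, (adjoin_bessel hG h hχ hf hμ hζ ha).1, fun hθ hm => ?_⟩
  subst hθ
  have hconj : ∀ ξ ∈ linChars T, Cfsg.conjFun ξ ∈ linChars T := fun ξ hξ =>
    OddChar.Above.above_conj _ _ hξ
  have hne : ∀ ξ ∈ linChars T, Cfsg.conjFun ξ ≠ ξ := fun ξ hξ =>
    h.above_conj_ne hG (linChars_above hG hξ)
  haveI : Finite ↥(linChars T) := (linChars_finite hG (T := T)).to_subtype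
  have htwo : linChars T = {ζ, Cfsg.conjFun ζ} := by
    refine (Set.eq_of_subset_of_ncard_le (Set.insert_subset_iff.2
      ⟨hζ, Set.singleton_subset_iff.2 (hconj ζ hζ)⟩) ?_ (linChars_finite hG (T := T))).symm
    rw [← Nat.card_coe_set_eq, hm, Set.ncard_pair (Ne.symm (hne ζ hζ))]
  have hcS : ∀ α ∈ Cfsg.zspan (linChars T), Cfsg.conjFun α ∈ Cfsg.zspan (linChars T) := by
    intro α hα
    induction hα using Submodule.span_induction with
    | mem φ hφ => exact OddChar.mem_zspan_self (hconj φ hφ)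
    | zero =>
      rw [show Cfsg.conjFun (0 : ↥T → ℂ) = 0 by funext z; simp [Cfsg.conjFun]]
      exact Submodule.zero_mem _
    | add x y _ _ hx hy =>
      rw [show Cfsg.conjFun (x + y) = Cfsg.conjFun x + Cfsg.conjFun y by
        funext z; simp [Cfsg.conjFun]]
      exact Submodule.add_mem _ hx hy
    | smul n x _ hx =>
      rw [show Cfsg.conjFun (n • x) = n • Cfsg.conjFun x by
        funext z; simp [Cfsg.conjFun]]
      exact Submodule.smul_mem _ n hx
  let g : (↥T → ℂ) → (G → ℂ) := fun α => -f (Cfsg.conjFun α)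
  have hg : IsLinMap T g := by
    refine ⟨⟨fun x hx y hy => ?_, fun x hx n => ?_, fun x hx y hy => ?_, fun x hx => ?_⟩, ?_⟩
    · show -f _ = -f _ + -f _
      rw [show Cfsg.conjFun (x + y) = Cfsg.conjFun x + Cfsg.conjFun y by
        funext z; simp [Cfsg.conjFun], hf.1.1 _ (hcS x hx) _ (hcS y hy), neg_add]
    · show -f _ = n • -f _
      rw [show Cfsg.conjFun (n • x) = n • Cfsg.conjFun x by
        funext z; simp [Cfsg.conjFun], hf.1.2.1 _ (hcS x hx) n, smul_neg]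
    · show Cfsg.classInner (-f _) (-f _) = _
      rw [Char.classInner_neg_left, Char.classInner_neg_right, neg_neg,
        hf.1.2.2.1 _ (hcS x hx) _ (hcS y hy)]
      obtain ⟨n, n', rfl⟩ := Submodule.mem_span_pair.1 (htwo ▸ hx)
      obtain ⟨m, m', rfl⟩ := Submodule.mem_span_pair.1 (htwo ▸ hy)
      have e1 : ∀ p q : ℤ, Cfsg.conjFun (p • ζ + q • Cfsg.conjFun ζ) = q • ζ + p • Cfsg.conjFun ζ :=
        fun p q => by funext z; simp [Cfsg.conjFun]; ring
      have i1 := Char.classInner_irr_self (linChars_mem hG h ζ hζ).1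
      have i2 := Char.classInner_irr_self (linChars_mem hG h _ (hconj ζ hζ)).1
      have i3 := Char.classInner_irr_of_ne (linChars_mem hG h ζ hζ).1
        (linChars_mem hG h _ (hconj ζ hζ)).1 (Ne.symm (hne ζ hζ))
      have i4 := Char.classInner_irr_of_ne (linChars_mem hG h _ (hconj ζ hζ)).1
        (linChars_mem hG h ζ hζ).1 (hne ζ hζ)
      rw [e1, e1]
      simp only [← OddChar.Coh.intCast_smul_eq, Char.classInner_add_left, Char.classInner_add_right,
        Char.classInner_smul_left, Char.classInner_smul_right, i1, i2, i3, i4, map_intCast]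
      ring
    · exact Char.IsGeneralizedCharacter.neg (hf.1.2.2.2 _ (hcS x hx))
    · intro α hα
      show -f (Cfsg.conjFun α) = _
      have h1 : Cfsg.conjFun α = -α := by
        obtain ⟨n, n', rfl⟩ := Submodule.mem_span_pair.1 (htwo ▸ hα.1)
        have hv := hα.2 1 (by simp)
        have hz1 := (linChars_mem hG h ζ hζ).2
        have hn : n + n' = 0 := by
          simp only [Pi.add_apply, zsmul_eq_mul, Pi.mul_apply, Pi.intCast_apply, hz1,
            (linChars_mem hG h _ (hconj ζ hζ)).2] at hv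
          have hw0 : (Nat.card W : ℂ) ≠ 0 := Nat.cast_ne_zero.2 Nat.card_pos.ne'
          have h2 : ((n + n' : ℤ) : ℂ) * (Nat.card W : ℂ) = 0 := by push_cast; linear_combination hv
          exact_mod_cast (mul_eq_zero.1 h2).resolve_right hw0
        obtain rfl : n' = -n := by omega
        funext z
        simp [Cfsg.conjFun]
      rw [h1]
      have h2 := hf.1.2.1 α hα.1 (-1)
      simp only [neg_smul, one_smul] at h2
      rw [h2, neg_neg, hf.2 α hα]
  refine ⟨g, μ, ζ, θ, hg, hμ, hζ, fun ξ hξ => ?_⟩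
  show Cfsg.classInner _ (-f (Cfsg.conjFun ξ)) = _
  rw [Char.classInner_neg_right, ha _ (hconj ξ hξ)]
  rw [htwo] at hξ
  rcases Set.mem_insert_iff.1 hξ with e | e
  · subst e
    rw [if_neg (hne ξ hζ), if_pos rfl]
    push_cast
    ring
  · rw [Set.mem_singleton_iff.1 e, OddChar.conjFun_conjFun, if_pos rfl, if_neg (hne ζ hζ)]
    push_cast
    ring

open Classical in
/-- In the linked case `τ α + θ f ζ` is a column, up to sign. -/
theorem linked_column (h : CoreSide T W V W') {χ : (↥(W ⊔ W') →* ℂˣ) → (G → ℂ)}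
    (hχ : Cfsg.IsCyclicTIFamily W W' χ) {f : (↥T → ℂ) → (G → ℂ)} (hf : IsLinMap T f)
    {μ ζ : ↥T → ℂ} {θ : ℕ} (hμ : IsFixedInd T W μ θ) (hζ : ζ ∈ linChars T)
    (hl : ∀ ξ ∈ linChars T, Cfsg.classInner (tauCore T (μ - (θ : ℂ) • ζ)) (f ξ) =
      if ξ = ζ then -(θ : ℂ) else 0) :
    ∃ (s : ℤ) (φ : ↥(W ⊔ W') →* ℂˣ), (s = 1 ∨ s = -1) ∧ ¬ TrivialOn φ W' ∧
      tauCore T (μ - (θ : ℂ) • ζ) + (θ : ℂ) • f ζ = (s : ℂ) •
        ∑ᶠ ω ∈ {ω : ↥(W ⊔ W') →* ℂˣ | ∀ x : ↥(W ⊔ W'), (x : G) ∈ W' → ω x = φ x}, χ ω :=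
  (adjoin_bessel hG h hχ hf hμ hζ (a := 0) fun ξ hξ => by
    rw [hl ξ hξ]; split_ifs <;> simp).2 rfl

end CfsgLib.FT
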