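import Cfsg.Agent.Lib.FT.CoreFamBase
import Cfsg.Agent.Lib.FT.Grid
import Cfsg.Agent.S1506
import Cfsg.Agent.S1518

/-!
PROJECT FT, helper for CoreFam: the Dade images of `φ - conj φ` for `φ` induced from `T'`: outside the grid
for irreducible `φ`, a column minus the conjugate column for the reducible ones.
-/

set_option autoImplicit false
set_option linter.style.haveILetI false
set_option linter.unusedSectionVars false

open ComplexConjugate

namespace CfsgLib.FT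

open Subgroup CoreFamAux

universe u

variable {G : Type u} [Group G] [Fintype G] (hG : Cfsg.IsMinSimpleOddOrder G)
  {T W V W' : Subgroup G} [Fintype T] (h : CoreSide T W V W')
include hG h

/-- Distinct members of `inducedIrrAbove` are orthogonal. -/
theorem CoreSide.above_orth {φ ψ : ↥T → ℂ} (hφ : φ ∈ Cfsg.inducedIrrAbove (derIn T) ⊥)
    (hψ : ψ ∈ Cfsg.inducedIrrAbove (derIn T) ⊥) (hne : φ ≠ ψ) : Cfsg.classInner φ ψ = 0 := by
  classical
  haveI : Fintype (derIn T) := Fintype.ofFinite _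
  obtain ⟨θ, hθ, -, -, rfl⟩ := hφ
  obtain ⟨η, hη, -, -, rfl⟩ := hψ
  have h1 := CharTwist.card_mul_classInner_indFun (derIn T) hθ hη
  have he : IsEmpty {g : T // CharTwist.conjFun (derIn T) η g = θ} :=
    ⟨fun g => hne (by rw [← g.2, OddChar.Above.indFun_conjFun (derIn T) hη])⟩
  rw [(Nat.card_eq_zero.2 (Or.inl he) : Nat.card {g : T // CharTwist.conjFun (derIn T) η g = θ} = 0),
    Nat.cast_zero, mul_eq_zero] at h1
  exact h1.resolve_left (Nat.cast_ne_zero.2 Nat.card_pos.ne')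

theorem CoreSide.above_conj_ne {φ : ↥T → ℂ} (hφ : φ ∈ Cfsg.inducedIrrAbove (derIn T) ⊥) :
    Cfsg.conjFun φ ≠ φ := by
  classical
  haveI : Fintype (derIn T) := Fintype.ofFinite _
  obtain ⟨θ, hθ, h1, -, rfl⟩ := hφ
  exact Hall.conjFun_indFun_ne (derIn T) (hG.1.of_dvd_nat (card_subgroup_dvd_card T)) hθ h1

theorem CoreSide.sub_conj_mem {φ : ↥T → ℂ} (hφ : φ ∈ Cfsg.inducedIrrAbove (derIn T) ⊥) :
    φ - Cfsg.conjFun φ ∈ Cfsg.zspanOn (Cfsg.inducedIrrAbove (derIn T) ⊥) {1}ᶜ := by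
  refine ⟨Submodule.sub_mem _ (OddChar.mem_zspan_self hφ)
    (OddChar.mem_zspan_self (OddChar.Above.above_conj _ _ hφ)), fun x hx => ?_⟩
  have hx1 : x = 1 := by simpa using hx
  subst hx1
  obtain ⟨θ, hθ, -, -, rfl⟩ := hφ
  have := OddChar.conj_apply_one (Char.IsCharacter.indFun (derIn T)
    (Char.IsIrrCharacter.isCharacter hθ))
  simp [Cfsg.conjFun, this]

/-- The image of an irreducible `φ - conj φ` avoids the grid. -/
theorem CoreSide.irr_image {χ : (↥(W ⊔ W') →* ℂˣ) → (G → ℂ)}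
    (hχ : Cfsg.IsCyclicTIFamily W W' χ) {φ : ↥T → ℂ}
    (hφ : φ ∈ Cfsg.inducedIrrAbove (derIn T) ⊥) (hirr : Cfsg.IsIrrCharacter T φ) :
    ∃ μ : G → ℂ, Cfsg.IsIrrCharacter G μ ∧ Cfsg.conjFun μ ≠ μ ∧
      tauCore T (φ - Cfsg.conjFun φ) = μ - Cfsg.conjFun μ ∧
      (∀ ω, Cfsg.classInner μ (χ ω) = 0) ∧ ∀ ω, Cfsg.classInner (Cfsg.conjFun μ) (χ ω) = 0 := by
  classical
  have hD := dade_core hG h.coatom
  obtain ⟨μ, hμ, hτ⟩ := Cfsg.Agent.S1518.result (coreSet T) T (Cfsg.supportR T) hD φ hirr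
    fun x hx1 hx => (span_above (OddChar.mem_zspan_self hφ)).2.2 x fun hd =>
      hx ⟨(h.mem_derIn x).1 hd, fun e => hx1 (Subtype.ext e)⟩
  change tauCore T (φ - Cfsg.conjFun φ) = μ - Cfsg.conjFun μ at hτ
  have hmem := h.sub_conj_mem hG hφ
  have hne : Cfsg.conjFun μ ≠ μ := by
    intro e
    have h0 := (h.tauCore_isometry hG).1.2.2.1 _ hmem _ hmem
    rw [hτ, e, sub_self, Char.classInner_zero_left] at h0
    exact h.above_conj_ne hG hφ
      (sub_eq_zero.1 (OddChar.Coh.classInner_self_eq_zero h0.symm)).symm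
  have hW := h.typeP.selfNormalizing
  have hμc := OddChar.isIrrCharacter_conjFun hμ
  have hθ : Cfsg.IsClassFunction G (μ - Cfsg.conjFun μ) :=
    Char.IsGeneralizedCharacter.isClassFunction (Char.IsGeneralizedCharacter.sub
      (Char.IsIrrCharacter.isGeneralizedCharacter hμ) (Char.IsIrrCharacter.isGeneralizedCharacter hμc))
  have hV : ∀ w : ↥(W ⊔ W'), (w : G) ∉ W → (w : G) ∉ W' → (μ - Cfsg.conjFun μ) w = 0 := by
    intro w h1 h2
    have hcl := (span_above hmem.1).2.1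
    rw [← hτ, ← h.tauA0_eq hG hcl (h.zero_off_core hmem), h.tauA0_apply hG hcl h1 h2]
    refine h.zero_off_core hmem _ fun hc => h1 ?_
    obtain ⟨hW1, hW'd, hW'T⟩ := h.le_T
    have hwd : (w : G) ∈ ⁅T, T⁆ := h.core_eq ▸ (show (w : G) ∈ Cfsg.sigmaCore T from hc.1)
    refine absurd ?_ h2
    have hy := (h.hyp hG).le
    obtain ⟨x, hx⟩ : ∃ x : ↥(W.subgroupOf T ⊔ W'.subgroupOf T), wEquiv hW1 hW'T x = w :=
      ⟨(wEquiv hW1 hW'T).symm w, MulEquiv.apply_symm_apply _ _⟩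
    obtain ⟨⟨a, ha⟩, ha1⟩ := ne_bot_iff_exists_ne_one.1 h.typeP.W₁_ne
    refine le_of_eq (h.typeP.W₂_centralizer a ha (fun e => ha1 (Subtype.ext e)))
      ⟨hwd, mem_centralizer_singleton_iff.2 ?_⟩
    haveI := hW.2.2.2.2.1
    letI : CommGroup ↥(W ⊔ W') := IsCyclic.commGroup
    exact congrArg Subtype.val (mul_comm w ⟨a, mem_sup_left ha⟩)
  have key : ∀ ω, Cfsg.classInner μ (χ ω) = 0 := by
    intro ω
    by_contra h0
    have hpr : μ ≠ fun _ => (1 : ℂ) := fun e => hne (by rw [e]; funext x; simp [Cfsg.conjFun])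
    obtain ⟨ε, hε, hεeq⟩ : ∃ ε : ℂ, (ε = 1 ∨ ε = -1) ∧ χ ω = ε • μ := by
      rcases hχ.irr_or_neg ω with hi | hi
      · exact ⟨1, Or.inl rfl, by rw [one_smul, Char.eq_of_classInner_ne_zero hμ hi h0]⟩
      · refine ⟨-1, Or.inr rfl, ?_⟩
        rw [Char.eq_of_classInner_ne_zero hμ hi (by rwa [Char.classInner_neg_right, neg_ne_zero])]
        simp
    have hεc : conj ε = ε := by rcases hε with e | e <;> simp [e]
    have hε2 : ε * ε = 1 := by rcases hε with e | e <;> simp [e]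
    have hinvχ : χ ω⁻¹ = ε • Cfsg.conjFun μ := by
      rw [apply_inv hW hG.1 hχ ω, hεeq]
      funext x
      simp [Cfsg.conjFun, hεc]
    have hωne : ω⁻¹ ≠ ω := by
      intro e
      rw [e, hεeq] at hinvχ
      refine hne ?_
      have := congrArg (fun f => ε • f) hinvχ
      simp only [smul_smul, hε2, one_smul] at this
      exact this.symm
    have hcoef : ∀ η, Cfsg.classInner (μ - Cfsg.conjFun μ) (χ η) =
        ε * ((if ω = η then 1 else 0) - (if ω⁻¹ = η then 1 else 0)) := by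
      intro η
      have e1 : μ = ε • χ ω := by rw [hεeq, smul_smul, hε2, one_smul]
      have e2 : Cfsg.conjFun μ = ε • χ ω⁻¹ := by rw [hinvχ, smul_smul, hε2, one_smul]
      rw [e2]
      conv_lhs => rw [e1]
      rw [Char.classInner_sub_left, Char.classInner_smul_left,
        Char.classInner_smul_left, hχ.orthonormal, hχ.orthonormal, mul_sub]
      congr 2 <;> split_ifs <;> rfl
    haveI : Finite (W →* ℂˣ) := OddChar.finite_linearChar _
    haveI : Finite (W' →* ℂˣ) := OddChar.finite_linearChar _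
    haveI : Finite (↥(W ⊔ W') →* ℂˣ) := OddChar.finite_linearChar _
    obtain ⟨i, j, hi, hj, hbij⟩ := OddChar.exists_dual hW.2.2.1 hW.2.2.2.1
    obtain ⟨⟨f, g⟩, efg⟩ := hbij.2 ω
    simp only at efg
    have hoddW : Odd (Nat.card ↥(W ⊔ W')) := hG.1.of_dvd_nat (card_subgroup_dvd_card _)
    have pick : ∀ {U : Subgroup G}, U ≠ ⊥ → U ≤ W ⊔ W' →
        ∀ (k : (U →* ℂˣ) → (↥(W ⊔ W') →* ℂˣ)), Function.Injective k →
          ∀ f₀, ∃ f', k f' ≠ k f₀ ∧ k f' ≠ (k f₀)⁻¹ := by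
      intro U hU hUle k hk f₀
      haveI : IsCyclic U := by
        haveI := hW.2.2.2.2.1
        exact isCyclic_of_injective (Subgroup.inclusion hUle) (Subgroup.inclusion_injective _)
      haveI : Finite (U →* ℂˣ) := OddChar.finite_linearChar _
      letI := Fintype.ofFinite (U →* ℂˣ)
      have h3 := OddChar.CyclicUnique.three_le_card hU hUle hoddW
      rw [← OddChar.card_dual (H := ↥U), Nat.card_eq_fintype_card] at h3
      by_contra hc
      push Not at hc
      have hsub : Finset.univ.image k ⊆ {k f₀, (k f₀)⁻¹} := fun x hx => by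
        obtain ⟨f', -, rfl⟩ := Finset.mem_image.1 hx
        by_cases e : k f' = k f₀
        · simp [e]
        · simp [hc f' e]
      have := (Finset.card_le_card hsub).trans Finset.card_le_two
      rw [Finset.card_image_of_injective _ hk, Finset.card_univ] at this
      omega
    have hiinj : Function.Injective i := fun a b e =>
      congrArg Prod.fst (hbij.1 (a₁ := (a, g)) (a₂ := (b, g))
        (show i a * j g = i b * j g by rw [e]))
    have hjinj : Function.Injective j := fun a b e =>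
      congrArg Prod.snd (hbij.1 (a₁ := (f, a)) (a₂ := (f, b))
        (show i f * j a = i f * j b by rw [e]))
    obtain ⟨f', hf', hf'i⟩ := pick hW.1 le_sup_left i hiinj f
    obtain ⟨g', hg', hg'i⟩ := pick hW.2.1 le_sup_right j hjinj g
    set P := i f with hP
    set P' := i f'
    set Q := j g with hQ
    set Q' := j g'
    have hcmpW : ∀ {a b : ↥(W ⊔ W') →* ℂˣ} {c d : ↥(W ⊔ W') →* ℂˣ},
        (∀ w : ↥(W ⊔ W'), (w : G) ∈ W' → a w = 1) → (∀ w : ↥(W ⊔ W'), (w : G) ∈ W' → c w = 1) →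
        (∀ w : ↥(W ⊔ W'), (w : G) ∈ W → b w = 1) → (∀ w : ↥(W ⊔ W'), (w : G) ∈ W → d w = 1) →
        a * b = c * d → a = c ∧ b = d := by
      intro a b c d ha hc' hb hd e
      have hac : a = c := OddChar.sup_hom_ext (fun w hw => by
        simpa [hb w hw, hd w hw] using DFunLike.congr_fun e w) fun w hw => by rw [ha w hw, hc' w hw]
      exact ⟨hac, by rw [hac] at e; exact mul_left_cancel e⟩
    have hPi : ∀ w : ↥(W ⊔ W'), (w : G) ∈ W' → P⁻¹ w = 1 := fun w hw => by simp [hP, hi _ w hw]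
    have hQi : ∀ w : ↥(W ⊔ W'), (w : G) ∈ W → Q⁻¹ w = 1 := fun w hw => by simp [hQ, hj _ w hw]
    have hωi : ω⁻¹ = P⁻¹ * Q⁻¹ := by rw [← efg]; ext w; simp [mul_comm]
    have hz : ∀ (a : W →* ℂˣ) (b : W' →* ℂˣ), ω ≠ i a * j b → ω⁻¹ ≠ i a * j b →
        Cfsg.classInner (μ - Cfsg.conjFun μ) (χ (i a * j b)) = 0 := fun a b h1 h2 => by
      rw [hcoef, if_neg h1, if_neg h2, sub_zero, mul_zero]
    have h12 := hz f g' (fun e => hg' (hcmpW (hi _) (hi _) (hj _) (hj _) (efg ▸ e)).2.symm)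
      (fun e => hg'i (hcmpW hPi (hi _) hQi (hj _) (hωi ▸ e)).2.symm)
    have h21 := hz f' g (fun e => hf' (hcmpW (hi _) (hi _) (hj _) (hj _) (efg ▸ e)).1.symm)
      (fun e => hf'i (hcmpW hPi (hi _) hQi (hj _) (hωi ▸ e)).1.symm)
    have h22 := hz f' g' (fun e => hf' (hcmpW (hi _) (hi _) (hj _) (hj _) (efg ▸ e)).1.symm)
      (fun e => hf'i (hcmpW hPi (hi _) hQi (hj _) (hωi ▸ e)).1.symm)
    have hS := Cfsg.Agent.S1506.result W W' hW χ hχ _ hθ hV P P' Q Q'
      (fun w hw => ⟨hi _ w hw, hi _ w hw⟩) (fun w hw => ⟨hj _ w hw, hj _ w hw⟩)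
    rw [h12, h21, h22, efg, hcoef, if_pos rfl, if_neg hωne, add_zero, add_zero, sub_zero,
      mul_one] at hS
    rcases hε with e | e <;> simp [e] at hS
  refine ⟨μ, hμ, hne, hτ, key, fun ω => ?_⟩
  have h1 := key ω⁻¹
  rw [apply_inv hW hG.1 hχ ω] at h1
  have h2 : Cfsg.classInner (Cfsg.conjFun μ) (χ ω) =
      conj (Cfsg.classInner μ (Cfsg.conjFun (χ ω))) := by
    simp only [Cfsg.classInner, Cfsg.conjFun, map_mul, map_inv₀, map_natCast, map_sum, Complex.conj_conj]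
  rw [h2, h1, map_zero]

omit hG h in
theorem signed_smul {X : G → ℂ} {d : ℂ} (hd : d = 1 ∨ d = -1)
    (hX : Cfsg.IsGeneralizedCharacter G X) : Cfsg.IsGeneralizedCharacter G (d • X) := by
  rcases hd with e | e <;> subst e
  · simpa using hX
  · have h0 := Char.IsGeneralizedCharacter.sub Char.IsGeneralizedCharacter.zero hX
    simpa using h0

/-- The image of a reducible `φ - conj φ`: a column minus its conjugate. -/
theorem CoreSide.red_image {χ : (↥(W ⊔ W') →* ℂˣ) → (G → ℂ)}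
    (hχ : Cfsg.IsCyclicTIFamily W W' χ)
    [Fintype (↥(W.subgroupOf T ⊔ W'.subgroupOf T) →* ℂˣ)]
    {μ : (↥(W.subgroupOf T ⊔ W'.subgroupOf T) →* ℂˣ) → (↥T → ℂ)}
    {δ : (↥(W.subgroupOf T ⊔ W'.subgroupOf T) →* ℂˣ) → ℂ}
    (hc : Cols (derIn T) (W.subgroupOf T) (W'.subgroupOf T) μ δ)
    {θ : ↥(derIn T) → ℂ} (hθ : Cfsg.IsIrrCharacter (derIn T) θ) (hθ1 : θ ≠ fun _ => 1)
    (hfix : Fixed (W.subgroupOf T) θ) :
    ∃ ω₀, ¬ SameCol ω₀ 1 ∧ (fun k : derIn T => μ ω₀ k) = θ ∧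
      ∃ R : Finset (G → ℂ),
        (∀ a ∈ R, ∀ b ∈ R, Cfsg.classInner a b = if a = b then 1 else 0) ∧
        (∀ a ∈ R, Cfsg.IsGeneralizedCharacter G a) ∧
        tauCore T (Cfsg.indFun (derIn T) θ - Cfsg.conjFun (Cfsg.indFun (derIn T) θ)) = ∑ a ∈ R, a ∧
        ∀ a ∈ R, ∃ (η : ↥(W.subgroupOf T ⊔ W'.subgroupOf T) →* ℂˣ) (d : ℂ),
          (SameCol η ω₀ ∨ SameCol η ω₀⁻¹) ∧ (d = 1 ∨ d = -1) ∧
          a = d • χ (wUp h.le_T.1 h.le_T.2.2 η) := by
  classical
  have hy := h.hyp hG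
  obtain ⟨ω₀, hω₀⟩ := hc.exists_of_fixed hy hθ hfix
  obtain ⟨hW1, hW'd, hW'T⟩ := h.le_T
  have hW := h.typeP.selfNormalizing
  have hnt : ¬ SameCol ω₀ 1 := fun hs => hθ1 (by
    rw [← hω₀]
    funext k
    rw [hc.eq_on hy hs k, (hc.one hy).1])
  refine ⟨ω₀, hnt, hω₀, ?_⟩
  haveI : Finite (W.subgroupOf T →* ℂˣ) := OddChar.finite_linearChar _
  obtain ⟨i, j, hi, hj, hbij⟩ := OddChar.exists_dual (selfNorm hy).2.2.1 (selfNorm hy).2.2.2.1
  obtain ⟨⟨f, g⟩, efg⟩ := hbij.2 ω₀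
  simp only at efg
  set c := (j g)⁻¹ * (j g)⁻¹ with hcdef
  have hc1 : ∀ w : ↥(W.subgroupOf T ⊔ W'.subgroupOf T), (w : T) ∈ W.subgroupOf T → c w = 1 :=
    fun w hw => by simp [hcdef, hj _ w hw]
  have hc2 : ∀ w : ↥(W.subgroupOf T ⊔ W'.subgroupOf T), (w : T) ∈ W'.subgroupOf T →
      ω₀ w * c w = (ω₀ w)⁻¹ := fun w hw => by
    rw [← efg]
    simp [hcdef, hi _ w hw]
  set col := Finset.univ.filter fun η => SameCol η ω₀ with hcol
  set col' := Finset.univ.filter fun η => SameCol η ω₀⁻¹ with hcol'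
  have hmap : ∀ η, η ∈ col ↔ η * c ∈ col' := by
    intro η
    simp only [hcol, hcol', Finset.mem_filter, Finset.mem_univ, true_and]
    refine forall_congr' fun w => ⟨fun h1 hw => ?_, fun h1 hw => ?_⟩
    · rw [MonoidHom.mul_apply, h1 hw, hc2 w hw, MonoidHom.inv_apply]
    · have h2 := h1 hw
      rw [MonoidHom.mul_apply, MonoidHom.inv_apply, ← hc2 w hw] at h2
      exact mul_right_cancel h2
  have himg : col' = col.image (· * c) := by
    ext η
    rw [Finset.mem_image]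
    refine ⟨fun hη => ⟨η * c⁻¹, (hmap _).2 ((show η * c⁻¹ * c = η by ext w; simp).symm ▸ hη),
      by ext w; simp⟩, ?_⟩
    rintro ⟨a, ha, rfl⟩
    exact (hmap a).1 ha
  have hdisj : Disjoint col col' := by
    rw [Finset.disjoint_left]
    intro η h1 h2
    simp only [hcol, hcol', Finset.mem_filter, Finset.mem_univ, true_and] at h1 h2
    refine hnt fun w hw => ?_
    have h3 : ω₀ w = (ω₀ w)⁻¹ := by rw [← MonoidHom.inv_apply, ← h2 w hw, h1 w hw]
    have h4 : ω₀ w ^ 2 = 1 := by rw [sq]; nth_rewrite 1 [h3]; exact inv_mul_cancel _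
    have h5 : orderOf (ω₀ w) ∣ 2 := orderOf_dvd_of_pow_eq_one h4
    have h6 : Odd (orderOf (ω₀ w)) :=
      hy.odd.of_dvd_nat ((orderOf_map_dvd ω₀ w).trans (orderOf_dvd_natCard w))
    rw [MonoidHom.one_apply]
    rcases (Nat.dvd_prime Nat.prime_two).1 h5 with e | e
    · exact orderOf_eq_one_iff.1 e
    · rw [e] at h6
      exact absurd h6 (by decide)
  have hφ : Cfsg.indFun (derIn T) θ = ∑ η ∈ col, μ η := by
    rw [← hω₀, (hc.restrict hy ω₀).2.2]
  have hφc : Cfsg.conjFun (Cfsg.indFun (derIn T) θ) = ∑ η ∈ col', μ η := by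
    have e0 : Cfsg.conjFun θ = fun k : derIn T => μ ω₀⁻¹ k := by
      rw [← hω₀]
      funext k
      exact congrFun (hc.conj hy ω₀).1 (k : T)
    rw [OddChar.Above.conjFun_indFun, e0, (hc.restrict hy ω₀⁻¹).2.2]
  have hα : Cfsg.indFun (derIn T) θ - Cfsg.conjFun (Cfsg.indFun (derIn T) θ) =
      ∑ η ∈ col, (μ η - μ (η * c)) := by
    rw [hφc, himg, Finset.sum_image (fun a _ b _ e => mul_right_cancel e), hφ, ← Finset.sum_sub_distrib]
  let e : (↥(W.subgroupOf T ⊔ W'.subgroupOf T) →* ℂˣ) → (G → ℂ) := fun η =>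
    (if η ∈ col then δ ω₀ else -δ ω₀) • χ (wUp hW1 hW'T η)
  have hsgn : ∀ η, (if η ∈ col then δ ω₀ else -δ ω₀) = 1 ∨
      (if η ∈ col then δ ω₀ else -δ ω₀) = -1 := fun η => by
    rcases hc.sign ω₀ with e1 | e1 <;> split_ifs <;> simp [e1]
  have hinner : ∀ a b, Cfsg.classInner (e a) (e b) = if a = b then 1 else 0 := by
    intro a b
    simp only [e, Char.classInner_smul_left, Char.classInner_smul_right, hχ.orthonormal]
    by_cases hab : a = b
    · subst hab
      rcases hsgn a with e1 | e1 <;> simp [e1]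
    · rw [if_neg hab, if_neg fun h' => hab (wUp_injective hW1 hW'T h')]
      simp
  have heinj : Function.Injective e := fun a b e1 => by
    by_contra hab
    have := hinner a b
    rw [e1, hinner b b, if_pos rfl, if_neg hab] at this
    exact one_ne_zero this
  refine ⟨(col ∪ col').image e, ?_, ?_, ?_, ?_⟩
  · intro a ha b hb
    obtain ⟨η, -, rfl⟩ := Finset.mem_image.1 ha
    obtain ⟨η', -, rfl⟩ := Finset.mem_image.1 hb
    simp only [hinner, heinj.eq_iff]
  · intro a ha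
    obtain ⟨η, -, rfl⟩ := Finset.mem_image.1 ha
    exact signed_smul (hsgn η) (PairPins.isGeneralized_of_signed (hχ.irr_or_neg _))
  swap
  · intro a ha
    obtain ⟨η, hη, rfl⟩ := Finset.mem_image.1 ha
    refine ⟨η, _, ?_, hsgn η, rfl⟩
    rcases Finset.mem_union.1 hη with h1 | h1
    · exact Or.inl (Finset.mem_filter.1 h1).2
    · exact Or.inr (Finset.mem_filter.1 h1).2
  have hS : Cfsg.indFun (derIn T) θ ∈ Cfsg.inducedIrrAbove (derIn T) ⊥ :=
    ⟨θ, hθ, hθ1, fun a ha => by rw [show a = 1 from Subtype.ext (mem_bot.1 ha)], rfl⟩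
  have hmem := h.sub_conj_mem hG hS
  rw [← h.tauA0_eq hG (span_above hmem.1).2.1 (h.zero_off_core hmem), hα, tauA0, dade_map_sum,
    Finset.sum_image heinj.injOn, Finset.sum_union hdisj, himg,
    Finset.sum_image (fun a _ b _ e1 => mul_right_cancel e1), ← Finset.sum_add_distrib]
  refine Finset.sum_congr rfl fun η hη => ?_
  have hη' : η * c ∈ col' := (hmap η).1 hη
  have hsη : SameCol η ω₀ := (Finset.mem_filter.1 hη).2
  have hsη' : SameCol (η * c) ω₀⁻¹ := (Finset.mem_filter.1 hη').2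
  have hnm : η * c ∉ col := fun h1 => Finset.disjoint_left.1 hdisj h1 hη'
  have hδ1 : δ η = δ ω₀ := (hc.pair η ω₀ hsη).1
  have hδ2 : δ (η * c) = δ ω₀ := by rw [(hc.pair _ _ hsη').1, (hc.conj hy ω₀).2]
  have hd2 : δ ω₀ * δ ω₀ = 1 := by rcases hc.sign ω₀ with e1 | e1 <;> simp [e1]
  set β := μ η - μ (η * c) with hβ
  have hβc : Cfsg.IsClassFunction T β := fun a b => by
    simp only [hβ, Pi.sub_apply]
    rw [Char.IsIrrCharacter.isClassFunction (hc.irr η) a b,
      Char.IsIrrCharacter.isClassFunction (hc.irr (η * c)) a b]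
  have hval : ∀ w : ↥(W.subgroupOf T ⊔ W'.subgroupOf T), (w : T) ∉ W'.subgroupOf T →
      β w = δ ω₀ * ((η w : ℂ) - ((η * c) w : ℂ)) := fun w hw => by
    simp only [hβ, Pi.sub_apply]
    rw [hc.val η w hw, hc.val _ w hw, hδ1, hδ2, mul_sub]
  have hoff : ∀ x : T, (x : G) ∉ a0set T W W' → β x = 0 := by
    intro x hx
    by_cases hx1 : x = 1
    · subst hx1
      have h1 : μ η 1 = μ ω₀ 1 := hc.eq_on hy hsη 1
      have h2 : μ (η * c) 1 = μ ω₀⁻¹ 1 := hc.eq_on hy hsη' 1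
      have h3 : μ ω₀⁻¹ 1 = μ ω₀ 1 := by
        rw [← (hc.conj hy ω₀).1]
        exact OddChar.conj_apply_one (Char.IsIrrCharacter.isCharacter (hc.irr ω₀))
      simp [hβ, h1, h2, h3]
    · have hxd : x ∉ derIn T := fun hd => hx (Or.inl ⟨(h.mem_derIn x).1 hd,
        fun e1 => hx1 (Subtype.ext e1)⟩)
      obtain ⟨y, w, hw, e1⟩ := hy.exists_conj hxd
      rw [← hβc x y, e1, hval w hw]
      by_cases hw1 : (w : T) ∈ W.subgroupOf T
      · simp [hc1 w hw1]
      · exfalso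
        refine hx (Or.inr ⟨((y⁻¹ : T) : G), (y⁻¹ : T).2, ((w : T) : G),
          (wEquiv hW1 hW'T w).2, fun h1 => hw1 (mem_subgroupOf.2 h1),
          fun h2 => hw (mem_subgroupOf.2 h2), ?_⟩)
        rw [← e1]
        simp [mul_assoc]
  have hgen : Cfsg.IsGeneralizedCharacter T β := Char.IsGeneralizedCharacter.sub
    (Char.IsIrrCharacter.isGeneralizedCharacter (hc.irr η))
    (Char.IsIrrCharacter.isGeneralizedCharacter (hc.irr _))
  have hD := h.dade_a0 hG
  have hne : η ≠ η * c := fun e1 => hnm (e1 ▸ hη)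
  have hn2 : Cfsg.classInner (tauA0 T W W' β) (tauA0 T W W' β) = 2 := by
    rw [tauA0, (Cfsg.Agent.S1500.result (a0set T W W') T (Cfsg.supportR T) hD β hβc hoff).1 β hβc hoff,
      hβ, Char.classInner_sub_left, Char.classInner_sub_right, Char.classInner_sub_right,
      Char.classInner_irr_self (hc.irr η), Char.classInner_irr_self (hc.irr _),
      Char.classInner_irr_of_ne (hc.irr η) (hc.irr _) (fun e1 => hne (hc.inj e1)),
      Char.classInner_irr_of_ne (hc.irr _) (hc.irr η) (fun e1 => hne (hc.inj e1).symm)]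
    norm_num
  have hpin := diff_unique hW hG.1 hχ (ω := wUp hW1 hW'T η) (ω' := wUp hW1 hW'T (η * c))
    (fun e1 => hne (wUp_injective hW1 hW'T e1))
    (Or.inl fun a ha => by
      obtain ⟨w, rfl⟩ := (wEquiv hW1 hW'T).surjective a
      rw [wUp_apply, wUp_apply, MonoidHom.mul_apply, hc1 w (mem_subgroupOf.2 ha), mul_one])
    (Φ := δ ω₀ • tauA0 T W W' β)
    (signed_smul (hc.sign ω₀)
      (Cfsg.Agent.S1501.result (a0set T W W') T (Cfsg.supportR T) hD β hgen hoff))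
    (by
      rw [Char.classInner_smul_left, Char.classInner_smul_right, hn2]
      rcases hc.sign ω₀ with e1 | e1 <;> simp [e1])
    fun a h1 h2 => by
      obtain ⟨w, rfl⟩ := (wEquiv hW1 hW'T).surjective a
      rw [Pi.smul_apply, smul_eq_mul, h.tauA0_apply hG hβc h1 h2, wUp_apply, wUp_apply]
      show δ ω₀ * β (w : T) = _
      rw [hval w fun h3 => h2 (mem_subgroupOf.1 h3), ← mul_assoc, hd2, one_mul]
  show Cfsg.dadeIsometry (a0set T W W') T (Cfsg.supportR T) β = e η + e (η * c)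
  simp only [e, if_pos hη, if_neg hnm, neg_smul]
  rw [← sub_eq_add_neg, ← smul_sub, ← hpin, smul_smul, hd2, one_smul]
  rfl

end CfsgLib.FT
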