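import Cfsg.Agent.Lib.FT.Grid
import Cfsg.Agent.Lib.FT.Support
import Cfsg.Agent.Lib.FT.CoreFamCols
import Cfsg.Agent.Lib.OddChar.Above
import Cfsg.Agent.Lib.OddChar.FrobCoherent
import Cfsg.Agent.Lib.CharTools.Basic
import Cfsg.Agent.S1502
import Cfsg.Agent.S1517

/-!
FT module CoreFam: `T` with `T' = T_σ`, complement `W` of order `w`, fixed line `W'` of prime order.

`W' ≤ T''` so `W` is free on `T'/T''`; fixed degrees `θ ≡ ±1 (mod w)`, `θ ≠ 1`;
`R(φ) = {μ, -conj μ}` off the grid for irreducible `φ`, signed column and conjugate column for the others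
(CoreFamCols); S1517 for the linear family.
-/

set_option autoImplicit false
set_option linter.style.haveILetI false
set_option linter.unusedSectionVars false

open ComplexConjugate
open scoped commutatorElement

namespace CfsgLib.FT

open Subgroup CoreFamAux

universe u

variable {G : Type u} [Group G] [Fintype G] (hG : Cfsg.IsMinSimpleOddOrder G)
  {T W V W' : Subgroup G} [Fintype T]
include hG

theorem CoreSide.card_W (h : CoreSide T W V W') : Nat.card (W.subgroupOf T) = Nat.card W :=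
  Nat.card_congr (subgroupOfEquivOfLe h.le_T.1).toEquiv

theorem CoreSide.index_derIn (h : CoreSide T W V W') : (derIn T).index = Nat.card W := by
  rw [index_eq (h.hyp hG), h.card_W hG]

theorem CoreSide.W'_le_two (h : CoreSide T W V W') : W' ≤ ⁅⁅T, T⁆, ⁅T, T⁆⁆ :=
  h.typeP.W₂_le.trans inf_le_right

/-- A linear character of `T'` is `1` on `T''` and on `W'`. -/
theorem CoreSide.linear_triv (h : CoreSide T W V W') {θ : ↥(derIn T) → ℂ}
    (hθ : Cfsg.IsIrrCharacter (derIn T) θ) (h1 : θ 1 = 1) (k : derIn T)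
    (hk : (k : T) ∈ W'.subgroupOf T) : θ k = 1 := by
  obtain ⟨g, hg⟩ := Char.isIrrCharacter_degree_one_iff.1 ⟨hθ, h1⟩
  have h2 : (k : T) ∈ ⁅derIn T, derIn T⁆ := by
    rw [← derIn_two]
    exact mem_subgroupOf.2 (h.W'_le_two hG (mem_subgroupOf.1 hk))
  rw [← map_subtype_commutator] at h2
  obtain ⟨k', hk', e⟩ := mem_map.1 h2
  obtain rfl : k' = k := Subtype.ext e
  have h3 : g k' = 1 := Abelianization.commutator_subset_ker g hk'
  rw [hg]
  simp [h3]

theorem CoreSide.linear_not_fixed (h : CoreSide T W V W') {θ : ↥(derIn T) → ℂ}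
    (hθ : Cfsg.IsIrrCharacter (derIn T) θ) (h1 : θ 1 = 1) (hne : θ ≠ fun _ => 1) :
    ¬ Fixed (W.subgroupOf T) θ :=
  fun hf => hne (eq_one_of_fixed_linear (h.hyp hG) hθ h1 (h.linear_triv hG hθ h1) hf)

theorem linChars_mem (h : CoreSide T W V W') :
    ∀ ξ ∈ linChars T, Cfsg.IsIrrCharacter T ξ ∧ ξ 1 = (Nat.card W : ℂ) := by
  classical
  haveI : Fintype (derIn T) := Fintype.ofFinite _
  rintro ξ ⟨θ, hθ, hne, hker, rfl⟩
  have h1 : θ 1 = 1 := OddChar.FrobCoh.linear_deg (derIn T) hθ fun a ha =>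
    hker a (by rw [derIn_two]; exact ha)
  refine ⟨irr_of_not_fixed (h.hyp hG) hθ (h.linear_not_fixed hG hθ h1 hne), ?_⟩
  rw [Char.indFun_apply_one, h.index_derIn hG, h1, mul_one]

theorem linChars_nonempty (h : CoreSide T W V W') : (linChars T).Nonempty := by
  classical
  haveI : Fintype (derIn T) := Fintype.ofFinite _
  haveI : Group.IsSolvable T := OddOrder.isSolvable_of_ne_top hG h.coatom.1
  have hne : derIn T ≠ ⊥ := fun e => (h.hyp hG).ne₂ (le_bot_iff.1 (e ▸ (h.hyp hG).le))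
  obtain ⟨φ, hφ, -⟩ := OddChar.Above.exists_linear_member (derIn T) inferInstance
    ⁅derIn T, derIn T⁆ (Group.IsSolvable.commutator_lt_of_ne_bot hne)
  exact ⟨φ, by rw [linChars, derIn_two]; exact hφ⟩

theorem linChars_finite : (linChars T).Finite := by
  classical
  haveI : Fintype (derIn T) := Fintype.ofFinite _
  refine (Set.finite_range fun θ : Cfsg.IrrCharacter (derIn T) =>
    Cfsg.indFun (derIn T) (θ : ↥(derIn T) → ℂ)).subset ?_
  rintro _ ⟨θ, hθ, -, -, rfl⟩
  exact ⟨⟨θ, hθ⟩, rfl⟩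

theorem linChars_card (h : CoreSide T W V W') :
    Nat.card ↥(linChars T) * Nat.card W + 1 = ⁅⁅T, T⁆, ⁅T, T⁆⁆.relIndex ⁅T, T⁆ := by
  classical
  haveI : (⁅derIn T, derIn T⁆).Normal := commutator_normal _ _
  have hfin := linChars_finite hG (T := T)
  have hsum := OddChar.Above.sum_sq_div_norm (derIn T) ⁅derIn T, derIn T⁆
    (fun _ => Nat.card W) (fun _ => 1) hfin.toFinset
    (by rw [Set.Finite.coe_toFinset, linChars, derIn_two])
    (fun φ hφ => (linChars_mem hG h φ (hfin.mem_toFinset.1 hφ)).2)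
    (fun φ hφ => by
      rw [Char.classInner_irr_self (linChars_mem hG h φ (hfin.mem_toFinset.1 hφ)).1]; simp)
  rw [Finset.sum_const, h.index_derIn hG, ← derIn_two, derIn,
    relIndex_subgroupOf (commutator_le_self T), nsmul_eq_mul] at hsum
  rw [Nat.card_eq_card_finite_toFinset hfin]
  have hw : (0 : ℝ) < Nat.card W := by exact_mod_cast Nat.card_pos
  have h2 : ((hfin.toFinset.card * Nat.card W + 1 : ℕ) : ℝ) =
      (⁅⁅T, T⁆, ⁅T, T⁆⁆.relIndex ⁅T, T⁆ : ℝ) := by
    have h3 : (hfin.toFinset.card : ℝ) * Nat.card W =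
        (⁅⁅T, T⁆, ⁅T, T⁆⁆.relIndex ⁅T, T⁆ : ℝ) - 1 := by
      refine mul_left_cancel₀ hw.ne' ?_
      rw [← hsum]
      push_cast
      ring
    push_cast
    linarith
  exact_mod_cast h2

theorem linChars_facts (h : CoreSide T W V W') :
    (∀ ξ ∈ linChars T, Cfsg.IsIrrCharacter T ξ ∧ ξ 1 = (Nat.card W : ℂ)) ∧
      Nat.card ↥(linChars T) * Nat.card W + 1 = ⁅⁅T, T⁆, ⁅T, T⁆⁆.relIndex ⁅T, T⁆ ∧
      W' ≤ ⁅⁅T, T⁆, ⁅T, T⁆⁆ ∧ 2 ≤ Nat.card ↥(linChars T) ∧ Even (Nat.card ↥(linChars T)) := by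
  have hcard := linChars_card hG h
  have hodd : Odd (⁅⁅T, T⁆, ⁅T, T⁆⁆.relIndex ⁅T, T⁆) :=
    hG.1.of_dvd_nat ((relIndex_dvd_card _ _).trans (card_subgroup_dvd_card _))
  have hw : Odd (Nat.card W) := hG.1.of_dvd_nat (card_subgroup_dvd_card _)
  rw [← hcard] at hodd
  have hev : Even (Nat.card ↥(linChars T)) := by
    by_contra hc
    rw [Nat.not_even_iff_odd] at hc
    exact (Nat.not_even_iff_odd.2 hodd) ((hc.mul hw).add_one)
  haveI : Nonempty ↥(linChars T) := (linChars_nonempty hG h).to_subtype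
  haveI : Finite ↥(linChars T) := (linChars_finite hG (T := T)).to_subtype
  have hpos : 0 < Nat.card ↥(linChars T) := Nat.card_pos
  exact ⟨linChars_mem hG h, hcard, h.W'_le_two hG, by obtain ⟨k, hk⟩ := hev; omega, hev⟩

theorem exists_fixedInd (h : CoreSide T W V W') : ∃ μ θ, IsFixedInd T W μ θ := by
  classical
  haveI : Fintype (derIn T) := Fintype.ofFinite _
  have hy := h.hyp hG
  have hcount := (Cfsg.Agent.S1513.result (derIn T) (W.subgroupOf T) (W'.subgroupOf T) hy.inf hy.sup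
    hy.ne₁ hy.cyclic₁ hy.hall hy.ne₂ hy.cyclic₂ hy.le hy.cent hy.odd).2.1
  have h2 : 1 < Nat.card (W'.subgroupOf T) := by
    haveI := nontrivial_iff_ne_bot _ |>.2 hy.ne₂
    exact Finite.one_lt_card
  rw [← hcount] at h2
  haveI := Finite.one_lt_card_iff_nontrivial.1 h2
  obtain ⟨⟨⟨θ, hθ⟩, hfix⟩, hne⟩ :=
    exists_ne (⟨Char.principalIrr, fun x _ => rfl⟩ :
      {θ : Cfsg.IrrCharacter (derIn T) // ∀ x ∈ W.subgroupOf T, (fun k : derIn T =>
        (θ : ↥(derIn T) → ℂ) ⟨x * k * x⁻¹, (inferInstance : (derIn T).Normal).conj_mem _ k.2 x⟩) = θ})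
  have hθ1 : θ ≠ fun _ => 1 := fun e => hne (Subtype.ext (Subtype.ext e))
  obtain ⟨d, -, hd⟩ := Char.IsIrrCharacter.exists_degree hθ
  refine ⟨Cfsg.indFun (derIn T) θ, d, ⟨θ, hθ, hθ1,
    fun a ha => by rw [show a = 1 from Subtype.ext (mem_bot.1 ha)], rfl⟩, ?_, ?_⟩
  · rw [norm_of_fixed hy hθ hfix, h.card_W hG]
  · rw [Char.indFun_apply_one, h.index_derIn hG, hd]

theorem fixedInd_degree (h : CoreSide T W V W') {μ : ↥T → ℂ} {θ : ℕ} (hμ : IsFixedInd T W μ θ) :
    2 * Nat.card W - 1 ≤ θ ∧ θ.Coprime (Nat.card W) := by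
  classical
  haveI : Fintype (derIn T) := Fintype.ofFinite _
  obtain ⟨⟨θ₀, hθ₀, hne, -, rfl⟩, hnorm, hdeg⟩ := hμ
  have hy := h.hyp hG
  have hw3 : 3 ≤ Nat.card W := h.card_W hG ▸ three_le hy
  have hfix : Fixed (W.subgroupOf T) θ₀ := by
    by_contra hf
    rw [Char.classInner_irr_self (irr_of_not_fixed hy hθ₀ hf)] at hnorm
    have h1 : (1 : ℕ) = Nat.card W := by exact_mod_cast hnorm
    omega
  obtain ⟨d, hdpos, hd⟩ := Char.IsIrrCharacter.exists_degree hθ₀
  rw [Char.indFun_apply_one, h.index_derIn hG, hd] at hdeg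
  obtain rfl : θ = d := by
    exact_mod_cast (mul_left_cancel₀ (Nat.cast_ne_zero.2 (by omega)) hdeg).symm
  have hdvd : θ ∣ Nat.card (derIn T) := by
    have := CharTools.degree_dvd_card (⟨θ₀, hθ₀⟩ : Cfsg.IrrCharacter (derIn T))
    simpa [Cfsg.charDegree, hd] using this
  have hcK : Nat.card (derIn T) = Nat.card ↥⁅T, T⁆ :=
    Nat.card_congr (subgroupOfEquivOfLe (commutator_le_self T)).toEquiv
  refine ⟨?_, (h.coprime.coprime_dvd_left (hcK ▸ hdvd))⟩
  have hodd : Odd θ := (hG.1.of_dvd_nat (card_subgroup_dvd_card T)).of_dvd_nat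
    (hdvd.trans (card_subgroup_dvd_card _))
  have hne1 : θ ≠ 1 := fun e =>
    h.linear_not_fixed hG hθ₀ (by rw [hd, e, Nat.cast_one]) hne hfix
  obtain ⟨μ, δ, hc⟩ := exists_cols hy
  letI : Fintype (↥(W.subgroupOf T ⊔ W'.subgroupOf T) →* ℂˣ) :=
    haveI := OddChar.finite_linearChar (W := ↥(W.subgroupOf T ⊔ W'.subgroupOf T))
    Fintype.ofFinite _
  obtain ⟨ω, hω⟩ := hc.exists_of_fixed hy hθ₀ hfix
  obtain ⟨n, hn⟩ := hc.deg ω
  have hθω : μ ω 1 = (θ : ℂ) := by rw [← hd, ← hω]; rfl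
  rw [hθω, h.card_W hG] at hn
  obtain ⟨s, hs, hs'⟩ : ∃ s : ℤ, δ ω = s ∧ (s = 1 ∨ s = -1) := by
    rcases hc.sign ω with e | e
    · exact ⟨1, by simpa using e, Or.inl rfl⟩
    · exact ⟨-1, by simpa using e, Or.inr rfl⟩
  rw [hs] at hn
  have h2 : (θ : ℤ) - s = n * (Nat.card W : ℤ) := by exact_mod_cast hn
  have hoddW : Odd (Nat.card W) := hG.1.of_dvd_nat (card_subgroup_dvd_card _)
  obtain ⟨a, ha⟩ := hodd
  obtain ⟨b, hb⟩ := hoddW
  rcases lt_trichotomy n 1 with hn1 | hn1 | hn1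
  · have : n * (Nat.card W : ℤ) ≤ 0 := mul_nonpos_of_nonpos_of_nonneg (by omega) (by positivity)
    omega
  · rw [hn1, one_mul] at h2
    omega
  · have : 2 * (Nat.card W : ℤ) ≤ n * (Nat.card W : ℤ) :=
      mul_le_mul_of_nonneg_right (by omega) (by positivity)
    omega

/-- A coherence system on all the characters over `T'`. -/
theorem exists_system (h : CoreSide T W V W') :
    ∃ R, Cfsg.IsCoherenceSystem (Cfsg.inducedIrrAbove (⁅T, T⁆.subgroupOf T) ⊥) (tauCore T) R := by
  classical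
  haveI : Fintype (derIn T) := Fintype.ofFinite _
  have hy := h.hyp hG
  have hW := h.typeP.selfNormalizing
  obtain ⟨χ, hχ⟩ := Cfsg.Agent.S1502.result W W' hW (hG.1.of_dvd_nat (card_subgroup_dvd_card _))
  obtain ⟨μ, δ, hc⟩ := exists_cols hy
  letI : Fintype (↥(W.subgroupOf T ⊔ W'.subgroupOf T) →* ℂˣ) :=
    haveI := OddChar.finite_linearChar (W := ↥(W.subgroupOf T ⊔ W'.subgroupOf T))
    Fintype.ofFinite _
  have cj : ∀ a b : ↥T → ℂ,
      Cfsg.classInner (Cfsg.conjFun a) b = conj (Cfsg.classInner a (Cfsg.conjFun b)) := fun a b => by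
    simp only [Cfsg.classInner, Cfsg.conjFun, map_mul, map_inv₀, map_natCast, map_sum, Complex.conj_conj]
  let ν : (↥(W.subgroupOf T ⊔ W'.subgroupOf T) →* ℂˣ) → G → ℂ := fun η =>
    χ (wUp h.le_T.1 h.le_T.2.2 η)
  have main : ∀ φ ∈ Cfsg.inducedIrrAbove (derIn T) ⊥, ∃ R : Finset (G → ℂ),
      (∀ a ∈ R, ∀ b ∈ R, Cfsg.classInner a b = if a = b then 1 else 0) ∧
      (∀ a ∈ R, Cfsg.IsGeneralizedCharacter G a) ∧
      tauCore T (φ - Cfsg.conjFun φ) = ∑ a ∈ R, a ∧
      ((∃ m : G → ℂ, Cfsg.IsIrrCharacter G m ∧ Cfsg.conjFun m ≠ m ∧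
          tauCore T (φ - Cfsg.conjFun φ) = m - Cfsg.conjFun m ∧
          (∀ ω, Cfsg.classInner m (χ ω) = 0) ∧ (∀ ω, Cfsg.classInner (Cfsg.conjFun m) (χ ω) = 0) ∧
          ∀ a ∈ R, a = m ∨ a = -Cfsg.conjFun m) ∨
        (∃ ω₀ : ↥(W.subgroupOf T ⊔ W'.subgroupOf T) →* ℂˣ,
          φ = Cfsg.indFun (derIn T) (fun k : derIn T => μ ω₀ k) ∧
          Cfsg.classInner φ φ = (Nat.card W : ℂ) ∧
          ∀ a ∈ R, ∃ (η : ↥(W.subgroupOf T ⊔ W'.subgroupOf T) →* ℂˣ) (d : ℂ),
            (SameCol η ω₀ ∨ SameCol η ω₀⁻¹) ∧ a = d • ν η)) := by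
    intro φ hφ
    by_cases hirr : Cfsg.IsIrrCharacter T φ
    · obtain ⟨m, hm, hne, hτ, k1, k2⟩ := h.irr_image hG hχ hφ hirr
      have hmc := OddChar.isIrrCharacter_conjFun hm
      have i1 : Cfsg.classInner m (Cfsg.conjFun m) = 0 :=
        Char.classInner_irr_of_ne hm hmc (Ne.symm hne)
      have i2 : Cfsg.classInner (Cfsg.conjFun m) m = 0 := Char.classInner_irr_of_ne hmc hm hne
      have hne' : m ≠ -Cfsg.conjFun m := fun e => by
        have h3 := Char.classInner_irr_self hm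
        nth_rewrite 2 [e] at h3
        rw [Char.classInner_neg_right, i1, neg_zero] at h3
        exact zero_ne_one h3
      refine ⟨{m, -Cfsg.conjFun m}, fun a ha b hb => ?_, fun a ha => ?_, ?_,
        Or.inl ⟨m, hm, hne, hτ, k1, k2, fun a ha => by simpa using ha⟩⟩
      · rcases Finset.mem_insert.1 ha with rfl | ha <;>
          rcases Finset.mem_insert.1 hb with rfl | hb <;>
          first
          | (rw [Finset.mem_singleton.1 ha, Finset.mem_singleton.1 hb]
             simp [Char.classInner_neg_left, Char.classInner_neg_right, Char.classInner_irr_self hmc])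
          | (rw [Finset.mem_singleton.1 hb]
             simp [Char.classInner_neg_right, i1, hne'])
          | (rw [Finset.mem_singleton.1 ha]
             simp [Char.classInner_neg_left, i2, hne'.symm])
          | simp [Char.classInner_irr_self hm]
      · rcases Finset.mem_insert.1 ha with rfl | ha
        · exact Char.IsIrrCharacter.isGeneralizedCharacter hm
        · rw [Finset.mem_singleton.1 ha]
          simpa using Char.IsGeneralizedCharacter.sub Char.IsGeneralizedCharacter.zero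
            (Char.IsIrrCharacter.isGeneralizedCharacter hmc)
      · rw [hτ, Finset.sum_insert (by simpa using hne'), Finset.sum_singleton, sub_eq_add_neg]
    · obtain ⟨θ, hθ, hθ1, -, rfl⟩ := hφ
      have hfix : Fixed (W.subgroupOf T) θ := by
        by_contra hf
        exact hirr (irr_of_not_fixed hy hθ hf)
      obtain ⟨ω₀, -, hω₀, R, r1, r2, r3, r4⟩ := h.red_image hG hχ hc hθ hθ1 hfix
      refine ⟨R, r1, r2, r3, Or.inr ⟨ω₀, by rw [hω₀], ?_, fun a ha => ?_⟩⟩
      · rw [norm_of_fixed hy hθ hfix, h.card_W hG]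
      · obtain ⟨η, d, hs, -, e⟩ := r4 a ha
        exact ⟨η, d, hs, e⟩
  choose! R hR using main
  refine ⟨R, ?_⟩
  obtain ⟨μ₁, θ₁, hfi⟩ := exists_fixedInd hG h
  refine
    { nonempty := ⟨μ₁, hfi.1⟩
      isCharacter := ?_
      conj_mem := fun φ hφ => OddChar.Above.above_conj _ _ hφ
      conj_ne := fun φ hφ => h.above_conj_ne hG hφ
      isometry := (h.tauCore_isometry hG).1
      map_one := fun α _ => (h.tauCore_isometry hG).2 α
      orthogonal := fun φ hφ ψ hψ hne => h.above_orth hG hφ hψ hne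
      orthonormal := fun φ hφ => (hR φ hφ).1
      virtual := fun φ hφ => (hR φ hφ).2.1
      sum_eq := fun φ hφ => (hR φ hφ).2.2.1
      disjoint := ?_ }
  · rintro φ ⟨θ, hθ, -, -, rfl⟩
    exact Char.IsCharacter.indFun _ (Char.IsIrrCharacter.isCharacter hθ)
  intro ψ hψ φ hφ h0 h0' a ha b hb
  -- products of a signed column member with anything off the grid
  have hgrid : ∀ (m : G → ℂ), (∀ ω, Cfsg.classInner m (χ ω) = 0) →
      ∀ (d : ℂ) η, Cfsg.classInner m (d • ν η) = 0 ∧ Cfsg.classInner (d • ν η) m = 0 := by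
    intro m hm d η
    refine ⟨by rw [Char.classInner_smul_right, hm, mul_zero], ?_⟩
    rw [← Char.classInner_conj_symm, Char.classInner_smul_right, hm, mul_zero, map_zero]
  rcases (hR φ hφ).2.2.2 with ⟨m, hm, hmne, hτm, m1, m2, hRm⟩ | ⟨ω₁, e₁, n₁, hRr⟩
  · rcases (hR ψ hψ).2.2.2 with ⟨n, hn, hnne, hτn, n1, n2, hRn⟩ | ⟨ω₂, e₂, n₂, hRs⟩
    · have hmc := OddChar.isIrrCharacter_conjFun hm
      have hnc := OddChar.isIrrCharacter_conjFun hn
      have hiso := (h.tauCore_isometry hG).1.2.2.1 _ (h.sub_conj_mem hG hφ) _ (h.sub_conj_mem hG hψ)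
      rw [hτm, hτn, Char.classInner_sub_left, Char.classInner_sub_right, Char.classInner_sub_right,
        Char.classInner_sub_left, Char.classInner_sub_right, Char.classInner_sub_right,
        h0, h0', cj φ ψ, h0', cj φ (Cfsg.conjFun ψ), OddChar.conjFun_conjFun, h0] at hiso
      simp only [map_zero, sub_zero] at hiso
      have hd1 : m ≠ n := fun e => by
        subst e
        rw [Char.classInner_irr_self hm, Char.classInner_irr_self hmc,
          Char.classInner_irr_of_ne hm hmc (Ne.symm hmne), Char.classInner_irr_of_ne hmc hm hmne]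
          at hiso
        norm_num at hiso
      have hd2 : m ≠ Cfsg.conjFun n := fun e => by
        subst e
        rw [OddChar.conjFun_conjFun, Char.classInner_irr_self hn, Char.classInner_irr_self hnc,
          Char.classInner_irr_of_ne hn hnc (Ne.symm hnne), Char.classInner_irr_of_ne hnc hn hnne]
          at hiso
        norm_num at hiso
      have hd3 : Cfsg.conjFun m ≠ n := fun e => hd2 (by rw [← e, OddChar.conjFun_conjFun])
      have hd4 : Cfsg.conjFun m ≠ Cfsg.conjFun n := fun e => hd1 (by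
        rw [← OddChar.conjFun_conjFun m, e, OddChar.conjFun_conjFun])
      rcases hRm a ha with rfl | rfl <;> rcases hRn b hb with rfl | rfl <;>
        try simp only [Char.classInner_neg_left, Char.classInner_neg_right, neg_neg, neg_eq_zero]
      · exact Char.classInner_irr_of_ne hm hn hd1
      · exact Char.classInner_irr_of_ne hm hnc hd2
      · exact Char.classInner_irr_of_ne hmc hn hd3
      · exact Char.classInner_irr_of_ne hmc hnc hd4
    · obtain ⟨η, d, -, rfl⟩ := hRs b hb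
      rcases hRm a ha with rfl | rfl
      · exact (hgrid _ m1 d η).1
      · rw [Char.classInner_neg_left, (hgrid _ m2 d η).1, neg_zero]
  · obtain ⟨η, d, hs, rfl⟩ := hRr a ha
    rcases (hR ψ hψ).2.2.2 with ⟨n, -, -, -, n1, n2, hRn⟩ | ⟨ω₂, e₂, n₂, hRs⟩
    · rcases hRn b hb with rfl | rfl
      · exact (hgrid _ n1 d η).2
      · rw [Char.classInner_neg_right, (hgrid _ n2 d η).2, neg_zero]
    obtain ⟨η', d', hs', rfl⟩ := hRs b hb
    rw [Char.classInner_smul_left, Char.classInner_smul_right, hχ.orthonormal, if_neg, mul_zero,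
      mul_zero]
    intro e
    obtain rfl := wUp_injective _ _ e
    have hw0 : (Nat.card W : ℂ) ≠ 0 := Nat.cast_ne_zero.2 Nat.card_pos.ne'
    have hres : ∀ {ω ω' : ↥(W.subgroupOf T ⊔ W'.subgroupOf T) →* ℂˣ}, SameCol ω ω' →
        Cfsg.indFun (derIn T) (fun k : derIn T => μ ω k) =
          Cfsg.indFun (derIn T) (fun k : derIn T => μ ω' k) := fun hss => by
      congr 1
      funext k
      exact hc.eq_on hy hss k
    have hinv : ∀ {ω ω' : ↥(W.subgroupOf T ⊔ W'.subgroupOf T) →* ℂˣ}, SameCol ω ω' →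
        SameCol ω⁻¹ ω'⁻¹ := fun hss w hw => by simp [hss w hw]
    have hcj : Cfsg.conjFun ψ = Cfsg.indFun (derIn T) (fun k : derIn T => μ ω₂⁻¹ k) := by
      rw [e₂, OddChar.Above.conjFun_indFun]
      congr 1
      funext k
      exact congrFun (hc.conj hy ω₂).1 (k : T)
    have hor : φ = ψ ∨ φ = Cfsg.conjFun ψ := by
      rw [e₁, hcj, e₂]
      rcases hs with hs | hs <;> rcases hs' with hs' | hs'
      · exact Or.inl ((hres hs).symm.trans (hres hs'))
      · exact Or.inr ((hres hs).symm.trans (hres hs'))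
      · refine Or.inr (hres fun w hw => ?_)
        have e1 := hs w hw
        have e2 := hs' w hw
        simp only [MonoidHom.inv_apply] at e1 ⊢
        rw [← e2, e1, inv_inv]
      · refine Or.inl (hres fun w hw => ?_)
        have e1 := hs w hw
        have e2 := hs' w hw
        simp only [MonoidHom.inv_apply] at e1 e2
        exact inv_injective (e1.symm.trans e2)
    rcases hor with e | e
    · rw [← e, n₁] at h0
      exact hw0 h0
    · rw [← e, n₁] at h0'
      exact hw0 h0'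

theorem exists_linMap (h : CoreSide T W V W') : ∃ f, IsLinMap T f := by
  obtain ⟨R, hS⟩ := exists_system hG h
  have hsub : linChars T ⊆ Cfsg.inducedIrrAbove (derIn T) ⊥ :=
    OddChar.Above.above_mono _ bot_le
  obtain ⟨-, f, hf, hagree⟩ := Cfsg.Agent.S1517.result (linChars T) (tauCore T) R
    (OddChar.Above.system_subset hS hsub (linChars_nonempty hG h)
      fun φ hφ => OddChar.Above.above_conj _ _ hφ)
    fun φ hφ ψ hψ => by rw [(linChars_mem hG h φ hφ).2, (linChars_mem hG h ψ hψ).2]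
  exact ⟨f, hf, hagree⟩

end CfsgLib.FT
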