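import Cfsg.Agent.Lib.FT.PairChars
import Cfsg.Agent.Lib.OddChar.CyclicTI
import Cfsg.Agent.Lib.OddChar.CyclicDual
import Cfsg.Agent.Lib.OddChar.Above
import Cfsg.Agent.Lib.Char.Linear

/-!
PROJECT FT, helper for CoreFam: in `L = K W₁` the characters induced from the `W₁`-fixed irreducible
characters of `K` are exactly the column sums of the `μ ω`, and complex conjugation inverts the index.
-/

set_option autoImplicit false
set_option linter.style.haveILetI false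
set_option linter.unusedSectionVars false

open ComplexConjugate

namespace CfsgLib.FT.CoreFamAux

open CfsgLib PairChars

variable {L : Type*} [Group L] [Fintype L] {K W₁ W₂ : Subgroup L} [hK : K.Normal]

/-- Same restriction to `W₂`. -/
def SameCol (η ω : ↥(W₁ ⊔ W₂) →* ℂˣ) : Prop :=
  ∀ w : ↥(W₁ ⊔ W₂), (w : L) ∈ W₂ → η w = ω w

/-- `θ` is fixed by `W₁`. -/
def Fixed (W₁ : Subgroup L) (θ : K → ℂ) : Prop := ∀ x ∈ W₁, CharTwist.conjFun K θ x = θ

/-- The output of S1511. -/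
structure Cols (K W₁ W₂ : Subgroup L) (μ : (↥(W₁ ⊔ W₂) →* ℂˣ) → (L → ℂ))
    (δ : (↥(W₁ ⊔ W₂) →* ℂˣ) → ℂ) : Prop where
  inj : Function.Injective μ
  irr : ∀ ω, Cfsg.IsIrrCharacter L (μ ω)
  sign : ∀ ω, δ ω = 1 ∨ δ ω = -1
  pair : ∀ ω ω', SameCol ω ω' → δ ω = δ ω' ∧
    Cfsg.indFun (W₁ ⊔ W₂) (fun w => (ω w : ℂ) - (ω' w : ℂ)) = δ ω • (μ ω - μ ω')
  val : ∀ ω, ∀ w : ↥(W₁ ⊔ W₂), (w : L) ∉ W₂ → μ ω w = δ ω * (ω w : ℂ)
  van : ∀ θ : L → ℂ, Cfsg.IsIrrCharacter L θ → (∀ ω, θ ≠ μ ω) →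
    ∀ w : ↥(W₁ ⊔ W₂), (w : L) ∉ W₂ → θ w = 0
  deg : ∀ ω, ∃ n : ℤ, μ ω 1 - δ ω = n * (Nat.card W₁ : ℂ)

variable (h : Hyp K W₁ W₂)
include h

theorem exists_cols : ∃ μ δ, Cols K W₁ W₂ μ δ := by
  obtain ⟨μ, δ, h1, h2, h3, h4, h5, h6, h7⟩ := Cfsg.Agent.S1511.result K W₁ W₂ h.inf h.sup h.ne₁
    h.cyclic₁ h.hall h.ne₂ h.cyclic₂ h.le h.cent h.odd
  exact ⟨μ, δ, ⟨h1, h2, h3, h4, h5, h6, h7⟩⟩

theorem selfNorm : Cfsg.IsSelfNormalizingCyclic W₁ W₂ :=
  Cfsg.Agent.S1510.result K W₁ W₂ h.inf h.sup h.ne₁ h.cyclic₁ h.hall h.ne₂ h.cyclic₂ h.le h.cent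
    h.odd

theorem index_eq : K.index = Nat.card W₁ :=
  (Subgroup.isComplement'_of_disjoint_and_mul_eq_univ (disjoint_iff.2 h.inf) (by
    rw [← Subgroup.normal_mul, h.sup, Subgroup.coe_top])).symm.index_eq_card

theorem three_le : 3 ≤ Nat.card W₁ :=
  OddChar.CyclicUnique.three_le_card h.ne₁ le_sup_left h.odd

theorem exists_ne_one : ∃ a : ↥(W₁ ⊔ W₂), (a : L) ∈ W₁ ∧ (a : L) ∉ W₂ ∧ a ≠ 1 ∧
    ((a * a : ↥(W₁ ⊔ W₂)) : L) ∉ W₂ := by
  obtain ⟨⟨a, ha⟩, ha1⟩ := Subgroup.ne_bot_iff_exists_ne_one.1 h.ne₁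
  have key : ∀ x ∈ W₁, x ∈ W₂ → x = 1 := fun x hx hx2 =>
    Subgroup.mem_bot.1 (h.inf ▸ (⟨h.le hx2, hx⟩ : x ∈ K ⊓ W₁))
  have ha1' : a ≠ 1 := fun e => ha1 (Subtype.ext e)
  refine ⟨⟨a, Subgroup.mem_sup_left ha⟩, ha, fun e => ha1' (key a ha e),
    fun e => ha1' (congrArg Subtype.val e), fun e => ha1' ?_⟩
  have h2 : a ^ 2 = 1 := by rw [sq]; exact key _ (mul_mem ha ha) e
  have ho : Odd (orderOf (⟨a, Subgroup.mem_sup_left ha⟩ : ↥(W₁ ⊔ W₂))) :=
    h.odd.of_dvd_nat (orderOf_dvd_natCard _)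
  rw [Subgroup.orderOf_mk] at ho
  rcases (Nat.dvd_prime Nat.prime_two).1 (orderOf_dvd_of_pow_eq_one h2) with e' | e'
  · exact orderOf_eq_one_iff.1 e'
  · rw [e'] at ho
    exact absurd ho (by decide)

/-- A signed linear character is determined by its values off `W₂`. -/
theorem val_unique {ω ω' : ↥(W₁ ⊔ W₂) →* ℂˣ} {c c' : ℂ} (hc : c = 1 ∨ c = -1)
    (hc' : c' = 1 ∨ c' = -1)
    (hv : ∀ w : ↥(W₁ ⊔ W₂), (w : L) ∉ W₂ → c * (ω w : ℂ) = c' * (ω' w : ℂ)) :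
    c = c' ∧ ω = ω' := by
  obtain ⟨a, haW, ha, -, ha2⟩ := exists_ne_one h
  have hne : ∀ (η : ↥(W₁ ⊔ W₂) →* ℂˣ) (w : ↥(W₁ ⊔ W₂)), (η w : ℂ) ≠ 0 := fun η w => (η w).ne_zero
  have h1 := hv a ha
  have h2 := hv (a * a) ha2
  rw [map_mul, map_mul, Units.val_mul, Units.val_mul] at h2
  have hsq : c * c = c' * c' := by rcases hc with e | e <;> rcases hc' with e' | e' <;> simp [e, e']
  have hc0 : c' * c' ≠ 0 := by rcases hc' with e' | e' <;> simp [e']
  have hxx : (ω a : ℂ) * (ω a : ℂ) = (ω' a : ℂ) * (ω' a : ℂ) := by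
    apply mul_left_cancel₀ hc0
    calc c' * c' * ((ω a : ℂ) * (ω a : ℂ)) = (c * (ω a : ℂ)) * (c * (ω a : ℂ)) := by
          rw [← hsq]; ring
      _ = _ := by rw [h1]; ring
  rw [hxx] at h2
  have hcc : c = c' := mul_right_cancel₀ (mul_ne_zero (hne ω' a) (hne ω' a)) h2
  subst hcc
  have hc00 : c ≠ 0 := fun e => hc0 (by simp [e])
  have hout : ∀ w : ↥(W₁ ⊔ W₂), (w : L) ∉ W₂ → ω w = ω' w := fun w hw =>
    Units.ext (mul_left_cancel₀ hc00 (hv w hw))
  refine ⟨rfl, MonoidHom.ext fun w => ?_⟩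
  by_cases hw : (w : L) ∈ W₂
  · have h3 := hout (w * a) fun e => ha (by
      have := W₂.mul_mem (W₂.inv_mem hw) e
      simpa using this)
    rw [map_mul, map_mul, hout a ha] at h3
    exact mul_right_cancel h3
  · exact hout w hw

theorem conj_invariant {θ : K → ℂ} (hθ : Cfsg.IsIrrCharacter K θ) (hfix : Fixed W₁ θ) (g : L) :
    CharTwist.conjFun K θ g = θ := by
  have hle : (⊤ : Subgroup L) ≤ CharTwist.inertia K θ := by
    rw [← h.sup]
    exact sup_le (CharTwist.le_inertia K (Char.IsIrrCharacter.isClassFunction hθ)) hfix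
  exact CharTwist.mem_inertia.1 (hle (Subgroup.mem_top g))

theorem ind_restrict {θ : K → ℂ} (hθ : Cfsg.IsIrrCharacter K θ) (hfix : Fixed W₁ θ) (k : K) :
    Cfsg.indFun K θ k = (Nat.card W₁ : ℂ) * θ k := by
  rw [CharTwist.indFun_normal_apply]
  simp only [conj_invariant h hθ hfix, Finset.sum_const, Finset.card_univ, nsmul_eq_mul]
  rw [← Nat.card_eq_fintype_card, ← K.card_mul_index, index_eq h, Nat.cast_mul, mul_assoc,
    inv_mul_cancel_left₀ (Nat.cast_ne_zero.2 Nat.card_pos.ne')]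

theorem irr_of_not_fixed {θ : K → ℂ} (hθ : Cfsg.IsIrrCharacter K θ) (hfix : ¬ Fixed W₁ θ) :
    Cfsg.IsIrrCharacter L (Cfsg.indFun K θ) := by
  unfold Fixed at hfix
  push Not at hfix
  exact (Cfsg.Agent.S1513.result K W₁ W₂ h.inf h.sup h.ne₁ h.cyclic₁ h.hall h.ne₂ h.cyclic₂
    h.le h.cent h.odd).1 θ hθ hfix

theorem norm_of_fixed {θ : K → ℂ} (hθ : Cfsg.IsIrrCharacter K θ) (hfix : Fixed W₁ θ) :
    Cfsg.classInner (Cfsg.indFun K θ) (Cfsg.indFun K θ) = (Nat.card W₁ : ℂ) := by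
  classical
  haveI : Fintype K := Fintype.ofFinite K
  rw [Char.classInner_indFun K θ _ (Char.isClassFunction_indFun K θ),
    show (fun k : K => Cfsg.indFun K θ k) = (Nat.card W₁ : ℂ) • θ from
      funext fun k => ind_restrict h hθ hfix k,
    Char.classInner_smul_right, Char.classInner_irr_self hθ, mul_one, map_natCast]

open Classical in
theorem card_col [Fintype (↥(W₁ ⊔ W₂) →* ℂˣ)] (ω₀ : ↥(W₁ ⊔ W₂) →* ℂˣ) :
    (Finset.univ.filter (fun η => SameCol η ω₀)).card = Nat.card W₁ := by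
  haveI := h.cyclic₁
  haveI := h.cyclic₂
  haveI : Finite (W₁ →* ℂˣ) := OddChar.finite_linearChar _
  letI := Fintype.ofFinite (W₁ →* ℂˣ)
  obtain ⟨i, j, hi, hj, hbij⟩ := OddChar.exists_dual (selfNorm h).2.2.1 (selfNorm h).2.2.2.1
  obtain ⟨⟨f₀, g₀⟩, e0⟩ := hbij.2 ω₀
  simp only at e0
  rw [← OddChar.card_dual (H := ↥W₁), Nat.card_eq_fintype_card, ← Finset.card_univ]
  refine (Finset.card_bij (fun f _ => i f * j g₀) (fun f _ => ?_) (fun f _ f' _ hf => ?_)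
    fun η hη => ?_).symm
  · simp only [Finset.mem_filter, Finset.mem_univ, true_and, ← e0]
    intro w hw
    simp [hi _ w hw]
  · exact congrArg Prod.fst (hbij.1 (a₁ := (f, g₀)) (a₂ := (f', g₀)) hf)
  · obtain ⟨⟨f, g⟩, rfl⟩ := hbij.2 η
    refine ⟨f, Finset.mem_univ _, congrArg (fun g => i f * j g) ?_⟩
    simp only [Finset.mem_filter, Finset.mem_univ, true_and, ← e0] at hη
    refine congrArg Prod.snd (hbij.1 (a₁ := (f, g₀)) (a₂ := (f, g))
      (OddChar.sup_hom_ext (fun w hw => ?_) fun w hw => ?_))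
    · simp [hj _ w hw]
    · have := hη w hw
      simp only [MonoidHom.mul_apply, hi _ w hw, one_mul] at this ⊢
      exact this.symm

section Cols

variable {μ : (↥(W₁ ⊔ W₂) →* ℂˣ) → (L → ℂ)} {δ : (↥(W₁ ⊔ W₂) →* ℂˣ) → ℂ}
  (hc : Cols K W₁ W₂ μ δ)
include hc

theorem Cols.conj (ω : ↥(W₁ ⊔ W₂) →* ℂˣ) :
    Cfsg.conjFun (μ ω) = μ ω⁻¹ ∧ δ ω⁻¹ = δ ω := by
  obtain ⟨a, -, ha, -, -⟩ := exists_ne_one h
  have hirr := OddChar.isIrrCharacter_conjFun (hc.irr ω)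
  have hsgn : conj (δ ω) = δ ω := by rcases hc.sign ω with e | e <;> simp [e]
  have hval : ∀ w : ↥(W₁ ⊔ W₂), (w : L) ∉ W₂ →
      Cfsg.conjFun (μ ω) w = δ ω * ((ω⁻¹) w : ℂ) := by
    intro w hw
    show conj (μ ω w) = _
    rw [hc.val ω w hw, map_mul, hsgn, OddChar.conj_linearChar, MonoidHom.inv_apply, map_inv]
  obtain ⟨η, hη⟩ : ∃ η, Cfsg.conjFun (μ ω) = μ η := by
    by_contra hno
    push Not at hno
    have h0 := hc.van _ hirr hno a ha
    rw [hval a ha] at h0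
    rcases mul_eq_zero.1 h0 with e | e
    · rcases hc.sign ω with e' | e' <;> simp [e'] at e
    · exact Units.ne_zero _ e
  obtain ⟨hs, he⟩ := val_unique h (hc.sign η) (hc.sign ω) (ω := η) (ω' := ω⁻¹) fun w hw => by
    rw [← hc.val η w hw, ← hval w hw, hη]
  subst he
  exact ⟨hη, hs⟩

theorem Cols.one : μ 1 = (fun _ => 1) ∧ δ 1 = 1 := by
  obtain ⟨a, -, ha, -, -⟩ := exists_ne_one h
  obtain ⟨η, hη⟩ : ∃ η, (fun _ : L => (1 : ℂ)) = μ η := by
    by_contra hno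
    push Not at hno
    exact one_ne_zero (hc.van _ Char.isIrrCharacter_principal hno a ha)
  obtain ⟨hs, he⟩ := val_unique h (hc.sign η) (Or.inl rfl) (ω := η) (ω' := 1) fun w hw => by
    rw [← hc.val η w hw, ← hη]
    simp
  subst he
  exact ⟨hη.symm, hs⟩

theorem Cols.eq_on {η ω : ↥(W₁ ⊔ W₂) →* ℂˣ} (hη : SameCol η ω) (k : K) : μ η k = μ ω k :=
  Hyp.eq_on h hc.sign hc.pair hη k

open Classical in
/-- Each `μ ω` restricts to a fixed irreducible character, inducing to its column. -/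
theorem Cols.restrict [Fintype (↥(W₁ ⊔ W₂) →* ℂˣ)] (ω : ↥(W₁ ⊔ W₂) →* ℂˣ) :
    Cfsg.IsIrrCharacter K (fun k : K => μ ω k) ∧ Fixed W₁ (fun k : K => μ ω k) ∧
      Cfsg.indFun K (fun k : K => μ ω k) = ∑ η ∈ Finset.univ.filter (SameCol · ω), μ η := by
  haveI : Fintype K := Fintype.ofFinite K
  obtain ⟨θ, hθ, hne⟩ := Clifford.exists_constituent_res (N := K) (hc.irr ω)
  have hθμ : ∀ η, SameCol η ω → Cfsg.classInner (Cfsg.indFun K θ) (μ η) ≠ 0 := by
    intro η hη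
    rw [Char.classInner_indFun K θ _ (Char.IsIrrCharacter.isClassFunction (hc.irr η)),
      show (fun k : K => μ η k) = fun k : K => μ ω k from funext fun k => hc.eq_on h hη k,
      ← Char.classInner_conj_symm]
    exact fun e => hne (by simpa using e)
  have hq := three_le h
  have hfix : Fixed W₁ θ := by
    by_contra hn
    have hirr := irr_of_not_fixed h hθ hn
    have heq := Char.eq_of_classInner_ne_zero hirr (hc.irr ω) (hθμ ω fun _ _ => rfl)
    obtain ⟨n, hn'⟩ := hc.deg ω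
    obtain ⟨d, -, hd⟩ := Char.IsIrrCharacter.exists_degree hθ
    rw [← heq, Char.indFun_apply_one, index_eq h, hd] at hn'
    obtain ⟨s, hs, hs'⟩ : ∃ s : ℤ, δ ω = s ∧ (s = 1 ∨ s = -1) := by
      rcases hc.sign ω with e | e
      · exact ⟨1, by simpa using e, Or.inl rfl⟩
      · exact ⟨-1, by simpa using e, Or.inr rfl⟩
    rw [hs] at hn'
    have h2 : (Nat.card W₁ : ℤ) * ((d : ℤ) - n) = s := by
      have h3 : (((Nat.card W₁ : ℤ) * ((d : ℤ) - n) : ℤ) : ℂ) = (s : ℂ) := by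
        push_cast; linear_combination hn'
      exact_mod_cast h3
    rcases hs' with rfl | rfl
    · have := Int.le_of_dvd one_pos (Dvd.intro _ h2)
      omega
    · have := Int.le_of_dvd one_pos ((Int.dvd_neg).1 (Dvd.intro _ h2))
      omega
  obtain ⟨C, hC, hCirr, hsum⟩ := (Cfsg.Agent.S1513.result K W₁ W₂ h.inf h.sup h.ne₁ h.cyclic₁
    h.hall h.ne₂ h.cyclic₂ h.le h.cent h.odd).2.2 θ hθ hfix
  set col := Finset.univ.filter (SameCol · ω)
  have hsub : col.image μ ⊆ C := by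
    intro c hc'
    obtain ⟨η, hη, rfl⟩ := Finset.mem_image.1 hc'
    by_contra hn
    refine hθμ η (Finset.mem_filter.1 hη).2 ?_
    rw [hsum, Char.classInner_sum_left]
    exact Finset.sum_eq_zero fun e he =>
      Char.classInner_irr_of_ne (hCirr e he) (hc.irr η) fun e' => hn (e' ▸ he)
  have hind : Cfsg.indFun K θ = ∑ η ∈ col, μ η := by
    rw [hsum, ← Finset.sum_image (s := col) (g := μ) (f := fun c : L → ℂ => c) hc.inj.injOn,
      Finset.eq_of_subset_of_card_le hsub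
        (by rw [Finset.card_image_of_injective _ hc.inj, card_col h ω, hC])]
  have hres : (fun k : K => μ ω k) = θ := by
    funext k
    have h1 := congrFun hind (k : L)
    rw [ind_restrict h hθ hfix k, Finset.sum_apply,
      Finset.sum_congr rfl (fun η hη => hc.eq_on h (Finset.mem_filter.1 hη).2 k),
      Finset.sum_const, card_col h ω, nsmul_eq_mul] at h1
    exact (mul_left_cancel₀ (Nat.cast_ne_zero.2 (by omega)) h1).symm
  rw [hres]
  exact ⟨hθ, hfix, hind⟩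

open Classical in
/-- Every fixed irreducible character is the restriction of some `μ ω`. -/
theorem Cols.exists_of_fixed [Fintype (↥(W₁ ⊔ W₂) →* ℂˣ)] {θ : K → ℂ}
    (hθ : Cfsg.IsIrrCharacter K θ) (hfix : Fixed W₁ θ) :
    ∃ ω, (fun k : K => μ ω k) = θ := by
  haveI := h.cyclic₂
  haveI : Finite (W₂ →* ℂˣ) := OddChar.finite_linearChar _
  obtain ⟨i, j, hi, hj, hbij⟩ := OddChar.exists_dual (selfNorm h).2.2.1 (selfNorm h).2.2.2.1
  let F := {φ : Cfsg.IrrCharacter K // ∀ x ∈ W₁, (fun k : K => (φ : K → ℂ)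
    ⟨x * k * x⁻¹, hK.conj_mem (k : L) k.2 x⟩) = φ}
  let Φ : (W₂ →* ℂˣ) → F := fun g => ⟨⟨_, (hc.restrict h (j g)).1⟩, (hc.restrict h (j g)).2.1⟩
  have hinj : Function.Injective Φ := by
    intro g g' e
    have e' : (fun k : K => μ (j g) k) = fun k : K => μ (j g') k :=
      congrArg (fun z : F => (z.1 : K → ℂ)) e
    have h1 := (hc.restrict h (j g)).2.2
    rw [e', (hc.restrict h (j g')).2.2] at h1
    have h2 := congrArg (fun f => Cfsg.classInner f (μ (j g))) h1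
    simp only [Char.classInner_sum_left] at h2
    have hcol : ∀ ω', Cfsg.classInner (μ ω') (μ (j g)) = if ω' = j g then 1 else 0 := fun ω' => by
      split_ifs with e1
      · rw [e1, Char.classInner_irr_self (hc.irr _)]
      · exact Char.classInner_irr_of_ne (hc.irr _) (hc.irr _) (fun e2 => e1 (hc.inj e2))
    simp only [hcol, Finset.sum_ite_eq', Finset.mem_filter, Finset.mem_univ, true_and] at h2
    rw [if_pos (show SameCol (j g) (j g) from fun _ _ => rfl)] at h2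
    split_ifs at h2 with h3
    · have hjj : j g = j g' := OddChar.sup_hom_ext (fun w hw => by rw [hj _ w hw, hj _ w hw]) h3
      exact congrArg Prod.snd (hbij.1 (a₁ := (1, g)) (a₂ := (1, g'))
        (show i 1 * j g = i 1 * j g' by rw [hjj]))
    · exact absurd h2 zero_ne_one
  have hcard : Nat.card (W₂ →* ℂˣ) = Nat.card F := by
    rw [OddChar.card_dual]
    exact ((Cfsg.Agent.S1513.result K W₁ W₂ h.inf h.sup h.ne₁ h.cyclic₁ h.hall h.ne₂ h.cyclic₂
      h.le h.cent h.odd).2.1).symm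
  haveI : Finite F := Subtype.finite
  obtain ⟨g, hg⟩ := (hinj.bijective_of_nat_card_le hcard.ge).2 ⟨⟨θ, hθ⟩, hfix⟩
  exact ⟨j g, congrArg (fun z : F => (z.1 : K → ℂ)) hg⟩

end Cols

/-- A `W₁`-fixed linear character trivial on `W₂` is trivial. -/
theorem eq_one_of_fixed_linear {θ : K → ℂ} (hθ : Cfsg.IsIrrCharacter K θ) (h1 : θ 1 = 1)
    (hW₂ : ∀ k : K, (k : L) ∈ W₂ → θ k = 1) (hfix : Fixed W₁ θ) : θ = fun _ => 1 := by
  haveI : Finite K := inferInstance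
  obtain ⟨g, hg⟩ := Char.isIrrCharacter_degree_one_iff.1 ⟨hθ, h1⟩
  have hmul : ∀ a b : K, θ (a * b) = θ a * θ b := fun a b => by
    rw [hg]; simp
  obtain ⟨f, hf⟩ : ∃ f : K →* ℂ, ∀ k, f k = θ k :=
    ⟨{ toFun := θ, map_one' := h1, map_mul' := hmul }, fun _ => rfl⟩
  set N : Subgroup L := f.ker.map K.subtype with hN
  have hmem : ∀ z, z ∈ N ↔ ∃ hz : z ∈ K, θ ⟨z, hz⟩ = 1 := fun z => by
    rw [hN, Subgroup.mem_map]
    constructor
    · rintro ⟨k, hk, rfl⟩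
      exact ⟨k.2, by rw [← hf]; exact hk⟩
    · rintro ⟨hz, hv⟩
      exact ⟨⟨z, hz⟩, by rw [MonoidHom.mem_ker, hf]; exact hv, rfl⟩
  obtain ⟨⟨x, hx⟩, hx1⟩ := Subgroup.ne_bot_iff_exists_ne_one.1 h.ne₁
  have hx1' : x ≠ 1 := fun e => hx1 (Subtype.ext e)
  have hconj : ∀ z : K, θ ⟨x * z * x⁻¹, hK.conj_mem (z : L) z.2 x⟩ = θ z := fun z =>
    congrFun (hfix x hx) z
  have hNn : x ∈ Subgroup.normalizer (N : Set L) := by
    refine Subgroup.mem_normalizer_iff.2 fun z => ?_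
    constructor
    · intro hz
      obtain ⟨hzK, hv⟩ := (hmem z).1 hz
      exact (hmem _).2 ⟨hK.conj_mem z hzK x, by rw [hconj ⟨z, hzK⟩, hv]⟩
    · intro hz
      obtain ⟨hzK, hv⟩ := (hmem _).1 hz
      have hzK' : z ∈ K := by simpa [mul_assoc] using hK.conj_mem _ hzK x⁻¹
      exact (hmem z).2 ⟨hzK', by rw [← hconj ⟨z, hzK'⟩]; exact hv⟩
  have hcop : (orderOf x).Coprime (Nat.card K) := by
    have hd := orderOf_dvd_natCard (⟨x, hx⟩ : W₁)
    rw [Subgroup.orderOf_mk] at hd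
    have hh := h.hall
    rw [(Subgroup.isComplement'_of_disjoint_and_mul_eq_univ (disjoint_iff.2 h.inf) (by
      rw [← Subgroup.normal_mul, h.sup, Subgroup.coe_top])).index_eq_card] at hh
    exact hh.coprime_dvd_left hd
  funext k
  have hNK : N ≤ K := Subgroup.map_subtype_le _
  have hn : (k : L) * x * (k : L)⁻¹ * x⁻¹ ∈ N := by
    have hb : x * (k : L)⁻¹ * x⁻¹ ∈ K := hK.conj_mem _ (K.inv_mem k.2) x
    refine (hmem _).2 ⟨?_, ?_⟩
    · simpa [mul_assoc] using K.mul_mem k.2 hb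
    · rw [show (⟨(k : L) * x * (k : L)⁻¹ * x⁻¹, _⟩ : K) = k * ⟨x * (k : L)⁻¹ * x⁻¹, hb⟩ from
        Subtype.ext (by simp [mul_assoc]), hmul,
        show θ ⟨x * (k : L)⁻¹ * x⁻¹, hb⟩ = θ k⁻¹ from hconj k⁻¹,
        ← hmul, mul_inv_cancel, h1]
  obtain ⟨u, hu, c, hcN, hcx, e⟩ := OddChar.exists_conj_centralizer_coset N x hNn
    (hcop.coprime_dvd_right (Subgroup.card_dvd_of_le hNK)) _ hn
  have e' : u * (k : L) * x * (u * (k : L))⁻¹ = c * x := by rw [← e]; group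
  have hord : orderOf (c * x) = orderOf x := by
    rw [← e', ← MulAut.conj_apply, MulEquiv.orderOf_eq]
  have hc1 : c = 1 := by
    have hp : (c * x) ^ orderOf x = 1 := by rw [← hord, pow_orderOf_eq_one]
    rw [(show Commute c x from hcx).mul_pow, pow_orderOf_eq_one, mul_one] at hp
    have h2 : orderOf c ∣ Nat.card K := (Subgroup.orderOf_dvd_natCard K (hNK hcN))
    exact orderOf_eq_one_iff.1 (Nat.eq_one_of_dvd_coprimes hcop
      (orderOf_dvd_of_pow_eq_one hp) h2)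
  have huk : u * (k : L) ∈ W₂ := by
    rw [← h.cent x hx hx1']
    refine ⟨K.mul_mem (hNK hu) k.2, Subgroup.mem_centralizer_singleton_iff.2 ?_⟩
    rw [hc1, one_mul, mul_inv_eq_iff_eq_mul] at e'
    exact e'
  obtain ⟨huK, hu1⟩ := (hmem u).1 hu
  have h3 := hW₂ (⟨u, huK⟩ * k) huk
  rw [hmul, hu1, one_mul] at h3
  exact h3

end CfsgLib.FT.CoreFamAux
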