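import Cfsg.Agent.Lib.FT.Pair
import Cfsg.Agent.Lib.FT.Support
import Cfsg.Agent.Lib.FT.CoreFamAux
import Cfsg.Agent.Lib.FT.LinearPairs
import Cfsg.Agent.S1500
import Cfsg.Agent.S1501

/-!
PROJECT FT, base for CoreFam: `T = T' W` as an instance of the section 4 hypothesis, the larger Dade
set `A₀ = T_σ^# ∪` conjugates of `W W' ∖ (W ∪ W')`, and its map.
-/

set_option autoImplicit false
set_option linter.style.haveILetI false

open scoped commutatorElement

namespace CfsgLib.FT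

open Subgroup

universe u

variable {G : Type u} [Group G]

/-- `T'` inside `T`. -/
noncomputable abbrev derIn (T : Subgroup G) : Subgroup ↥T := ⁅T, T⁆.subgroupOf T

theorem derIn_eq (T : Subgroup G) : derIn T = commutator ↥T := by
  rw [derIn, ← map_subtype_commutator T, subgroupOf,
    comap_map_eq_self_of_injective T.subtype_injective]

instance derIn_normal (T : Subgroup G) : (derIn T).Normal := by
  rw [derIn_eq, commutator_def]
  infer_instance

theorem derIn_two (T : Subgroup G) :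
    (⁅⁅T, T⁆, ⁅T, T⁆⁆).subgroupOf T = ⁅derIn T, derIn T⁆ := by
  have h : (⁅derIn T, derIn T⁆).map T.subtype = ⁅⁅T, T⁆, ⁅T, T⁆⁆ := by
    rw [map_commutator, derIn, map_subgroupOf_eq_of_le (commutator_le_self T)]
  rw [← h, subgroupOf, comap_map_eq_self_of_injective T.subtype_injective]

/-- `W W'` computed inside `T` and in `G`. -/
noncomputable def wEquiv {T W W' : Subgroup G} (hW : W ≤ T) (hW' : W' ≤ T) :
    ↥(W.subgroupOf T ⊔ W'.subgroupOf T) ≃* ↥(W ⊔ W') :=
  (MulEquiv.subgroupCongr (subgroupOf_sup hW hW').symm).trans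
    (subgroupOfEquivOfLe (sup_le hW hW'))

theorem wEquiv_coe {T W W' : Subgroup G} (hW : W ≤ T) (hW' : W' ≤ T)
    (w : ↥(W.subgroupOf T ⊔ W'.subgroupOf T)) : ((wEquiv hW hW' w : G)) = ((w : T) : G) := rfl

/-- A character of `W W'` seen in `G`. -/
noncomputable def wUp {T W W' : Subgroup G} (hW : W ≤ T) (hW' : W' ≤ T)
    (η : ↥(W.subgroupOf T ⊔ W'.subgroupOf T) →* ℂˣ) : ↥(W ⊔ W') →* ℂˣ :=
  η.comp (wEquiv hW hW').symm.toMonoidHom

theorem wUp_apply {T W W' : Subgroup G} (hW : W ≤ T) (hW' : W' ≤ T)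
    (η : ↥(W.subgroupOf T ⊔ W'.subgroupOf T) →* ℂˣ)
    (w : ↥(W.subgroupOf T ⊔ W'.subgroupOf T)) : wUp hW hW' η (wEquiv hW hW' w) = η w := by
  simp [wUp]

theorem wUp_injective {T W W' : Subgroup G} (hW : W ≤ T) (hW' : W' ≤ T) :
    Function.Injective (wUp hW hW') := fun η η' h => MonoidHom.ext fun w => by
  rw [← wUp_apply hW hW' η, h, wUp_apply]

theorem wUp_inv {T W W' : Subgroup G} (hW : W ≤ T) (hW' : W' ≤ T)
    (η : ↥(W.subgroupOf T ⊔ W'.subgroupOf T) →* ℂˣ) :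
    wUp hW hW' η⁻¹ = (wUp hW hW' η)⁻¹ := rfl

/-- `A₀`: the core and the conjugates of `W W' ∖ (W ∪ W')`. -/
def a0set (T W W' : Subgroup G) : Set G :=
  coreSet T ∪ {v | ∃ m ∈ T, ∃ w ∈ W ⊔ W', w ∉ W ∧ w ∉ W' ∧ v = m * w * m⁻¹}

/-- The Dade map of `A₀`. -/
noncomputable def tauA0 (T W W' : Subgroup G) (α : ↥T → ℂ) : G → ℂ :=
  Cfsg.dadeIsometry (a0set T W W') T (Cfsg.supportR T) α

variable [Fintype G] (hG : Cfsg.IsMinSimpleOddOrder G) {T W V W' : Subgroup G}
  (h : CoreSide T W V W')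

include h in
omit [Fintype G] in
theorem CoreSide.le_T : W ≤ T ∧ W' ≤ ⁅T, T⁆ ∧ W' ≤ T := by
  have h2 : W' ≤ ⁅T, T⁆ := (h.typeP.W₂_le.trans inf_le_right).trans (commutator_le_self _)
  exact ⟨h.typeP.W₁_compl.2.1, h2, h2.trans (commutator_le_self T)⟩

include h in
omit [Fintype G] in
theorem CoreSide.mem_derIn (x : T) : x ∈ derIn T ↔ (x : G) ∈ Cfsg.sigmaCore T := by
  rw [h.core_eq]; exact mem_subgroupOf

include hG h

theorem CoreSide.hyp :
    PairChars.Hyp (derIn T) (W.subgroupOf T) (W'.subgroupOf T) := by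
  obtain ⟨hW, hW'd, hW'⟩ := h.le_T
  obtain ⟨-, -, hdis, hfac⟩ := h.typeP.W₁_compl
  obtain ⟨hne1, hne2, -, -, hcyc, -⟩ := h.typeP.selfNormalizing
  have hW'c : IsCyclic W' := by
    haveI := hcyc
    exact isCyclic_of_injective (Subgroup.inclusion (le_sup_right : W' ≤ W ⊔ W'))
      (Subgroup.inclusion_injective _)
  refine
    { inf := ?_, sup := ?_, ne₁ := ?_, cyclic₁ := ?_, hall := ?_, ne₂ := ?_, cyclic₂ := ?_,
      le := fun x hx => mem_subgroupOf.2 (hW'd (mem_subgroupOf.1 hx)), cent := ?_,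
      odd := (hG.1.of_dvd_nat (card_subgroup_dvd_card T)).of_dvd_nat (card_subgroup_dvd_card _) }
  · rw [eq_bot_iff]
    rintro x ⟨h1, h2⟩
    have h3 : (x : G) ∈ ⁅T, T⁆ ⊓ W := ⟨mem_subgroupOf.1 h1, mem_subgroupOf.1 h2⟩
    rw [hdis, mem_bot] at h3
    exact mem_bot.2 (Subtype.ext h3)
  · rw [eq_top_iff]
    intro x _
    obtain ⟨a, ha, b, hb, e⟩ := hfac (x : G) x.2
    have hx : x = (⟨a, commutator_le_self T ha⟩ : T) * ⟨b, hW hb⟩ := Subtype.ext e
    rw [hx]
    exact mul_mem_sup (mem_subgroupOf.2 ha) (mem_subgroupOf.2 hb)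
  · intro e
    refine hne1 ((eq_bot_iff_forall _).2 fun x hx => ?_)
    have h2 : (⟨x, hW hx⟩ : T) ∈ W.subgroupOf T := mem_subgroupOf.2 hx
    rw [e, mem_bot] at h2
    exact congrArg Subtype.val h2
  · exact (subgroupOfEquivOfLe hW).isCyclic.2 h.typeP.W₁_cyclic
  · have hh := h.typeP.W₁_hall
    rw [Nat.card_congr (subgroupOfEquivOfLe hW).toEquiv]
    exact hh
  · intro e
    refine hne2 ((eq_bot_iff_forall _).2 fun x hx => ?_)
    have h2 : (⟨x, hW' hx⟩ : T) ∈ W'.subgroupOf T := mem_subgroupOf.2 hx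
    rw [e, mem_bot] at h2
    exact congrArg Subtype.val h2
  · exact (subgroupOfEquivOfLe hW').isCyclic.2 hW'c
  · intro x hx hx1
    have hc := h.typeP.W₂_centralizer (x : G) (mem_subgroupOf.1 hx) fun e => hx1 (Subtype.ext e)
    ext y
    simp only [mem_inf, mem_subgroupOf, mem_centralizer_singleton_iff, derIn]
    rw [← hc]
    simp only [mem_inf, mem_centralizer_singleton_iff, Subtype.ext_iff, Subgroup.coe_mul]

theorem CoreSide.dade_a0 :
    Cfsg.DadeHypothesis (a0set T W W') T (Cfsg.supportR T) := by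
  obtain ⟨K, U, hKU⟩ := OddChar.MaxTypes.exists_decomposition hG h.coatom
  have hK := OddChar.MaxTypes.K_ne_bot_of_typeP hG h.coatom hKU h.typeP
  have hnI : ¬ Cfsg.IsOfTypeI T := fun hI =>
    hK (OddChar.MaxTypes.K_eq_bot_of_typeI hG h.coatom hKU hI)
  refine OddChar.MaxTypes.dadeHypothesis (X := Cfsg.typeA0 T) ?_ ?_ ?_ ?_
    (OddChar.MaxTypes.supportData hG h.coatom hKU)
  · rintro a (ha | ha)
    · refine Or.inl ?_
      have haσ : a ∈ Cfsg.sigmaCore T := ha.1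
      have ha1 : a ≠ 1 := ha.2
      rw [Cfsg.typeA, if_neg hnI]
      refine ⟨h.core_eq ▸ haσ, ha1, a, ?_, ha1, rfl⟩
      rw [OddChar.MaxTypes.typeCore_eq hG h.coatom hKU]
      exact haσ
    · exact Or.inr ⟨hnI, W, V, W', h.typeP, ha⟩
  · rintro a (ha | ⟨m, hm, w, hw, -, -, rfl⟩)
    · exact OddOrder.piCoreOf_le _ _ ha.1
    · exact T.mul_mem (T.mul_mem hm (sup_le h.le_T.1 h.le_T.2.2 hw)) (T.inv_mem hm)
  · rintro (ha | ⟨m, -, w, -, hw, -, e⟩)
    · exact ha.2 rfl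
    · exact hw (by rw [conj_eq_one_iff.1 e.symm]; exact W.one_mem)
  · rintro x hx a (ha | ⟨m, hm, w, hw, h1, h2, rfl⟩)
    · exact Or.inl (coreSet_conj hx ha)
    · exact Or.inr ⟨x * m, T.mul_mem hx hm, w, hw, h1, h2, by group⟩

theorem CoreSide.tauA0_eq {α : ↥T → ℂ} (hα : Cfsg.IsClassFunction T α)
    (hs : ∀ x : T, (x : G) ∉ coreSet T → α x = 0) : tauA0 T W W' α = tauCore T α := by
  have hD := h.dade_a0 hG
  have hD' := dade_core hG h.coatom
  funext g
  by_cases hg : g ∈ OddChar.dadeSupport (coreSet T) (Cfsg.supportR T)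
  · obtain ⟨a, ha, u, hu, x, e⟩ := hg
    rw [tauA0, tauCore, OddChar.dadeIsometry_apply hD hα ⟨a, hD'.subset ha⟩ (Or.inl ha) hu e,
      OddChar.dadeIsometry_apply hD' hα ⟨a, hD'.subset ha⟩ ha hu e]
  · have h0 : tauCore T α g = 0 := OddChar.dadeIsometry_eq_zero hg
    rw [h0]
    by_cases hg' : g ∈ OddChar.dadeSupport (a0set T W W') (Cfsg.supportR T)
    · obtain ⟨a, ha, u, hu, x, e⟩ := hg'
      rw [tauA0, OddChar.dadeIsometry_apply hD hα ⟨a, hD.subset ha⟩ ha hu e]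
      exact hs _ fun hc => hg ⟨a, hc, u, hu, x, e⟩
    · exact OddChar.dadeIsometry_eq_zero hg'

/-- The Dade image at a point of `W W' ∖ (W ∪ W')`. -/
theorem CoreSide.tauA0_apply {α : ↥T → ℂ} (hα : Cfsg.IsClassFunction T α)
    {w : ↥(W ⊔ W')} (h1 : (w : G) ∉ W) (h2 : (w : G) ∉ W') :
    tauA0 T W W' α w = α ⟨w, sup_le h.le_T.1 h.le_T.2.2 w.2⟩ := by
  have hD := h.dade_a0 hG
  have hA : (w : G) ∈ a0set T W W' := Or.inr ⟨1, T.one_mem, w, w.2, h1, h2, by simp⟩
  exact OddChar.dadeIsometry_apply hD hα ⟨(w : G), sup_le h.le_T.1 h.le_T.2.2 w.2⟩ hA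
    (u := 1) (Subgroup.one_mem _) (x := 1) (by simp)

variable [Fintype T]

omit hG h in
theorem span_above {K A : Subgroup ↥T} [K.Normal] {α : ↥T → ℂ}
    (hα : α ∈ Cfsg.zspan (Cfsg.inducedIrrAbove K A)) :
    Cfsg.IsGeneralizedCharacter T α ∧ Cfsg.IsClassFunction T α ∧ ∀ x : T, x ∉ K → α x = 0 := by
  classical
  induction hα using Submodule.span_induction with
  | mem φ hφ =>
    obtain ⟨θ, hθ, -, -, rfl⟩ := hφ
    exact ⟨Char.IsCharacter.isGeneralizedCharacter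
      (Char.IsCharacter.indFun K (Char.IsIrrCharacter.isCharacter hθ)),
      Char.isClassFunction_indFun _ _, fun x hx => Char.indFun_eq_zero_of_normal _ _ hx⟩
  | zero => exact ⟨Char.IsGeneralizedCharacter.zero, fun _ _ => rfl, fun _ _ => rfl⟩
  | add a b _ _ ha hb =>
    exact ⟨Char.IsGeneralizedCharacter.add ha.1 hb.1,
      fun x y => by simp only [Pi.add_apply]; rw [ha.2.1 x y, hb.2.1 x y],
      fun x hx => by simp [ha.2.2 x hx, hb.2.2 x hx]⟩
  | smul n a _ ha =>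
    refine ⟨?_, fun x y => by simp only [Pi.smul_apply]; rw [ha.2.1 x y],
      fun x hx => by simp [ha.2.2 x hx]⟩
    induction n using Int.induction_on with
    | zero => simpa using Char.IsGeneralizedCharacter.zero
    | succ i hi => rw [add_smul, one_smul]; exact Char.IsGeneralizedCharacter.add hi ha.1
    | pred i hi => rw [sub_smul, one_smul]; exact Char.IsGeneralizedCharacter.sub hi ha.1

omit hG in
/-- A combination vanishing at `1` lives on the core. -/
theorem CoreSide.zero_off_core {α : ↥T → ℂ}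
    (hα : α ∈ Cfsg.zspanOn (Cfsg.inducedIrrAbove (derIn T) ⊥) {1}ᶜ) :
    ∀ x : T, (x : G) ∉ coreSet T → α x = 0 := by
  intro x hx
  by_cases h1 : x = 1
  · exact hα.2 x (by simp [h1])
  · exact (span_above hα.1).2.2 x fun hd => hx ⟨(h.mem_derIn x).1 hd, fun e => h1 (Subtype.ext e)⟩

/-- The core map is an isometry on the combinations vanishing at `1`. -/
theorem CoreSide.tauCore_isometry :
    Cfsg.IsLinearIsometryOn (Cfsg.zspanOn (Cfsg.inducedIrrAbove (derIn T) ⊥) {1}ᶜ) (tauCore T) ∧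
      ∀ α : ↥T → ℂ, tauCore T α 1 = 0 := by
  have hD := dade_core hG h.coatom
  refine ⟨⟨fun a _ b _ => dade_map_add _ _ _ a b, fun a _ n => dade_map_zsmul _ _ _ n a,
    fun α hα β hβ => ?_, fun α hα => ?_⟩, fun α => dade_apply_one _ _ _ hD α⟩
  · exact (Cfsg.Agent.S1500.result (coreSet T) T (Cfsg.supportR T) hD α
      (span_above hα.1).2.1 (h.zero_off_core hα)).1 β (span_above hβ.1).2.1 (h.zero_off_core hβ)
  · exact Cfsg.Agent.S1501.result (coreSet T) T (Cfsg.supportR T) hD α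
      (span_above hα.1).1 (h.zero_off_core hα)

end CfsgLib.FT
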