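import Cfsg.Agent.Lib.OddChar.Coherence

/-!
FT helper for CoreKill: integer grids with `x a b + x a₁ b₁ = x a b₁ + x a₁ b`, the Cauchy bound
on the core, and the final inequality.
-/

set_option autoImplicit false

namespace CfsgLib.FT.CoreKillAux

section Grid

variable {A B : Type*} [Fintype A] [Fintype B] {x : A → B → ℤ} {a₁ : A} {b₁ : B}

theorem two_rows {a a' : A} (h : a ≠ a') :
    ∑ b, (x a b ^ 2 + x a' b ^ 2) ≤ ∑ a, ∑ b, x a b ^ 2 := by
  classical
  rw [Finset.sum_add_distrib]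
  calc (∑ b, x a b ^ 2) + ∑ b, x a' b ^ 2 = ∑ a ∈ ({a, a'} : Finset A), ∑ b, x a b ^ 2 := by
        rw [Finset.sum_pair h]
    _ ≤ _ := Finset.sum_le_univ_sum_of_nonneg fun _ => Finset.sum_nonneg fun _ _ => sq_nonneg _

theorem one_le_sq {n : ℤ} (h : n ≠ 0) : 1 ≤ n ^ 2 := by
  have : 0 < n ^ 2 := by positivity
  omega

theorem exists_other {α : Type*} [Fintype α] (h : 2 ≤ Fintype.card α) (a : α) : ∃ b, b ≠ a :=
  Fintype.exists_ne_of_one_lt_card (by omega) a

/-- At most one nonzero entry and `0` at the corner: all are `0`. -/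
theorem grid_single (hrect : ∀ a b, x a b + x a₁ b₁ = x a b₁ + x a₁ b) (hA : 2 ≤ Fintype.card A)
    (hB : 2 ≤ Fintype.card B) (h0 : x a₁ b₁ = 0)
    (huniq : ∀ a b a' b', x a b ≠ 0 → x a' b' ≠ 0 → a = a' ∧ b = b') : ∀ a b, x a b = 0 := by
  have hcol : ∀ a, x a b₁ = 0 := fun a => by
    by_contra h
    obtain ⟨b', hb'⟩ := exists_other hB b₁
    have h2 : x a₁ b' = 0 := by_contra fun h2 => hb' (huniq _ _ _ _ h2 h).2
    have h3 := hrect a b'
    exact hb' (huniq _ _ _ _ (show x a b' ≠ 0 by omega) h).2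
  have hrow : ∀ b, x a₁ b = 0 := fun b => by
    by_contra h
    obtain ⟨a', ha'⟩ := exists_other hA a₁
    have h2 := hcol a'
    have h3 := hrect a' b
    exact ha' (huniq _ _ _ _ (show x a' b ≠ 0 by omega) h).1
  intro a b
  have := hrect a b
  have := hcol a
  have := hrow b
  omega

theorem two_col (hrect : ∀ a b, x a b + x a₁ b₁ = x a b₁ + x a₁ b) (hB : 3 ≤ Fintype.card B)
    (h0 : x a₁ b₁ = 0) (hsum : ∑ a, ∑ b, x a b ^ 2 ≤ 2) (a : A) : x a b₁ = 0 := by
  by_contra h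
  have hne : a ≠ a₁ := fun e => h (e ▸ h0)
  have h1 : ∀ b, (1 : ℤ) ≤ x a b ^ 2 + x a₁ b ^ 2 := fun b => by
    have h3 := hrect a b
    by_cases h4 : x a₁ b = 0
    · have := one_le_sq (show x a b ≠ 0 by omega)
      nlinarith
    · have := one_le_sq h4
      nlinarith [sq_nonneg (x a b)]
  have h2 := Finset.sum_le_sum fun b (_ : b ∈ Finset.univ) => h1 b
  simp only [Finset.sum_const, Finset.card_univ, nsmul_one] at h2
  have h3 := two_rows (x := x) hne
  have : (3 : ℤ) ≤ Fintype.card B := by exact_mod_cast hB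
  linarith

/-- Norm at most `2` and `0` at the corner: all are `0`. -/
theorem grid_two (hrect : ∀ a b, x a b + x a₁ b₁ = x a b₁ + x a₁ b) (hA : 3 ≤ Fintype.card A)
    (hB : 3 ≤ Fintype.card B) (h0 : x a₁ b₁ = 0) (hsum : ∑ a, ∑ b, x a b ^ 2 ≤ 2) :
    ∀ a b, x a b = 0 := by
  intro a b
  have h1 := two_col hrect hB h0 hsum a
  have h2 := two_col (x := fun b a => x a b) (a₁ := b₁) (b₁ := a₁)
    (fun b a => by rw [hrect a b]; ring) hA h0 (by rwa [Finset.sum_comm]) b
  have := hrect a b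
  omega

theorem split_col (b₁ : B) [DecidableEq B] :
    ∑ a, ∑ b, x a b ^ 2 = ∑ a, x a b₁ ^ 2 + ∑ a, ∑ b ∈ Finset.univ.erase b₁, x a b ^ 2 := by
  rw [← Finset.sum_add_distrib]
  exact Finset.sum_congr rfl fun a _ => (Finset.add_sum_erase _ _ (Finset.mem_univ b₁)).symm

open Classical in
/-- `|A| + 2 ≤ |B|`. -/
theorem grid_small (hrect : ∀ a b, x a b + x a₁ b₁ = x a b₁ + x a₁ b) (hA : 3 ≤ Fintype.card A)
    (hAB : Fintype.card A + 2 ≤ Fintype.card B) (h1 : x a₁ b₁ = 1)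
    (hsum : ∑ a, ∑ b, x a b ^ 2 ≤ Fintype.card A + 1) :
    ∀ a b, x a b = if b = b₁ then 1 else 0 := by
  have hAB' : (Fintype.card A : ℤ) + 2 ≤ Fintype.card B := by exact_mod_cast hAB
  have hA' : (3 : ℤ) ≤ Fintype.card A := by exact_mod_cast hA
  have hd : ∀ a, x a b₁ ≠ 0 := fun a h => by
    have hne : a ≠ a₁ := fun e => by rw [e, h1] at h; exact one_ne_zero h
    have h2 : ∀ b, (1 : ℤ) ≤ x a b ^ 2 + x a₁ b ^ 2 := fun b => by
      have h3 := hrect a b
      by_cases h4 : x a₁ b = 0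
      · have := one_le_sq (show x a b ≠ 0 by omega)
        nlinarith
      · have := one_le_sq h4
        nlinarith [sq_nonneg (x a b)]
    have h3 := Finset.sum_le_sum fun b (_ : b ∈ Finset.univ) => h2 b
    simp only [Finset.sum_const, Finset.card_univ, nsmul_one] at h3
    have h4 := two_rows (x := x) hne
    linarith
  rw [split_col b₁] at hsum
  have hD : (Fintype.card A : ℤ) ≤ ∑ a, x a b₁ ^ 2 := by
    have := Finset.sum_le_sum fun a (_ : a ∈ Finset.univ) => one_le_sq (hd a)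
    simpa using this
  have hR : ∑ a, ∑ b ∈ Finset.univ.erase b₁, x a b ^ 2 ≤ 1 := by linarith
  have hc : ∀ b, b ≠ b₁ → x a₁ b = 0 := fun b hb => by
    by_contra h
    have hb' : b ∈ Finset.univ.erase b₁ := Finset.mem_erase.2 ⟨hb, Finset.mem_univ _⟩
    have hcol : ∑ a, x a b ^ 2 ≤ 1 := le_trans (Finset.sum_le_sum fun a _ =>
      Finset.single_le_sum (f := fun b => x a b ^ 2) (fun _ _ => sq_nonneg _) hb') hR
    rw [← Finset.add_sum_erase _ _ (Finset.mem_univ a₁)] at hcol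
    have hz : ∑ a ∈ Finset.univ.erase a₁, x a b ^ 2 = 0 := by
      have := one_le_sq h
      have h5 : 0 ≤ ∑ a ∈ Finset.univ.erase a₁, x a b ^ 2 :=
        Finset.sum_nonneg fun _ _ => sq_nonneg _
      linarith
    have hcb : x a₁ b = -1 ∨ x a₁ b = 1 := by
      rw [hz, add_zero] at hcol
      have : -1 ≤ x a₁ b ∧ x a₁ b ≤ 1 := ⟨by nlinarith, by nlinarith⟩
      omega
    have hz' := (Finset.sum_eq_zero_iff_of_nonneg fun a _ => sq_nonneg (x a b)).1 hz
    have h4 : ∀ a ∈ Finset.univ.erase a₁, (4 : ℤ) ≤ x a b₁ ^ 2 := fun a ha => by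
      have h6 := sq_eq_zero_iff.1 (hz' a ha)
      have h7 := hrect a b
      have := hd a
      rcases hcb with e | e
      · have h8 : x a b₁ = 2 := by omega
        rw [h8]
        norm_num
      · omega
    have h9 := Finset.sum_le_sum h4
    rw [Finset.sum_const, Finset.card_erase_of_mem (Finset.mem_univ _), Finset.card_univ,
      nsmul_eq_mul, Nat.cast_sub (by omega)] at h9
    rw [← Finset.add_sum_erase _ _ (Finset.mem_univ a₁), h1] at hsum
    have h10 : 0 ≤ ∑ a, ∑ b ∈ Finset.univ.erase b₁, x a b ^ 2 :=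
      Finset.sum_nonneg fun _ _ => Finset.sum_nonneg fun _ _ => sq_nonneg _
    push_cast at h9
    linarith
  have hd1 : ∀ a, x a b₁ = 1 := fun a => by
    by_contra h
    have h2 : ∀ b ∈ Finset.univ.erase b₁, (1 : ℤ) ≤ x a b ^ 2 := fun b hb => by
      have := hrect a b
      have := hc b (Finset.ne_of_mem_erase hb)
      exact one_le_sq (by omega)
    have h3 := (Finset.sum_le_sum h2).trans ((Finset.single_le_sum
      (f := fun a => ∑ b ∈ Finset.univ.erase b₁, x a b ^ 2)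
      (fun _ _ => Finset.sum_nonneg fun _ _ => sq_nonneg _) (Finset.mem_univ a)).trans hR)
    rw [Finset.sum_const, Finset.card_erase_of_mem (Finset.mem_univ _), Finset.card_univ,
      nsmul_one] at h3
    have : Fintype.card B - 1 ≤ 1 := by exact_mod_cast h3
    omega
  intro a b
  split_ifs with hb
  · rw [hb]; exact hd1 a
  · have := hrect a b
    have := hd1 a
    have := hc b hb
    omega

theorem abs_sum_le_sq {α : Type*} (s : Finset α) (f : α → ℤ) :
    |∑ a ∈ s, f a| ≤ ∑ a ∈ s, f a ^ 2 :=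
  (Finset.abs_sum_le_sum_abs _ _).trans (Finset.sum_le_sum fun a _ => by
    rcases eq_or_ne (f a) 0 with h | h
    · simp [h]
    · nlinarith [Int.one_le_abs h, sq_abs (f a)])

open Classical in
/-- Every other column sums to a multiple of `θ ≥ 2 |A| - 1`. -/
theorem grid_linked (hrect : ∀ a b, x a b + x a₁ b₁ = x a b₁ + x a₁ b) (hA : 3 ≤ Fintype.card A)
    (hAo : Odd (Fintype.card A)) (hB : 2 ≤ Fintype.card B) (h1 : x a₁ b₁ = 1)
    (hsum : ∑ a, ∑ b, x a b ^ 2 ≤ Fintype.card A + 1) (hodd : Odd (∑ a, x a b₁)) {θ : ℕ}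
    (hθ : 2 * Fintype.card A - 1 ≤ θ) (hcol : ∀ b, b ≠ b₁ → (θ : ℤ) ∣ ∑ a, x a b) :
    ∀ a b, x a b = if b = b₁ then 1 else 0 := by
  set w := (Fintype.card A : ℤ) with hw
  have hw3 : 3 ≤ w := by rw [hw]; exact_mod_cast hA
  have hB' : (2 : ℤ) ≤ Fintype.card B := by exact_mod_cast hB
  have hθ' : 2 * w - 1 ≤ θ := by omega
  rw [split_col b₁] at hsum
  have hpos : ∀ b, b ≠ b₁ → ∑ a, x a b ^ 2 ≤ ∑ a, ∑ b ∈ Finset.univ.erase b₁, x a b ^ 2 := fun b hb =>
    Finset.sum_le_sum fun a _ => Finset.single_le_sum (f := fun b => x a b ^ 2)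
      (fun _ _ => sq_nonneg _) (Finset.mem_erase.2 ⟨hb, Finset.mem_univ _⟩)
  have hone : (1 : ℤ) ≤ ∑ a, x a b₁ ^ 2 := by
    have := Finset.single_le_sum (f := fun a => x a b₁ ^ 2) (fun _ _ => sq_nonneg _)
      (Finset.mem_univ a₁)
    simpa [h1] using this
  have hK : ∀ b, b ≠ b₁ → ∑ a, x a b = 0 := fun b hb => by
    refine Int.eq_zero_of_abs_lt_dvd (hcol b hb) ?_
    have := abs_sum_le_sq Finset.univ fun a => x a b
    have := hpos b hb
    linarith
  have hD : ∀ b, b ≠ b₁ → ∑ a, x a b₁ = w * (1 - x a₁ b) := fun b hb => by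
    have h : ∑ a, x a b = ∑ a, (x a b₁ + x a₁ b - 1) :=
      Finset.sum_congr rfl fun a _ => by linarith [hrect a b]
    rw [hK b hb, Finset.sum_sub_distrib, Finset.sum_add_distrib, Finset.sum_const, Finset.sum_const,
      Finset.card_univ, nsmul_eq_mul, nsmul_eq_mul] at h
    linarith
  have hc : ∀ b, b ≠ b₁ → x a₁ b = 0 := fun b hb => by
    by_contra h
    have he : Even (x a₁ b) := by
      have h2 := hodd
      rw [hD b hb, Int.odd_mul] at h2
      obtain ⟨k, hk⟩ := h2.2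
      exact ⟨-k, by omega⟩
    have h2 := abs_sum_le_sq (Finset.univ.erase a₁) fun a => x a b₁
    have h3 := hD b hb
    rw [← Finset.add_sum_erase _ _ (Finset.mem_univ a₁), h1] at h3
    have h4 := Finset.single_le_sum (f := fun a => x a b ^ 2) (fun _ _ => sq_nonneg _)
      (Finset.mem_univ a₁)
    rw [← Finset.add_sum_erase _ (fun a => x a b₁ ^ 2) (Finset.mem_univ a₁), h1] at hsum
    have h5 := hpos b hb
    have h6 := abs_le.1 h2
    obtain ⟨k, hk⟩ := he
    rcases le_or_gt (x a₁ b) 0 with h7 | h7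
    · have h8 : x a₁ b ≤ -2 := by omega
      nlinarith [mul_le_mul_of_nonneg_left (show (3 : ℤ) ≤ 1 - x a₁ b by linarith) (by linarith : (0:ℤ) ≤ w)]
    · have h8 : 2 ≤ x a₁ b := by omega
      nlinarith [mul_le_mul_of_nonneg_left (show (1 : ℤ) ≤ x a₁ b - 1 by linarith) (by linarith : (0:ℤ) ≤ w)]
  obtain ⟨b₂, hb₂⟩ := exists_other hB b₁
  have hS : ∑ a, x a b₁ = w := by rw [hD b₂ hb₂, hc b₂ hb₂]; ring
  have hz : ∑ a, (x a b₁ - 1) ^ 2 = 0 := by
    have e1 : ∑ a, x a b₁ ^ 2 = ∑ a, (x a b₁ - 1) ^ 2 + w := by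
      have h2 : ∑ a, (x a b₁ - 1) ^ 2 = ∑ a, (x a b₁ ^ 2 - 2 * x a b₁ + 1) :=
        Finset.sum_congr rfl fun a _ => by ring
      rw [Finset.sum_add_distrib, Finset.sum_sub_distrib, ← Finset.mul_sum, hS, Finset.sum_const,
        Finset.card_univ, nsmul_one] at h2
      linarith
    have e2 : ∑ a, ∑ b ∈ Finset.univ.erase b₁, x a b ^ 2 =
        ((Fintype.card B : ℤ) - 1) * ∑ a, (x a b₁ - 1) ^ 2 := by
      rw [Finset.mul_sum]
      refine Finset.sum_congr rfl fun a _ => ?_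
      rw [Finset.sum_congr rfl (g := fun _ => (x a b₁ - 1) ^ 2) fun b hb => by
        rw [show x a b = x a b₁ - 1 by linarith [hrect a b, hc b (Finset.ne_of_mem_erase hb)]],
        Finset.sum_const, Finset.card_erase_of_mem (Finset.mem_univ _), Finset.card_univ,
        nsmul_eq_mul, Nat.cast_sub (by omega), Nat.cast_one]
    rw [e1, e2] at hsum
    have h0 : 0 ≤ ∑ a, (x a b₁ - 1) ^ 2 := Finset.sum_nonneg fun _ _ => sq_nonneg _
    have : (2 : ℤ) * ∑ a, (x a b₁ - 1) ^ 2 ≤ 1 := by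
      nlinarith [mul_le_mul_of_nonneg_right hB' h0]
    omega
  have hd : ∀ a, x a b₁ = 1 := fun a => by
    have := sq_eq_zero_iff.1 ((Finset.sum_eq_zero_iff_of_nonneg fun a _ => sq_nonneg _).1 hz a
      (Finset.mem_univ a))
    linarith
  intro a b
  split_ifs with hb
  · rw [hb]; exact hd a
  · linarith [hrect a b, hc b hb, hd a]

end Grid

section Core

variable {L : Type*} [Group L] [Fintype L] {ι κ : Type*} [Fintype ι] [Fintype κ]

open Classical in
/-- What the orthogonal family on the core takes from the norm of `F`. -/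
theorem core_lower {w θ : ℕ} (hw : 0 < w) {e₀ F : L → ℂ} {ξ : ι → L → ℂ} {μ : κ → L → ℂ} {i₀ : ι}
    (hN : 2 ≤ Fintype.card ι) (n0 : Cfsg.classInner e₀ e₀ = (w : ℂ))
    (n1 : ∀ i j, Cfsg.classInner (ξ i) (ξ j) = if i = j then 1 else 0)
    (n2 : ∀ k l, Cfsg.classInner (μ k) (μ l) = if k = l then (w : ℂ) else 0)
    (o1 : ∀ i, Cfsg.classInner e₀ (ξ i) = 0) (o2 : ∀ k, Cfsg.classInner e₀ (μ k) = 0)
    (o3 : ∀ i k, Cfsg.classInner (ξ i) (μ k) = 0)
    (f0 : Cfsg.classInner (e₀ - ξ i₀) F = -1)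
    (f1 : ∀ i, i ≠ i₀ → Cfsg.classInner (ξ i - ξ i₀) F = -1)
    (f2 : ∀ k, Cfsg.classInner (μ k - (θ : ℂ) • ξ i₀) F = -(θ : ℂ)) :
    1 - (w : ℝ) / (Fintype.card ι * w + 1 + Fintype.card κ * (θ : ℝ) ^ 2) ≤
      (Cfsg.classInner F F).re := by
  set D : ℝ := (Fintype.card ι : ℝ) * w + 1 + Fintype.card κ * (θ : ℝ) ^ 2 with hD
  have hw' : (0 : ℝ) < w := by exact_mod_cast hw
  have hDw : (w : ℝ) < D := by
    have : (2 : ℝ) ≤ Fintype.card ι := by exact_mod_cast hN
    have : (0 : ℝ) ≤ Fintype.card κ * (θ : ℝ) ^ 2 := by positivity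
    nlinarith
  let v : Option (ι ⊕ κ) → L → ℂ := fun o => o.elim e₀ (Sum.elim ξ μ)
  let c : Option (ι ⊕ κ) → ℝ := fun o => o.elim (1 / (w : ℝ))
    (Sum.elim (fun i => 1 + if i = i₀ then -(D / w) else 0) fun _ => θ / w)
  have hsym : ∀ a b : L → ℂ, Cfsg.classInner a b = 0 → Cfsg.classInner b a = 0 := fun a b h => by
    rw [← Char.classInner_conj_symm, h, map_zero]
  have hv : ∀ i ∈ (Finset.univ : Finset (Option (ι ⊕ κ))), ∀ j ∈ Finset.univ, i ≠ j →
      Cfsg.classInner (v i) (v j) = 0 := by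
    rintro (_ | i | k) - (_ | j | l) - h
    · exact absurd rfl h
    · exact o1 j
    · exact o2 l
    · exact hsym _ _ (o1 i)
    · exact (n1 i j).trans (if_neg fun e => h (by rw [e]))
    · exact o3 i l
    · exact hsym _ _ (o2 k)
    · exact hsym _ _ (o3 j k)
    · exact (n2 k l).trans (if_neg fun e => h (by rw [e]))
  set Y : L → ℂ := ∑ o, (c o : ℂ) • v o with hY
  have hYY : Cfsg.classInner Y Y = ((D / w * (D / w - 1) : ℝ) : ℂ) := by
    have e1 : ∀ i : ι, (1 + if i = i₀ then -(D / w) else 0 : ℝ) * (1 + if i = i₀ then -(D / w) else 0) =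
        1 + if i = i₀ then D / w * (D / w - 2) else 0 := fun i => by split_ifs <;> ring
    have hr : (1 / (w : ℝ)) * (1 / w) * w + ((∑ i : ι, (1 + if i = i₀ then D / w * (D / w - 2) else 0)) +
        (Fintype.card κ : ℝ) * (θ / w * (θ / w) * w)) = D / w * (D / w - 1) := by
      rw [Finset.sum_add_distrib, Fintype.sum_ite_eq', Finset.sum_const, Finset.card_univ, nsmul_one,
        hD]
      field_simp
      ring
    rw [hY, OddChar.Coh.norm_sum_orth Finset.univ v _ hv, Fintype.sum_option, Fintype.sum_sum_type,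
      ← hr]
    simp only [v, c, Option.elim_none, Option.elim_some, Sum.elim_inl, Sum.elim_inr, Complex.conj_ofReal,
      n0, n1, n2, if_true, mul_one, ← Complex.ofReal_mul, e1]
    push_cast
    simp [Finset.sum_const, nsmul_eq_mul]
  have hYF : Cfsg.classInner Y F = ((-(D / w - 1) : ℝ) : ℂ) := by
    set u : ℂ := Cfsg.classInner (ξ i₀) F with hu
    have a0 : Cfsg.classInner e₀ F = u - 1 := by
      rw [Char.classInner_sub_left, ← hu] at f0
      linear_combination f0
    have a1 : ∀ i, Cfsg.classInner (ξ i) F = (u - 1) + if i = i₀ then 1 else 0 := fun i => by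
      split_ifs with h
      · rw [h, ← hu]; ring
      · have := f1 i h
        rw [Char.classInner_sub_left, ← hu] at this
        linear_combination this
    have a2 : ∀ k, Cfsg.classInner (μ k) F = (θ : ℂ) * (u - 1) := fun k => by
      have := f2 k
      rw [Char.classInner_sub_left, Char.classInner_smul_left, ← hu] at this
      linear_combination this
    have e2 : ∀ i : ι, ((1 + if i = i₀ then -(D / w) else 0 : ℝ) : ℂ) *
        ((u - 1) + if i = i₀ then 1 else 0) =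
        (u - 1) + if i = i₀ then (-(D / w : ℝ) : ℂ) * u + 1 else 0 := fun i => by
      split_ifs <;> push_cast <;> ring
    rw [hY, Char.classInner_sum_left]
    simp only [Char.classInner_smul_left, Fintype.sum_option, Fintype.sum_sum_type, v, c,
      Option.elim_none, Option.elim_some, Sum.elim_inl, Sum.elim_inr, a0, a1, a2, e2]
    rw [Finset.sum_add_distrib, Fintype.sum_ite_eq', Finset.sum_const, Finset.sum_const,
      Finset.card_univ, Finset.card_univ, hD]
    simp only [nsmul_eq_mul]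
    push_cast
    have : (w : ℂ) ≠ 0 := Nat.cast_ne_zero.2 hw.ne'
    field_simp
    ring
  have hpos : 0 < D / w - 1 := by
    rw [sub_pos, lt_div_iff₀ hw', one_mul]
    exact hDw
  have hb := (OddChar.Coh.bessel ({()} : Finset Unit) (fun _ => Y) F (fun i _ j _ h => absurd rfl h)
    (fun _ => D / w * (D / w - 1)) (fun _ => -(D / w - 1)) (fun _ _ => hYY)
    (fun _ _ => mul_pos (by positivity) hpos)
    (fun _ _ => by rw [← Char.classInner_conj_symm, hYF, Complex.conj_ofReal])).1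
  refine le_trans (le_of_eq ?_) hb
  rw [Finset.sum_singleton]
  have h0 : D ≠ 0 := (hw'.trans hDw).ne'
  have h1 : D - w ≠ 0 := (sub_pos.2 hDw).ne'
  field_simp

end Core

/-- The rest of the group is more than the core leaves. -/
theorem rest_too_big {g q w u t cS cT R D : ℝ} (hq : 0 < q) (hw : 3 ≤ w) (hu : 7 ≤ u) (ht : 0 < t)
    (htg : t ≤ g) (hcS : cS ≤ 1 / (u * q)) (hcT : cT = 1 / w - 1 / t)
    (hR : R + 1 = g * (q⁻¹ + w⁻¹ - (q * w)⁻¹ - cS - cT)) (hbudget : R / g ≤ w / D)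
    (hD : 2 * q * w < D) : False := by
  have hg : 0 < g := ht.trans_le htg
  have h1 : (1 : ℝ) ≤ g * (1 / t) := by
    rw [mul_one_div, le_div_iff₀ ht, one_mul]; exact htg
  have h2 : g * (q⁻¹ - (q * w)⁻¹ - 1 / (u * q)) ≤ R := by
    rw [hcT] at hR
    have hgc := mul_le_mul_of_nonneg_left hcS hg.le
    simp only [one_div] at hR hgc h1 ⊢
    nlinarith
  have h3 : (11 / 21 : ℝ) / q ≤ q⁻¹ - (q * w)⁻¹ - 1 / (u * q) := by
    have e : q⁻¹ - (q * w)⁻¹ - 1 / (u * q) = (1 - 1 / w - 1 / u) / q := by field_simp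
    rw [e]
    refine div_le_div_of_nonneg_right ?_ hq.le
    have : 1 / w ≤ 1 / 3 := one_div_le_one_div_of_le (by norm_num) hw
    have : 1 / u ≤ 1 / 7 := one_div_le_one_div_of_le (by norm_num) hu
    linarith
  have h4 : (11 / 21 : ℝ) / q ≤ w / D := by
    refine le_trans ?_ hbudget
    rw [le_div_iff₀ hg]
    nlinarith [mul_le_mul_of_nonneg_left h3 hg.le]
  have hD0 : 0 < D := lt_trans (by positivity) hD
  rw [div_le_div_iff₀ hq hD0] at h4
  nlinarith

end CfsgLib.FT.CoreKillAux
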