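import Cfsg.Agent.Lib.FT.CoreFam
import Cfsg.Agent.Lib.Char.GaloisConj

/-!
PROJECT FT, CorePins: the characters induced from fixed characters of `T'` have one degree and one
sign (power maps permute them transitively, `W'` having prime order), and the Dade image of the
difference of two of them is the difference of their columns.
-/

set_option autoImplicit false
set_option linter.style.haveILetI false
set_option linter.unusedSectionVars false

open scoped commutatorElement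

namespace CfsgLib.FT

open Subgroup

universe u

namespace CoreFamAux

variable {L : Type u} [Group L] [Fintype L] {K W₁ W₂ : Subgroup L} [hK : K.Normal]
variable (h : PairChars.Hyp K W₁ W₂)
variable {μ : (↥(W₁ ⊔ W₂) →* ℂˣ) → (L → ℂ)} {δ : (↥(W₁ ⊔ W₂) →* ℂˣ) → ℂ}
  (hc : Cols K W₁ W₂ μ δ)
include h hc

/-- Power maps act on the family through the exponent. -/
theorem Cols.pow (ω : ↥(W₁ ⊔ W₂) →* ℂˣ) {k : ℕ} (hk : k.Coprime (Nat.card L)) :
    (fun x => μ ω (x ^ k)) = μ (ω ^ k) ∧ δ (ω ^ k) = δ ω := by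
  obtain ⟨a, -, ha, -, -⟩ := exists_ne_one h
  have hirr := CharGalois.isIrrCharacter_powMap hk (hc.irr ω)
  have hval : ∀ w : ↥(W₁ ⊔ W₂), (w : L) ∉ W₂ →
      (fun x => μ ω (x ^ k)) w = δ ω * (((ω ^ k) w : ℂˣ) : ℂ) := by
    intro w hw
    have hout : ((w ^ k : ↥(W₁ ⊔ W₂)) : L) ∉ W₂ := fun hmem => by
      rw [Subgroup.coe_pow] at hmem
      obtain ⟨y, hy⟩ := exists_pow_eq_self_of_coprime (x := (w : L)) (n := k)
        (hk.coprime_dvd_right (orderOf_dvd_natCard (w : L)))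
      exact hw (hy ▸ pow_mem hmem y)
    show μ ω ((w : L) ^ k) = _
    rw [← Subgroup.coe_pow, hc.val ω _ hout, map_pow, MonoidHom.pow_apply]
  obtain ⟨η, hη⟩ : ∃ η, (fun x => μ ω (x ^ k)) = μ η := by
    by_contra hno
    push Not at hno
    have h0 := hc.van _ hirr hno a ha
    have h1 := (hval a ha).symm.trans h0
    rcases mul_eq_zero.1 h1 with e | e
    · rcases hc.sign ω with e' | e' <;> simp [e'] at e
    · exact Units.ne_zero _ e
  obtain ⟨hs, he⟩ := val_unique h (hc.sign η) (hc.sign ω) (ω := η) (ω' := ω ^ k) fun w hw => by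
    rw [← hc.val η w hw, ← hval w hw, hη]
  subst he
  exact ⟨hη, hs⟩

/-- With `W₂` of prime order the columns other than that of `1` have one degree and one sign. -/
theorem Cols.deg_eq (hq : (Nat.card W₂).Prime) {ω ω' : ↥(W₁ ⊔ W₂) →* ℂˣ}
    (hω : ¬ SameCol ω 1) (hω' : ¬ SameCol ω' 1) : μ ω 1 = μ ω' 1 ∧ δ ω = δ ω' := by
  classical
  haveI := Fact.mk hq
  obtain ⟨g, hg, hg1⟩ : ∃ g : ↥(W₁ ⊔ W₂), (g : L) ∈ W₂ ∧ ω g ≠ 1 := by
    simpa [SameCol] using hω
  have hgq : g ^ Nat.card W₂ = 1 := by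
    have h1 : (⟨g, hg⟩ : W₂) ^ Nat.card W₂ = 1 := pow_card_eq_one'
    refine Subtype.ext ?_
    have h2 := congrArg (fun z : W₂ => (z : L)) h1
    simp only [Subgroup.coe_pow, Subgroup.coe_one] at h2 ⊢
    exact h2
  have hgen : ∀ w : ↥(W₁ ⊔ W₂), (w : L) ∈ W₂ → ∃ j : ℤ, w = g ^ j := by
    intro w hw
    have hne : (⟨g, hg⟩ : W₂) ≠ 1 := fun e =>
      hg1 (by rw [show g = 1 from Subtype.ext (congrArg (fun z : W₂ => (z : L)) e), map_one])
    obtain ⟨j, hj⟩ := mem_zpowers_iff.1 (mem_zpowers_of_prime_card rfl hne (g' := (⟨w, hw⟩ : W₂)))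
    exact ⟨j, Subtype.ext (by simpa using (congrArg Subtype.val hj).symm)⟩
  set z : ℂ := ((ω g : ℂˣ) : ℂ) with hz
  have hzq : ∀ η : ↥(W₁ ⊔ W₂) →* ℂˣ, ((η g : ℂˣ) : ℂ) ^ Nat.card W₂ = 1 := fun η => by
    rw [← Units.val_pow_eq_pow_val, ← map_pow, hgq, map_one, Units.val_one]
  have hprim : IsPrimitiveRoot z (Nat.card W₂) :=
    orderOf_eq_prime (hzq ω) (fun e => hg1 (Units.ext e)) ▸ IsPrimitiveRoot.orderOf z
  haveI : NeZero (Nat.card W₂) := ⟨hq.ne_zero⟩
  obtain ⟨i, hi, hzi⟩ := hprim.eq_pow_of_pow_eq_one (hzq ω')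
  have hi0 : i ≠ 0 := by
    rintro rfl
    rw [pow_zero] at hzi
    refine hω' fun w hw => ?_
    obtain ⟨j, rfl⟩ := hgen w hw
    rw [map_zpow, show ω' g = 1 from Units.ext hzi.symm, one_zpow, MonoidHom.one_apply]
  have hcop : i.Coprime (Nat.card W₂) :=
    ((hq.coprime_iff_not_dvd).2 fun hd => absurd (Nat.le_of_dvd (Nat.pos_of_ne_zero hi0) hd)
      (by omega)).symm
  haveI : NeZero (Nat.card L) := ⟨Nat.card_pos.ne'⟩
  obtain ⟨U, hU⟩ := ZMod.unitsMap_surjective (card_subgroup_dvd_card W₂) (ZMod.unitOfCoprime i hcop)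
  set k := (U : ZMod (Nat.card L)).val with hk
  have hkc : k.Coprime (Nat.card L) := ZMod.val_coe_unit_coprime U
  have hki : (k : ZMod (Nat.card W₂)) = (i : ZMod (Nat.card W₂)) := by
    rw [hk, ZMod.natCast_val]
    have := congrArg Units.val hU
    simpa [ZMod.unitsMap_def] using this
  have hmod : k % Nat.card W₂ = i := by
    rw [(ZMod.natCast_eq_natCast_iff' _ _ _).1 hki, Nat.mod_eq_of_lt hi]
  have hsame : SameCol (ω ^ k) ω' := by
    intro w hw
    obtain ⟨j, rfl⟩ := hgen w hw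
    rw [map_zpow, map_zpow]
    refine congrArg (· ^ j) (Units.ext ?_)
    rw [MonoidHom.pow_apply, Units.val_pow_eq_pow_val, pow_eq_pow_mod k (hzq ω), hmod]
    exact hzi
  obtain ⟨hp, hd⟩ := hc.pow h ω hkc
  refine ⟨?_, by rw [← hd, (hc.pair _ _ hsame).1]⟩
  have h1 := hc.eq_on h hsame 1
  rw [OneMemClass.coe_one, ← congrFun hp 1, one_pow] at h1
  exact h1

/-- The restriction to `K` determines the column. -/
theorem Cols.res_inj [Fintype (↥(W₁ ⊔ W₂) →* ℂˣ)] {ω ω' : ↥(W₁ ⊔ W₂) →* ℂˣ}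
    (e : (fun k : K => μ ω k) = fun k : K => μ ω' k) : SameCol ω ω' := by
  classical
  by_contra hn
  have h5 := congrArg (fun f => Cfsg.classInner f (μ ω)) ((hc.restrict h ω).2.2.symm.trans
    ((congrArg (Cfsg.indFun K) e).trans (hc.restrict h ω').2.2))
  simp only [Char.classInner_sum_left] at h5
  rw [Finset.sum_eq_single ω (fun η _ hη => Char.classInner_irr_of_ne (hc.irr η) (hc.irr _)
      fun e' => hη (hc.inj e')) (fun hh => absurd (Finset.mem_filter.2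
        ⟨Finset.mem_univ _, fun _ _ => rfl⟩) hh), Char.classInner_irr_self (hc.irr _),
    Finset.sum_eq_zero fun η hη => Char.classInner_irr_of_ne (hc.irr η) (hc.irr _) fun e' =>
      hn (by rw [← hc.inj e']; exact (Finset.mem_filter.1 hη).2)] at h5
  exact one_ne_zero h5

end CoreFamAux

variable {G : Type u} [Group G] [Fintype G] (hG : Cfsg.IsMinSimpleOddOrder G)
  {T W V W' : Subgroup G} [Fintype T]

open CoreFamAux

/-- A column of the grid: the sum over the `ω` with one restriction to `W'`. -/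
noncomputable def colSum (W W' : Subgroup G) (χ : (↥(W ⊔ W') →* ℂˣ) → (G → ℂ))
    (φ : ↥(W ⊔ W') →* ℂˣ) : G → ℂ :=
  ∑ᶠ ω ∈ {ω : ↥(W ⊔ W') →* ℂˣ | ∀ x : ↥(W ⊔ W'), (x : G) ∈ W' → ω x = φ x}, χ ω

include hG

/-- The Dade image of the difference of two members in one row. -/
theorem CoreSide.col_pin (h : CoreSide T W V W') {χ : (↥(W ⊔ W') →* ℂˣ) → (G → ℂ)}
    (hχ : Cfsg.IsCyclicTIFamily W W' χ)
    {μ : (↥(W.subgroupOf T ⊔ W'.subgroupOf T) →* ℂˣ) → (↥T → ℂ)}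
    {δ : (↥(W.subgroupOf T ⊔ W'.subgroupOf T) →* ℂˣ) → ℂ}
    (hc : Cols (derIn T) (W.subgroupOf T) (W'.subgroupOf T) μ δ)
    {η c : ↥(W.subgroupOf T ⊔ W'.subgroupOf T) →* ℂˣ}
    (hc1 : ∀ w : ↥(W.subgroupOf T ⊔ W'.subgroupOf T), (w : T) ∈ W.subgroupOf T → c w = 1)
    (hδ : δ (η * c) = δ η) (hdeg : μ (η * c) 1 = μ η 1) :
    tauA0 T W W' (μ η - μ (η * c)) =
      δ η • (χ (wUp h.le_T.1 h.le_T.2.2 η) - χ (wUp h.le_T.1 h.le_T.2.2 (η * c))) := by
  classical
  have hy := h.hyp hG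
  obtain ⟨hW1, hW'd, hW'T⟩ := h.le_T
  have hW := h.typeP.selfNormalizing
  have hd2 : δ η * δ η = 1 := by rcases hc.sign η with e1 | e1 <;> simp [e1]
  by_cases hne : η = η * c
  · rw [← hne]
    simp [tauA0, dade_map_zero]
  set β := μ η - μ (η * c) with hβ
  have hβc : Cfsg.IsClassFunction T β := fun a b => by
    simp only [hβ, Pi.sub_apply]
    rw [Char.IsIrrCharacter.isClassFunction (hc.irr η) a b,
      Char.IsIrrCharacter.isClassFunction (hc.irr (η * c)) a b]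
  have hval : ∀ w : ↥(W.subgroupOf T ⊔ W'.subgroupOf T), (w : T) ∉ W'.subgroupOf T →
      β w = δ η * ((η w : ℂ) - ((η * c) w : ℂ)) := fun w hw => by
    simp only [hβ, Pi.sub_apply]
    rw [hc.val η w hw, hc.val _ w hw, hδ, mul_sub]
  have hoff : ∀ x : T, (x : G) ∉ a0set T W W' → β x = 0 := by
    intro x hx
    by_cases hx1 : x = 1
    · subst hx1
      simp [hβ, hdeg]
    · have hxd : x ∉ derIn T := fun hd => hx (Or.inl ⟨(h.mem_derIn x).1 hd,
        fun e1 => hx1 (Subtype.ext e1)⟩)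
      obtain ⟨y, w, hw, e1⟩ := hy.exists_conj hxd
      rw [← hβc x y, e1, hval w hw]
      by_cases hw1 : (w : T) ∈ W.subgroupOf T
      · simp [hc1 w hw1]
      · exfalso
        refine hx (Or.inr ⟨((y⁻¹ : T) : G), (y⁻¹ : T).2, ((w : T) : G),
          (wEquiv hW1 hW'T w).2, fun h1 => hw1 (mem_subgroupOf.2 h1),
          fun h2 => hw (mem_subgroupOf.2 h2), ?_⟩)
        rw [← e1]
        simp [mul_assoc]
  have hgen : Cfsg.IsGeneralizedCharacter T β := Char.IsGeneralizedCharacter.sub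
    (Char.IsIrrCharacter.isGeneralizedCharacter (hc.irr η))
    (Char.IsIrrCharacter.isGeneralizedCharacter (hc.irr _))
  have hD := h.dade_a0 hG
  have hn2 : Cfsg.classInner (tauA0 T W W' β) (tauA0 T W W' β) = 2 := by
    rw [tauA0, (Cfsg.Agent.S1500.result (a0set T W W') T (Cfsg.supportR T) hD β hβc hoff).1 β hβc hoff,
      hβ, Char.classInner_sub_left, Char.classInner_sub_right, Char.classInner_sub_right,
      Char.classInner_irr_self (hc.irr η), Char.classInner_irr_self (hc.irr _),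
      Char.classInner_irr_of_ne (hc.irr η) (hc.irr _) (fun e1 => hne (hc.inj e1)),
      Char.classInner_irr_of_ne (hc.irr _) (hc.irr η) (fun e1 => hne (hc.inj e1).symm)]
    norm_num
  have hpin := diff_unique hW hG.1 hχ (ω := wUp hW1 hW'T η) (ω' := wUp hW1 hW'T (η * c))
    (fun e1 => hne (wUp_injective hW1 hW'T e1))
    (Or.inl fun a ha => by
      obtain ⟨w, rfl⟩ := (wEquiv hW1 hW'T).surjective a
      rw [wUp_apply, wUp_apply, MonoidHom.mul_apply, hc1 w (mem_subgroupOf.2 ha), mul_one])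
    (Φ := δ η • tauA0 T W W' β)
    (signed_smul (hc.sign η)
      (Cfsg.Agent.S1501.result (a0set T W W') T (Cfsg.supportR T) hD β hgen hoff))
    (by
      rw [Char.classInner_smul_left, Char.classInner_smul_right, hn2]
      rcases hc.sign η with e1 | e1 <;> simp [e1])
    fun a h1 h2 => by
      obtain ⟨w, rfl⟩ := (wEquiv hW1 hW'T).surjective a
      rw [Pi.smul_apply, smul_eq_mul, h.tauA0_apply hG hβc h1 h2, wUp_apply, wUp_apply]
      show δ η * β (w : T) = _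
      rw [hval w fun h3 => h2 (mem_subgroupOf.1 h3), ← mul_assoc, hd2, one_mul]
  rw [← hpin, smul_smul, hd2, one_smul]

/-- One degree, one sign, and the pins: the export for CoreKill and CoreAdjoin. -/
theorem exists_corePins (h : CoreSide T W V W') {χ : (↥(W ⊔ W') →* ℂˣ) → (G → ℂ)}
    (hχ : Cfsg.IsCyclicTIFamily W W' χ) :
    ∃ (s : ℤ) (θ₀ : ℕ) (M : (↥(W ⊔ W') →* ℂˣ) → (↥T → ℂ)), (s = 1 ∨ s = -1) ∧
      (∀ φ, ¬ TrivialOn φ W' → IsFixedInd T W (M φ) θ₀) ∧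
      (∀ φ, M φ⁻¹ = Cfsg.conjFun (M φ)) ∧
      (∀ φ ψ, (∀ x : ↥(W ⊔ W'), (x : G) ∈ W' → φ x = ψ x) → M φ = M ψ) ∧
      (∀ μ θ, IsFixedInd T W μ θ → θ = θ₀ ∧ ∃ φ, ¬ TrivialOn φ W' ∧ μ = M φ) ∧
      ∀ φ ψ, ¬ TrivialOn φ W' → ¬ TrivialOn ψ W' →
        tauCore T (M φ - M ψ) = (s : ℂ) • (colSum W W' χ φ - colSum W W' χ ψ) := by
  classical
  haveI : Fintype (derIn T) := Fintype.ofFinite _
  have hy := h.hyp hG
  obtain ⟨hW1, hW'd, hW'T⟩ := h.le_T
  have hq : (Nat.card (W'.subgroupOf T)).Prime := by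
    rw [Nat.card_congr (subgroupOfEquivOfLe hW'T).toEquiv]
    exact h.q_prime
  obtain ⟨μ, δ, hc⟩ := exists_cols hy
  letI : Fintype (↥(W.subgroupOf T ⊔ W'.subgroupOf T) →* ℂˣ) :=
    haveI := OddChar.finite_linearChar (W := ↥(W.subgroupOf T ⊔ W'.subgroupOf T))
    Fintype.ofFinite _
  let down : (↥(W ⊔ W') →* ℂˣ) → (↥(W.subgroupOf T ⊔ W'.subgroupOf T) →* ℂˣ) := fun φ =>
    φ.comp (wEquiv hW1 hW'T).toMonoidHom
  have hup : ∀ φ, wUp hW1 hW'T (down φ) = φ := fun φ => MonoidHom.ext fun a => by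
    obtain ⟨w, rfl⟩ := (wEquiv hW1 hW'T).surjective a
    rw [wUp_apply]
    rfl
  have hdu : ∀ η, down (wUp hW1 hW'T η) = η := fun η => MonoidHom.ext fun w => wUp_apply hW1 hW'T η w
  have htriv : ∀ φ, TrivialOn φ W' ↔ SameCol (down φ) 1 := fun φ => by
    refine ⟨fun h1 w hw => h1 _ (mem_subgroupOf.1 hw), fun h1 a ha => ?_⟩
    obtain ⟨w, rfl⟩ := (wEquiv hW1 hW'T).surjective a
    exact h1 w (mem_subgroupOf.2 ha)
  let M : (↥(W ⊔ W') →* ℂˣ) → (↥T → ℂ) := fun φ =>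
    Cfsg.indFun (derIn T) (fun k : derIn T => μ (down φ) k)
  obtain ⟨μ₁, θ₁, ⟨θ₀', hθ₀', hne₀, -, rfl⟩, hn₁, -⟩ := exists_fixedInd hG h
  have fixed_of : ∀ {θ : ↥(derIn T) → ℂ}, Cfsg.IsIrrCharacter (derIn T) θ → θ ≠ (fun _ => 1) →
      Cfsg.classInner (Cfsg.indFun (derIn T) θ) (Cfsg.indFun (derIn T) θ) = (Nat.card W : ℂ) →
      ∃ φ, ¬ TrivialOn φ W' ∧ θ = fun k : derIn T => μ (down φ) k := by
    intro θ hθ hne hn
    have hfix : Fixed (W.subgroupOf T) θ := by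
      by_contra hf
      rw [Char.classInner_irr_self (irr_of_not_fixed hy hθ hf)] at hn
      have h1 : (1 : ℕ) = Nat.card W := by exact_mod_cast hn
      have := three_le hy
      rw [h.card_W hG] at this
      omega
    obtain ⟨ω, hω⟩ := hc.exists_of_fixed hy hθ hfix
    refine ⟨wUp hW1 hW'T ω, fun ht => hne ?_, by rw [hdu, hω]⟩
    rw [htriv, hdu] at ht
    rw [← hω]
    funext k
    rw [hc.eq_on hy ht k, (hc.one hy).1]
  obtain ⟨φ₁, hφ₁, -⟩ := fixed_of hθ₀' hne₀ hn₁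
  obtain ⟨s, hs, hs'⟩ : ∃ s : ℤ, δ (down φ₁) = s ∧ (s = 1 ∨ s = -1) := by
    rcases hc.sign (down φ₁) with e | e
    · exact ⟨1, by simpa using e, Or.inl rfl⟩
    · exact ⟨-1, by simpa using e, Or.inr rfl⟩
  have hr₁ := hc.restrict hy (down φ₁)
  obtain ⟨θ₀, -, hθ₀⟩ := Char.IsIrrCharacter.exists_degree hr₁.1
  have huni : ∀ φ, ¬ TrivialOn φ W' → μ (down φ) 1 = (θ₀ : ℂ) ∧ δ (down φ) = (s : ℂ) := fun φ hφ => by
    obtain ⟨e1, e2⟩ := hc.deg_eq hy hq (fun e => hφ ((htriv φ).2 e)) fun e => hφ₁ ((htriv φ₁).2 e)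
    refine ⟨e1.trans ?_, e2.trans hs⟩
    rw [← hθ₀, OneMemClass.coe_one]
  have hne1 : ∀ φ, ¬ TrivialOn φ W' → (fun k : derIn T => μ (down φ) k) ≠ fun _ => 1 := fun φ hφ e =>
    hφ ((htriv φ).2 (hc.res_inj hy (e.trans (funext fun k => by rw [(hc.one hy).1]))))
  refine ⟨s, θ₀, M, hs', fun φ hφ => ?_, fun φ => ?_, fun φ ψ hφψ => ?_, fun m θ hm => ?_,
    fun φ ψ hφ hψ => ?_⟩
  · obtain ⟨r1, r2, -⟩ := hc.restrict hy (down φ)
    refine ⟨⟨_, r1, hne1 φ hφ, fun a ha => by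
      rw [show a = 1 from Subtype.ext (mem_bot.1 ha)], rfl⟩, ?_, ?_⟩
    · rw [norm_of_fixed hy r1 r2, h.card_W hG]
    · show Cfsg.indFun (derIn T) (fun k : derIn T => μ (down φ) k) 1 = _
      rw [Char.indFun_apply_one, h.index_derIn hG, OneMemClass.coe_one, (huni φ hφ).1]
  · show Cfsg.indFun (derIn T) _ = _
    rw [OddChar.Above.conjFun_indFun]
    congr 1
    funext k
    exact (congrFun (hc.conj hy (down φ)).1 (k : T)).symm
  · show Cfsg.indFun (derIn T) _ = Cfsg.indFun (derIn T) _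
    congr 1
    funext k
    exact hc.eq_on hy (fun w hw => hφψ _ (mem_subgroupOf.1 hw)) k
  · obtain ⟨⟨θ', hθ', hne', -, rfl⟩, hn, hdeg⟩ := hm
    obtain ⟨φ, hφ, rfl⟩ := fixed_of hθ' hne' hn
    refine ⟨?_, φ, hφ, rfl⟩
    rw [Char.indFun_apply_one, h.index_derIn hG, OneMemClass.coe_one, (huni φ hφ).1] at hdeg
    exact_mod_cast (mul_left_cancel₀ (Nat.cast_ne_zero.2 Nat.card_pos.ne') hdeg).symm
  set a := down φ with ha
  set b := down ψ with hb
  haveI : Finite (W.subgroupOf T →* ℂˣ) := OddChar.finite_linearChar _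
  obtain ⟨i, j, hi, hj, hbij⟩ := OddChar.exists_dual (selfNorm hy).2.2.1 (selfNorm hy).2.2.2.1
  obtain ⟨⟨fa, ga⟩, ea⟩ := hbij.2 a
  obtain ⟨⟨fb, gb⟩, eb⟩ := hbij.2 b
  simp only at ea eb
  set c := (j ga)⁻¹ * j gb with hcdef
  have hc1 : ∀ w : ↥(W.subgroupOf T ⊔ W'.subgroupOf T), (w : T) ∈ W.subgroupOf T → c w = 1 :=
    fun w hw => by simp [hcdef, hj _ w hw]
  have hc2 : ∀ w : ↥(W.subgroupOf T ⊔ W'.subgroupOf T), (w : T) ∈ W'.subgroupOf T →
      a w * c w = b w := fun w hw => by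
    rw [← ea, ← eb]
    simp [hcdef, hi _ w hw]
  let col := fun η₀ : ↥(W.subgroupOf T ⊔ W'.subgroupOf T) →* ℂˣ =>
    Finset.univ.filter fun η => SameCol η η₀
  have himg : col b = (col a).image (· * c) := by
    ext η
    simp only [col, Finset.mem_image, Finset.mem_filter, Finset.mem_univ, true_and]
    refine ⟨fun hη => ⟨η * c⁻¹, fun w hw => ?_, by ext w; simp⟩, ?_⟩
    · rw [MonoidHom.mul_apply, MonoidHom.inv_apply, hη w hw, ← hc2 w hw, mul_inv_cancel_right]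
    · rintro ⟨η', hη', rfl⟩ w hw
      rw [MonoidHom.mul_apply, hη' w hw, hc2 w hw]
  have hsum : ∀ φ', colSum W W' χ φ' = ∑ η ∈ col (down φ'), χ (wUp hW1 hW'T η) := by
    intro φ'
    rw [colSum, ← Finset.sum_image (f := χ) fun x _ y _ e => wUp_injective hW1 hW'T e,
      ← finsum_mem_coe_finset]
    refine finsum_mem_congr ?_ fun _ _ => rfl
    ext ω
    simp only [col, Finset.coe_image, Set.mem_image, Finset.coe_filter, Finset.mem_univ, true_and,
      Set.mem_ofPred_eq]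
    refine ⟨fun hω => ⟨down ω, fun w hw => hω _ (mem_subgroupOf.1 hw), hup ω⟩, ?_⟩
    rintro ⟨η, hη, rfl⟩ x hx
    obtain ⟨w, rfl⟩ := (wEquiv hW1 hW'T).surjective x
    rw [wUp_apply]
    exact hη w (mem_subgroupOf.2 hx)
  have hmem : M φ - M ψ ∈ Cfsg.zspanOn (Cfsg.inducedIrrAbove (derIn T) ⊥) {1}ᶜ := by
    have hS : ∀ φ', ¬ TrivialOn φ' W' → M φ' ∈ Cfsg.inducedIrrAbove (derIn T) ⊥ := fun φ' h' => by
      obtain ⟨r1, r2, -⟩ := hc.restrict hy (down φ')
      exact ⟨_, r1, hne1 φ' h', fun a ha => by rw [show a = 1 from Subtype.ext (mem_bot.1 ha)], rfl⟩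
    refine ⟨Submodule.sub_mem _ (OddChar.mem_zspan_self (hS φ hφ))
      (OddChar.mem_zspan_self (hS ψ hψ)), fun x hx => ?_⟩
    have hx1 : x = 1 := by simpa using hx
    subst hx1
    simp only [M, Pi.sub_apply, Char.indFun_apply_one, OneMemClass.coe_one, (huni φ hφ).1,
      (huni ψ hψ).1, sub_self]
  rw [← h.tauA0_eq hG (span_above hmem.1).2.1 (h.zero_off_core hmem), hsum, hsum, ← ha, ← hb,
    himg, Finset.sum_image (fun x _ y _ e => mul_right_cancel e), ← Finset.sum_sub_distrib,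
    Finset.smul_sum]
  have hα : M φ - M ψ = ∑ η ∈ col a, (μ η - μ (η * c)) := by
    show Cfsg.indFun (derIn T) _ - Cfsg.indFun (derIn T) _ = _
    rw [(hc.restrict hy a).2.2, (hc.restrict hy b).2.2, show
      Finset.univ.filter (SameCol · b) = (col a).image (· * c) from himg,
      Finset.sum_image (fun x _ y _ e => mul_right_cancel e), ← Finset.sum_sub_distrib]
  rw [hα, tauA0, dade_map_sum]
  refine Finset.sum_congr rfl fun η hη => ?_
  have hsη : SameCol η a := (Finset.mem_filter.1 hη).2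
  have hsη' : SameCol (η * c) b := fun w hw => by
    rw [MonoidHom.mul_apply, hsη w hw, hc2 w hw]
  have hδ1 : δ η = (s : ℂ) := by rw [(hc.pair η a hsη).1, (huni φ hφ).2]
  have := h.col_pin hG hχ hc hc1 (η := η)
    (by rw [hδ1, (hc.pair _ _ hsη').1, (huni ψ hψ).2])
    (by
      have e1 := hc.eq_on hy hsη 1
      have e2 := hc.eq_on hy hsη' 1
      rw [OneMemClass.coe_one] at e1 e2
      rw [e1, e2, (huni φ hφ).1, (huni ψ hψ).1])
  rw [tauA0] at this
  rw [this, hδ1]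

end CfsgLib.FT
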