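import Cfsg.Agent.Lib.FT.CoreFam
import Cfsg.Agent.Lib.FT.CorePins
import Cfsg.Agent.Lib.FT.CoreKillAux

/-!
FT helper for CoreKill: the Dade images of functions on the core against the grid of `W W'`.
-/

set_option autoImplicit false
set_option linter.style.haveILetI false
set_option linter.unusedSectionVars false

open ComplexConjugate
open scoped commutatorElement

namespace CfsgLib.FT

open Subgroup

universe u

variable {G : Type u} [Group G]

/-- The characters of `W W'` trivial on `W'`. -/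
abbrev LineA (W W' : Subgroup G) : Type u := {ω : ↥(W ⊔ W') →* ℂˣ // TrivialOn ω W'}

/-- The characters of `W W'` trivial on `W`. -/
abbrev LineB (W W' : Subgroup G) : Type u := {ω : ↥(W ⊔ W') →* ℂˣ // TrivialOn ω W}

instance {W W' : Subgroup G} : One (LineA W W') := ⟨⟨1, fun _ _ => rfl⟩⟩

instance {W W' : Subgroup G} : One (LineB W W') := ⟨⟨1, fun _ _ => rfl⟩⟩

variable [Fintype G]

noncomputable instance {W W' : Subgroup G} : Fintype (LineA W W') :=
  haveI := OddChar.finite_linearChar ↥(W ⊔ W')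
  Fintype.ofFinite _

noncomputable instance {W W' : Subgroup G} : Fintype (LineB W W') :=
  haveI := OddChar.finite_linearChar ↥(W ⊔ W')
  Fintype.ofFinite _

theorem line_facts {W W' : Subgroup G} (hW : Cfsg.IsSelfNormalizingCyclic W W') :
    Fintype.card (LineA W W') = Nat.card W ∧ Fintype.card (LineB W W') = Nat.card W' ∧
      Function.Bijective fun p : LineA W W' × LineB W W' => p.1.1 * p.2.1 := by
  obtain ⟨-, -, hdisj, hcomm, hcyc, -⟩ := id hW
  haveI := hcyc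
  haveI : IsCyclic W :=
    isCyclic_of_injective _ (Subgroup.inclusion_injective (le_sup_left : W ≤ W ⊔ W'))
  haveI : IsCyclic W' :=
    isCyclic_of_injective _ (Subgroup.inclusion_injective (le_sup_right : W' ≤ W ⊔ W'))
  obtain ⟨i, j, hi, hj, hij⟩ := OddChar.exists_dual hdisj hcomm
  obtain ⟨⟨f₁, g₁⟩, h₁⟩ := hij.2 1
  simp only at h₁
  have hA : Function.Bijective fun f => (⟨i f, fun a ha => hi f a ha⟩ : LineA W W') := by
    refine ⟨fun f f' e => ?_, fun ω => ?_⟩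
    · have e' : i f = i f' := congrArg Subtype.val e
      exact congrArg Prod.fst (hij.1 (a₁ := (f, g₁)) (a₂ := (f', g₁))
        (show i f * j g₁ = i f' * j g₁ by rw [e']))
    · obtain ⟨⟨f, g⟩, e⟩ := hij.2 ω.1
      simp only at e
      refine ⟨f, Subtype.ext (OddChar.sup_hom_ext (fun w hw => ?_) fun w hw => ?_)⟩
      · rw [← e, MonoidHom.mul_apply, hj g w hw, mul_one]
      · show i f w = ω.1 w
        rw [hi f w hw, ω.2 w hw]
  have hB : Function.Bijective fun g => (⟨j g, fun a ha => hj g a ha⟩ : LineB W W') := by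
    refine ⟨fun g g' e => ?_, fun ω => ?_⟩
    · have e' : j g = j g' := congrArg Subtype.val e
      exact congrArg Prod.snd (hij.1 (a₁ := (f₁, g)) (a₂ := (f₁, g'))
        (show i f₁ * j g = i f₁ * j g' by rw [e']))
    · obtain ⟨⟨f, g⟩, e⟩ := hij.2 ω.1
      simp only at e
      refine ⟨g, Subtype.ext (OddChar.sup_hom_ext (fun w hw => ?_) fun w hw => ?_)⟩
      · show j g w = ω.1 w
        rw [hj g w hw, ω.2 w hw]
      · rw [← e, MonoidHom.mul_apply, hi f w hw, one_mul]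
  refine ⟨?_, ?_, fun p p' e => ?_, fun ω => ?_⟩
  · rw [← Nat.card_eq_fintype_card, ← Nat.card_eq_of_bijective _ hA, OddChar.card_dual]
  · rw [← Nat.card_eq_fintype_card, ← Nat.card_eq_of_bijective _ hB, OddChar.card_dual]
  · simp only at e
    refine Prod.ext (Subtype.ext (OddChar.sup_hom_ext (fun w hw => ?_) fun w hw => ?_))
      (Subtype.ext (OddChar.sup_hom_ext (fun w hw => ?_) fun w hw => ?_))
    · simpa [p.2.2 w hw, p'.2.2 w hw] using DFunLike.congr_fun e w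
    · rw [p.1.2 w hw, p'.1.2 w hw]
    · rw [p.2.2 w hw, p'.2.2 w hw]
    · simpa [p.1.2 w hw, p'.1.2 w hw] using DFunLike.congr_fun e w
  · obtain ⟨⟨f, g⟩, e⟩ := hij.2 ω
    exact ⟨(⟨i f, fun a ha => hi f a ha⟩, ⟨j g, fun a ha => hj g a ha⟩), e⟩

variable {W W' : Subgroup G} (hW : Cfsg.IsSelfNormalizingCyclic W W')
  {χ : (↥(W ⊔ W') →* ℂˣ) → (G → ℂ)} (hχ : Cfsg.IsCyclicTIFamily W W' χ)
include hW hχ

theorem colSum_eq (φ : ↥(W ⊔ W') →* ℂˣ) (b : LineB W W')
    (hb : ∀ x : ↥(W ⊔ W'), (x : G) ∈ W' → φ x = b.1 x) :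
    colSum W W' χ φ = ∑ a : LineA W W', χ (a.1 * b.1) := by
  classical
  have hbij := (line_facts hW).2.2
  rw [colSum, ← Finset.sum_image (f := χ) fun x _ y _ e => mul_right_cancel e |> Subtype.ext,
    ← finsum_mem_coe_finset]
  refine finsum_mem_congr ?_ fun _ _ => rfl
  ext ω
  simp only [Finset.coe_image, Set.mem_image, Finset.coe_univ, Set.mem_univ, true_and,
    Set.mem_ofPred_eq]
  constructor
  · intro hω
    obtain ⟨⟨a, b'⟩, e⟩ := hbij.2 ω
    simp only at e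
    refine ⟨a, ?_⟩
    rw [← e]
    congr 1
    refine OddChar.sup_hom_ext (fun w hw => by rw [b.2 w hw, b'.2 w hw]) fun w hw => ?_
    have := hω w hw
    rw [← e, MonoidHom.mul_apply, a.2 w hw, one_mul, hb w hw] at this
    exact this.symm
  · rintro ⟨a, rfl⟩ x hx
    rw [MonoidHom.mul_apply, a.2 x hx, one_mul, hb x hx]

open Classical in
theorem inner_colSum (φ ω : ↥(W ⊔ W') →* ℂˣ) :
    Cfsg.classInner (colSum W W' χ φ) (χ ω) =
      if ∀ x : ↥(W ⊔ W'), (x : G) ∈ W' → ω x = φ x then 1 else 0 := by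
  classical
  haveI := OddChar.finite_linearChar ↥(W ⊔ W')
  letI : Fintype (↥(W ⊔ W') →* ℂˣ) := Fintype.ofFinite _
  rw [colSum, finsum_mem_eq_toFinset_sum, Char.classInner_sum_left]
  split_ifs with hω
  · refine (Finset.sum_eq_single ω (fun η _ hη => ?_)
      (fun hn => absurd (Set.mem_toFinset.2 (by exact hω)) hn)).trans ?_
    · rw [hχ.orthonormal, if_neg hη]
    · rw [hχ.orthonormal, if_pos rfl]
  · refine Finset.sum_eq_zero fun η hη => ?_
    rw [hχ.orthonormal, if_neg]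
    rintro rfl
    exact hω (Set.mem_toFinset.1 hη)

theorem inner_colSum_line (φ : ↥(W ⊔ W') →* ℂˣ) (b : LineB W W')
    (hb : ∀ x : ↥(W ⊔ W'), (x : G) ∈ W' → φ x = b.1 x) (θ : G → ℂ) :
    Cfsg.classInner θ (colSum W W' χ φ) = ∑ a : LineA W W', Cfsg.classInner θ (χ (a.1 * b.1)) := by
  rw [colSum_eq hW hχ φ b hb, Char.classInner_sum_right]

/-- Integer coefficients on the grid, their rectangles and Bessel's inequality. -/
theorem exists_line_grid {θ : G → ℂ} (hθ : Cfsg.IsGeneralizedCharacter G θ) :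
    ∃ x : LineA W W' → LineB W W' → ℤ,
      (∀ a b, Cfsg.classInner θ (χ (a.1 * b.1)) = (x a b : ℂ)) ∧
      ((∑ a, ∑ b, x a b ^ 2 : ℤ) : ℝ) ≤ (Cfsg.classInner θ θ).re ∧
      ((∀ w : ↥(W ⊔ W'), (w : G) ∉ W → (w : G) ∉ W' → θ w = 0) →
        ∀ a b, x a b + x 1 1 = x a 1 + x 1 b) := by
  classical
  have hbij := (line_facts hW).2.2
  choose x hx using fun p : LineA W W' × LineB W W' => OddChar.Coh.exists_int_inner hθ
    (PairPins.isGeneralized_of_signed (hχ.irr_or_neg (p.1.1 * p.2.1)))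
  refine ⟨fun a b => x (a, b), fun a b => hx (a, b), ?_, fun hV a b => ?_⟩
  · have hb := (OddChar.Coh.bessel Finset.univ (fun p : LineA W W' × LineB W W' => χ (p.1.1 * p.2.1)) θ
      (fun p _ p' _ hne => by rw [hχ.orthonormal, if_neg fun e => hne (hbij.1 e)])
      (fun _ => 1) (fun p => (x p : ℝ)) (fun p _ => by rw [hχ.orthonormal, if_pos rfl]; simp)
      (fun _ _ => one_pos) (fun p _ => by rw [hx p]; simp)).1
    refine le_trans (le_of_eq ?_) hb
    rw [Fintype.sum_prod_type]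
    push_cast
    simp
  · have h := Cfsg.Agent.S1506.result W W' hW χ hχ θ
      (Char.IsGeneralizedCharacter.isClassFunction hθ) hV a.1 1 b.1 1
      (fun w hw => ⟨a.2 w hw, rfl⟩) (fun w hw => ⟨b.2 w hw, rfl⟩)
    have e1 : Cfsg.classInner θ (χ ((1 : LineA W W').1 * b.1)) = Cfsg.classInner θ (χ (1 * b.1)) := rfl
    have e2 : Cfsg.classInner θ (χ (a.1 * (1 : LineB W W').1)) = Cfsg.classInner θ (χ (a.1 * 1)) := rfl
    have e3 : Cfsg.classInner θ (χ ((1 : LineA W W').1 * (1 : LineB W W').1)) =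
        Cfsg.classInner θ (χ (1 * 1)) := rfl
    rw [← e1, ← e2, ← e3, hx (a, b), hx (1, b), hx (a, 1), hx (1, 1)] at h
    exact_mod_cast h

omit hW hχ

variable (hG : Cfsg.IsMinSimpleOddOrder G) {T V : Subgroup G} [Fintype T]
  (h : CoreSide T W V W')
include hG h

/-- Regular points of `W W'` are off the core's tile. -/
theorem CoreSide.tau_reg {γ : ↥T → ℂ} (hγ : Cfsg.IsClassFunction T γ)
    (hs : ∀ x : T, (x : G) ∉ coreSet T → γ x = 0) (w : ↥(W ⊔ W')) (h1 : (w : G) ∉ W)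
    (h2 : (w : G) ∉ W') : tauCore T γ w = 0 := by
  rw [← h.tauA0_eq hG hγ hs, h.tauA0_apply hG hγ h1 h2]
  refine hs _ fun hc => h2 ?_
  have hwd : (w : G) ∈ ⁅T, T⁆ := h.core_eq ▸ (show (w : G) ∈ Cfsg.sigmaCore T from hc.1)
  obtain ⟨⟨a, ha⟩, ha1⟩ := ne_bot_iff_exists_ne_one.1 h.typeP.W₁_ne
  refine le_of_eq (h.typeP.W₂_centralizer a ha (fun e => ha1 (Subtype.ext e)))
    ⟨hwd, mem_centralizer_singleton_iff.2 ?_⟩
  haveI := h.typeP.selfNormalizing.2.2.2.2.1
  letI : CommGroup ↥(W ⊔ W') := IsCyclic.commGroup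
  exact congrArg Subtype.val (mul_comm w ⟨a, mem_sup_left ha⟩)

omit [Fintype G] in
theorem CoreSide.off_core {γ : ↥T → ℂ} (h0 : ∀ x : T, x ∉ derIn T → γ x = 0) (h1 : γ 1 = 0) :
    ∀ x : T, (x : G) ∉ coreSet T → γ x = 0 := fun x hx => by
  by_cases hx1 : x = 1
  · rw [hx1, h1]
  · exact h0 x fun hd => hx ⟨(h.mem_derIn x).1 hd, fun e => hx1 (Subtype.ext e)⟩

theorem CoreSide.tau_inner {γ δ : ↥T → ℂ} (hγ : Cfsg.IsClassFunction T γ)
    (hs : ∀ x : T, (x : G) ∉ coreSet T → γ x = 0) (hδ : Cfsg.IsClassFunction T δ)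
    (hs' : ∀ x : T, (x : G) ∉ coreSet T → δ x = 0) :
    Cfsg.classInner (tauCore T γ) (tauCore T δ) = Cfsg.classInner γ δ :=
  (Cfsg.Agent.S1500.result (coreSet T) T (Cfsg.supportR T) (dade_core hG h.coatom) γ hγ hs).1 δ hδ hs'

theorem CoreSide.tau_inner_one {γ : ↥T → ℂ} (hγ : Cfsg.IsClassFunction T γ)
    (hs : ∀ x : T, (x : G) ∉ coreSet T → γ x = 0) :
    Cfsg.classInner (tauCore T γ) (fun _ => 1) = Cfsg.classInner γ (fun _ => 1) := by
  classical
  refine (Cfsg.Agent.S1500.result (coreSet T) T (Cfsg.supportR T) (dade_core hG h.coatom) γ hγ hs).2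
    (fun _ => 1) (fun _ => 1) (fun _ _ => rfl) fun a _ => ?_
  rw [finsum_mem_eq_toFinset_sum, Finset.sum_const, nsmul_one, ← Set.ncard_eq_toFinset_card',
    ← Nat.card_coe_set_eq, SetLike.coe_sort_coe, inv_mul_cancel₀ (Nat.cast_ne_zero.2 Nat.card_pos.ne')]

omit [Fintype T] in
theorem CoreSide.three_le : 3 ≤ Nat.card W ∧ 3 ≤ Nat.card W' := by
  have hodd : Odd (Nat.card ↥(W ⊔ W')) := hG.1.of_dvd_nat (card_subgroup_dvd_card _)
  exact ⟨OddChar.CyclicUnique.three_le_card h.typeP.selfNormalizing.1 le_sup_left hodd,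
    OddChar.CyclicUnique.three_le_card h.typeP.selfNormalizing.2.1 le_sup_right hodd⟩

include hχ in
/-- An image of norm at most `2` with no principal part avoids the grid. -/
theorem CoreSide.orth_grid {γ : ↥T → ℂ} (hγ : Cfsg.IsGeneralizedCharacter T γ)
    (hs : ∀ x : T, (x : G) ∉ coreSet T → γ x = 0) (h0 : Cfsg.classInner γ (fun _ => 1) = 0)
    (h2 : (Cfsg.classInner γ γ).re ≤ 2) (ω : ↥(W ⊔ W') →* ℂˣ) :
    Cfsg.classInner (tauCore T γ) (χ ω) = 0 := by
  have hW := h.typeP.selfNormalizing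
  have hc := Char.IsGeneralizedCharacter.isClassFunction hγ
  obtain ⟨hA, hB, hbij⟩ := line_facts hW
  obtain ⟨x, hx, hn, hr⟩ := exists_line_grid hW hχ
    (Cfsg.Agent.S1501.result (coreSet T) T (Cfsg.supportR T) (dade_core hG h.coatom) γ hγ hs)
  change ∀ a b, Cfsg.classInner (tauCore T γ) (χ (a.1 * b.1)) = (x a b : ℂ) at hx
  change _ ≤ (Cfsg.classInner (tauCore T γ) (tauCore T γ)).re at hn
  rw [h.tau_inner hG hc hs hc hs] at hn
  have h11 : x 1 1 = 0 := by
    have e := hx 1 1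
    rw [show (1 : LineA W W').1 * (1 : LineB W W').1 = 1 from one_mul (1 : ↥(W ⊔ W') →* ℂˣ), hχ.map_one,
      h.tau_inner_one hG hc hs, h0] at e
    exact_mod_cast e.symm
  obtain ⟨⟨a, b⟩, rfl⟩ := hbij.2 ω
  have := CoreKillAux.grid_two (hr (h.tau_reg hG hc hs)) (by rw [hA]; exact (h.three_le hG).1)
    (by rw [hB]; exact (h.three_le hG).2) h11 (by
      have h3 : ((∑ a, ∑ b, x a b ^ 2 : ℤ) : ℝ) ≤ ((2 : ℤ) : ℝ) := by
        push_cast at hn ⊢
        linarith
      exact_mod_cast h3) a b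
  simp only
  rw [hx a b, this, Int.cast_zero]

end CfsgLib.FT
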