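import Cfsg.Agent.Lib.FT.CoreAdjoin
import Cfsg.Agent.Lib.FT.CoreKillGrid
import Cfsg.Agent.Lib.FT.SideFacts
import Cfsg.Agent.Lib.FT.SideTypes
import Cfsg.Agent.Lib.FT.Weights

/-!
FT module CoreKill. `w = |W₂|`, `q = |W₁|`, `h' = |T'/T''|`, `β = τ(Ind 1 - ζ)`.

`⟨β, χ⟩` is a grid with rectangles (S1506) and norm `≤ w + 1`. If linked, each column sums to a multiple
of `θ ≥ 2w - 1`, and parity leaves only the column of `1`; if `w < q` the norm alone does.
So `Ψ = Σ_a χ a - β` has norm `1`, is odd on the rest, and the orthogonal family on `T` takes `1 - w/D`,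
`D = h' + (q - 1)θ²` (`D = h'` if small); but `rest_card/|G| ≥ (1/q)(1 - 1/w - 1/|U|)`.
-/

set_option autoImplicit false
set_option linter.style.haveILetI false
set_option linter.unusedSectionVars false

open ComplexConjugate
open scoped commutatorElement

namespace CfsgLib.FT

open Subgroup

universe u

variable {G : Type u} [Group G]

/-- `Ind 1 - ζ`. -/
noncomputable def killFun (T : Subgroup G) [Fintype T] (ζ : ↥T → ℂ) : ↥T → ℂ :=
  Cfsg.indFun (derIn T) (fun _ => (1 : ℂ)) - ζ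

section Side

variable [Fintype G] (hG : Cfsg.IsMinSimpleOddOrder G)
  {T W V W' : Subgroup G} [Fintype T] (h : CoreSide T W V W')
include hG h

omit hG h in
theorem linChars_mem_above {φ : ↥T → ℂ} (hφ : φ ∈ linChars T) :
    φ ∈ Cfsg.inducedIrrAbove (derIn T) ⊥ := by
  obtain ⟨θ, h1, h2, -, rfl⟩ := hφ
  exact ⟨θ, h1, h2, fun a ha => by rw [show a = 1 from Subtype.ext (mem_bot.1 ha)], rfl⟩

/-- The products with `Ind 1`. -/
theorem CoreSide.ind_facts :
    Cfsg.classInner (Cfsg.indFun (derIn T) fun _ => (1 : ℂ)) (Cfsg.indFun (derIn T) fun _ => (1 : ℂ)) =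
        (Nat.card W : ℂ) ∧
      Cfsg.classInner (Cfsg.indFun (derIn T) fun _ => (1 : ℂ)) (fun _ => 1) = 1 ∧
      ∀ φ ∈ Cfsg.inducedIrrAbove (derIn T) ⊥,
        Cfsg.classInner (Cfsg.indFun (derIn T) fun _ => (1 : ℂ)) φ = 0 ∧
        Cfsg.classInner φ (Cfsg.indFun (derIn T) fun _ => (1 : ℂ)) = 0 ∧
        Cfsg.classInner φ (fun _ => 1) = 0 := by
  classical
  haveI : Fintype (derIn T) := Fintype.ofFinite _
  have hp : Cfsg.IsIrrCharacter (derIn T) fun _ => (1 : ℂ) := Char.principalIrr.2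
  refine ⟨?_, ?_, fun φ hφ => ?_⟩
  · have h1 := CharTwist.card_mul_classInner_indFun (derIn T) hp hp
    rw [Nat.card_congr (Equiv.subtypeUnivEquiv (p := fun g : T =>
        CharTwist.conjFun (derIn T) (fun _ => (1 : ℂ)) g = fun _ => 1) fun _ => rfl),
      ← (derIn T).card_mul_index, h.index_derIn hG, Nat.cast_mul] at h1
    exact mul_left_cancel₀ (Nat.cast_ne_zero.2 Nat.card_pos.ne') h1
  · rw [Char.classInner_indFun (derIn T) _ _ fun _ _ => rfl]
    exact Char.classInner_irr_self hp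
  · obtain ⟨θ, hθ, hne, -, rfl⟩ := hφ
    have h0 : Cfsg.classInner (Cfsg.indFun (derIn T) fun _ => (1 : ℂ)) (Cfsg.indFun (derIn T) θ) = 0 := by
      have h1 := CharTwist.card_mul_classInner_indFun (derIn T) hp hθ
      have he : IsEmpty {g : T // CharTwist.conjFun (derIn T) θ g = fun _ => (1 : ℂ)} := ⟨fun g => hne (by
        funext k
        have hn : (derIn T).Normal := inferInstance
        have := congrFun g.2 ⟨(g.1 : T)⁻¹ * k * g.1, by simpa using hn.conj_mem (k : T) k.2 (g.1 : T)⁻¹⟩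
        rw [← this]
        exact congrArg θ (Subtype.ext (by simp [mul_assoc])))⟩
      rw [(Nat.card_eq_zero.2 (Or.inl he) :
          Nat.card {g : T // CharTwist.conjFun (derIn T) θ g = fun _ => (1 : ℂ)} = 0),
        Nat.cast_zero, mul_eq_zero] at h1
      exact h1.resolve_left (Nat.cast_ne_zero.2 Nat.card_pos.ne')
    refine ⟨h0, by rw [← Char.classInner_conj_symm, h0, map_zero], ?_⟩
    rw [Char.classInner_indFun (derIn T) _ _ fun _ _ => rfl]
    exact Char.classInner_irr_of_ne hθ hp hne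

/-- A difference of two members of one degree. -/
theorem CoreSide.diff_facts {φ ψ : ↥T → ℂ} (hφ : φ ∈ Cfsg.inducedIrrAbove (derIn T) ⊥)
    (hψ : ψ ∈ Cfsg.inducedIrrAbove (derIn T) ⊥) {c : ℕ} (h1 : φ 1 = (c : ℂ) * ψ 1) :
    Cfsg.IsClassFunction T (φ - (c : ℂ) • ψ) ∧
      ∀ x : T, (x : G) ∉ coreSet T → (φ - (c : ℂ) • ψ) x = 0 := by
  have a := span_above (OddChar.mem_zspan_self hφ)
  have b := span_above (OddChar.mem_zspan_self hψ)
  exact ⟨fun x y => by simp only [Pi.sub_apply, Pi.smul_apply]; rw [a.2.1 x y, b.2.1 x y],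
    h.off_core hG (fun x hx => by simp [a.2.2 x hx, b.2.2 x hx]) (by simp [h1])⟩

theorem CoreSide.lin_diff {ξ ζ : ↥T → ℂ} (hξ : ξ ∈ linChars T) (hζ : ζ ∈ linChars T) :
    Cfsg.IsGeneralizedCharacter T (ξ - ζ) ∧
      (∀ x : T, (x : G) ∉ coreSet T → (ξ - ζ) x = 0) ∧
      Cfsg.classInner (ξ - ζ) (fun _ => 1) = 0 ∧ (Cfsg.classInner (ξ - ζ) (ξ - ζ)).re ≤ 2 := by
  have a := span_above (OddChar.mem_zspan_self (linChars_mem_above hξ))
  have b := span_above (OddChar.mem_zspan_self (linChars_mem_above hζ))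
  obtain ⟨i1, d1⟩ := linChars_mem hG h ξ hξ
  obtain ⟨i2, d2⟩ := linChars_mem hG h ζ hζ
  refine ⟨Char.IsGeneralizedCharacter.sub a.1 b.1,
    h.off_core hG (fun x hx => by simp [a.2.2 x hx, b.2.2 x hx]) (by simp [d1, d2]), ?_, ?_⟩
  · rw [Char.classInner_sub_left, ((h.ind_facts hG).2.2 ξ (linChars_mem_above hξ)).2.2,
      ((h.ind_facts hG).2.2 ζ (linChars_mem_above hζ)).2.2, sub_zero]
  · by_cases e : ξ = ζ
    · rw [e, sub_self, Char.classInner_zero_left]; norm_num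
    · rw [Char.classInner_sub_left, Char.classInner_sub_right, Char.classInner_sub_right,
        Char.classInner_irr_self i1, Char.classInner_irr_self i2, Char.classInner_irr_of_ne i1 i2 e,
        Char.classInner_irr_of_ne i2 i1 (Ne.symm e)]
      norm_num

theorem CoreSide.killFun_facts {ζ : ↥T → ℂ} (hζ : ζ ∈ linChars T) :
    Cfsg.IsGeneralizedCharacter T (killFun T ζ) ∧ Cfsg.IsClassFunction T (killFun T ζ) ∧
      (∀ x : T, (x : G) ∉ coreSet T → killFun T ζ x = 0) ∧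
      Cfsg.classInner (killFun T ζ) (fun _ => 1) = 1 ∧
      Cfsg.classInner (killFun T ζ) (killFun T ζ) = (Nat.card W : ℂ) + 1 := by
  classical
  haveI : Fintype (derIn T) := Fintype.ofFinite _
  obtain ⟨e0, e1, e2⟩ := h.ind_facts hG
  obtain ⟨i2, d2⟩ := linChars_mem hG h ζ hζ
  obtain ⟨f1, f2, f3⟩ := e2 ζ (linChars_mem_above hζ)
  have b := span_above (OddChar.mem_zspan_self (linChars_mem_above hζ))
  have hp : Cfsg.IsIrrCharacter (derIn T) fun _ => (1 : ℂ) := Char.principalIrr.2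
  have hgen : Cfsg.IsGeneralizedCharacter T (killFun T ζ) := Char.IsGeneralizedCharacter.sub
    (Char.IsCharacter.isGeneralizedCharacter
      (Char.IsCharacter.indFun _ (Char.IsIrrCharacter.isCharacter hp))) b.1
  refine ⟨hgen, Char.IsGeneralizedCharacter.isClassFunction hgen,
    h.off_core hG (fun x hx => ?_) ?_, ?_, ?_⟩
  · simp [killFun, b.2.2 x hx, Char.indFun_eq_zero_of_normal _ _ hx]
  · simp [killFun, d2, Char.indFun_apply_one, h.index_derIn hG]
  · rw [killFun, Char.classInner_sub_left, e1, f3, sub_zero]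
  · rw [killFun, Char.classInner_sub_left, Char.classInner_sub_right, Char.classInner_sub_right,
      e0, f1, f2, Char.classInner_irr_self i2]
    ring

variable {χ : (↥(W ⊔ W') →* ℂˣ) → (G → ℂ)} (hχ : Cfsg.IsCyclicTIFamily W W' χ)
include hχ

/-- The grid of `β`, with its symmetry. -/
theorem CoreSide.kill_grid {ζ : ↥T → ℂ} (hζ : ζ ∈ linChars T) :
    ∃ x : LineA W W' → LineB W W' → ℤ,
      (∀ a b, Cfsg.classInner (tauCore T (killFun T ζ)) (χ (a.1 * b.1)) = (x a b : ℂ)) ∧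
      ∑ a, ∑ b, x a b ^ 2 ≤ (Fintype.card (LineA W W') : ℤ) + 1 ∧
      (∀ a b, x a b + x 1 1 = x a 1 + x 1 b) ∧ x 1 1 = 1 ∧ Odd (∑ a, x a 1) := by
  classical
  obtain ⟨g1, g2, g3, g4, g5⟩ := h.killFun_facts hG hζ
  have hW := h.typeP.selfNormalizing
  obtain ⟨x, hx, hn, hr⟩ := exists_line_grid hW hχ
    (θ := tauCore T (killFun T ζ))
    (Cfsg.Agent.S1501.result (coreSet T) T (Cfsg.supportR T) (dade_core hG h.coatom) _ g1 g3)
  rw [h.tau_inner hG g2 g3 g2 g3, g5] at hn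
  have h11 : x 1 1 = 1 := by
    have e := hx 1 1
    rw [show (1 : LineA W W').1 * (1 : LineB W W').1 = 1 from one_mul (1 : ↥(W ⊔ W') →* ℂˣ),
      hχ.map_one, h.tau_inner_one hG g2 g3, g4] at e
    exact_mod_cast e.symm
  refine ⟨x, hx, ?_, hr (h.tau_reg hG g2 g3), h11, ?_⟩
  · rw [(line_facts hW).1]
    have h3 : ((∑ a, ∑ b, x a b ^ 2 : ℤ) : ℝ) ≤ (((Nat.card W : ℤ) + 1 : ℤ) : ℝ) := by
      simp only [Complex.add_re, Complex.natCast_re, Complex.one_re] at hn
      push_cast at hn ⊢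
      linarith
    exact_mod_cast h3
  -- `conj β - β` avoids the grid
  have hζc : Cfsg.conjFun ζ ∈ linChars T := OddChar.Above.above_conj _ _ hζ
  have hdade : ∀ γ : ↥T → ℂ, Cfsg.conjFun (tauCore T γ) = tauCore T (Cfsg.conjFun γ) := fun γ => by
    funext g
    simp only [tauCore, Cfsg.dadeIsometry, Cfsg.conjFun]
    split_ifs <;> simp
  have hconj : Cfsg.conjFun (tauCore T (killFun T ζ)) =
      tauCore T (killFun T ζ) + tauCore T (ζ - Cfsg.conjFun ζ) := by
    rw [hdade, tauCore, tauCore, tauCore, ← dade_map_add]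
    congr 1
    rw [killFun, OddChar.conjFun_sub, OddChar.Above.conjFun_indFun,
      show Cfsg.conjFun (fun _ : derIn T => (1 : ℂ)) = fun _ => 1 from funext fun _ => map_one _]
    abel
  have hsym : ∀ ω, Cfsg.classInner (tauCore T (killFun T ζ)) (χ ω⁻¹) =
      conj (Cfsg.classInner (tauCore T (killFun T ζ)) (χ ω)) := fun ω => by
    obtain ⟨d1, d2, d3, d4⟩ := h.lin_diff hG hζ hζc
    rw [apply_inv hW hG.1 hχ, ← OddChar.conjFun_conjFun (tauCore T (killFun T ζ)),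
      classInner_conjFun_conjFun, hconj, Char.classInner_add_left,
      h.orth_grid hχ hG d1 d2 d3 d4, add_zero, ← hconj, OddChar.conjFun_conjFun]
  let inv : LineA W W' → LineA W W' := fun a => ⟨a.1⁻¹, fun z hz => by simp [a.2 z hz]⟩
  have hxi : ∀ a, x (inv a) 1 = x a 1 := fun a => by
    have e := hx (inv a) 1
    have e' := hx a 1
    rw [show (inv a).1 * (1 : LineB W W').1 = (inv a).1 from mul_one (inv a).1] at e
    rw [show a.1 * (1 : LineB W W').1 = a.1 from mul_one a.1] at e'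
    rw [show (inv a).1 = a.1⁻¹ from rfl, hsym, e', map_intCast] at e
    exact_mod_cast e.symm
  rw [← Int.not_even_iff_odd, ← ZMod.intCast_eq_zero_iff_even]
  push_cast
  rw [← Finset.add_sum_erase _ _ (Finset.mem_univ (1 : LineA W W')), h11,
    Finset.sum_involution (fun a _ => inv a) (fun a _ => ?_) (fun a ha _ => ?_) (fun a ha => ?_)
      fun a _ => Subtype.ext (inv_inv a.1)]
  · decide
  · rw [hxi]; exact CharTwo.add_self_eq_zero _
  · intro e
    have e1 : a.1⁻¹ = a.1 := congrArg Subtype.val e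
    have h2 : a.1 ^ 2 = 1 := by rw [sq]; nth_rewrite 1 [← e1]; exact inv_mul_cancel a.1
    have hd := orderOf_dvd_of_pow_eq_one h2
    have hd' : orderOf a.1 ∣ Nat.card ↥(W ⊔ W') :=
      orderOf_dvd_of_pow_eq_one (MonoidHom.ext fun w => by
        rw [MonoidHom.pow_apply, ← map_pow, pow_card_eq_one', map_one, MonoidHom.one_apply])
    have ho : Odd (Nat.card ↥(W ⊔ W')) := hG.1.of_dvd_nat (card_subgroup_dvd_card _)
    exact (Finset.mem_erase.1 ha).1 (Subtype.ext (orderOf_eq_one_iff.1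
      (Nat.eq_one_of_dvd_coprimes (Nat.coprime_two_left.2 ho) hd hd')))
  · refine Finset.mem_erase.2 ⟨fun e => (Finset.mem_erase.1 ha).1 (Subtype.ext ?_), Finset.mem_univ _⟩
    exact (inv_eq_one (a := a.1)).1 (congrArg Subtype.val e)

/-- The column of `1` less `β`: a class function of norm `1`, and what the core takes of it. -/
theorem CoreSide.core_bound {ζ : ↥T → ℂ} (hζ : ζ ∈ linChars T)
    (hcol : Cfsg.classInner (tauCore T (killFun T ζ)) (colSum W W' χ 1) = (Nat.card W : ℂ))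
    {κ : Type*} [Fintype κ] {θ : ℕ} {μ : κ → ↥T → ℂ} (hμ : ∀ k, IsFixedInd T W (μ k) θ)
    (hinj : Function.Injective μ)
    (horth : ∀ k, Cfsg.classInner (tauCore T (μ k - (θ : ℂ) • ζ)) (colSum W W' χ 1) = 0) :
    Cfsg.IsClassFunction G (colSum W W' χ 1 - tauCore T (killFun T ζ)) ∧
      Cfsg.classInner (colSum W W' χ 1 - tauCore T (killFun T ζ))
        (colSum W W' χ 1 - tauCore T (killFun T ζ)) = 1 ∧
      1 - (Nat.card W : ℝ) / ((⁅⁅T, T⁆, ⁅T, T⁆⁆.relIndex ⁅T, T⁆ : ℝ) + Fintype.card κ * (θ : ℝ) ^ 2) ≤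
        (Nat.card T : ℝ)⁻¹ * ∑ᶠ a ∈ {a : T | (a : G) ∈ coreSet T},
          ‖rho T (colSum W W' χ 1 - tauCore T (killFun T ζ)) a‖ ^ 2 := by
  classical
  obtain ⟨g1, g2, g3, g4, g5⟩ := h.killFun_facts hG hζ
  obtain ⟨e0, e1, e2⟩ := h.ind_facts hG
  have hW := h.typeP.selfNormalizing
  have hD := dade_core hG h.coatom
  obtain ⟨hA, -, hbij⟩ := line_facts hW
  set C := colSum W W' χ 1 with hC
  have hC' : C = ∑ a : LineA W W', χ (a.1 * (1 : LineB W W').1) :=
    colSum_eq hW hχ 1 1 fun _ _ => rfl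
  have hCC : Cfsg.classInner C C = (Nat.card W : ℂ) := by
    nth_rewrite 2 [hC']
    rw [Char.classInner_sum_right, Finset.sum_congr rfl (g := fun _ => (1 : ℂ)) fun a _ => by
      rw [hC, inner_colSum hW hχ, if_pos fun z hz => by
        rw [MonoidHom.mul_apply, a.2 z hz, one_mul]; rfl], Finset.sum_const, Finset.card_univ, hA,
      nsmul_one]
  have hCβ : Cfsg.classInner C (tauCore T (killFun T ζ)) = (Nat.card W : ℂ) := by
    rw [← Char.classInner_conj_symm, hcol, Complex.conj_natCast]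
  set Ψ := C - tauCore T (killFun T ζ) with hΨ
  have hΨc : Cfsg.IsClassFunction G Ψ := fun x y => by
    simp only [hΨ, Pi.sub_apply, hC', Finset.sum_apply]
    rw [show tauCore T (killFun T ζ) (y * x * y⁻¹) = tauCore T (killFun T ζ) x from
      Char.IsGeneralizedCharacter.isClassFunction
        (Cfsg.Agent.S1501.result (coreSet T) T (Cfsg.supportR T) hD _ g1 g3) x y]
    congr 1
    exact Finset.sum_congr rfl fun a _ =>
      OddChar.CyclicUnique.Signed.isClassFunction (hχ.irr_or_neg _) x y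
  refine ⟨hΨc, ?_, ?_⟩
  · rw [hΨ, Char.classInner_sub_left, Char.classInner_sub_right, Char.classInner_sub_right, hCC,
      hCβ, hcol, h.tau_inner hG g2 g3 g2 g3, g5]
    ring
  let F : ↥T → ℂ := fun a => if (a : G) ∈ coreSet T then rho T Ψ a else 0
  have hF : ∀ γ : ↥T → ℂ, Cfsg.IsClassFunction T γ → (∀ x : T, (x : G) ∉ coreSet T → γ x = 0) →
      Cfsg.classInner γ F = Cfsg.classInner (tauCore T γ) C - Cfsg.classInner γ (killFun T ζ) := by
    intro γ hγ hs
    rw [← h.tau_inner hG hγ hs g2 g3, ← Char.classInner_sub_right, ← hΨ]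
    exact ((Cfsg.Agent.S1500.result (coreSet T) T (Cfsg.supportR T) hD γ hγ hs).2 Ψ F hΨc
      fun a ha => if_pos ha).symm
  haveI : Finite ↥(linChars T) := (linChars_finite hG (T := T)).to_subtype
  letI : Fintype ↥(linChars T) := Fintype.ofFinite _
  obtain ⟨hlin, hcard, -, hN, -⟩ := linChars_facts hG h
  rw [Nat.card_eq_fintype_card] at hcard hN
  have hμ1 : ∀ k, μ k ∈ Cfsg.inducedIrrAbove (derIn T) ⊥ := fun k => (hμ k).1
  have hne : ∀ (i : ↥(linChars T)) k, i.1 ≠ μ k := fun i k e => by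
    have h1 := Char.classInner_irr_self (hlin i.1 i.2).1
    rw [e, (hμ k).2.1] at h1
    have h2 : Nat.card W = 1 := by exact_mod_cast h1
    have := (h.three_le hG).1
    omega
  have hb := CoreKillAux.core_lower (w := Nat.card W) (θ := θ)
    (e₀ := Cfsg.indFun (derIn T) fun _ => (1 : ℂ)) (F := F)
    (ξ := fun i : ↥(linChars T) => (i : ↥T → ℂ)) (μ := μ) (i₀ := ⟨ζ, hζ⟩) Nat.card_pos hN e0
    (fun i j => by
      split_ifs with e
      · rw [e]; exact Char.classInner_irr_self (hlin _ j.2).1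
      · exact Char.classInner_irr_of_ne (hlin _ i.2).1 (hlin _ j.2).1 fun e' => e (Subtype.ext e'))
    (fun k l => by
      split_ifs with e
      · rw [e]; exact (hμ l).2.1
      · exact h.above_orth hG (hμ1 k) (hμ1 l) fun e' => e (hinj e'))
    (fun i => (e2 _ (linChars_mem_above i.2)).1) (fun k => (e2 _ (hμ1 k)).1)
    (fun i k => h.above_orth hG (linChars_mem_above i.2) (hμ1 k) (hne i k))
    (by
      show Cfsg.classInner (killFun T ζ) F = -1
      rw [hF _ g2 g3, hcol, g5]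
      ring)
    (fun i hi => by
      obtain ⟨d1, d2, d3, d4⟩ := h.lin_diff hG i.2 hζ
      have hiζ : i.1 ≠ ζ := fun e => hi (Subtype.ext e)
      rw [hF _ (Char.IsGeneralizedCharacter.isClassFunction d1) d2, hC', Char.classInner_sum_right,
        Finset.sum_eq_zero fun a _ => h.orth_grid hχ hG d1 d2 d3 d4 _, killFun,
        Char.classInner_sub_left, Char.classInner_sub_right, Char.classInner_sub_right,
        (e2 _ (linChars_mem_above i.2)).2.1, (e2 _ (linChars_mem_above hζ)).2.1,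
        Char.classInner_irr_of_ne (hlin _ i.2).1 (hlin _ hζ).1 hiζ,
        Char.classInner_irr_self (hlin _ hζ).1]
      ring)
    (fun k => by
      obtain ⟨d1, d2⟩ := h.diff_facts hG (hμ1 k) (linChars_mem_above hζ) (c := θ)
        (by rw [(hμ k).2.2, (hlin ζ hζ).2, mul_comm])
      rw [hF _ d1 d2, horth k, killFun, Char.classInner_sub_left, Char.classInner_sub_right,
        Char.classInner_sub_right, Char.classInner_smul_left, Char.classInner_smul_left,
        (e2 _ (hμ1 k)).2.1, (e2 _ (linChars_mem_above hζ)).2.1,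
        h.above_orth hG (hμ1 k) (linChars_mem_above hζ) (hne ⟨ζ, hζ⟩ k).symm,
        Char.classInner_irr_self (hlin _ hζ).1]
      ring)
  rw [show (⁅⁅T, T⁆, ⁅T, T⁆⁆.relIndex ⁅T, T⁆ : ℝ) =
    (Fintype.card ↥(linChars T) : ℝ) * Nat.card W + 1 by exact_mod_cast hcard.symm]
  refine hb.trans (le_of_eq ?_)
  rw [Cfsg.classInner, show ∑ g, F g * conj (F g) = ((∑ g, ‖F g‖ ^ 2 : ℝ) : ℂ) by
      push_cast
      exact Finset.sum_congr rfl fun g _ => Complex.mul_conj' _,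
    ← Complex.ofReal_natCast, ← Complex.ofReal_inv, ← Complex.ofReal_mul, Complex.ofReal_re,
    finsum_mem_eq_toFinset_sum]
  congr 1
  rw [← Finset.sum_subset (Finset.subset_univ {a : T | (a : G) ∈ coreSet T}.toFinset)]
  · exact Finset.sum_congr rfl fun a ha => by rw [show F a = _ from if_pos (Set.mem_toFinset.1 ha)]
  · intro a _ ha
    rw [show F a = 0 from if_neg fun hc => ha (Set.mem_toFinset.2 hc)]
    simp

end Side

section Kill

variable [Fintype G] (hG : Cfsg.IsMinSimpleOddOrder G)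
  {S T W₁ W₂ U V : Subgroup G} [Fintype T]
include hG

/-- The rest of the group against the core. -/
theorem kill (hpd : PairData S T W₁ W₂ U V) (hcs : CoreSide T W₂ V W₁)
    {χ₀ : (↥(W₁ ⊔ W₂) →* ℂˣ) → (G → ℂ)} (hχ₀ : Cfsg.IsCyclicTIFamily W₁ W₂ χ₀)
    {χ : (↥(W₂ ⊔ W₁) →* ℂˣ) → (G → ℂ)} (hχ : Cfsg.IsCyclicTIFamily W₂ W₁ χ)
    (hsw : ∀ (ω : ↥(W₁ ⊔ W₂) →* ℂˣ) (ω' : ↥(W₂ ⊔ W₁) →* ℂˣ),
      (∀ (a : ↥(W₁ ⊔ W₂)) (b : ↥(W₂ ⊔ W₁)), (a : G) = b → ω a = ω' b) → χ ω' = χ₀ ω)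
    {ζ : ↥T → ℂ} (hζ : ζ ∈ linChars T)
    (hcol : Cfsg.classInner (tauCore T (killFun T ζ)) (colSum W₂ W₁ χ 1) = (Nat.card W₂ : ℂ))
    {κ : Type*} [Fintype κ] {θ : ℕ} {μ : κ → ↥T → ℂ} (hμ : ∀ k, IsFixedInd T W₂ (μ k) θ)
    (hinj : Function.Injective μ)
    (horth : ∀ k, Cfsg.classInner (tauCore T (μ k - (θ : ℂ) • ζ)) (colSum W₂ W₁ χ 1) = 0)
    (hD : 2 * Nat.card W₁ * Nat.card W₂ <
      ⁅⁅T, T⁆, ⁅T, T⁆⁆.relIndex ⁅T, T⁆ + Fintype.card κ * θ ^ 2) : False := by
  classical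
  obtain ⟨hΨc, hΨn, hcore⟩ := hcs.core_bound hG hχ hζ hcol hμ hinj horth
  have hW := hcs.typeP.selfNormalizing
  set Ψ := colSum W₂ W₁ χ 1 - tauCore T (killFun T ζ) with hΨ
  have hbud := budget hG hpd.maxT (E := {S, T}) (Or.inr rfl) hΨc
  rw [hΨn, Complex.one_re] at hbud
  let e : ↥(W₁ ⊔ W₂) ≃* ↥(W₂ ⊔ W₁) := MulEquiv.subgroupCongr (sup_comm W₁ W₂)
  let Φ : LineA W₂ W₁ → (↥(W₁ ⊔ W₂) →* ℂˣ) := fun a => a.1.comp e.toMonoidHom
  have hΦ : ∀ a, χ a.1 = χ₀ (Φ a) := fun a => hsw _ _ fun z z' hz => by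
    obtain rfl : e z = z' := Subtype.ext hz
    rfl
  haveI := OddChar.finite_linearChar ↥(W₁ ⊔ W₂)
  letI : Fintype (↥(W₁ ⊔ W₂) →* ℂˣ) := Fintype.ofFinite _
  have hrb := rest_bound hG hpd hχ₀ (E := {S, T}) (Or.inl rfl) (Or.inr rfl)
    (fun ω => if TrivialOn ω W₁ then 1 else 0) (by rw [if_pos (show TrivialOn (1 : ↥(W₁ ⊔ W₂) →* ℂˣ) W₁ from fun _ _ => rfl)]; exact odd_one)
    (fun ω => by
      have : TrivialOn ω⁻¹ W₁ ↔ TrivialOn ω W₁ := by simp [TrivialOn]
      simp only [this])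
    (Ψ := Ψ) fun g hg => by
      obtain ⟨N, hN, hnN, hgN⟩ := hg
      have hgT : g ∉ OddChar.dadeSupport (coreSet T) (Cfsg.supportR T) := fun hc =>
        Set.eq_empty_iff_forall_notMem.1
          ((Cfsg.Agent.S1379.result hG).1 T N hpd.maxT hN (hnN T (Or.inr rfl))) g
          ⟨by rw [show (Cfsg.sigmaCore T : Set G) \ {1} = coreSet T from rfl,
            tildeOf_eq_dadeSupport]; exact hc, hgN⟩
      rw [hΨ, Pi.sub_apply, show tauCore T (killFun T ζ) g = 0 from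
        OddChar.dadeIsometry_eq_zero hgT, sub_zero, colSum_eq hW hχ 1 1 (fun _ _ => rfl),
        Finset.sum_apply, finsum_eq_sum_of_fintype]
      rw [Finset.sum_congr rfl (g := fun a : LineA W₂ W₁ => χ₀ (Φ a) g) fun a _ => by
        rw [show a.1 * (1 : LineB W₂ W₁).1 = a.1 from mul_one a.1, hΦ]]
      simp only [Int.cast_ite, Int.cast_one, Int.cast_zero, ite_mul, one_mul, zero_mul]
      rw [← Finset.sum_filter]
      refine Finset.sum_bij' (fun a _ => Φ a)
        (fun ω hω => ⟨ω.comp e.symm.toMonoidHom, fun z hz => (Finset.mem_filter.1 hω).2 _ hz⟩)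
        (fun a _ => Finset.mem_filter.2 ⟨Finset.mem_univ _, fun z hz => a.2 _ hz⟩)
        (fun _ _ => Finset.mem_univ _) (fun a _ => Subtype.ext (MonoidHom.ext fun z => ?_))
        (fun ω _ => MonoidHom.ext fun z => ?_) fun _ _ => rfl
      · simp [Φ]
      · simp [Φ]
  obtain ⟨hq, -, -, -, hSF, hU⟩ := pair_basics hG hpd
  have hR := rest_card hG hpd
  set R : ℝ := ((restSet {S, T}).ncard : ℝ)
  set D : ℝ := (⁅⁅T, T⁆, ⁅T, T⁆⁆.relIndex ⁅T, T⁆ : ℝ) + Fintype.card κ * (θ : ℝ) ^ 2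
  have hg : (0 : ℝ) < Nat.card G := Nat.cast_pos.2 Nat.card_pos
  have hbudget : R / Nat.card G ≤ (Nat.card W₂ : ℝ) / D := by
    have := mul_le_mul_of_nonneg_left hrb (inv_nonneg.2 hg.le)
    rw [div_eq_inv_mul R]
    linarith
  have hTc : (Nat.card T : ℝ) = Nat.card (Cfsg.sigmaCore T) * Nat.card W₂ := by
    rw [hcs.core_eq, ← Nat.cast_mul, Nat.cast_inj, (typeP_card_eq hcs.typeP).2]
    rw [← relIndex_bot_left ⁅T, T⁆, relIndex_mul_relIndex ⊥ _ T bot_le (commutator_le_self T),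
      relIndex_bot_left]
  have hSc : Nat.card S = Nat.card (Cfsg.sigmaCore S) * Nat.card U * Nat.card W₁ := by
    have h1 : Nat.card (Cfsg.fittingHallOf S) = U.relIndex ⁅S, S⁆ :=
      OddOrder.card_eq_relIndex_of_isComplIn hpd.typeS.U_compl
    rw [hSF, mul_comm (Nat.card (Cfsg.fittingHallOf S)), h1, ← relIndex_bot_left U,
      relIndex_mul_relIndex ⊥ U _ bot_le hpd.typeS.U_compl.2.1, relIndex_bot_left,
      (typeP_card_eq hpd.typeS).2, ← relIndex_bot_left ⁅S, S⁆,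
      relIndex_mul_relIndex ⊥ _ S bot_le (commutator_le_self S), relIndex_bot_left]
  have hwR : (0 : ℝ) < Nat.card W₂ := Nat.cast_pos.2 Nat.card_pos
  refine CoreKillAux.rest_too_big (g := Nat.card G) (q := Nat.card W₁) (w := Nat.card W₂)
    (u := Nat.card U) (t := Nat.card T) (cS := coreWeight S) (cT := coreWeight T) (R := R) (D := D)
    (Nat.cast_pos.2 Nat.card_pos) (by exact_mod_cast (hcs.three_le hG).1) ?_
    (Nat.cast_pos.2 Nat.card_pos)
    (by exact_mod_cast Nat.le_of_dvd Nat.card_pos (card_subgroup_dvd_card T)) ?_ ?_ hR hbudget ?_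
  · have : 3 ≤ Nat.card W₁ := (hcs.three_le hG).2
    have : 7 ≤ Nat.card U := by omega
    exact_mod_cast this
  · have hn : (0 : ℝ) < Nat.card (Cfsg.sigmaCore S) := Nat.cast_pos.2 Nat.card_pos
    have hu0 : (0 : ℝ) < Nat.card U := Nat.cast_pos.2 Nat.card_pos
    have hq0 : (0 : ℝ) < Nat.card W₁ := Nat.cast_pos.2 Nat.card_pos
    rw [coreWeight, hSc]
    push_cast
    rw [div_le_div_iff₀ (by positivity) (by positivity)]
    nlinarith
  · have hn : (0 : ℝ) < Nat.card (Cfsg.sigmaCore T) := Nat.cast_pos.2 Nat.card_pos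
    rw [coreWeight, hTc]
    field_simp
  · show _ < (⁅⁅T, T⁆, ⁅T, T⁆⁆.relIndex ⁅T, T⁆ : ℝ) + Fintype.card κ * (θ : ℝ) ^ 2
    exact_mod_cast hD

theorem no_linked (hpd : PairData S T W₁ W₂ U V) (hcs : CoreSide T W₂ V W₁)
    (hl : Linked T W₂) : False := by
  classical
  obtain ⟨f, μ, ζ, θ, hf, hμ, hζ, hlc⟩ := hl
  obtain ⟨χ₀, hχ₀⟩ := Cfsg.Agent.S1502.result W₁ W₂ hpd.typeS.selfNormalizing
    (hG.1.of_dvd_nat (card_subgroup_dvd_card _))
  obtain ⟨χ, hχ, hsw⟩ := swap hpd.typeS.selfNormalizing hG.1 hχ₀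
  have hW := hcs.typeP.selfNormalizing
  obtain ⟨hA, hB, hbij⟩ := line_facts hW
  obtain ⟨hw3, hq3⟩ := hcs.three_le hG
  obtain ⟨s, θ₀, M, hs, hM, -, -, hsurj, hpins⟩ := exists_corePins hG hcs hχ
  obtain ⟨rfl, φ', hφ', rfl⟩ := hsurj μ θ hμ
  obtain ⟨s', φ₀, hs', hφ₀, hcol⟩ := linked_column hG hcs hχ hf hμ hζ hlc
  change tauCore T (M φ' - (θ : ℂ) • ζ) + (θ : ℂ) • f ζ = (s' : ℂ) • colSum W₂ W₁ χ φ₀ at hcol
  have hdeg := fixedInd_degree hG hcs hμ
  have hθ0 : (θ : ℂ) ≠ 0 := Nat.cast_ne_zero.2 (by omega)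
  obtain ⟨hlin1, hlin2⟩ := linChars_mem hG hcs ζ hζ
  obtain ⟨d1, d2⟩ := hcs.diff_facts hG hμ.1 (linChars_mem_above hζ) (c := θ)
    (by rw [hμ.2.2, hlin2, mul_comm])
  have hfg : Cfsg.IsGeneralizedCharacter G (f ζ) := hf.1.2.2.2 _ (OddChar.mem_zspan_self hζ)
  have hfn : Cfsg.classInner (f ζ) (f ζ) = 1 := by
    rw [hf.1.2.2.1 _ (OddChar.mem_zspan_self hζ) _ (OddChar.mem_zspan_self hζ),
      Char.classInner_irr_self hlin1]
  obtain ⟨e, he, hen, -⟩ := exists_line_grid hW hχ hfg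
  -- the rectangles of the column pass to `f ζ`
  have hτ : ∀ ω, Cfsg.classInner (tauCore T (M φ' - (θ : ℂ) • ζ)) (χ ω) =
      (s' : ℂ) * (if ∀ z : ↥(W₂ ⊔ W₁), (z : G) ∈ W₁ → ω z = φ₀ z then 1 else 0) -
        (θ : ℂ) * Cfsg.classInner (f ζ) (χ ω) := fun ω => by
    rw [← inner_colSum hW hχ, eq_sub_of_add_eq hcol, Char.classInner_sub_left,
      Char.classInner_smul_left, Char.classInner_smul_left]
  have hmem : ∀ (a : LineA W₂ W₁) (b : LineB W₂ W₁),
      (∀ z : ↥(W₂ ⊔ W₁), (z : G) ∈ W₁ → (a.1 * b.1) z = φ₀ z) ↔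
        ∀ z : ↥(W₂ ⊔ W₁), (z : G) ∈ W₁ → b.1 z = φ₀ z := fun a b =>
    forall₂_congr fun z hz => by rw [MonoidHom.mul_apply, a.2 z hz, one_mul]
  have h1φ : ¬ ∀ z : ↥(W₂ ⊔ W₁), (z : G) ∈ W₁ → (1 : LineB W₂ W₁).1 z = φ₀ z := fun hc =>
    hφ₀ fun z hz => (hc z hz).symm
  have he11 : e 1 1 = 0 := by
    have h0 : Cfsg.classInner (tauCore T (M φ' - (θ : ℂ) • ζ)) (fun _ => 1) = 0 := by
      rw [hcs.tau_inner_one hG d1 d2, Char.classInner_sub_left, Char.classInner_smul_left,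
        ((hcs.ind_facts hG).2.2 _ hμ.1).2.2, ((hcs.ind_facts hG).2.2 _ (linChars_mem_above hζ)).2.2]
      ring
    have := hτ ((1 : LineA W₂ W₁).1 * (1 : LineB W₂ W₁).1)
    rw [he, if_neg (mt (hmem 1 1).1 h1φ),
      show (1 : LineA W₂ W₁).1 * (1 : LineB W₂ W₁).1 = 1 from one_mul (1 : ↥(W₂ ⊔ W₁) →* ℂˣ),
      hχ.map_one, h0] at this
    have h2 : (θ : ℂ) * (e 1 1 : ℂ) = 0 := by linear_combination this
    exact_mod_cast (mul_eq_zero.1 h2).resolve_left hθ0
  have herect : ∀ a b, e a b + e 1 1 = e a 1 + e 1 b := fun a b => by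
    obtain ⟨z, hz, -, hzr⟩ := exists_line_grid hW hχ
      (θ := tauCore T (M φ' - (θ : ℂ) • ζ))
      (Cfsg.Agent.S1501.result (coreSet T) T (Cfsg.supportR T) (dade_core hG hcs.coatom) _
        (span_above (Submodule.sub_mem _ (OddChar.mem_zspan_self hμ.1)
          (OddChar.Coh.natCast_smul_eq θ ζ ▸ Submodule.smul_mem _ _
            (OddChar.mem_zspan_self (linChars_mem_above hζ))))).1 d2)
    have hr := congrArg (fun n : ℤ => (n : ℂ)) (hzr (hcs.tau_reg hG d1 d2) a b)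
    simp only [Int.cast_add, ← hz, hτ, he, hmem] at hr
    have h2 : (θ : ℂ) * ((e a b : ℂ) + e 1 1 - e a 1 - e 1 b) = 0 := by linear_combination -hr
    have h3 := (mul_eq_zero.1 h2).resolve_left hθ0
    have h4 : ((e a b + e 1 1 - e a 1 - e 1 b : ℤ) : ℂ) = ((0 : ℤ) : ℂ) := by push_cast; exact h3
    have h5 := Int.cast_inj.1 h4
    omega
  have hez := CoreKillAux.grid_single herect (by omega) (by omega) he11 fun a b a' b' h1 h2 => by
    by_contra hne
    have hne' : (a, b) ≠ (a', b') := fun h' => hne ⟨congrArg Prod.fst h', congrArg Prod.snd h'⟩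
    have h3 := Finset.sum_le_univ_sum_of_nonneg (s := ({(a, b), (a', b')} : Finset _))
      (f := fun p : LineA W₂ W₁ × LineB W₂ W₁ => e p.1 p.2 ^ 2) fun _ => sq_nonneg _
    rw [Finset.sum_pair hne', Fintype.sum_prod_type] at h3
    rw [hfn, Complex.one_re] at hen
    have h4 : (∑ a, ∑ b, e a b ^ 2 : ℤ) ≤ 1 := by exact_mod_cast hen
    have := CoreKillAux.one_le_sq h1
    have := CoreKillAux.one_le_sq h2
    simp only at h3
    linarith
  have hforth : ∀ ω, Cfsg.classInner (f ζ) (χ ω) = 0 := fun ω => by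
    obtain ⟨⟨a, b⟩, rfl⟩ := hbij.2 ω
    simp only
    rw [he, hez, Int.cast_zero]
  -- every member of the family against the grid
  have hsplit : ∀ φ, ¬ TrivialOn φ W₁ → tauCore T (M φ - (θ : ℂ) • ζ) =
      tauCore T (M φ' - (θ : ℂ) • ζ) + (s : ℂ) • (colSum W₂ W₁ χ φ - colSum W₂ W₁ χ φ') := fun φ hφ => by
    rw [← hpins φ φ' hφ hφ', tauCore, tauCore, tauCore, ← dade_map_add]
    congr 1
    abel
  have hcol1 : ∀ φ, ¬ TrivialOn φ W₁ →
      Cfsg.classInner (colSum W₂ W₁ χ φ) (colSum W₂ W₁ χ 1) = 0 := fun φ hφ => by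
    rw [inner_colSum_line hW hχ 1 1 fun _ _ => rfl]
    refine Finset.sum_eq_zero fun a _ => ?_
    rw [inner_colSum hW hχ, if_neg]
    intro hc
    refine hφ fun z hz => ?_
    have := hc z hz
    rw [MonoidHom.mul_apply, a.2 z hz, one_mul] at this
    exact this.symm
  have horth : ∀ φ, ¬ TrivialOn φ W₁ →
      Cfsg.classInner (tauCore T (M φ - (θ : ℂ) • ζ)) (colSum W₂ W₁ χ 1) = 0 := fun φ hφ => by
    rw [hsplit φ hφ, eq_sub_of_add_eq hcol, Char.classInner_add_left, Char.classInner_sub_left,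
      Char.classInner_smul_left, Char.classInner_smul_left, Char.classInner_smul_left,
      Char.classInner_sub_left, hcol1 φ₀ hφ₀, hcol1 φ hφ, hcol1 φ' hφ',
      inner_colSum_line hW hχ 1 1 fun _ _ => rfl, Finset.sum_eq_zero fun a _ => hforth _]
    ring
  obtain ⟨g1, g2, g3, g4, g5⟩ := hcs.killFun_facts hG hζ
  obtain ⟨x, hx, hxn, hxr, hx1, hxo⟩ := hcs.kill_grid hG hχ hζ
  set β := tauCore T (killFun T ζ) with hβ
  have hfix : ∀ φ, ¬ TrivialOn φ W₁ → Cfsg.classInner (killFun T ζ) (M φ) = 0 := fun φ hφ => by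
    rw [killFun, Char.classInner_sub_left, ((hcs.ind_facts hG).2.2 _ (hM φ hφ).1).1,
      hcs.above_orth hG (linChars_mem_above hζ) (hM φ hφ).1 ?_, sub_zero]
    intro e'
    have h1 := Char.classInner_irr_self hlin1
    rw [e', (hM φ hφ).2.1] at h1
    have h2 : Nat.card W₂ = 1 := by exact_mod_cast h1
    omega
  have hK : ∀ φ, ¬ TrivialOn φ W₁ →
      Cfsg.classInner β (colSum W₂ W₁ χ φ) = Cfsg.classInner β (colSum W₂ W₁ χ φ₀) := fun φ hφ => by
    obtain ⟨c1, c2⟩ := hcs.diff_facts hG (hM φ hφ).1 (hM φ₀ hφ₀).1 (c := 1)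
      (by rw [(hM φ hφ).2.2, (hM φ₀ hφ₀).2.2]; simp)
    rw [Nat.cast_one, one_smul] at c1 c2
    have h1 : Cfsg.classInner β (tauCore T (M φ - M φ₀)) = 0 := by
      rw [hβ, hcs.tau_inner hG g2 g3 c1 c2, Char.classInner_sub_right, hfix φ hφ, hfix φ₀ hφ₀, sub_zero]
    rw [hpins φ φ₀ hφ hφ₀, Char.classInner_smul_right, map_intCast, Char.classInner_sub_right,
      mul_eq_zero] at h1
    refine sub_eq_zero.1 (h1.resolve_left ?_)
    rcases hs with e' | e' <;> simp [e']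
  have hdvd : ∀ b : LineB W₂ W₁, b ≠ 1 → (θ : ℤ) ∣ ∑ a, x a b := fun b hb => by
    have hb' : ¬ TrivialOn b.1 W₁ := fun hc => hb (Subtype.ext (OddChar.sup_hom_ext
      (fun z hz => b.2 z hz) fun z hz => hc z hz))
    obtain ⟨n, hn⟩ := OddChar.Coh.exists_int_inner
      (Cfsg.Agent.S1501.result (coreSet T) T (Cfsg.supportR T) (dade_core hG hcs.coatom) _ g1 g3) hfg
    change Cfsg.classInner β (f ζ) = _ at hn
    have h1 : Cfsg.classInner β (tauCore T (M φ' - (θ : ℂ) • ζ)) = (θ : ℂ) := by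
      rw [hβ, hcs.tau_inner hG g2 g3 d1 d2, Char.classInner_sub_right, hfix φ' hφ',
        Char.classInner_smul_right, killFun, Char.classInner_sub_left,
        ((hcs.ind_facts hG).2.2 _ (linChars_mem_above hζ)).1, Char.classInner_irr_self hlin1,
        Complex.conj_natCast]
      ring
    rw [eq_sub_of_add_eq hcol, Char.classInner_sub_right, Char.classInner_smul_right,
      Char.classInner_smul_right, map_intCast, Complex.conj_natCast, hn, ← hK b.1 hb',
      inner_colSum_line hW hχ b.1 b fun _ _ => rfl, Finset.sum_congr rfl fun a _ => hx a b] at h1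
    refine ⟨s' * (1 + n), ?_⟩
    have h2 : s' * (∑ a, x a b) - θ * n = θ := by exact_mod_cast h1
    rcases hs' with e' | e' <;> rw [e'] at h2 ⊢ <;> linarith
  have hgrid := CoreKillAux.grid_linked hxr (by rw [hA]; exact hw3)
    (by rw [hA]; exact hG.1.of_dvd_nat (card_subgroup_dvd_card _)) (by omega) hx1 hxn hxo
    (θ := θ) (by rw [hA]; exact hdeg.1) hdvd
  have hb1 : ∀ b : {b : LineB W₂ W₁ // b ≠ 1}, ¬ TrivialOn b.1.1 W₁ := fun b hc =>
    b.2 (Subtype.ext (OddChar.sup_hom_ext (fun z hz => b.1.2 z hz) fun z hz => hc z hz))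
  refine kill hG hpd hcs hχ₀ hχ hsw hζ ?_ (κ := {b : LineB W₂ W₁ // b ≠ 1}) (θ := θ)
    (μ := fun b => M b.1.1) (fun b => hM _ (hb1 b)) (fun b b' e' => ?_)
    (fun b => horth _ (hb1 b)) ?_
  · rw [inner_colSum_line hW hχ 1 1 fun _ _ => rfl, Finset.sum_congr rfl (g := fun _ => (1 : ℂ))
      fun a _ => by rw [hx, hgrid, if_pos rfl, Int.cast_one], Finset.sum_const, Finset.card_univ, hA,
      nsmul_one]
  · have h1 := hpins _ _ (hb1 b) (hb1 b')
    simp only at e'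
    rw [e', sub_self, show tauCore T (0 : ↥T → ℂ) = 0 from dade_map_zero _ _ _, eq_comm,
      smul_eq_zero] at h1
    have h2 := congrArg (fun F => Cfsg.classInner F (χ b.1.1))
      (h1.resolve_left (by rcases hs with e'' | e'' <;> simp [e'']))
    simp only [Char.classInner_sub_left, Char.classInner_zero_left, inner_colSum hW hχ] at h2
    rw [if_pos (fun _ _ => trivial)] at h2
    split_ifs at h2 with h3
    · exact Subtype.ext (Subtype.ext (OddChar.sup_hom_ext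
        (fun z hz => by rw [b.1.2 z hz, b'.1.2 z hz]) h3))
    · norm_num at h2
  · have hc : Fintype.card {b : LineB W₂ W₁ // b ≠ 1} + 1 = Nat.card W₁ := by
      rw [Fintype.card_subtype_compl, Fintype.card_subtype_eq, hB]
      omega
    have h1 : 0 < ⁅⁅T, T⁆, ⁅T, T⁆⁆.relIndex ⁅T, T⁆ := by
      rw [← (linChars_facts hG hcs).2.1]
      omega
    have h2 : 2 * Nat.card W₁ * Nat.card W₂ ≤
        Fintype.card {b : LineB W₂ W₁ // b ≠ 1} * θ ^ 2 := by
      have h3 : 5 * Nat.card W₂ ≤ 3 * θ := by have := hdeg.1; omega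
      have h4 : 3 * Nat.card W₂ ≤ θ ^ 2 := by nlinarith
      nlinarith
    omega

theorem no_small (hpd : PairData S T W₁ W₂ U V) (hcs : CoreSide T W₂ V W₁)
    (hwq : Nat.card W₂ < Nat.card W₁)
    (hbig : 2 * Nat.card W₁ * Nat.card W₂ < ⁅⁅T, T⁆, ⁅T, T⁆⁆.relIndex ⁅T, T⁆) : False := by
  classical
  obtain ⟨χ₀, hχ₀⟩ := Cfsg.Agent.S1502.result W₁ W₂ hpd.typeS.selfNormalizing
    (hG.1.of_dvd_nat (card_subgroup_dvd_card _))
  obtain ⟨χ, hχ, hsw⟩ := swap hpd.typeS.selfNormalizing hG.1 hχ₀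
  have hW := hcs.typeP.selfNormalizing
  obtain ⟨hA, hB, -⟩ := line_facts hW
  obtain ⟨ζ, hζ⟩ := linChars_nonempty hG hcs
  obtain ⟨x, hx, hxn, hxr, hx1, -⟩ := hcs.kill_grid hG hχ hζ
  have hgrid := CoreKillAux.grid_small hxr (by rw [hA]; exact (hcs.three_le hG).1) (by
    obtain ⟨i, hi⟩ := hG.1.of_dvd_nat (card_subgroup_dvd_card W₁)
    obtain ⟨j, hj⟩ := hG.1.of_dvd_nat (card_subgroup_dvd_card W₂)
    omega) hx1 hxn
  refine kill hG hpd hcs hχ₀ hχ hsw hζ ?_ (κ := PEmpty.{1}) (θ := 0) (μ := fun k => k.elim)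
    (fun k => k.elim) (fun k => k.elim) (fun k => k.elim) ?_
  · rw [inner_colSum_line hW hχ 1 1 fun _ _ => rfl, Finset.sum_congr rfl (g := fun _ => (1 : ℂ))
      fun a _ => by rw [hx, hgrid, if_pos rfl, Int.cast_one], Finset.sum_const, Finset.card_univ, hA,
      nsmul_one]
  · simpa using hbig

end Kill

end CfsgLib.FT
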