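import Cfsg.Prelude.Def_OddOrderLocal
import Cfsg.Prelude.Def_OddOrderChar

/-!
PROJECT FT: vocabulary for Peterfalvi, part II, in sigma language.

`IsFType M` replaces "type I" (the frozen `IsOfTypeI` has `O_{p'}(M)` where Peterfalvi has
`O_{p'}(M_F)`); `supFull M` is then `A(M)`, `coreSet M` is `A₁(M)`.
-/

set_option autoImplicit false

namespace CfsgLib.FT

universe u

variable {G : Type u} [Group G]

/-- `A₁(M)`. -/
def coreSet (M : Subgroup G) : Set G := (Cfsg.sigmaCore M : Set G) \ {1}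

/-- `A(M)` for `M` with empty `κ(M)`. -/
def supFull (M : Subgroup G) : Set G := Cfsg.sigmaHat M \ {1}

/-- A maximal subgroup with `κ(M) = ∅`. -/
structure IsFType (M : Subgroup G) : Prop where
  coatom : IsCoatom M
  kappa_eq : Cfsg.kappa M = ∅

/-- `M_σ` is the kernel of a Frobenius group. -/
def IsFrob (M : Subgroup G) : Prop :=
  ∀ x ∈ Cfsg.sigmaCore M, x ≠ 1 →
    M ⊓ Subgroup.centralizer ({x} : Set G) ≤ Cfsg.sigmaCore M

/-- The average of `ψ` over the coset `a R(a)` (adjoint of the Dade map). -/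
noncomputable def rho (M : Subgroup G) (ψ : G → ℂ) (a : G) : ℂ :=
  (Nat.card (Cfsg.supportR M a) : ℂ)⁻¹ * ∑ᶠ u ∈ (Cfsg.supportR M a : Set G), ψ (a * u)

/-- The Dade map of `A(M)`. -/
noncomputable def tau (M : Subgroup G) (α : ↥M → ℂ) : G → ℂ :=
  Cfsg.dadeIsometry (supFull M) M (Cfsg.supportR M) α

/-- The characters induced from the non-principal irreducible characters of `M_σ`. -/
noncomputable def coreChars (M : Subgroup G) [Fintype M] : Set (↥M → ℂ) :=
  Cfsg.inducedIrrAbove ((Cfsg.sigmaCore M).subgroupOf M) ⊥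

/-- `L` is not Frobenius at `x`, and `M`, Frobenius, is the maximal subgroup with `x` in its
core (the configuration refuted in Peterfalvi (12.8)-(12.16)). -/
structure Bridge (L M : Subgroup G) (x : G) (p : ℕ) : Prop where
  hL : IsFType L
  hM : IsFType M
  frobM : IsFrob M
  prime : p.Prime
  order : orderOf x = p
  xM : x ∈ Cfsg.sigmaCore M
  xL : x ∈ L
  xL' : x ∉ Cfsg.sigmaCore L
  fix : ∃ y ∈ Cfsg.sigmaCore L, y ∉ ⁅Cfsg.sigmaCore L, Cfsg.sigmaCore L⁆ ∧ x * y = y * x
  centralizer_le : Subgroup.centralizer ({x} : Set G) ≤ L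
  not_conj : ∀ g : G, L ≠ M.map (MulAut.conj g).toMonoidHom
  inter_le : M ⊓ L ≤ Cfsg.sigmaCore M
  compl : Cfsg.IsComplIn (M ⊓ L) (Cfsg.sigmaCore L) L
  index_bound : 2 * (Cfsg.sigmaCore M).relIndex M ≤ p + 1

end CfsgLib.FT
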