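import Cfsg.Agent.Lib.FT.SideFacts
import Cfsg.Agent.Lib.Solvable.CoprimeAction
import Cfsg.Agent.Lib.Leech.Simple.Engine

/-!
FT helper for `Linked.linked_of_fix`: if `C = C_R(U) ≠ 1` and `R = [R, U] × C`, the index of `M''` in `M'`
is at least `(2|W| + 1) |U|`.
-/

set_option autoImplicit false
set_option linter.style.haveILetI false

namespace CfsgLib.FT

open Subgroup CfsgLib.OddOrder
open scoped commutatorElement

universe u

variable {G : Type u} [Group G] [Finite G] {M W U W' : Subgroup G}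

/-- The order of `U` is `1` modulo `|W|`. -/
theorem card_U_modEq (h : Side M W U W') : Nat.card U % Nat.card W = 1 := by
  haveI := Fact.mk h.q_prime
  obtain ⟨⟨g, hg⟩, hg1⟩ := ne_bot_iff_exists_ne_one.1 h.typeP.W₁_ne
  have hg1' : g ≠ 1 := fun e => hg1 (Subtype.ext e)
  have hgo : orderOf g = Nat.card W :=
    ((Nat.dvd_prime h.q_prime).1 (orderOf_dvd_card_of_mem hg)).resolve_left
      fun e => hg1' (orderOf_eq_one_iff.1 e)
  have hmod := CfsgLib.Leech.Simple.card_modEq_centralizer hgo (h.typeP.U_normal hg)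
  rw [h.U_frob g hg hg1', Subgroup.card_bot] at hmod
  exact (show Nat.card U % Nat.card W = 1 % Nat.card W from hmod).trans
    (Nat.mod_eq_of_lt h.q_prime.one_lt)

/-- `T''` lies in `[R, U] C'`, and `C` does not. -/
theorem derived_two_lt (h : Side M W U W') (hU : IsMulCommutative U) (hne : fixCore M U ≠ ⊥)
    (hinf : ⁅Cfsg.fittingHallOf M, U⁆ ⊓ fixCore M U = ⊥)
    (hsup : ⁅Cfsg.fittingHallOf M, U⁆ ⊔ fixCore M U = Cfsg.fittingHallOf M) :
    ⁅⁅M, M⁆, ⁅M, M⁆⁆ ≤ Cfsg.fittingHallOf M ∧ ¬ Cfsg.fittingHallOf M ≤ ⁅⁅M, M⁆, ⁅M, M⁆⁆ := by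
  obtain ⟨hRD, hUD, -, hmul⟩ := h.typeP.U_compl
  set R := Cfsg.fittingHallOf M with hR
  set A := ⁅R, U⁆ with hA
  set C := fixCore M U with hC
  set C' := ⁅C, C⁆ with hC'
  have hDM : ⁅M, M⁆ ≤ M := h.typeP.W₁_compl.1
  have hRM : R ≤ M := TypeP.fittingHallOf_le M
  have hUM : U ≤ M := hUD.trans hDM
  have hAR : A ≤ R := le_sup_left.trans hsup.le
  have hCR : C ≤ R := inf_le_left
  have hnA : R ⊔ U ≤ normalizer (A : Set G) :=
    sup_le (Solvable.le_normalizer_commutator_left R U) (Solvable.le_normalizer_commutator_right R U)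
  have hnC : M ≤ normalizer (C : Set G) := h.fix_normal
  -- `A` and `C` commute
  have hAC : ∀ a ∈ A, ∀ c ∈ C, a * c = c * a := fun a ha c hc => by
    have h1 : a * c * a⁻¹ * c⁻¹ ∈ A ⊓ C := by
      refine ⟨?_, C.mul_mem ((mem_normalizer_iff.1 (hnC (hRM (hAR ha))) c).1 hc) (C.inv_mem hc)⟩
      rw [show a * c * a⁻¹ * c⁻¹ = a * (c * a⁻¹ * c⁻¹) by group]
      exact mul_mem ha ((mem_normalizer_iff.1 (hnA (mem_sup_left (hCR hc))) _).1 (inv_mem ha))
    rw [hinf, mem_bot, mul_inv_eq_one, mul_inv_eq_iff_eq_mul] at h1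
    exact h1
  have hCU : ∀ c ∈ C, ∀ v ∈ U, c * v = v * c := fun c hc v hv =>
    (mem_centralizer_iff.1 hc.2 v hv).symm
  set N := A ⊔ C' with hN
  have hC'C : C' ≤ C := commutator_le_self C
  have hC'A : C' ≤ normalizer (A : Set G) := hC'C.trans (hCR.trans (le_sup_left.trans hnA))
  have hND : N ≤ ⁅M, M⁆ := sup_le (hAR.trans hRD) ((hC'C.trans hCR).trans hRD)
  have hNR : N ≤ R := sup_le hAR (hC'C.trans hCR)
  -- the three parts normalise `N`
  have hnor : ∀ z : G, z ∈ normalizer (A : Set G) → z ∈ normalizer (C' : Set G) →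
      z ∈ normalizer (N : Set G) := fun z h1 h2 =>
    normalizer_inf_normalizer_le_normalizer_sup _ _ ⟨h1, h2⟩
  have hAn : A ≤ normalizer (N : Set G) := fun a ha =>
    hnor a (le_normalizer ha) (centralizer_le_normalizer _
      (mem_centralizer_iff.2 fun c hc => (hAC a ha c (hC'C hc)).symm))
  have hCn : C ≤ normalizer (N : Set G) := fun c hc =>
    hnor c (hnA (mem_sup_left (hCR hc))) (Solvable.le_normalizer_commutator_left C C hc)
  have hUn : U ≤ normalizer (N : Set G) := fun v hv =>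
    hnor v (hnA (mem_sup_right hv)) (centralizer_le_normalizer _
      (mem_centralizer_iff.2 fun c hc => hCU c (hC'C hc) v hv))
  have hdec : ∀ x ∈ ⁅M, M⁆, ∃ a ∈ A, ∃ c ∈ C, ∃ v ∈ U, x = a * c * v := fun x hx => by
    obtain ⟨r, hr, v, hv, rfl⟩ := hmul x hx
    rw [← hsup] at hr
    obtain ⟨a, ha, c, hc, rfl⟩ := (Solvable.mem_sup_of_le_normalizer
      (hCR.trans (le_sup_left.trans hnA))).1 hr
    exact ⟨a, ha, c, hc, v, hv, rfl⟩
  have hDn : ⁅M, M⁆ ≤ normalizer (N : Set G) := fun x hx => by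
    obtain ⟨a, ha, c, hc, v, hv, rfl⟩ := hdec x hx
    exact mul_mem (mul_mem (hAn ha) (hCn hc)) (hUn hv)
  haveI : (N.subgroupOf ⁅M, M⁆).Normal := normal_subgroupOf_of_le_normalizer hDn
  set π := QuotientGroup.mk' (N.subgroupOf ⁅M, M⁆) with hπ
  have hDD : ⁅⁅M, M⁆, ⁅M, M⁆⁆ ≤ N := by
    rw [commutator_le]
    intro x hx y hy
    obtain ⟨a, ha, c, hc, v, hv, rfl⟩ := hdec x hx
    obtain ⟨a', ha', c', hc', v', hv', rfl⟩ := hdec y hy
    have hcd : ∀ (p q : G) (hp : p ∈ ⁅M, M⁆) (hq : q ∈ ⁅M, M⁆), ⁅p, q⁆ ∈ N →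
        Commute (π ⟨p, hp⟩) (π ⟨q, hq⟩) := fun p q hp hq hpq => by
      rw [← commutatorElement_eq_one_iff_commute, ← map_commutatorElement]
      exact (QuotientGroup.eq_one_iff _).2 (mem_subgroupOf.2 hpq)
    have hone : ∀ {p q : G}, p * q = q * p → ⁅p, q⁆ ∈ N := fun h' => by
      rw [commutatorElement_eq_one_iff_commute.2 h']
      exact one_mem _
    have hcv : ∀ (p : G), (p ∈ C ∨ p ∈ U) → ∀ q : G, (q ∈ C ∨ q ∈ U) → ⁅p, q⁆ ∈ N := by
      rintro p (hp | hp) q (hq | hq)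
      · exact mem_sup_right (commutator_mem_commutator hp hq)
      · exact hone (hCU p hp q hq)
      · exact hone (hCU q hq p hp).symm
      · exact hone (congrArg Subtype.val (hU.1.comm (⟨p, hp⟩ : U) ⟨q, hq⟩))
    have hC' : ∀ {p : G}, p ∈ C → p ∈ ⁅M, M⁆ := fun hp => hRD (hCR hp)
    have hsplit : ∀ (p q r : G) (hp : p ∈ A) (hq : q ∈ C) (hr : r ∈ U)
        (hm : p * q * r ∈ ⁅M, M⁆),
        π ⟨p * q * r, hm⟩ = π ⟨q, hC' hq⟩ * π ⟨r, hUD hr⟩ := by
      intro p q r hp hq hr hm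
      rw [show (⟨p * q * r, hm⟩ : ↥⁅M, M⁆) = ⟨p, hRD (hAR hp)⟩ * ⟨q, hC' hq⟩ * ⟨r, hUD hr⟩ from rfl,
        map_mul, map_mul,
        show π ⟨p, hRD (hAR hp)⟩ = 1 from
          (QuotientGroup.eq_one_iff _).2 (mem_subgroupOf.2 (mem_sup_left hp)), one_mul]
    have hcm : Commute (π ⟨a * c * v, hx⟩) (π ⟨a' * c' * v', hy⟩) := by
      rw [hsplit a c v ha hc hv hx, hsplit a' c' v' ha' hc' hv' hy]
      exact ((hcd _ _ _ _ (hcv c (Or.inl hc) c' (Or.inl hc'))).mul_right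
          (hcd _ _ _ _ (hcv c (Or.inl hc) v' (Or.inr hv')))).mul_left
        ((hcd _ _ _ _ (hcv v (Or.inr hv) c' (Or.inl hc'))).mul_right
          (hcd _ _ _ _ (hcv v (Or.inr hv) v' (Or.inr hv'))))
    rw [← commutatorElement_eq_one_iff_commute, ← map_commutatorElement] at hcm
    exact mem_subgroupOf.1 ((QuotientGroup.eq_one_iff _).1 hcm)
  refine ⟨hDD.trans hNR, fun hle => hne ?_⟩
  -- otherwise `C = C'`
  have hCC' : C ≤ C' := fun c hc => by
    obtain ⟨a, ha, b, hb, e⟩ := (Solvable.mem_sup_of_le_normalizer hC'A).1 ((hle.trans hDD) (hCR hc))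
    have ha' : a ∈ A ⊓ C := ⟨ha, by
      rw [show a = c * b⁻¹ by rw [← e]; group]
      exact C.mul_mem hc (C.inv_mem (hC'C hb))⟩
    rw [hinf, mem_bot] at ha'
    rw [← e, ha', one_mul]
    exact hb
  haveI : Group.IsNilpotent C := isNilpotent_of_subgroup_le (fittingHallOf_isNilpotent M) hCR
  by_contra hne'
  haveI : Nontrivial C := (nontrivial_iff_ne_bot _).2 hne'
  refine (Group.IsSolvable.commutator_lt_top_of_nontrivial C).ne (eq_top_iff.2 fun x _ => ?_)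
  have hx : (x : G) ∈ (commutator C).map C.subtype := by
    rw [map_subtype_commutator]
    exact hCC' x.2
  obtain ⟨z, hz, hzx⟩ := hx
  rwa [C.subtype_injective hzx] at hz

/-- `|M' : M''| ≥ (2 |W| + 1) |U|`. -/
theorem relIndex_derived_two_ge (hG : Odd (Nat.card G)) (h : Side M W U W')
    (hU : IsMulCommutative U) (hne : fixCore M U ≠ ⊥)
    (hinf : ⁅Cfsg.fittingHallOf M, U⁆ ⊓ fixCore M U = ⊥)
    (hsup : ⁅Cfsg.fittingHallOf M, U⁆ ⊔ fixCore M U = Cfsg.fittingHallOf M)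
    (hmod : ⁅⁅M, M⁆, ⁅M, M⁆⁆.relIndex ⁅M, M⁆ % Nat.card W = 1) :
    (2 * Nat.card W + 1) * Nat.card U ≤ ⁅⁅M, M⁆, ⁅M, M⁆⁆.relIndex ⁅M, M⁆ := by
  obtain ⟨hDR, hlt⟩ := derived_two_lt h hU hne hinf hsup
  obtain ⟨hRD, hUD, hdis, hmul⟩ := h.typeP.U_compl
  set R := Cfsg.fittingHallOf M with hR
  have hRU : R.relIndex ⁅M, M⁆ = Nat.card U :=
    (card_eq_relIndex_of_isComplIn (B := R) ⟨hUD, hRD, by rw [inf_comm]; exact hdis, fun z hz => by
      obtain ⟨a, ha, b, hb, e⟩ := hmul z⁻¹ (inv_mem hz)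
      exact ⟨b⁻¹, inv_mem hb, a⁻¹, inv_mem ha, by rw [← mul_inv_rev, ← e, inv_inv]⟩⟩).symm
  rw [← relIndex_mul_relIndex _ R _ hDR hRD, hRU] at hmod ⊢
  set r := ⁅⁅M, M⁆, ⁅M, M⁆⁆.relIndex R with hr
  refine Nat.mul_le_mul_right _ ?_
  have h1 : r % Nat.card W = 1 := by
    rw [Nat.mul_mod, card_U_modEq h, mul_one, Nat.mod_mod] at hmod
    exact hmod
  have hrodd : Odd r := by
    have hd : r ∣ Nat.card G :=
      (Dvd.intro_left _ ((⁅⁅M, M⁆, ⁅M, M⁆⁆.subgroupOf R).card_mul_index)).trans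
        (card_subgroup_dvd_card R)
    exact hG.of_dvd_nat hd
  have hne1 : r ≠ 1 := fun e => hlt (relIndex_eq_one.1 e)
  have hw : Odd (Nat.card W) := hG.of_dvd_nat (card_subgroup_dvd_card W)
  have hdm : r = Nat.card W * (r / Nat.card W) + r % Nat.card W := (Nat.div_add_mod r _).symm
  rw [h1] at hdm
  obtain ⟨k, hk⟩ : ∃ k, k = r / Nat.card W := ⟨_, rfl⟩
  rw [← hk] at hdm
  rcases (show k = 0 ∨ k = 1 ∨ 2 ≤ k by omega) with e | e | e
  · rw [e, mul_zero, zero_add] at hdm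
    exact absurd hdm hne1
  · rw [e, mul_one] at hdm
    obtain ⟨i, hi⟩ := hw
    obtain ⟨j, hj⟩ := hrodd
    omega
  · calc 2 * Nat.card W + 1 ≤ Nat.card W * k + 1 := by
          rw [mul_comm 2]; exact Nat.add_le_add_right (Nat.mul_le_mul_left _ e) 1
      _ = r := hdm.symm

end CfsgLib.FT
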