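import Cfsg.Agent.Lib.Solvable.CoprimeAction
import Mathlib.GroupTheory.Nilpotent
import Mathlib.Analysis.MeanInequalities

/-!
PROJECT FT: the fixed points of an abelian group `U` acting coprimely and without common fixed point
on a nilpotent group `P`: the geometric mean of `|C_P(u)|` is at most `|P| ^ (1/R)` when every prime
of `|U|` is at least `R`.
-/

set_option autoImplicit false

namespace CfsgLib.FT

open Subgroup
open scoped commutatorElement

universe u

variable {G : Type u} [Group G] [Finite G]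

omit [Finite G] in
theorem card_mul_relIndex' {H K : Subgroup G} (h : H ≤ K) :
    Nat.card H * H.relIndex K = Nat.card K := by
  rw [← relIndex_bot_left H, ← relIndex_bot_left K, relIndex_mul_relIndex _ _ _ bot_le h]

/-- `[H, K] < K` for a nilpotent `H` containing the nontrivial subgroup `K` as a normal subgroup. -/
theorem commutator_lt_of_nilpotent {H K : Subgroup G} (hH : Group.IsNilpotent H) (hKH : K ≤ H)
    (hn : H ≤ normalizer (K : Set G)) (hK : K ≠ ⊥) : ⁅H, K⁆ < K := by
  have hle : ⁅H, K⁆ ≤ K := by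
    rw [commutator_le]
    intro a ha b hb
    rw [commutatorElement_def]
    exact mul_mem ((mem_normalizer_iff.1 (hn ha) b).1 hb) (inv_mem hb)
  refine lt_of_le_of_ne hle fun he => hK ?_
  have h : ∀ n, K ≤ H.lowerCentralSeries n := by
    intro n
    induction n with
    | zero => exact hKH
    | succ n ih =>
      rw [Subgroup.lowerCentralSeries_succ, commutator_comm]
      exact he.ge.trans (commutator_mono le_rfl ih)
  obtain ⟨n, hn⟩ := (Subgroup.isNilpotent_iff_lowerCentralSeries H).1 hH
  exact eq_bot_iff.2 ((h n).trans hn.le)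

theorem prod_card_fixed_le {U P : Subgroup G} (hU : IsMulCommutative U)
    (hUP : U ≤ normalizer (P : Set G)) (hP : Group.IsNilpotent P)
    (hcop : (Nat.card U).Coprime (Nat.card P)) (hfix : P ⊓ centralizer (U : Set G) = ⊥)
    {R : ℕ} (hR : ∀ r : ℕ, r.Prime → r ∣ Nat.card U → R ≤ r) [Fintype U] :
    (∏ u : U, Nat.card ↥(P ⊓ centralizer ({(u : G)} : Set G))) ^ R ≤
      Nat.card P ^ Nat.card U := by
  suffices ∀ n, ∀ N : Subgroup G, Nat.card N = n → N ≤ P → P ≤ normalizer (N : Set G) →
      U ≤ normalizer (N : Set G) →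
      (∏ u : U, Nat.card ↥(N ⊓ centralizer ({(u : G)} : Set G))) ^ R ≤ Nat.card N ^ Nat.card U from
    this _ P rfl le_rfl le_normalizer hUP
  intro n
  induction n using Nat.strong_induction_on with
  | _ n ih =>
    intro N hn hNP hPN hUN
    by_cases hN : N = ⊥
    · subst hN; simp
    have hC := commutator_lt_of_nilpotent hP hNP hPN hN
    have hUC : U ≤ normalizer ((⁅P, N⁆ : Subgroup G) : Set G) := fun a ha => by
      rw [mem_normalizer_iff_map_conj_eq, map_commutator, mem_normalizer_iff_map_conj_eq.1 (hUP ha),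
        mem_normalizer_iff_map_conj_eq.1 (hUN ha)]
    obtain ⟨M, hCM, hMmax⟩ := Finite.exists_le_maximal
      (p := fun M : Subgroup G => M < N ∧ U ≤ normalizer (M : Set G)) (a := ⁅P, N⁆) ⟨hC, hUC⟩
    obtain ⟨⟨hMN, hUM⟩, hmax⟩ := hMmax
    have hnormal : ∀ L : Subgroup G, M ≤ L → L ≤ N → P ≤ normalizer (L : Set G) := fun L hL hL' => by
      rw [le_normalizer_iff]
      intro a ha b hb
      have h1 : ⁅a, b⁆ ∈ L := hL (hCM (commutator_mem_commutator ha (hL' hb)))
      have h2 := mul_mem h1 hb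
      rwa [commutatorElement_def, inv_mul_cancel_right] at h2
    have hPM := hnormal M le_rfl hMN.le
    have ihM := ih _ (hn ▸ Set.Finite.card_lt_card (Set.toFinite _) (SetLike.coe_ssubset_coe.2 hMN)) M rfl (hMN.le.trans hNP) hPM hUM
    -- the subgroup of `U` centralising `N / M`
    let K : Subgroup U :=
      { carrier := {u | ∀ x ∈ N, (u : G) * x * (u : G)⁻¹ * x⁻¹ ∈ M}
        one_mem' := fun x _ => by simp
        mul_mem' := fun {a b} ha hb x hx => by
          have h1 := ha x hx
          have h2 := (mem_normalizer_iff.1 (hUM a.2) _).1 (hb x hx)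
          have := mul_mem h2 h1
          simpa [mul_assoc] using this
        inv_mem' := fun {a} ha x hx => by
          have hx' : (a : G)⁻¹ * x * ((a : G)⁻¹)⁻¹ ∈ N :=
            (mem_normalizer_iff.1 (hUN (inv_mem a.2)) x).1 hx
          have := inv_mem (ha _ hx')
          simpa [mul_assoc] using this }
    have hKne : K ≠ ⊤ := fun hK => by
      obtain ⟨x, hxN, hxM⟩ := SetLike.exists_of_lt hMN
      obtain ⟨c, hc, hcM⟩ := Solvable.exists_fixed_of_fixed_mod hUN
        (hcop.coprime_dvd_right (card_dvd_of_le hNP)) (Or.inl (Group.isSolvable_of_comm fun a b => hU.is_comm.comm a b))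
        hMN.le ((hNP.trans hPM)) hUM hxN (fun a ha => (hK ▸ mem_top (⟨a, ha⟩ : U) : (⟨a, ha⟩ : U) ∈ K) x hxN)
      have hc1 : c ∈ P ⊓ centralizer (U : Set G) := ⟨hNP hc.1, hc.2⟩
      rw [hfix, mem_bot] at hc1
      subst hc1
      exact hxM (by simpa using hcM)
    have hKcard : R * Nat.card K ≤ Nat.card U := by
      have h1 : K.index ≠ 1 := fun h => hKne (index_eq_one.1 h)
      rw [← Subgroup.index_mul_card K]
      refine Nat.mul_le_mul_right _ ((hR _ (Nat.minFac_prime h1) ((Nat.minFac_dvd _).trans ?_)).trans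
        (Nat.le_of_dvd (Nat.pos_of_ne_zero index_ne_zero_of_finite) (Nat.minFac_dvd _)))
      exact index_dvd_card K
    classical
    have hstep : ∀ u : U, Nat.card ↥(N ⊓ centralizer ({(u : G)} : Set G)) ≤
        Nat.card ↥(M ⊓ centralizer ({(u : G)} : Set G)) * if u ∈ K then M.relIndex N else 1 := by
      intro u
      split_ifs with hu
      · rw [← card_mul_relIndex' (inf_le_inf_right _ hMN.le :
          M ⊓ centralizer ({(u : G)} : Set G) ≤ N ⊓ centralizer ({(u : G)} : Set G))]
        refine Nat.mul_le_mul_left _ ?_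
        have : (M ⊓ centralizer ({(u : G)} : Set G)).relIndex (N ⊓ centralizer ({(u : G)} : Set G)) =
            M.relIndex (N ⊓ centralizer ({(u : G)} : Set G)) := by
          rw [← inf_relIndex_right, ← inf_relIndex_right (H := M)]
          congr 1
          ext z
          simp only [mem_inf]
          exact ⟨fun h => ⟨h.1.1, h.2⟩, fun h => ⟨⟨h.1, h.2.2⟩, h.2⟩⟩
        rw [this]
        exact relIndex_le_of_le_right inf_le_left index_ne_zero_of_finite
      · rw [mul_one]
        refine Nat.le_of_dvd Nat.card_pos (card_dvd_of_le (le_inf ?_ inf_le_right))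
        -- the elements of `N` fixed by `u` modulo `M`
        let D : Subgroup G :=
          { carrier := {x | x ∈ N ∧ (u : G) * x * (u : G)⁻¹ * x⁻¹ ∈ M}
            one_mem' := ⟨one_mem _, by simp⟩
            mul_mem' := fun {a b} ha hb => ⟨mul_mem ha.1 hb.1, by
              have := mul_mem ha.2 ((mem_normalizer_iff.1 (hPM (hNP ha.1)) _).1 hb.2)
              have h3 := (mem_normalizer_iff.1 (hPM (hNP ha.1)) _).1 hb.2
              have h4 := mul_mem ha.2 h3
              rw [show (u : G) * (a * b) * (u : G)⁻¹ * (a * b)⁻¹ =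
                ((u : G) * a * (u : G)⁻¹ * a⁻¹) * (a * ((u : G) * b * (u : G)⁻¹ * b⁻¹) * a⁻¹) by group]
              exact h4⟩
            inv_mem' := fun {a} ha => ⟨inv_mem ha.1, by
              have := (mem_normalizer_iff.1 (hPM (hNP (inv_mem ha.1))) _).1 (inv_mem ha.2)
              rw [show (u : G) * a⁻¹ * (u : G)⁻¹ * a⁻¹⁻¹ =
                a⁻¹ * ((u : G) * a * (u : G)⁻¹ * a⁻¹)⁻¹ * a⁻¹⁻¹ by group]
              exact this⟩ }
        have hUD : U ≤ normalizer (D : Set G) := by
          rw [le_normalizer_iff]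
          rintro v hv x ⟨hx, hxM⟩
          refine ⟨(mem_normalizer_iff.1 (hUN hv) x).1 hx, ?_⟩
          have hc : v * (u : G) = (u : G) * v := congrArg Subtype.val (hU.is_comm.comm ⟨v, hv⟩ u)
          have := (mem_normalizer_iff.1 (hUM hv) _).1 hxM
          have e1 : (u : G) * (v * x * v⁻¹) * (u : G)⁻¹ * (v * x * v⁻¹)⁻¹ =
              v * ((u : G) * x * (u : G)⁻¹ * x⁻¹) * v⁻¹ := by
            calc _ = ((u : G) * v) * x * ((u : G) * v)⁻¹ * v * x⁻¹ * v⁻¹ := by group
              _ = (v * (u : G)) * x * (v * (u : G))⁻¹ * v * x⁻¹ * v⁻¹ := by rw [hc]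
              _ = _ := by group
          show (u : G) * (v * x * v⁻¹) * (u : G)⁻¹ * (v * x * v⁻¹)⁻¹ ∈ M
          rw [e1]; exact this
        have hDM : D = M := by
          by_contra hne
          have hMD : M ≤ D := fun z hz => ⟨hMN.le hz,
            mul_mem ((mem_normalizer_iff.1 (hUM u.2) z).1 hz) (inv_mem hz)⟩
          refine hne (le_antisymm (hmax ⟨lt_of_le_of_ne (fun z hz => hz.1) fun h => hu fun x hx => ?_, hUD⟩ hMD) hMD)
          exact (h ▸ hx : x ∈ D).2
        intro z hz
        rw [← hDM]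
        refine ⟨hz.1, ?_⟩
        rw [← mem_centralizer_singleton_iff.1 hz.2]
        simp
    calc (∏ u : U, Nat.card ↥(N ⊓ centralizer ({(u : G)} : Set G))) ^ R
        ≤ (∏ u : U, (Nat.card ↥(M ⊓ centralizer ({(u : G)} : Set G)) *
            if u ∈ K then M.relIndex N else 1)) ^ R :=
          Nat.pow_le_pow_left (Finset.prod_le_prod' fun u _ => hstep u) _
      _ = (∏ u : U, Nat.card ↥(M ⊓ centralizer ({(u : G)} : Set G))) ^ R *
            M.relIndex N ^ (R * Nat.card K) := by
          rw [Finset.prod_mul_distrib, mul_pow, Finset.prod_ite, Finset.prod_const, Finset.prod_const,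
            one_pow, mul_one, ← pow_mul, mul_comm R]
          congr 2
          rw [Nat.card_eq_fintype_card, Fintype.card_subtype]
      _ ≤ Nat.card M ^ Nat.card U * M.relIndex N ^ Nat.card U :=
          Nat.mul_le_mul ihM (Nat.pow_le_pow_right (Nat.pos_of_ne_zero (index_ne_zero_of_finite : (M.subgroupOf N).index ≠ 0)) hKcard)
      _ = _ := by rw [← mul_pow, card_mul_relIndex' hMN.le]

/-- The average of `1/|C_P(u)|`. -/
theorem average_inv_card_fixed {U P : Subgroup G} (hU : IsMulCommutative U)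
    (hUP : U ≤ normalizer (P : Set G)) (hP : Group.IsNilpotent P)
    (hcop : (Nat.card U).Coprime (Nat.card P)) (hfix : P ⊓ centralizer (U : Set G) = ⊥)
    {R : ℕ} (hR0 : 0 < R) (hR : ∀ r : ℕ, r.Prime → r ∣ Nat.card U → R ≤ r) [Fintype U] :
    (Nat.card P : ℝ) ^ (-(1 : ℝ) / R) ≤
      (Nat.card U : ℝ)⁻¹ * ∑ u : U, (Nat.card ↥(P ⊓ centralizer ({(u : G)} : Set G)) : ℝ)⁻¹ := by
  set c : U → ℝ := fun u => (Nat.card ↥(P ⊓ centralizer ({(u : G)} : Set G)) : ℝ)
  have hc : ∀ u, 0 < c u := fun u => Nat.cast_pos.2 Nat.card_pos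
  have hu : (0 : ℝ) < Nat.card U := by exact_mod_cast Nat.card_pos
  have hP0 : (0 : ℝ) < Nat.card P := by exact_mod_cast Nat.card_pos
  have h0 : (∏ u, c u) ^ R ≤ (Nat.card P : ℝ) ^ Nat.card U := by
    simpa [c] using (Nat.cast_le (α := ℝ)).2 (prod_card_fixed_le hU hUP hP hcop hfix hR)
  have hpos : 0 < ∏ u, c u := Finset.prod_pos fun u _ => hc u
  have h1 : ∏ u, c u ≤ (Nat.card P : ℝ) ^ ((Nat.card U : ℝ) / R) := by
    have := Real.rpow_le_rpow (by positivity) h0 (by positivity : (0 : ℝ) ≤ (R : ℝ)⁻¹)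
    rw [← Real.rpow_natCast, ← Real.rpow_mul hpos.le, mul_inv_cancel₀ (by positivity), Real.rpow_one,
      ← Real.rpow_natCast, ← Real.rpow_mul hP0.le] at this
    rwa [div_eq_mul_inv]
  have h2 := Real.geom_mean_le_arith_mean_weighted Finset.univ (fun _ : U => (Nat.card U : ℝ)⁻¹)
    (fun u => (c u)⁻¹) (fun _ _ => by positivity)
    (by simp [Finset.sum_const, Nat.card_eq_fintype_card]) (fun u _ => (inv_pos.2 (hc u)).le)
  rw [Real.finset_prod_rpow _ _ (fun u _ => (inv_pos.2 (hc u)).le), ← Finset.mul_sum] at h2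
  refine le_trans ?_ h2
  rw [Finset.prod_inv_distrib, Real.inv_rpow hpos.le]
  calc (Nat.card P : ℝ) ^ (-(1 : ℝ) / R)
      = (((Nat.card P : ℝ) ^ ((Nat.card U : ℝ) / R)) ^ (Nat.card U : ℝ)⁻¹)⁻¹ := by
        rw [← Real.rpow_mul hP0.le, ← Real.rpow_neg hP0.le]
        congr 1
        field_simp
    _ ≤ _ := by
        apply inv_anti₀ (Real.rpow_pos_of_pos hpos _)
        exact Real.rpow_le_rpow hpos.le h1 (by positivity)

end CfsgLib.FT
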