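import Mathlib

/-!
FT module FullnessAux: the arithmetic at the end of the count `2 / (pq) ≤ slack_S + slack_T`.
-/

set_option autoImplicit false

namespace CfsgLib.FT.Count

/-- `u` is full and `c = 1`. -/
def IsFullNum (p q u c : ℕ) : Prop := u * (p - 1) = p ^ q - 1 ∧ c = 1

/-- Either `u ≤ full`, with a loss of a factor three unless equal. -/
def Small (p q u : ℕ) : Prop :=
  u * (p - 1) = p ^ q - 1 ∨ 3 * u * (p - 1) ≤ p ^ q - 1

theorem small_of_dvd {p q u : ℕ} (hp : Odd p) (hp3 : 3 ≤ p)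
    (hdvd : u * (p - 1) ∣ p ^ q - 1) (hodd : Odd q) : Small p q u := by
  obtain ⟨k, hk⟩ := hdvd
  have hgeom : (∑ i ∈ Finset.range q, p ^ i) * (p - 1) = p ^ q - 1 :=
    geom_sum_mul_of_one_le (by omega) q
  have hsum : ∑ i ∈ Finset.range q, p ^ i = u * k := by
    apply Nat.eq_of_mul_eq_mul_right (show 0 < p - 1 by omega)
    rw [hgeom, hk]; ring
  have hko : Odd k := by
    have : Odd (∑ i ∈ Finset.range q, p ^ i) := by
      rw [Finset.odd_sum_iff_odd_card_odd]
      simpa [Finset.filter_true_of_mem fun i _ => hp.pow] using hodd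
    rw [hsum] at this
    exact (Nat.odd_mul.1 this).2
  rcases eq_or_ne k 1 with rfl | hk1
  · exact Or.inl (by rw [hk, mul_one])
  · refine Or.inr ?_
    have : 3 ≤ k := by rcases hko with ⟨r, rfl⟩; omega
    rw [hk]
    nlinarith

theorem small_of_diag {p q u : ℕ} (hp3 : 3 ≤ p) (hq : 3 ≤ q)
    (h : u * 2 ^ (q - 1) ≤ (p - 1) ^ (q - 1)) : Small p q u := by
  refine Or.inr ?_
  have h4 : 4 ≤ 2 ^ (q - 1) :=
    (show (4 : ℕ) = 2 ^ 2 by norm_num) ▸ Nat.pow_le_pow_right (by norm_num) (by omega)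
  have hle : (p - 1) ^ (q - 1) ≤ p ^ (q - 1) := Nat.pow_le_pow_left (by omega) _
  have hu : 4 * u ≤ p ^ (q - 1) := by nlinarith
  have hgeom : (∑ i ∈ Finset.range q, p ^ i) * (p - 1) = p ^ q - 1 :=
    geom_sum_mul_of_one_le (by omega) q
  have hsingle : p ^ (q - 1) ≤ ∑ i ∈ Finset.range q, p ^ i :=
    Finset.single_le_sum (f := fun i => p ^ i) (fun i _ => Nat.zero_le _)
      (Finset.mem_range.2 (by omega))
  rw [← hgeom]
  exact Nat.mul_le_mul_right _ (by omega)

/-- The term `p (u + 1) / (p ^ q c)`. -/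
noncomputable def term (p q u c : ℕ) : ℝ := (p : ℝ) * (u + 1) / ((p : ℝ) ^ q * c)

theorem term_le {p q u c : ℕ} (hp3 : p = 3 ∨ 5 ≤ p) (hq : 3 ≤ q) (h3 : p = 3 → 5 ≤ q)
    (hc : 1 ≤ c) (hu : u * (p - 1) ≤ p ^ q - 1) :
    term p q u c ≤ (if p = 3 then 151 / 100 else 130 / 100) ∧
      (3 * u * (p - 1) ≤ p ^ q - 1 ∨ 3 ≤ c →
        term p q u c ≤ (if p = 3 then 52 / 100 else 46 / 100)) := by
  have hp1' : 3 ≤ p := by omega
  have hp1 : (3 : ℝ) ≤ p := by exact_mod_cast hp1'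
  have hc1 : (1 : ℝ) ≤ c := by exact_mod_cast hc
  have hP1 : 1 ≤ p ^ q := Nat.one_le_pow _ _ (by omega)
  have hu' : (u : ℝ) * ((p : ℝ) - 1) ≤ (p : ℝ) ^ q - 1 := by
    have := (Nat.cast_le (α := ℝ)).2 hu
    push_cast [Nat.cast_sub (show 1 ≤ p by omega), Nat.cast_sub hP1] at this
    exact this
  have hP : (0 : ℝ) < (p : ℝ) ^ q := by positivity
  have key : ∀ A B C : ℝ, 0 ≤ B → B ≤ (c : ℝ) →
      (u : ℝ) * ((p : ℝ) - 1) ≤ C * ((p : ℝ) ^ q - 1) → 0 ≤ A →
      (p : ℝ) * (C * ((p : ℝ) ^ q - 1) + ((p : ℝ) - 1)) ≤ A * ((p : ℝ) ^ q * B) * ((p : ℝ) - 1) →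
      term p q u c ≤ A := by
    intro A B C hB hBc hC hA hle
    rw [term, div_le_iff₀ (by positivity)]
    refine le_of_mul_le_mul_right ?_ (show (0 : ℝ) < p - 1 by linarith)
    have h1 := mul_le_mul_of_nonneg_left hC (show (0 : ℝ) ≤ p by linarith)
    have h2 : A * ((p : ℝ) ^ q * B) * ((p : ℝ) - 1) ≤ A * ((p : ℝ) ^ q * c) * ((p : ℝ) - 1) := by
      gcongr
      linarith
    nlinarith
  have hlose : 3 * u * (p - 1) ≤ p ^ q - 1 →
      (u : ℝ) * ((p : ℝ) - 1) ≤ 1 / 3 * ((p : ℝ) ^ q - 1) := by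
    intro h
    have := (Nat.cast_le (α := ℝ)).2 h
    push_cast [Nat.cast_sub (show 1 ≤ p by omega), Nat.cast_sub hP1] at this
    linarith
  rcases hp3 with rfl | hp5
  · have hP' : (243 : ℝ) ≤ 3 ^ q := by
      have := pow_le_pow_right₀ (show (1 : ℝ) ≤ 3 by norm_num) (h3 rfl)
      linarith
    simp only [if_true]
    refine ⟨key _ 1 1 one_pos.le hc1 (by linarith) (by norm_num) (by push_cast; linarith),
      fun h => ?_⟩
    rcases h with h | h
    · exact key _ 1 (1 / 3) one_pos.le hc1 (hlose h) (by norm_num) (by push_cast; linarith)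
    · exact key _ 3 1 (by norm_num) (by exact_mod_cast h) (by linarith) (by norm_num)
        (by push_cast; linarith)
  · have hne : ¬ p = 3 := by omega
    simp only [if_neg hne]
    have hp5' : (5 : ℝ) ≤ p := by exact_mod_cast hp5
    have hP' : 25 * (p : ℝ) ≤ (p : ℝ) ^ q := by
      have := pow_le_pow_right₀ (show (1 : ℝ) ≤ p by linarith) hq
      nlinarith [mul_le_mul hp5' hp5' (by norm_num) (by linarith)]
    have g1 := mul_le_mul_of_nonneg_right hP' (show (0 : ℝ) ≤ 3 / 10 * p - 13 / 10 by linarith)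
    have g2 := mul_le_mul_of_nonneg_right hP' (show (0 : ℝ) ≤ 38 / 100 * p - 138 / 100 by linarith)
    refine ⟨key _ 1 1 one_pos.le hc1 (by linarith) (by norm_num) (by nlinarith), fun h => ?_⟩
    rcases h with h | h
    · exact key _ 1 (1 / 3) one_pos.le hc1 (hlose h) (by norm_num) (by nlinarith)
    · exact key _ 3 1 (by norm_num) (by exact_mod_cast h) (by linarith) (by norm_num)
        (by nlinarith)

/-- `2 ≤ term + term` forces both sides to be full with `c = 1`. -/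
theorem full_of_two_le {p q u v c d : ℕ} (hp : Odd p) (hq : Odd q) (hp3 : 3 ≤ p) (hq3 : 3 ≤ q)
    (hne : p ≠ q) (hu : Small p q u) (hv : Small q p v) (hc : Odd c) (hd : Odd d)
    (h : (2 : ℝ) ≤ term p q u c + term q p v d) :
    IsFullNum p q u c ∧ IsFullNum q p v d := by
  rcases hp with ⟨a, rfl⟩
  rcases hq with ⟨b, rfl⟩
  have hc1 : 1 ≤ c := hc.pos
  have hd1 : 1 ≤ d := hd.pos
  have hule : u * (2 * a + 1 - 1) ≤ (2 * a + 1) ^ (2 * b + 1) - 1 := by
    rcases hu with h | h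
    · exact h.le
    · exact le_trans (Nat.mul_le_mul_right _ (by omega)) h
  have hvle : v * (2 * b + 1 - 1) ≤ (2 * b + 1) ^ (2 * a + 1) - 1 := by
    rcases hv with h | h
    · exact h.le
    · exact le_trans (Nat.mul_le_mul_right _ (by omega)) h
  obtain ⟨hu1, hu2⟩ := term_le (by omega) hq3 (by omega) hc1 hule
  obtain ⟨hv1, hv2⟩ := term_le (by omega) hp3 (by omega) hd1 hvle
  constructor
  · by_contra hn
    have hlose : term (2 * a + 1) (2 * b + 1) u c ≤ if 2 * a + 1 = 3 then 52 / 100 else 46 / 100 := by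
      refine hu2 ?_
      rcases hu with h' | h'
      · refine Or.inr ?_
        rcases hc with ⟨r, rfl⟩
        have : r ≠ 0 := fun h0 => hn ⟨h', by omega⟩
        omega
      · exact Or.inl h'
    split_ifs at hlose hv1 <;> first | omega | linarith
  · by_contra hn
    have hlose : term (2 * b + 1) (2 * a + 1) v d ≤ if 2 * b + 1 = 3 then 52 / 100 else 46 / 100 := by
      refine hv2 ?_
      rcases hv with h' | h'
      · refine Or.inr ?_
        rcases hd with ⟨r, rfl⟩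
        have : r ≠ 0 := fun h0 => hn ⟨h', by omega⟩
        omega
      · exact Or.inl h'
    split_ifs at hlose hu1 <;> first | omega | linarith

end CfsgLib.FT.Count
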