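import Cfsg.Agent.Lib.FT.SideBound
import Cfsg.Agent.Lib.FT.SideModule
import Cfsg.Agent.Lib.FT.SideFacts
import Cfsg.Agent.Lib.FT.Grid
import Cfsg.Agent.Lib.FT.FullnessAux
import Cfsg.Agent.Lib.FT.PairIneq
import Cfsg.Agent.Lib.OddChar.CyclicExist

/-!
FT module Fullness.

Sum `|η|² + Re η` over `g ∈ G` and over `η = χ ω`, `ω` nontrivial on both factors: each total is
`|G| (⟨η, η⟩ + ⟨η, 1⟩) = |G|`; the conjugates of `W ∖ (W₁ ∪ W₂)` give `|G| (1 - 1/q - 1/p + 2/(pq))`, the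
regions `|G| (1/q - slack_S)`, `|G| (1/p - slack_T)`, the rest `≥ 0` (`trace_nonneg`). So
`2/(pq) ≤ slack_S + slack_T`, which forces `c̄ = 1` (so `C_U(R) = 1`, nilpotent) and `ū` full on both sides:
`p (full + 1)/p^q ≤ p/(p-1) + small`, a divisor `≡ 1 (mod q)` loses a factor `3`, the diagonal case `2^(q-1)`.
-/

set_option autoImplicit false
set_option linter.style.haveILetI false
set_option linter.unusedSectionVars false

namespace CfsgLib.FT

open Subgroup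

universe u

namespace FullCount

variable {G : Type u} [Group G]

/-- The sum of the real part of a nontrivial linear character is `0`. -/
theorem sum_linear_eq_zero {H : Type*} [Group H] [Fintype H] (ν : H →* ℂˣ) (hν : ν ≠ 1) :
    ∑ h, (ν h : ℂ) = 0 := by
  classical
  have hne : (Units.coeHom ℂ).comp ν ≠ 1 := fun e => hν (MonoidHom.ext fun h => Units.ext (by
    simpa using DFunLike.congr_fun e h))
  have h := sum_hom_units ((Units.coeHom ℂ).comp ν)
  rw [if_neg hne] at h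
  simpa using h

variable {W₁ W₂ : Subgroup G}

theorem card_sup (hdisj : W₁ ⊓ W₂ = ⊥) (hcomm : ∀ a ∈ W₁, ∀ b ∈ W₂, a * b = b * a) :
    Nat.card ↥(W₁ ⊔ W₂) = Nat.card W₁ * Nat.card W₂ := by
  obtain ⟨p₁, p₂, hp, h₁, h₂⟩ := OddChar.exists_proj hdisj hcomm
  rw [← Nat.card_prod]
  refine Nat.card_congr (Equiv.ofBijective (fun w => (p₁ w, p₂ w)) ⟨fun v w e => ?_, fun x => ?_⟩)
  · obtain ⟨e₁, e₂⟩ := Prod.ext_iff.1 e
    exact Subtype.ext (by rw [← hp v, ← hp w, show p₁ v = p₁ w from e₁, show p₂ v = p₂ w from e₂])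
  · refine ⟨⟨x.1, mem_sup_left x.1.2⟩ * ⟨x.2, mem_sup_right x.2.2⟩, ?_⟩
    refine Prod.ext ?_ ?_ <;> dsimp only <;> rw [map_mul]
    · rw [(h₁ _ x.1.2).1, (h₂ _ x.2.2).2, mul_one]
    · rw [(h₁ _ x.1.2).2, (h₂ _ x.2.2).1, one_mul]

/-- The sum of `1 + Re ω` over `W` outside `W₁ ∪ W₂`. -/
theorem hat_sum [Finite G] (hW : Cfsg.IsSelfNormalizingCyclic W₁ W₂) {ω : ↥(W₁ ⊔ W₂) →* ℂˣ}
    (hn₁ : ¬ TrivialOn ω W₁) (hn₂ : ¬ TrivialOn ω W₂) {f : G → ℂ}
    (hf : ∀ w : ↥(W₁ ⊔ W₂), (w : G) ∉ W₁ → (w : G) ∉ W₂ → f w = (ω w : ℂ))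
    [Fintype (PairIneq.hat W₁ W₂)] :
    ∑ a ∈ (PairIneq.hat W₁ W₂).toFinset, (‖f a‖ ^ 2 + (f a).re) =
      (Nat.card W₁ : ℝ) * Nat.card W₂ - Nat.card W₁ - Nat.card W₂ + 2 := by
  classical
  letI : Fintype G := Fintype.ofFinite G
  obtain ⟨-, -, hdisj, hcomm, -, -⟩ := hW
  set φ : ↥(W₁ ⊔ W₂) → ℝ := fun w => 1 + (ω w : ℂ).re with hφ
  set A : Finset ↥(W₁ ⊔ W₂) := Finset.univ.filter fun w => (w : G) ∈ W₁ with hA
  set B : Finset ↥(W₁ ⊔ W₂) := Finset.univ.filter fun w => (w : G) ∈ W₂ with hB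
  have hI : ∀ (X : Subgroup G) (hX : X ≤ W₁ ⊔ W₂), ¬ TrivialOn ω X →
      ∑ w ∈ Finset.univ.filter (fun w : ↥(W₁ ⊔ W₂) => (w : G) ∈ X), φ w = Nat.card X := by
    intro X hX hn
    have hmap : ∑ w ∈ Finset.univ.filter (fun w : ↥(W₁ ⊔ W₂) => (w : G) ∈ X), φ w =
        ∑ x : X, φ (inclusion hX x) := by
      refine (Finset.sum_bij (fun x _ => inclusion hX x) (fun x _ => ?_) (fun x _ y _ e => ?_)
        (fun w hw => ?_) fun x _ => rfl).symm
      · exact Finset.mem_filter.2 ⟨Finset.mem_univ _, x.2⟩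
      · exact inclusion_injective hX e
      · exact ⟨⟨w, (Finset.mem_filter.1 hw).2⟩, Finset.mem_univ _, rfl⟩
    have h0 := sum_linear_eq_zero (ω.comp (inclusion hX)) fun e => hn fun a ha =>
      (DFunLike.congr_fun e ⟨a, ha⟩ :)
    rw [hmap]
    simp only [hφ, Finset.sum_add_distrib, Finset.sum_const, Finset.card_univ, nsmul_eq_mul,
      mul_one, Nat.card_eq_fintype_card, ← Complex.re_sum]
    simp only [MonoidHom.comp_apply] at h0
    rw [h0, Complex.zero_re, add_zero]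
  have hall : ∑ w, φ w = (Nat.card W₁ : ℝ) * Nat.card W₂ := by
    have h0 := sum_linear_eq_zero ω fun e => hn₁ fun a _ => by rw [e, MonoidHom.one_apply]
    simp only [hφ, Finset.sum_add_distrib, Finset.sum_const, Finset.card_univ, nsmul_eq_mul,
      mul_one, ← Complex.re_sum, h0, Complex.zero_re, add_zero]
    rw [← Nat.card_eq_fintype_card, card_sup hdisj hcomm, Nat.cast_mul]
  have hone : ∑ w ∈ A ∩ B, φ w = 2 := by
    have : A ∩ B = {1} := by
      ext w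
      simp only [hA, hB, Finset.mem_inter, Finset.mem_filter, Finset.mem_univ, true_and,
        Finset.mem_singleton]
      refine ⟨fun h => Subtype.ext ?_, fun h => by subst h; exact ⟨one_mem _, one_mem _⟩⟩
      exact Subgroup.disjoint_def.1 (disjoint_iff.2 hdisj) h.1 h.2
    rw [this, Finset.sum_singleton, hφ]
    norm_num
  have hmap : ∑ a ∈ (PairIneq.hat W₁ W₂).toFinset, (‖f a‖ ^ 2 + (f a).re) =
      ∑ w ∈ Finset.univ \ (A ∪ B), φ w := by
    symm
    refine Finset.sum_bij (fun w _ => (w : G)) (fun w hw => ?_) (fun v _ w _ e => ?_)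
      (fun a ha => ?_) fun w hw => ?_
    · simp only [hA, hB, Finset.mem_sdiff, Finset.mem_union, Finset.mem_filter, Finset.mem_univ,
        true_and, not_or] at hw
      rw [Set.mem_toFinset]
      exact ⟨w.2, fun h => h.elim hw.1 hw.2⟩
    · exact Subtype.ext e
    · rw [Set.mem_toFinset] at ha
      refine ⟨⟨a, ha.1⟩, ?_, rfl⟩
      simp only [hA, hB, Finset.mem_sdiff, Finset.mem_union, Finset.mem_filter, Finset.mem_univ,
        true_and, not_or]
      exact ⟨fun h => ha.2 (Or.inl h), fun h => ha.2 (Or.inr h)⟩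
    · simp only [hA, hB, Finset.mem_sdiff, Finset.mem_union, Finset.mem_filter, Finset.mem_univ,
        true_and, not_or] at hw
      have hn : ‖(ω w : ℂ)‖ = 1 := by
        refine Complex.norm_eq_one_of_pow_eq_one ?_ (Nat.card_pos (α := ↥(W₁ ⊔ W₂))).ne'
        rw [← Units.val_pow_eq_pow_val, ← map_pow, pow_card_eq_one', map_one, Units.val_one]
      rw [hf w hw.1 hw.2, hn, one_pow]
  have h1 := Finset.sum_sdiff (f := φ) (Finset.subset_univ (A ∪ B))
  have h2 := Finset.sum_union_inter (s₁ := A) (s₂ := B) (f := φ)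
  rw [hone, hA, hB, hI W₁ le_sup_left hn₁, hI W₂ le_sup_right hn₂, ← hA, ← hB] at h2
  rw [hmap]
  linarith

/-- Some linear character of `W` is nontrivial on both factors. -/
theorem exists_nondeg [Finite G] (hW : Cfsg.IsSelfNormalizingCyclic W₁ W₂) :
    ∃ ω : ↥(W₁ ⊔ W₂) →* ℂˣ, ¬ TrivialOn ω W₁ ∧ ¬ TrivialOn ω W₂ := by
  obtain ⟨h₁ne, h₂ne, hdisj, hcomm, hcyc, -⟩ := hW
  obtain ⟨p₁, p₂, -, h₁, h₂⟩ := OddChar.exists_proj hdisj hcomm
  haveI := hcyc
  have hex : ∀ X : Subgroup G, X ≤ W₁ ⊔ W₂ → X ≠ ⊥ →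
      ∃ (ν : X →* ℂˣ) (x : X), ν x ≠ 1 := by
    intro X hX hne
    haveI : IsCyclic X := isCyclic_of_injective _ (inclusion_injective hX)
    haveI := OddChar.finite_linearChar X
    have h : 1 < Nat.card (X →* ℂˣ) := by
      rw [OddChar.card_dual]
      exact (one_lt_card_iff_ne_bot X).2 hne
    haveI := Finite.one_lt_card_iff_nontrivial.1 h
    obtain ⟨ν, hν⟩ := exists_ne (1 : X →* ℂˣ)
    refine ⟨ν, ?_⟩
    by_contra hc
    push Not at hc
    exact hν (MonoidHom.ext hc)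
  obtain ⟨μ, x, hx⟩ := hex W₁ le_sup_left h₁ne
  obtain ⟨ν, y, hy⟩ := hex W₂ le_sup_right h₂ne
  refine ⟨μ.comp p₁ * ν.comp p₂, fun h => hx ?_, fun h => hy ?_⟩
  · have := h ⟨x, mem_sup_left x.2⟩ x.2
    simpa [(h₁ ⟨x, mem_sup_left x.2⟩ x.2).1, (h₁ ⟨x, mem_sup_left x.2⟩ x.2).2] using this
  · have := h ⟨y, mem_sup_right y.2⟩ y.2
    simpa [(h₂ ⟨y, mem_sup_right y.2⟩ y.2).1, (h₂ ⟨y, mem_sup_right y.2⟩ y.2).2] using this

/-- Being nontrivial on a subgroup is kept by coprime powers. -/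
theorem not_trivialOn_pow {W X : Subgroup G} {ω : ↥W →* ℂˣ} {k : ℕ}
    (hk : k.Coprime (Nat.card G)) (h : ¬ TrivialOn ω X) : ¬ TrivialOn (ω ^ k) X := by
  refine fun h' => h fun a ha => ?_
  obtain ⟨m, hm⟩ := exists_pow_eq_self_of_coprime (x := a) (n := k)
    (hk.coprime_dvd_right (orderOf_submonoid a ▸ orderOf_dvd_natCard (a : G)))
  rw [← hm, map_pow, map_pow]
  have e := h' a ha
  rw [MonoidHom.pow_apply] at e
  rw [e, one_pow]

theorem wRegion_eq : wRegion W₁ W₂ = PairIneq.conjUnion (PairIneq.hat W₁ W₂) := by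
  ext g
  simp only [wRegion, PairIneq.conjUnion, PairIneq.hat, Set.mem_setOf_eq, Set.mem_diff,
    Set.mem_union, SetLike.mem_coe, not_or]

open Classical in
/-- The sum over the conjugates of `W ∖ (W₁ ∪ W₂)`. -/
theorem wRegion_sum [Fintype G] (hW : Cfsg.IsSelfNormalizingCyclic W₁ W₂)
    {χ : (↥(W₁ ⊔ W₂) →* ℂˣ) → (G → ℂ)} (hχ : Cfsg.IsCyclicTIFamily W₁ W₂ χ)
    {ω : ↥(W₁ ⊔ W₂) →* ℂˣ} (hn₁ : ¬ TrivialOn ω W₁) (hn₂ : ¬ TrivialOn ω W₂) :
    ((Nat.card W₁ : ℝ) * Nat.card W₂) *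
        ∑ g ∈ (wRegion W₁ W₂).toFinset, (‖χ ω g‖ ^ 2 + (χ ω g).re) =
      (Nat.card G : ℝ) *
        ((Nat.card W₁ : ℝ) * Nat.card W₂ - Nat.card W₁ - Nat.card W₂ + 2) := by
  obtain ⟨hTI, h1, hN⟩ := PairIneq.hat_ti hW
  have hcl : Cfsg.IsClassFunction G (χ ω) := by
    rcases hχ.irr_or_neg ω with hi | hi
    · exact CfsgLib.Char.IsIrrCharacter.isClassFunction hi
    · intro a b
      simpa using CfsgLib.Char.IsIrrCharacter.isClassFunction hi a b
  have hne : (PairIneq.hat W₁ W₂).Nonempty := by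
    obtain ⟨h₁ne, h₂ne, hdisj, -, -, -⟩ := hW
    obtain ⟨a, ha, ha1⟩ := (bot_or_exists_ne_one W₁).resolve_left h₁ne
    obtain ⟨b, hb, hb1⟩ := (bot_or_exists_ne_one W₂).resolve_left h₂ne
    refine ⟨a * b, mul_mem (mem_sup_left ha) (mem_sup_right hb), ?_⟩
    rintro (h | h)
    · exact hb1 (Subgroup.disjoint_def.1 (disjoint_iff.2 hdisj) ((mul_mem_cancel_left ha).1 h) hb)
    · exact ha1 (Subgroup.disjoint_def.1 (disjoint_iff.2 hdisj) ha ((mul_mem_cancel_right hb).1 h))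
  have hsum := PairIneq.sum_conjUnion hTI h1 (fun g => ‖χ ω g‖ ^ 2 + (χ ω g).re)
    fun x g => by simp only [hcl g x]
  simp only [wRegion_eq]
  rw [hsum, hN hne, hat_sum hW hn₁ hn₂ fun w h1 h2 => hχ.eq_on ω w h1 h2, nsmul_eq_mul]
  have hc := Subgroup.card_mul_index (W₁ ⊔ W₂)
  rw [card_sup hW.2.2.1 hW.2.2.2.1] at hc
  rw [← mul_assoc, ← hc]
  push_cast
  ring

open Classical in
/-- The total over `G`. -/
theorem total [Fintype G] {χ : (↥(W₁ ⊔ W₂) →* ℂˣ) → (G → ℂ)}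
    (hχ : Cfsg.IsCyclicTIFamily W₁ W₂ χ) {ω : ↥(W₁ ⊔ W₂) →* ℂˣ} (hω : ω ≠ 1) :
    ∑ g, (‖χ ω g‖ ^ 2 + (χ ω g).re) = (Nat.card G : ℝ) := by
  have hG0 : (Nat.card G : ℝ) ≠ 0 := Nat.cast_ne_zero.2 Nat.card_pos.ne'
  have e1 := PairIneq.classInner_self_eq (χ ω)
  rw [hχ.orthonormal, if_pos rfl, Complex.one_re, eq_div_iff hG0, one_mul] at e1
  have e2 := PairIneq.classInner_one_eq (χ ω)
  rw [← hχ.map_one, hχ.orthonormal, if_neg hω, Complex.zero_re, eq_div_iff hG0, zero_mul] at e2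
  rw [Finset.sum_add_distrib, ← e1, ← e2, add_zero]

end FullCount

variable {G : Type u} [Group G] [Finite G] (hG : Cfsg.IsMinSimpleOddOrder G)
  {S T W₁ W₂ U V : Subgroup G}
include hG

theorem slack_lower (hpd : PairData S T W₁ W₂ U V) (hS : Side S W₁ U W₂) (hT : Side T W₂ V W₁) :
    2 / ((Nat.card W₁ : ℝ) * Nat.card W₂) ≤ slack S W₁ U W₂ + slack T W₂ V W₁ := by
  classical
  letI : Fintype G := Fintype.ofFinite G
  have hW : Cfsg.IsSelfNormalizingCyclic W₁ W₂ := hS.typeP.selfNormalizing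
  have hodd := hG.1
  obtain ⟨χ, hχ⟩ := OddChar.CyclicExist.exists_family hW
    (hodd.of_dvd_nat (W₁ ⊔ W₂).card_subgroup_dvd_card)
  obtain ⟨χ', hχ', hsw⟩ := swap hW hodd hχ
  haveI := OddChar.finite_linearChar ↥(W₁ ⊔ W₂)
  letI : Fintype (↥(W₁ ⊔ W₂) →* ℂˣ) := Fintype.ofFinite _
  set Ω : Finset (↥(W₁ ⊔ W₂) →* ℂˣ) :=
    Finset.univ.filter fun ω => ¬ TrivialOn ω W₁ ∧ ¬ TrivialOn ω W₂ with hΩ
  have hmem : ∀ ω, ω ∈ Ω ↔ ¬ TrivialOn ω W₁ ∧ ¬ TrivialOn ω W₂ := fun ω => by simp [hΩ]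
  set sW := (wRegion W₁ W₂).toFinset
  set sS := (region S U).toFinset
  set sT := (region T V).toFinset
  set R : Finset G := Finset.univ \ ((sS ∪ sT) ∪ sW) with hR
  have hne : Ω.Nonempty := by
    obtain ⟨ω, h⟩ := FullCount.exists_nondeg hW
    exact ⟨ω, (hmem ω).2 h⟩
  obtain ⟨ω, hω, hrest⟩ : ∃ ω ∈ Ω, (0 : ℝ) ≤ ∑ g ∈ R, (‖χ ω g‖ ^ 2 + (χ ω g).re) := by
    refine Finset.exists_le_of_sum_le hne ?_
    rw [Finset.sum_const_zero, Finset.sum_comm]
    refine Finset.sum_nonneg fun g _ => trace_nonneg hW hodd hχ Ω (fun k hk ω hω => ?_) g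
    rw [hmem] at hω ⊢
    exact ⟨FullCount.not_trivialOn_pow hk hω.1, FullCount.not_trivialOn_pow hk hω.2⟩
  obtain ⟨hn₁, hn₂⟩ := (hmem ω).1 hω
  have htot := FullCount.total hχ (ω := ω) fun e => hn₁ fun a _ => by rw [e, MonoidHom.one_apply]
  have hbS := region_bound hodd hS hχ hn₁ hn₂
  let e : ↥(W₂ ⊔ W₁) ≃* ↥(W₁ ⊔ W₂) := MulEquiv.subgroupCongr (sup_comm W₂ W₁)
  have hω' : χ' (ω.comp e.toMonoidHom) = χ ω :=
    hsw ω _ fun a b hab => congrArg ω (Subtype.ext hab)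
  have htr : ∀ X : Subgroup G, ¬ TrivialOn ω X → ¬ TrivialOn (ω.comp e.toMonoidHom) X :=
    fun X hX h => hX fun a ha => by
      have := h (e.symm a) ha
      simpa using this
  have hbT := region_bound hodd hT hχ' (htr W₂ hn₂) (htr W₁ hn₁)
  rw [hω'] at hbT
  rw [finsum_mem_eq_toFinset_sum] at hbS hbT
  have hwW := FullCount.wRegion_sum hW hχ hn₁ hn₂
  obtain ⟨dST, dSW, dTW, -⟩ := regions_disjoint hG hpd hS hT
  have dST' : Disjoint sS sT := Set.disjoint_toFinset.2 dST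
  have dW' : Disjoint (sS ∪ sT) sW :=
    Finset.disjoint_union_left.2 ⟨Set.disjoint_toFinset.2 dSW, Set.disjoint_toFinset.2 dTW⟩
  rw [← Finset.sum_sdiff (Finset.subset_univ ((sS ∪ sT) ∪ sW)), Finset.sum_union dW',
    Finset.sum_union dST'] at htot
  have hq : (0 : ℝ) < Nat.card W₁ := by exact_mod_cast hS.q_prime.pos
  have hp : (0 : ℝ) < Nat.card W₂ := by exact_mod_cast hS.p_prime.pos
  have hN : (0 : ℝ) < Nat.card G := by exact_mod_cast Nat.card_pos
  set q : ℝ := (Nat.card W₁ : ℝ)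
  set p : ℝ := (Nat.card W₂ : ℝ)
  have hsW : ∑ g ∈ sW, (‖χ ω g‖ ^ 2 + (χ ω g).re) =
      (Nat.card G : ℝ) * (1 - q⁻¹ - p⁻¹ + 2 / (q * p)) := by
    refine mul_left_cancel₀ (mul_ne_zero hq.ne' hp.ne') (hwW.trans ?_)
    field_simp
    ring
  refine le_of_mul_le_mul_left ?_ hN
  linarith

theorem side_full (hpd : PairData S T W₁ W₂ U V) (hS : Side S W₁ U W₂) (hT : Side T W₂ V W₁) :
    SideFull S W₁ U W₂ ∧ SideFull T W₂ V W₁ := by
  have hodd := hG.1
  have hoddW : ∀ X : Subgroup G, Odd (Nat.card X) := fun X =>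
    hodd.of_dvd_nat X.card_subgroup_dvd_card
  have h3 : ∀ X : Subgroup G, (Nat.card X).Prime → 3 ≤ Nat.card X := fun X hX => by
    obtain ⟨t, ht⟩ := hoddW X
    have := hX.two_le
    omega
  have hne : Nat.card W₂ ≠ Nat.card W₁ := by
    intro e
    have hle : W₂ ≤ ⁅S, S⁆ :=
      (hS.typeP.W₂_le.trans inf_le_left).trans hS.typeP.U_compl.1
    have h := Nat.Coprime.of_dvd_left (Subgroup.card_dvd_of_le hle) hS.coprime_W
    rw [e, Nat.coprime_self] at h
    exact hS.q_prime.one_lt.ne' h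
  have hsmall : ∀ (M W X W' : Subgroup G), Side M W X W' →
      Count.Small (Nat.card W') (Nat.card W) ((kerU M X).relIndex X) := by
    intro M W X W' h
    rcases dichotomy hodd h with ⟨-, hdvd, -, -⟩ | hdiag
    · exact Count.small_of_dvd (hoddW W') (h3 W' h.p_prime) hdvd (hoddW W)
    · exact Count.small_of_diag (h3 W' h.p_prime) (h3 W h.q_prime) hdiag
  have hc : ∀ M X : Subgroup G, Odd (⁅kerU M X, kerU M X⁆.relIndex (kerU M X)) := fun M X =>
    (hoddW (kerU M X)).of_dvd_nat (relIndex_dvd_card _ _)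
  have hq : (0 : ℝ) < Nat.card W₁ := by exact_mod_cast hS.q_prime.pos
  have hp : (0 : ℝ) < Nat.card W₂ := by exact_mod_cast hS.p_prime.pos
  have hterm : slack S W₁ U W₂ * ((Nat.card W₁ : ℝ) * Nat.card W₂) =
        Count.term (Nat.card W₂) (Nat.card W₁) ((kerU S U).relIndex U)
          (⁅kerU S U, kerU S U⁆.relIndex (kerU S U)) ∧
      slack T W₂ V W₁ * ((Nat.card W₁ : ℝ) * Nat.card W₂) =
        Count.term (Nat.card W₁) (Nat.card W₂) ((kerU T V).relIndex V)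
          (⁅kerU T V, kerU T V⁆.relIndex (kerU T V)) := by
    have hcS : (0 : ℝ) < ⁅kerU S U, kerU S U⁆.relIndex (kerU S U) := by
      exact_mod_cast (hc S U).pos
    have hcT : (0 : ℝ) < ⁅kerU T V, kerU T V⁆.relIndex (kerU T V) := by
      exact_mod_cast (hc T V).pos
    constructor <;> · simp only [slack, Count.term]; field_simp
  have h2 : (2 : ℝ) ≤ Count.term (Nat.card W₂) (Nat.card W₁) ((kerU S U).relIndex U)
        (⁅kerU S U, kerU S U⁆.relIndex (kerU S U)) +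
      Count.term (Nat.card W₁) (Nat.card W₂) ((kerU T V).relIndex V)
        (⁅kerU T V, kerU T V⁆.relIndex (kerU T V)) := by
    rw [← hterm.1, ← hterm.2, ← add_mul]
    exact (div_le_iff₀ (mul_pos hq hp)).1 (slack_lower hG hpd hS hT)
  obtain ⟨hu, hv⟩ := Count.full_of_two_le (hoddW W₂) (hoddW W₁) (h3 W₂ hS.p_prime)
    (h3 W₁ hS.q_prime) hne (hsmall S W₁ U W₂ hS) (hsmall T W₂ V W₁ hT) (hc S U) (hc T V) h2
  have key : ∀ (M W X W' : Subgroup G), Side M W X W' →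
      Count.IsFullNum (Nat.card W') (Nat.card W) ((kerU M X).relIndex X)
        (⁅kerU M X, kerU M X⁆.relIndex (kerU M X)) → SideFull M W X W' := by
    rintro M W X W' h ⟨hfull, hone⟩
    have hK : kerU M X = ⊥ := by
      by_contra hne0
      have hle : kerU M X ≤ ⁅kerU M X, kerU M X⁆ := relIndex_eq_one.1 hone
      have hXM : X ≤ M := by
        refine h.typeP.U_compl.2.1.trans ?_
        exact (Subgroup.commutator_le).2 fun a ha b hb => by
          rw [commutatorElement_def]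
          exact mul_mem (mul_mem (mul_mem ha hb) (inv_mem ha)) (inv_mem hb)
      have htop : kerU M X ≠ ⊤ := fun e =>
        h.coatom.1 (top_le_iff.1 (e ▸ (inf_le_left.trans hXM : kerU M X ≤ M)))
      haveI : Group.IsSolvable ↥(kerU M X) := hG.2.2.2 _ htop
      haveI : Nontrivial ↥(kerU M X) := (nontrivial_iff_ne_bot _).2 hne0
      have hlt := Group.IsSolvable.commutator_lt_top_of_nontrivial ↥(kerU M X)
      refine hlt.ne (map_injective (kerU M X).subtype_injective ?_)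
      rw [map_subtype_commutator, ← MonoidHom.range_eq_map, range_subtype]
      exact le_antisymm (commutator_le_self _) hle
    rw [hK, relIndex_bot_left] at hfull
    have hp3 := h3 W' h.p_prime
    have hq3 := h3 W h.q_prime
    rcases dichotomy hodd h with ⟨⟨g, -, hg⟩, -, hco, hfpf⟩ | hdiag
    · refine ⟨hK, ?_, hfull, ?_, fun u hu hu1 => ?_⟩
      · rw [hK, sup_bot_eq] at hg
        rw [hg]
        exact inferInstance
      · rw [← hfull, Nat.mul_div_cancel _ (by omega)]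
        rwa [hK, relIndex_bot_left] at hco
      · exact hfpf u hu fun hk => hu1 (Subgroup.mem_bot.1 (hK ▸ hk))
    · exfalso
      rw [hK, relIndex_bot_left] at hdiag
      obtain ⟨r, hr⟩ : ∃ r, Nat.card W = r + 1 := ⟨Nat.card W - 1, by omega⟩
      rw [hr, Nat.add_sub_cancel] at hdiag
      rw [hr] at hfull
      have h1 : Nat.card X * 2 ^ r * (Nat.card W' - 1) ≤
          (Nat.card W' - 1) ^ r * (Nat.card W' - 1) := Nat.mul_le_mul_right _ hdiag
      have h4 : 4 ≤ 2 ^ r :=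
        (show (4 : ℕ) = 2 ^ 2 by norm_num) ▸ Nat.pow_le_pow_right (by norm_num) (by omega)
      have h5 : (Nat.card W' - 1) ^ r * (Nat.card W' - 1) ≤ Nat.card W' ^ (r + 1) := by
        rw [← pow_succ]
        exact Nat.pow_le_pow_left (by omega) _
      have h6 : 3 ≤ Nat.card W' ^ (r + 1) := hp3.trans (Nat.le_self_pow (by omega) _)
      have h7 : (Nat.card W' ^ (r + 1) - 1) * 4 ≤ Nat.card W' ^ (r + 1) := by
        rw [← hfull]
        calc Nat.card X * (Nat.card W' - 1) * 4 ≤ Nat.card X * (Nat.card W' - 1) * 2 ^ r :=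
              Nat.mul_le_mul_left _ h4
          _ = Nat.card X * 2 ^ r * (Nat.card W' - 1) := by ring
          _ ≤ _ := h1.trans h5
          _ = _ := rfl
      omega
  exact ⟨key S W₁ U W₂ hS hu, key T W₂ V W₁ hT hv⟩

end CfsgLib.FT
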