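import Cfsg.Agent.Lib.OddChar.AbelInertia
import Cfsg.Agent.Lib.OddChar.Above
import Cfsg.Agent.Lib.Char.Complete
import Cfsg.Agent.Lib.Char.RealOdd

/-!
PROJECT FT: characters over the nonprincipal characters of a normal Hall subgroup `K` whose
inertia groups are abelian modulo `K`.
-/

set_option autoImplicit false

open ComplexConjugate

namespace CfsgLib.FT.Hall

variable {L : Type*} [Group L] [Fintype L] (K : Subgroup L) [K.Normal]

/-- `K` is not in the kernel of `χ`. -/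
def NTriv (χ : L → ℂ) : Prop := ∃ k ∈ K, χ k ≠ χ 1

/-- An element fixing no nonidentity element of `K` is killed by every character that is
nontrivial on `K`. -/
theorem apply_eq_zero {χ : L → ℂ} (hχ : Cfsg.IsIrrCharacter L χ) (hnk : NTriv K χ) {g : L}
    (hg : ∀ k ∈ K, k * g = g * k → k = 1) : χ g = 0 := by
  classical
  let S := {ψ : Cfsg.IrrCharacter L // ∀ k ∈ K, (ψ : L → ℂ) k = (ψ : L → ℂ) 1}
  have hall := Char.sum_mul_conj g g
  rw [if_pos (IsConj.refl g)] at hall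
  have hquot := CharTools.sum_quotient_mul_conj K g g
  rw [if_pos (IsConj.refl _)] at hquot
  have hle : Nat.card (Subgroup.centralizer ({g} : Set L)) ≤
      Nat.card (Subgroup.centralizer ({(g : L ⧸ K)} : Set (L ⧸ K))) := by
    refine Nat.card_le_card_of_injective (fun c => ⟨((c : L) : L ⧸ K),
      Subgroup.mem_centralizer_singleton_iff.2 (by
        rw [← QuotientGroup.mk_mul, ← QuotientGroup.mk_mul,
          Subgroup.mem_centralizer_singleton_iff.1 c.2])⟩) fun a b h => ?_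
    have h1 : ((a : L) : L ⧸ K) = ((b : L) : L ⧸ K) := congrArg Subtype.val h
    rw [QuotientGroup.eq] at h1
    have h2 : (a : L)⁻¹ * b ∈ Subgroup.centralizer ({g} : Set L) := mul_mem (inv_mem a.2) b.2
    exact Subtype.ext (inv_mul_eq_one.1 (hg _ h1 (Subgroup.mem_centralizer_singleton_iff.1 h2)))
  have hre : ∀ z : ℂ, (z * conj z).re = ‖z‖ ^ 2 := fun z => by
    rw [Complex.mul_conj', ← Complex.ofReal_pow, Complex.ofReal_re]
  have e1 : ∑ ψ : Cfsg.IrrCharacter L, ‖(ψ : L → ℂ) g‖ ^ 2 =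
      (Nat.card (Subgroup.centralizer ({g} : Set L)) : ℝ) := by
    simpa [hre] using congrArg Complex.re hall
  have e2 : ∑ ψ ∈ Finset.univ.filter (fun ψ : Cfsg.IrrCharacter L =>
      ∀ k ∈ K, (ψ : L → ℂ) k = (ψ : L → ℂ) 1), ‖(ψ : L → ℂ) g‖ ^ 2 =
      (Nat.card (Subgroup.centralizer ({(g : L ⧸ K)} : Set (L ⧸ K))) : ℝ) := by
    rw [Finset.sum_subtype (p := fun ψ : Cfsg.IrrCharacter L =>
      ∀ k ∈ K, (ψ : L → ℂ) k = (ψ : L → ℂ) 1) _ (by simp)]
    simpa [hre] using congrArg Complex.re hquot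
  rw [← Finset.sum_filter_add_sum_filter_not Finset.univ (fun ψ : Cfsg.IrrCharacter L =>
      ∀ k ∈ K, (ψ : L → ℂ) k = (ψ : L → ℂ) 1), e2] at e1
  have hle' : (Nat.card (Subgroup.centralizer ({g} : Set L)) : ℝ) ≤
      Nat.card (Subgroup.centralizer ({(g : L ⧸ K)} : Set (L ⧸ K))) := Nat.cast_le.2 hle
  have hnn : ∀ ψ ∈ Finset.univ.filter (fun ψ : Cfsg.IrrCharacter L =>
      ¬ ∀ k ∈ K, (ψ : L → ℂ) k = (ψ : L → ℂ) 1), (0 : ℝ) ≤ ‖(ψ : L → ℂ) g‖ ^ 2 := fun _ _ => by
    positivity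
  have h0 := (Finset.sum_eq_zero_iff_of_nonneg hnn).1
    (le_antisymm (by linarith) (Finset.sum_nonneg hnn)) ⟨χ, hχ⟩ (by
      obtain ⟨k, hk, hne⟩ := hnk
      simpa using ⟨k, hk, hne⟩)
  exact norm_eq_zero.1 ((pow_eq_zero_iff two_ne_zero).1 h0)

variable [Fintype K]

/-- Inertia groups of nonprincipal characters are abelian modulo `K`. -/
def AbelInertial : Prop :=
  ∀ θ : K → ℂ, Cfsg.IsIrrCharacter K θ → θ ≠ (fun _ => 1) →
    ∀ x ∈ CharTwist.inertia K θ, ∀ y ∈ CharTwist.inertia K θ, x * y * x⁻¹ * y⁻¹ ∈ K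

/-- A constituent of the restriction of a character nontrivial on `K` is nonprincipal. -/
theorem ne_one_of_nTriv {χ : L → ℂ} (hχ : Cfsg.IsIrrCharacter L χ) (hnk : NTriv K χ) {θ : K → ℂ}
    (hθ : Cfsg.IsIrrCharacter K θ) (hc : Cfsg.classInner (fun k : K => χ k) θ ≠ 0) :
    θ ≠ fun _ => 1 := by
  rintro rfl
  obtain ⟨k, hk, hne⟩ := hnk
  have he := Clifford.res_eq K hχ hθ hc
  have horb : Clifford.orbit K (fun _ : K => (1 : ℂ)) = {fun _ => 1} := by
    ext f
    rw [Clifford.mem_orbit, Finset.mem_singleton]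
    constructor
    · rintro ⟨t, rfl⟩; rfl
    · rintro rfl; exact ⟨1, rfl⟩
  rw [horb, Finset.sum_singleton] at he
  apply hne
  have h1 := congrFun he ⟨k, hk⟩
  have h2 := congrFun he 1
  simp only [Pi.smul_apply, smul_eq_mul, OneMemClass.coe_one] at h1 h2
  rw [h1, h2]

/-- The constituents of an induced nonprincipal character: distinct, with one restriction. -/
theorem blocks (hcop : (Nat.card K).Coprime K.index) (hab : AbelInertial K) {θ : K → ℂ}
    (hθ : Cfsg.IsIrrCharacter K θ) (hθ1 : θ ≠ fun _ => 1) :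
    ∃ D : Finset (L → ℂ), (∀ χ ∈ D, Cfsg.IsIrrCharacter L χ) ∧ Cfsg.indFun K θ = ∑ χ ∈ D, χ ∧
      (∀ χ, Cfsg.IsIrrCharacter L χ → (χ ∈ D ↔ Cfsg.classInner (fun k : K => χ k) θ ≠ 0)) ∧
      (∀ χ ∈ D, ∀ χ' ∈ D, ∀ k : K, χ k = χ' k) ∧ (∀ χ ∈ D, NTriv K χ) := by
  classical
  let T := CharTwist.inertia K θ
  have hKT : K ≤ T := CharTwist.le_inertia K (Char.IsIrrCharacter.isClassFunction hθ)
  letI : Fintype T := Fintype.ofFinite T
  letI : Fintype (K.subgroupOf T) := Fintype.ofFinite _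
  set θ' : K.subgroupOf T → ℂ := fun x => θ ⟨(x : T), Subgroup.mem_subgroupOf.mp x.2⟩ with hθ'def
  have hθ' : Cfsg.IsIrrCharacter (K.subgroupOf T) θ' :=
    OddChar.AbelInertia.isIrr_transport K T hKT hθ
  have habT : ∀ x y : T, x * y * x⁻¹ * y⁻¹ ∈ K.subgroupOf T := fun x y =>
    Subgroup.mem_subgroupOf.2 (hab θ hθ hθ1 _ x.2 _ y.2)
  have hinv : ∀ g : T, CharTwist.conjFun (K.subgroupOf T) θ' g = θ' := by
    intro g
    funext n
    exact congrFun (g.2 : CharTwist.conjFun K θ (g : L) = θ) ⟨(n : T), Subgroup.mem_subgroupOf.mp n.2⟩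
  have hcop' : Nat.Coprime (Nat.card (K.subgroupOf T)) (K.subgroupOf T).index := by
    rw [Nat.card_congr (Subgroup.subgroupOfEquivOfLe hKT).toEquiv]
    exact hcop.coprime_dvd_right (Subgroup.relIndex_dvd_index_of_normal K T)
  obtain ⟨χ₀, hχ₀, hres₀⟩ := OddChar.AbelInertia.exists_ext_coprime (K.subgroupOf T) hθ' hinv hcop'
  obtain ⟨C, hC, -, hdec, hdeg, hne⟩ := OddChar.AbelInertia.invariant_decomp (K.subgroupOf T) habT
    hθ' hinv hχ₀ one_pos (fun h => by simpa using hres₀ h)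
  obtain ⟨D, hD, -, hDdec, -⟩ := OddChar.AbelInertia.induce_up K T hθ
    (fun g => ⟨fun hg h => congrFun (CharTwist.mem_inertia.1 hg) h,
      fun h => CharTwist.mem_inertia.2 (funext h)⟩)
    hKT 1 C hC hdec hne hdeg
  rw [Nat.cast_one, one_smul] at hDdec
  have hinner : ∀ χ, Cfsg.IsIrrCharacter L χ →
      Cfsg.classInner (Cfsg.indFun K θ) χ = if χ ∈ D then 1 else 0 := by
    intro χ hχ
    rw [hDdec, Char.classInner_sum_left]
    split_ifs with h
    · rw [Finset.sum_eq_single χ (fun a ha hne => Char.classInner_irr_of_ne (hD a ha) hχ hne)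
        (fun h' => absurd h h'), Char.classInner_irr_self hχ]
    · exact Finset.sum_eq_zero fun a ha =>
        Char.classInner_irr_of_ne (hD a ha) hχ fun e => h (e ▸ ha)
  have hone : ∀ χ, Cfsg.IsIrrCharacter L χ → χ ∈ D →
      Cfsg.classInner (fun k : K => χ k) θ = 1 := by
    intro χ hχ h
    have h1 := hinner χ hχ
    rw [if_pos h, Char.classInner_indFun K θ χ (Char.IsIrrCharacter.isClassFunction hχ)] at h1
    rw [← Char.classInner_conj_symm, h1, map_one]
  refine ⟨D, hD, hDdec, fun χ hχ => ⟨fun h => by rw [hone χ hχ h]; exact one_ne_zero,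
    fun hc => ?_⟩, fun χ hχ χ' hχ' k => ?_, fun χ hχ => ?_⟩
  · by_contra h
    have h1 := hinner χ hχ
    rw [if_neg h, Char.classInner_indFun K θ χ (Char.IsIrrCharacter.isClassFunction hχ)] at h1
    rw [← Char.classInner_conj_symm, h1, map_zero] at hc
    exact hc rfl
  · have h1 := Clifford.res_eq K (hD χ hχ) hθ (by rw [hone χ (hD χ hχ) hχ]; exact one_ne_zero)
    have h2 := Clifford.res_eq K (hD χ' hχ') hθ (by rw [hone χ' (hD χ' hχ') hχ']; exact one_ne_zero)
    rw [hone χ (hD χ hχ) hχ] at h1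
    rw [hone χ' (hD χ' hχ') hχ'] at h2
    exact congrFun (h1.trans h2.symm) k
  · by_contra hn
    simp only [NTriv, not_exists, not_and, not_not] at hn
    have h1 := hone χ (hD χ hχ) hχ
    rw [show (fun k : K => χ k) = χ 1 • (fun _ : K => (1 : ℂ)) from
      funext fun k => by simp [hn k k.2], Char.classInner_smul_left,
      Char.classInner_irr_of_ne Char.isIrrCharacter_principal hθ (Ne.symm hθ1), mul_zero] at h1
    exact zero_ne_one h1

/-- A class function with one coefficient on each block is constant on cosets outside `K`. -/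
theorem const_mul_right (hcop : (Nat.card K).Coprime K.index) (hab : AbelInertial K) {φ : L → ℂ}
    (hφ : Cfsg.IsClassFunction L φ)
    (hblock : ∀ χ χ' : L → ℂ, Cfsg.IsIrrCharacter L χ → Cfsg.IsIrrCharacter L χ' →
      (∀ k ∈ K, χ k = χ' k) → NTriv K χ → Cfsg.classInner φ χ = Cfsg.classInner φ χ')
    {g u : L} (hg : g ∉ K) (hu : u ∈ K) : φ (g * u) = φ g := by
  classical
  have hzero : ∀ x : L, x ∉ K → ∑ χ ∈ Finset.univ.filter (fun χ : Cfsg.IrrCharacter L =>
      NTriv K (χ : L → ℂ)), Cfsg.classInner φ χ * (χ : L → ℂ) x = 0 := by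
    intro x hx
    rw [← Finset.sum_fiberwise_of_maps_to (t := (Finset.univ.filter (fun χ : Cfsg.IrrCharacter L =>
      NTriv K (χ : L → ℂ))).image (fun χ : Cfsg.IrrCharacter L => fun k : K => (χ : L → ℂ) k))
      (g := fun χ : Cfsg.IrrCharacter L => fun k : K => (χ : L → ℂ) k)
      (fun χ hχ => Finset.mem_image_of_mem _ hχ)]
    refine Finset.sum_eq_zero fun r hr => ?_
    obtain ⟨χ₀, hχ₀, rfl⟩ := Finset.mem_image.1 hr
    have hnk := (Finset.mem_filter.1 hχ₀).2
    obtain ⟨θ, hθ, hc⟩ := Clifford.exists_constituent_res K χ₀.2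
    obtain ⟨D, hD, hdec, hmem, hres, hnt⟩ :=
      blocks K hcop hab hθ (ne_one_of_nTriv K χ₀.2 hnk hθ hc)
    have h0 : (χ₀ : L → ℂ) ∈ D := (hmem _ χ₀.2).2 hc
    have hsum : ∑ χ ∈ D, χ x = 0 := by
      have := congrFun hdec x
      rw [Char.indFun_eq_zero_of_normal K θ hx, Finset.sum_apply] at this
      exact this.symm
    have hz : ∑ χ ∈ D, Cfsg.classInner φ (χ₀ : L → ℂ) * χ x = 0 := by
      rw [← Finset.mul_sum, hsum, mul_zero]
    refine Eq.trans ?_ hz
    refine Finset.sum_bij' (fun χ _ => (χ : L → ℂ)) (fun χ h => ⟨χ, hD χ h⟩) ?_ ?_ ?_ ?_ ?_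
    · intro χ hχ
      refine (hmem _ χ.2).2 ?_
      rw [(Finset.mem_filter.1 hχ).2]
      exact hc
    · intro χ hχ
      simp only [Finset.mem_filter, Finset.mem_univ, true_and]
      exact ⟨hnt χ hχ, funext fun k => hres χ hχ _ h0 k⟩
    · intros; rfl
    · intros; rfl
    · intro χ hχ
      rw [hblock _ _ χ.2 χ₀.2 (fun k hk => congrFun (Finset.mem_filter.1 hχ).2 ⟨k, hk⟩)
        (Finset.mem_filter.1 (Finset.mem_filter.1 hχ).1).2]
  have hexp : ∀ x, φ x = ∑ χ : Cfsg.IrrCharacter L, Cfsg.classInner φ χ * (χ : L → ℂ) x := by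
    intro x
    conv_lhs => rw [Char.IsClassFunction.eq_sum_classInner hφ]
    simp [Finset.sum_apply]
  have hgu : g * u ∉ K := fun h => hg (by simpa using mul_mem h (inv_mem hu))
  rw [hexp, hexp, ← Finset.sum_filter_add_sum_filter_not Finset.univ
    (fun χ : Cfsg.IrrCharacter L => NTriv K (χ : L → ℂ)), hzero _ hgu,
    ← Finset.sum_filter_add_sum_filter_not Finset.univ
    (fun χ : Cfsg.IrrCharacter L => NTriv K (χ : L → ℂ)), hzero _ hg]
  congr 1
  refine Finset.sum_congr rfl fun χ hχ => ?_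
  have hker : (χ : L → ℂ) u = (χ : L → ℂ) 1 := by
    by_contra h
    exact (Finset.mem_filter.1 hχ).2 ⟨u, hu, h⟩
  rw [CharTools.mul_ker (Char.IsIrrCharacter.isCharacter χ.2) hker]

end CfsgLib.FT.Hall
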