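import Cfsg.Agent.Lib.FT.LThreeAux
import Cfsg.Agent.Lib.FT.CoreFam

/-!
FT module LThree: `T` of type III. `ψ = f ζ`, `Γ = β - 1 + ψ` (real, orthogonal to `1`), `b = ρ_L ψ`.
On `L_σ^#` `β = 0`, so `ρ_L Γ = b - 1`. `b ≠ 0`: S1525 on `T` and `L` gives `t_L ≤ p/(v - 1)`, false.
`b = 0`: `⟨Γ, β_L⟩` is odd, so the family of `L` occurs in `Γ`: `(k - 1)/e ≤ p - 1`; with `|U| ≤ k` this leaves
`e = p q` and `K = U`, so `W₂^y` normalises `U`.
-/

set_option autoImplicit false
set_option linter.style.haveILetI false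

open ComplexConjugate

namespace CfsgLib.FT

open Subgroup CfsgLib.OddOrder CfsgLib.OddChar.MaxTypes

universe u

private theorem three_pow_bound (n : ℕ) : 31 * (n + 5) ^ 2 ≤ 120 * 3 ^ (n + 2) := by
  induction n with
  | zero => norm_num
  | succ n ih =>
    have e : 3 ^ (n + 1 + 2) = 3 * 3 ^ (n + 2) := by
      rw [show n + 1 + 2 = n + 2 + 1 by ring, pow_succ, mul_comm]
    rw [e]
    nlinarith [Nat.zero_le (n * n)]

/-- `q ^ p = 1 + v (q - 1)` makes `v - 1` larger than `p ^ 2 q`. -/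
private theorem v_bound {p q v : ℕ} (hq : 3 ≤ q) (hp : 5 ≤ p) (h : v * (q - 1) = q ^ p - 1) :
    31 * (p ^ 2 * q) + 30 ≤ 30 * v := by
  obtain ⟨n, rfl⟩ : ∃ n, p = n + 5 := ⟨p - 5, by omega⟩
  have hb := three_pow_bound n
  have h3 : 3 ^ (n + 2) ≤ q ^ (n + 2) := Nat.pow_le_pow_left hq _
  set b := q ^ (n + 2) with hbdef
  have hb0 : 1 ≤ b := Nat.one_le_pow _ _ (by omega)
  have hp' : q ^ (n + 5) = q * q * (q * b) := by rw [hbdef]; ring
  rw [hp'] at h
  have hv : q * (q * b) + q * b + 1 ≤ v := by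
    by_contra hlt
    have hle : v ≤ q * (q * b) + q * b := by omega
    have h1 := Nat.mul_le_mul_right (q - 1) hle
    rw [h] at h1
    have h2 : (q * (q * b) + q * b) * (q - 1) + q * b = q * q * (q * b) := by
      obtain ⟨r, rfl⟩ : ∃ r, q = r + 1 := ⟨q - 1, by omega⟩
      simp only [Nat.add_sub_cancel]
      ring
    have h4 : 3 ≤ q * b := le_trans hq (Nat.le_mul_of_pos_right _ (by omega))
    have h5 : 1 ≤ q * q * (q * b) := Nat.one_le_iff_ne_zero.2 (by positivity)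
    omega
  have h6 : 31 * (n + 5) ^ 2 ≤ 30 * ((q + 1) * b) := by
    refine hb.trans ?_
    calc 120 * 3 ^ (n + 2) = 30 * (4 * 3 ^ (n + 2)) := by ring
      _ ≤ 30 * ((q + 1) * b) := Nat.mul_le_mul_left _ (Nat.mul_le_mul (by omega) h3)
  have h7 := Nat.mul_le_mul_right q h6
  nlinarith

private theorem u_bound {p q u : ℕ} (hq : 3 ≤ q) (hp : 5 ≤ p) (h : u * (p - 1) = p ^ q - 1) :
    p ^ 2 + p + 1 ≤ u := by
  have h1 : p ^ 3 ≤ p ^ q := Nat.pow_le_pow_right (by omega) hq
  have h2 : (p ^ 2 + p + 1) * (p - 1) + 1 = p ^ 3 := by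
    obtain ⟨r, rfl⟩ : ∃ r, p = r + 1 := ⟨p - 1, by omega⟩
    simp only [Nat.add_sub_cancel]
    ring
  refine Nat.le_of_mul_le_mul_right ?_ (show 0 < p - 1 by omega)
  omega

variable {G : Type u} [Group G] [Finite G] (hG : Cfsg.IsMinSimpleOddOrder G)
  {S T W₁ W₂ U V L : Subgroup G}
include hG

theorem normalizer_three (hpd : PairData S T W₁ W₂ U V) (hcs : CoreSide T W₂ V W₁)
    (hS : Side S W₁ U W₂) (hT : Side T W₂ V W₁)
    (hS' : SideFull S W₁ U W₂) (hT' : SideFull T W₂ V W₁)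
    (hS0 : fixCore S U = ⊥) (hT0 : fixCore T V = ⊥) (hlt : Nat.card W₁ < Nat.card W₂)
    (hL : LData S T W₁ W₂ U L) :
    ∃ y ∈ Cfsg.fittingHallOf T, W₂.map (MulAut.conj y).toMonoidHom ≤ normalizer (U : Set G) := by
  classical
  clear hpd hS0 hT0
  haveI : Fintype G := Fintype.ofFinite G
  haveI : Fintype T := Fintype.ofFinite T
  haveI : Fintype L := Fintype.ofFinite L
  set q := Nat.card W₁ with hq
  set p := Nat.card W₂ with hp
  set e := (Cfsg.sigmaCore L).relIndex L with he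
  set k := Nat.card (Cfsg.sigmaCore L) with hk
  -- arithmetic data
  have hqodd : Odd q := hG.1.of_dvd_nat (card_subgroup_dvd_card _)
  have hpodd : Odd p := hG.1.of_dvd_nat (card_subgroup_dvd_card _)
  have hq3 : 3 ≤ q := by
    obtain ⟨r, hr⟩ := hqodd
    have := hS.q_prime.two_le
    omega
  have hp5 : 5 ≤ p := by
    obtain ⟨r, hr⟩ := hpodd
    obtain ⟨s, hs⟩ := hqodd
    omega
  have hu := u_bound hq3 hp5 hS'.card
  have hv := v_bound hq3 hp5 hT'.card
  have hUk : Nat.card U ≤ k := Nat.le_of_dvd Nat.card_pos (card_dvd_of_le hL.U_le)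
  have he0 : 0 < e := by
    rcases hL.index with h | h <;> rw [he, h] <;> positivity
  -- the family of `T`
  obtain ⟨f, hf⟩ := exists_linMap hG hcs
  obtain ⟨hlin, hcard, -, hm2, -⟩ := linChars_facts hG hcs
  obtain ⟨ζ, hζ⟩ := linChars_nonempty hG hcs
  have heT : (Cfsg.sigmaCore T).relIndex T = p := by
    rw [hcs.core_eq]; exact hcs.index_derIn hG
  have hFT : CoreFamily T (linChars T) f ζ :=
    { sub := by
        rintro _ ⟨θ, hθ, hne, -, rfl⟩
        rw [coreChars, hcs.core_eq]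
        exact ⟨θ, hθ, hne, fun a ha => by rw [show a = 1 from Subtype.ext (mem_bot.1 ha)], rfl⟩
      irr := fun ξ hξ => (hlin ξ hξ).1
      conjMem := fun ξ hξ => OddChar.Above.above_conj _ _ hξ
      mem := hζ
      deg := by rw [(hlin ζ hζ).2, heT]
      iso := hf.1
      agree := hf.2 }
  have hdegT : ∀ ξ ∈ linChars T, ξ 1 = ζ 1 := fun ξ hξ => by rw [(hlin ξ hξ).2, (hlin ζ hζ).2]
  set m := Nat.card ↥(linChars T) with hm
  have hmv : Nat.card V ≤ m * p + 1 := by
    rw [hcard]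
    have hle : ⁅⁅T, T⁆, ⁅T, T⁆⁆ ≤ Cfsg.fittingHallOf T := by
      have h := hT.typeP.derived_two_le
      rwa [hT.typeP.fitting_eq, hT.fitting_eq, hT'.ker_bot, sup_bot_eq] at h
    have hne : 0 < ⁅⁅T, T⁆, ⁅T, T⁆⁆.relIndex ⁅T, T⁆ :=
      Nat.pos_of_dvd_of_pos (relIndex_dvd_card _ _) Nat.card_pos
    refine Nat.le_of_dvd hne ?_
    obtain ⟨h1, h2, h3, h4⟩ := hT.typeP.U_compl
    rw [card_eq_relIndex_of_isComplIn (A := V) (B := Cfsg.fittingHallOf T) (X := ⁅T, T⁆)
      ⟨h2, h1, by rwa [inf_comm], fun x hx => by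
        obtain ⟨a, ha, b, hb, hab⟩ := h4 x⁻¹ (inv_mem hx)
        exact ⟨b⁻¹, inv_mem hb, a⁻¹, inv_mem ha, by rw [← mul_inv_rev, ← hab, inv_inv]⟩⟩]
    exact relIndex_dvd_of_le_left _ hle
  -- the family of `L`
  obtain ⟨hirrL, -, g, hg, hag⟩ := coherent hG hL.isF hL.frob
  obtain ⟨-, η, -, hη, -, hη1, -⟩ := exists_probe hG hL.isF hL.frob
  have hFL : CoreFamily L (coreChars L) g η :=
    { sub := subset_refl _
      irr := hirrL
      conjMem := fun ξ hξ => OddChar.Above.above_conj _ _ hξ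
      mem := hη
      deg := hη1
      iso := hg
      agree := fun α hα => by
        rw [hag α hα, tau, tauCore, supFull_eq_coreSet hG hL.isF hL.frob] }
  have hTc := hcs.coatom
  have hLc := hL.isF.coatom
  have horth : ∀ ξ ∈ linChars T, ∀ χ ∈ coreChars L, Cfsg.classInner (f ξ) (g χ) = 0 :=
    fun ξ hξ χ hχ => hFT.orth hG hTc hLc hL.notConjT hFL hξ hχ
  obtain ⟨hψg, hψs, -⟩ := hFT.signed hG hζ
  obtain ⟨bL, -, hbL⟩ := hFL.rho_const hG hLc subset_rfl hψg fun χ hχ => by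
    rw [← Char.classInner_conj_symm, horth ζ hζ χ hχ, map_zero]
  have hkL : Nat.card L = e * k := by
    rw [he, hk, mul_comm]
    have hle : Cfsg.sigmaCore L ≤ L := piCoreOf_le _ _
    rw [← Nat.card_congr (subgroupOfEquivOfLe hle).toEquiv]
    exact (card_mul_index ((Cfsg.sigmaCore L).subgroupOf L)).symm
  have hk31 : 31 ≤ k := by nlinarith
  rcases eq_or_ne bL 0 with rfl | hb0
  swap
  · -- `b ≠ 0`
    exfalso
    have h1 := norm_lt hG hTc hLc hL.notConjT hψs
    have h2 := hFT.norm_rho_ge hG hTc hdegT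
    set A : Finset L := Finset.univ.filter fun x : L => (x : G) ∈ Cfsg.sigmaCore L with hA
    have hset : {x : L | (x : G) ∈ coreSet L} = ↑(A.erase 1) := by
      ext x
      simp [hA, coreSet]
    have hAc : A.card = k := by
      rw [hk, hA, ← Fintype.card_subtype, ← Nat.card_eq_fintype_card]
      exact Nat.card_congr ((Equiv.subtypeSubtypeEquivSubtype fun {x} hx =>
        piCoreOf_le (Cfsg.sigma L) L hx))
    have h3 : ∑ᶠ a ∈ {a : L | (a : G) ∈ coreSet L}, ‖rho L (f ζ) a‖ ^ 2 =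
        ((k : ℝ) - 1) * (bL : ℝ) ^ 2 := by
      rw [hset, finsum_mem_coe_finset, Finset.sum_congr rfl (g := fun _ => (bL : ℝ) ^ 2) ?_,
        Finset.sum_const, Finset.card_erase_of_mem (by simp [hA, one_mem]), hAc, nsmul_eq_mul,
        Nat.cast_sub (by omega), Nat.cast_one]
      intro a ha
      have ha' : (a : G) ∈ coreSet L := by
        have := Finset.mem_coe.2 ha
        rwa [← hset] at this
      rw [hbL a ha', Complex.norm_intCast, sq_abs]
    rw [h3, hkL, Nat.cast_mul] at h1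
    have hb1 : (1 : ℝ) ≤ (bL : ℝ) ^ 2 := by
      exact_mod_cast (one_le_sq_iff_one_le_abs bL).2 (Int.one_le_abs hb0)
    have hk0 : (0 : ℝ) < k := by exact_mod_cast (by omega : 0 < k)
    have he0' : (0 : ℝ) < e := by exact_mod_cast he0
    have hm0 : (0 : ℝ) < m := by exact_mod_cast (by omega : 0 < m)
    have hk1 : (1 : ℝ) ≤ k := by exact_mod_cast (by omega : 1 ≤ k)
    have h4 : ((e : ℝ) * k)⁻¹ * ((k : ℝ) - 1) < (m : ℝ)⁻¹ := by
      have : ((e : ℝ) * k)⁻¹ * ((k : ℝ) - 1) ≤ ((e : ℝ) * k)⁻¹ * (((k : ℝ) - 1) * (bL : ℝ) ^ 2) :=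
        mul_le_mul_of_nonneg_left (le_mul_of_one_le_right (by linarith) hb1) (by positivity)
      linarith
    have h5 : ((k : ℝ) - 1) * m < e * k := by
      have := mul_lt_mul_of_pos_left h4 (by positivity : (0 : ℝ) < e * k * m)
      field_simp at this
      linarith
    have h6 : (k - 1) * m < e * k := by
      have : (((k - 1) * m : ℕ) : ℝ) < ((e * k : ℕ) : ℝ) := by
        push_cast [Nat.cast_sub (show 1 ≤ k by omega)]
        exact h5
      exact_mod_cast this
    have hepq : e ≤ p * q := by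
      rcases hL.index with h | h <;> rw [he, h]
      · exact Nat.le_mul_of_pos_left _ (by omega)
      · rw [mul_comm]
    obtain ⟨j, hj⟩ : ∃ j, k = j + 31 := ⟨k - 31, by omega⟩
    rw [hj, show j + 31 - 1 = j + 30 by omega] at h6
    have h7 : (j + 30) * m < p * q * (j + 31) :=
      h6.trans_le (Nat.mul_le_mul_right _ hepq)
    have h8 : 30 * m < 31 * (p * q) := by
      by_contra hc
      rw [not_lt] at hc
      nlinarith [Nat.mul_le_mul_left (j + 30) hc]
    nlinarith [Nat.mul_lt_mul_of_lt_of_le h8 (le_refl p) (by omega : 0 < p)]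
  -- `b = 0`
  obtain ⟨hΓg, hΓr, hΓ1, b, hΓf, hΓΓ⟩ := hFT.gamma_facts hG hTc
  set Γ := gammaCore T f ζ with hΓ
  have hΓc := Char.IsGeneralizedCharacter.isClassFunction hΓg
  have hρΓ : ∀ x ∈ coreSet L, rho L Γ x = -1 := fun x hx => by
    rw [hΓ, gammaCore, rho_add_const, rho_tauCore hG hTc hLc hL.notConjT _ hx, hbL x hx,
      Int.cast_zero, zero_sub, add_zero]
  have hpair : ∀ α : ↥L → ℂ, Cfsg.IsClassFunction L α →
      (∀ x : L, (x : G) ∉ coreSet L → α x = 0) →
      Cfsg.classInner α (fun a : L => rho L Γ a) = -Cfsg.classInner α (fun _ => 1) := by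
    intro α _ hα
    rw [classInner_congr_supp (A := {x : L | (x : G) ∈ coreSet L}) hα
      (f' := -fun _ => (1 : ℂ)) (fun x hx => by simp [hρΓ (x : G) hx]), Char.classInner_neg_right]
  obtain ⟨hαg, hαc, hαA⟩ := hFL.sub_mem hG
  obtain ⟨-, -, -, -, he11, -, he1χ⟩ := coreOne_facts (M := L)
  have hβΓ : Cfsg.classInner (tauCore L (coreOne L - η)) Γ = -1 := by
    rw [inner_tauCore hG hLc hαc hαA hΓc, hpair _ hαc hαA, Char.classInner_sub_left, he11,
      (he1χ η hη).2.2, sub_zero]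
  obtain ⟨hΔg, hΔr, hΔ1, -⟩ := hFL.gamma_facts hG hLc
  obtain ⟨n, hn⟩ := real_inner_parity hG.1 hΔg hΓg hΔr hΓr
  rw [hΔ1, zero_mul, zero_add, gammaCore, Char.classInner_add_left, Char.classInner_sub_left,
    hβΓ] at hn
  have h1Γ : Cfsg.classInner (fun _ : G => (1 : ℂ)) Γ = 0 := by
    rw [← Char.classInner_conj_symm, hΓ1, map_zero]
  rw [h1Γ, sub_zero] at hn
  set z : ℤ := 2 * n + 1 with hz
  have hφΓ : Cfsg.classInner (g η) Γ = (z : ℂ) := by
    rw [hz]; push_cast; linear_combination hn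
  have hcoef : ∀ χ ∈ coreChars L,
      Cfsg.classInner Γ (g χ) = ((((χ 1).re / (e : ℝ)) * (z : ℝ) : ℝ) : ℂ) := by
    intro χ hχ
    obtain ⟨θ, hθ, -, -, hθe⟩ := id hχ
    obtain ⟨d, -, hd⟩ := Char.IsIrrCharacter.exists_degree hθ
    have hd' : χ 1 = (d : ℂ) * η 1 := by
      rw [hθe, Char.indFun_apply_one, hd, hη1, mul_comm]
      rfl
    have h1 := hFL.diff_inner hG hLc hχ hd' hΓc
    have hmem : χ - (d : ℂ) • η ∈ Cfsg.zspan (coreChars L) := by
      rw [OddChar.Coh.natCast_smul_eq]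
      exact Submodule.sub_mem _ (OddChar.mem_zspan_self hχ)
        (Submodule.smul_mem _ _ (OddChar.mem_zspan_self hη))
    obtain ⟨-, hc', hA'⟩ := core_supported hG hmem (by simp [hd'])
    rw [hpair _ hc' hA', Char.classInner_sub_left, Char.classInner_smul_left,
      (he1χ χ hχ).2.2, (he1χ η hη).2.2, mul_zero, sub_zero, neg_zero, sub_eq_zero, hφΓ] at h1
    have hre : (χ 1).re / (e : ℝ) = d := by
      rw [hd', hη1, ← Nat.cast_mul, Complex.natCast_re, Nat.cast_mul, ← he]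
      rw [mul_div_assoc, div_self (by exact_mod_cast he0.ne'), mul_one]
    rw [← Char.classInner_conj_symm, h1, hre]
    simp
  -- Bessel
  set ιT := Finset.univ.filter (fun χ : Cfsg.IrrCharacter T => (χ : ↥T → ℂ) ∈ linChars T) with hιT
  set ιL := Finset.univ.filter (fun χ : Cfsg.IrrCharacter L => (χ : ↥L → ℂ) ∈ coreChars L) with hιL
  have hmT : ιT.card = m := by
    rw [hm, hιT, ← Fintype.card_subtype, ← Nat.card_eq_fintype_card]
    exact Nat.card_congr
      { toFun := fun χ => ⟨χ.1.1, χ.2⟩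
        invFun := fun ξ => ⟨⟨ξ.1, (hlin ξ.1 ξ.2).1⟩, ξ.2⟩
        left_inv := fun _ => rfl
        right_inv := fun _ => rfl }
  have hbessel := (OddChar.Coh.bessel (ιT.disjSum ιL)
    (Sum.elim (fun χ : Cfsg.IrrCharacter T => f χ) (fun χ : Cfsg.IrrCharacter L => g χ)) Γ
    (by
      rintro (i | i) hi (j | j) hj hne <;>
        simp only [Finset.inl_mem_disjSum, Finset.inr_mem_disjSum, hιT, hιL, Finset.mem_filter,
          Finset.mem_univ, true_and] at hi hj <;> simp only [Sum.elim_inl, Sum.elim_inr]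
      · rw [hf.1.2.2.1 _ (OddChar.mem_zspan_self hi) _ (OddChar.mem_zspan_self hj),
          Char.classInner_irr_of_ne i.2 j.2 fun h => hne (congrArg Sum.inl (Subtype.ext h))]
      · exact horth _ hi _ hj
      · rw [← Char.classInner_conj_symm, horth _ hj _ hi, map_zero]
      · rw [hg.2.2.1 _ (OddChar.mem_zspan_self hi) _ (OddChar.mem_zspan_self hj),
          Char.classInner_irr_of_ne i.2 j.2 fun h => hne (congrArg Sum.inr (Subtype.ext h))])
    (fun _ => 1)
    (Sum.elim (fun _ => (b : ℝ)) (fun χ => (((χ : ↥L → ℂ) 1).re / (e : ℝ)) * (z : ℝ)))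
    (by
      rintro (i | i) hi <;>
        simp only [Finset.inl_mem_disjSum, Finset.inr_mem_disjSum, hιT, hιL, Finset.mem_filter,
          Finset.mem_univ, true_and] at hi <;> simp only [Sum.elim_inl, Sum.elim_inr]
      · rw [(hFT.signed hG hi).2.2, Complex.ofReal_one]
      · rw [(hFL.signed hG hi).2.2, Complex.ofReal_one])
    (fun _ _ => zero_lt_one)
    (by
      rintro (i | i) hi <;>
        simp only [Finset.inl_mem_disjSum, Finset.inr_mem_disjSum, hιT, hιL, Finset.mem_filter,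
          Finset.mem_univ, true_and] at hi <;> simp only [Sum.elim_inl, Sum.elim_inr]
      · rw [hΓf _ hi (hdegT _ hi), Complex.ofReal_intCast]
      · exact hcoef _ hi)).1
  rw [Finset.sum_disjSum, hΓΓ, heT] at hbessel
  simp only [Sum.elim_inl, Sum.elim_inr, div_one, Finset.sum_const, nsmul_eq_mul, mul_pow,
    div_pow, ← Finset.sum_mul, ← Finset.sum_div, hmT, Complex.add_re, Complex.sub_re,
    Complex.natCast_re, Complex.one_re, Complex.mul_re, Complex.re_ofNat, Complex.im_ofNat,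
    Complex.intCast_re, Complex.intCast_im, mul_zero, sub_zero] at hbessel
  have hsum : ∑ χ ∈ ιL, ((χ : ↥L → ℂ) 1).re ^ 2 = (Nat.card L : ℝ) - e := by
    have h := congrArg Complex.re (sum_sq_coreChars (M := L) hG hirrL)
    rw [finsum_mem_eq_toFinset_sum, Set.toFinset_ofPred, Complex.re_sum, Complex.sub_re,
      Complex.natCast_re, Complex.natCast_re] at h
    rw [← h, hιL]
    refine Finset.sum_congr rfl fun χ _ => ?_
    obtain ⟨d, -, hd⟩ := Char.IsIrrCharacter.exists_degree χ.2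
    rw [hd, Complex.natCast_re,
      show ((d : ℂ) ^ 2).re = (d : ℝ) ^ 2 by rw [← Nat.cast_pow, Complex.natCast_re, Nat.cast_pow]]
  rw [hsum, hkL, Nat.cast_mul] at hbessel
  have he0' : (0 : ℝ) < e := by exact_mod_cast he0
  have hdiv : (((e : ℝ) * k - e) / (e : ℝ) ^ 2) = ((k : ℝ) - 1) / e := by
    field_simp
  rw [hdiv] at hbessel
  have hz2 : (1 : ℝ) ≤ (z : ℝ) ^ 2 := by
    exact_mod_cast (one_le_sq_iff_one_le_abs z).2 (Int.one_le_abs (by omega))
  have hb2 : (2 : ℝ) * b ≤ m * (b : ℝ) ^ 2 := by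
    have h1 : (b : ℝ) ≤ (b : ℝ) ^ 2 := by exact_mod_cast Int.le_self_sq b
    have h2 : (2 : ℝ) ≤ m := by exact_mod_cast hm2
    nlinarith [sq_nonneg (b : ℝ)]
  have hk1 : (1 : ℝ) ≤ k := by exact_mod_cast (by omega : 1 ≤ k)
  have hmain : ((k : ℝ) - 1) / e ≤ (p : ℝ) - 1 := by
    have h1 : ((k : ℝ) - 1) / e ≤ ((k : ℝ) - 1) / e * (z : ℝ) ^ 2 :=
      le_mul_of_one_le_right (div_nonneg (by linarith) he0'.le) hz2
    linarith
  have hnat : k ≤ (p - 1) * e + 1 := by
    rw [div_le_iff₀ he0'] at hmain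
    have : ((k : ℕ) : ℝ) ≤ (((p - 1) * e + 1 : ℕ) : ℝ) := by
      push_cast [Nat.cast_sub (show 1 ≤ p by omega)]
      linarith
    exact_mod_cast this
  obtain ⟨p', hp'⟩ : ∃ p', p = p' + 1 := ⟨p - 1, by omega⟩
  rw [show p - 1 = p' by omega] at hnat
  have hbig : e = q * p := by
    rcases hL.index with h | h
    · exfalso
      rw [he, h, ← hq] at hnat
      have h1 : p' * q ≤ p * p := Nat.mul_le_mul (by omega) (by omega)
      rw [sq] at hu
      omega
    · exact h
  have hKU : Cfsg.sigmaCore L = U := by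
    by_contra hne
    have h := hL.proper hne
    rw [← he, ← hk, hbig] at h
    rw [hbig] at hnat
    have h1 := Nat.mul_le_mul_left (2 * (q * p) + 1) hu
    have h2 : (2 * (q * p) + 1) * (p' + 2) ≤ (2 * (q * p) + 1) * (p ^ 2 + p + 1) :=
      Nat.mul_le_mul_left _ (by omega)
    have h3 : (2 * (q * p) + 1) * (p' + 2) = 2 * (p' * (q * p)) + 4 * (q * p) + p' + 2 := by ring
    linarith [Nat.zero_le (p' * (q * p)), Nat.zero_le (q * p), Nat.zero_le p']
  obtain ⟨y, hy, hyL⟩ := hL.large_index hbig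
  exact ⟨y, hy, hyL.trans (hKU ▸ le_normalizer_piCoreOf (Cfsg.sigma L) L)⟩

end CfsgLib.FT
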