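import Cfsg.Agent.Lib.FT.Support
import Cfsg.Agent.Lib.Char.RealOdd
import Cfsg.Agent.Lib.OddChar.FrobCoherent
import Cfsg.Agent.Lib.OddChar.FeitSibley
import Cfsg.Agent.Lib.OddChar.MaxDade
import Cfsg.Agent.Lib.OddOrder.KappaStructure
import Cfsg.Agent.Lib.OddOrder.Section15Cases
import Cfsg.Agent.Lib.Frobenius.ComplementSylow
import Cfsg.Agent.S1500
import Cfsg.Agent.S1501
import Cfsg.Agent.Lib.OddOrder.FittingTIDichotomy

/-!
FT module Probe: a Frobenius `M` of type F (PF 12.6 = S1542, and the formula for `ρ ψ`).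

* `coherent`: `Frob.feit_theorem` leaves a nonabelian `p`-group `H` with `|H : H'| ≤ 4e² + 1`.
  If all centralisers of `H#` lie in `M` then `H` is TI and the Dade map is induction (Sibley).
  Otherwise BG 15.7 gives `exp(M/H) = e ∣ p - 1`, whence `4e² + 1 < p² ≤ |H : H'|`.
* `exists_probe`: `ψ := τ₁ ζ` for linear-induced `ζ` of degree `e`; `ρ ψ` on `H#` is found by
  testing against the functions `Ind θ - θ(1) Ind 1`, which span the class functions on `H#`.
-/

set_option autoImplicit false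
set_option linter.style.haveILetI false

open ComplexConjugate
open scoped commutatorElement

namespace CfsgLib.FT

open Subgroup

universe u

/-- Pure arithmetic: a divisor `e` of `p - 1` with `e`, `p` odd has `4e² + 1 < p²`. -/
theorem sq_bound_of_dvd_sub_one {e p : ℕ} (hp : p.Prime) (hpo : Odd p) (heo : Odd e)
    (h : e ∣ p - 1) : 4 * e ^ 2 + 1 < p ^ 2 := by
  obtain ⟨k, hk⟩ := h
  obtain ⟨a, rfl⟩ := hpo
  obtain ⟨b, rfl⟩ := heo
  have ha : 1 ≤ a := by have := hp.two_le; omega
  have hk' : 2 ≤ k := by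
    rcases k with - | - | k
    · omega
    · omega
    · omega
  have h2 : (2 * b + 1) * 2 ≤ 2 * a := by
    have := Nat.mul_le_mul_left (2 * b + 1) hk'
    omega
  nlinarith

/-- Functions on `M` supported in `A`: the inner product only sees the values on `A`. -/
theorem classInner_congr_supp {L : Type*} [Group L] [Fintype L] {A : Set L} {α f f' : L → ℂ}
    (hα : ∀ x ∉ A, α x = 0) (h : ∀ x ∈ A, f x = f' x) :
    Cfsg.classInner α f = Cfsg.classInner α f' := by
  unfold Cfsg.classInner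
  congr 1
  refine Finset.sum_congr rfl fun x _ => ?_
  by_cases hx : x ∈ A
  · rw [h x hx]
  · rw [hα x hx, zero_mul, zero_mul]

theorem map_sub_of_add {L G : Type*} {E : Set (L → ℂ)} {τ : (L → ℂ) → (G → ℂ)}
    (h : ∀ α ∈ E, ∀ β ∈ E, τ (α + β) = τ α + τ β) {α β : L → ℂ} (hα : α - β ∈ E) (hβ : β ∈ E) :
    τ (α - β) = τ α - τ β := by
  have := h _ hα _ hβ
  rw [sub_add_cancel] at this
  rw [this, add_sub_cancel_right]

variable {G : Type u} [Group G] {M : Subgroup G}

theorem tau_add (α β : ↥M → ℂ) : tau M (α + β) = tau M α + tau M β := by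
  funext g
  simp only [tau, Cfsg.dadeIsometry, Pi.add_apply]
  split_ifs <;> simp

theorem tau_smul (c : ℂ) (α : ↥M → ℂ) : tau M (c • α) = c • tau M α := by
  funext g
  simp only [tau, Cfsg.dadeIsometry, Pi.smul_apply]
  split_ifs <;> simp

theorem tau_sub (α β : ↥M → ℂ) : tau M (α - β) = tau M α - tau M β := by
  funext g
  simp only [tau, Cfsg.dadeIsometry, Pi.sub_apply]
  split_ifs <;> simp

theorem tau_zsmul (n : ℤ) (α : ↥M → ℂ) : tau M (n • α) = n • tau M α := by
  rw [← OddChar.Coh.intCast_smul_eq, tau_smul, OddChar.Coh.intCast_smul_eq]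

theorem tau_conj (α : ↥M → ℂ) : tau M (Cfsg.conjFun α) = Cfsg.conjFun (tau M α) := by
  funext g
  simp only [tau, Cfsg.dadeIsometry, Cfsg.conjFun]
  split_ifs <;> simp

variable [Fintype G] (hG : Cfsg.IsMinSimpleOddOrder G) [Fintype M]
include hG

omit hG [Fintype M] [Fintype G] in
/-- The Frobenius condition inside `M`. -/
theorem frob_centralizer (hfr : IsFrob M) :
    ∀ h ∈ (Cfsg.sigmaCore M).subgroupOf M, h ≠ 1 →
      centralizer ({h} : Set M) ≤ (Cfsg.sigmaCore M).subgroupOf M := by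
  intro h hh h1 x hx
  refine mem_subgroupOf.2 (hfr h (mem_subgroupOf.1 hh) (fun e => h1 (Subtype.ext e)) ⟨x.2, ?_⟩)
  exact mem_centralizer_singleton_iff.2 (congrArg Subtype.val (mem_centralizer_singleton_iff.1 hx))

omit hG [Fintype M] [Fintype G] in
theorem core_normal : ((Cfsg.sigmaCore M).subgroupOf M).Normal := by
  rw [Cfsg.sigmaCore, subgroupOf, comap_map_eq_self_of_injective M.subtype_injective]
  infer_instance

omit [Fintype M] in
theorem core_proper (hM : IsFType M) :
    (Cfsg.sigmaCore M).subgroupOf M ≠ ⊥ ∧ (Cfsg.sigmaCore M).subgroupOf M ≠ ⊤ ∧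
      Group.IsNilpotent ((Cfsg.sigmaCore M).subgroupOf M) ∧
      Nat.card ((Cfsg.sigmaCore M).subgroupOf M) = Nat.card (Cfsg.sigmaCore M) := by
  obtain ⟨hnil, hne, hlt, -⟩ := core_facts hG hM
  haveI := hnil
  refine ⟨fun h => hne ?_, fun h => hlt.not_ge (subgroupOf_eq_top.1 h),
    (Group.isNilpotent_congr (subgroupOfEquivOfLe hlt.le)).2 hnil,
    Nat.card_congr (subgroupOfEquivOfLe hlt.le).toEquiv⟩
  rw [eq_bot_iff]
  intro x hx
  have h2 : (⟨x, hlt.le hx⟩ : M) ∈ (Cfsg.sigmaCore M).subgroupOf M := mem_subgroupOf.2 hx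
  rw [h, mem_bot] at h2
  exact mem_bot.2 (congrArg Subtype.val h2)

omit [Fintype M] in
theorem mem_supFull_iff (hM : IsFType M) (hfr : IsFrob M) (x : M) :
    (x : G) ∈ supFull M ↔ x ∈ (Cfsg.sigmaCore M).subgroupOf M ∧ x ≠ 1 := by
  rw [supFull_eq_coreSet hG hM hfr]
  simp [coreSet, mem_subgroupOf]

omit hG [Fintype G] in
/-- Integer combinations of `coreChars`. -/
theorem span_coreChars {α : ↥M → ℂ} (hα : α ∈ Cfsg.zspan (coreChars M)) :
    Cfsg.IsGeneralizedCharacter M α ∧ Cfsg.IsClassFunction M α ∧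
      ∀ x : M, x ∉ (Cfsg.sigmaCore M).subgroupOf M → α x = 0 := by
  classical
  haveI := core_normal (M := M)
  induction hα using Submodule.span_induction with
  | mem φ hφ =>
    obtain ⟨θ, hθ, -, -, rfl⟩ := hφ
    have hc := Char.IsCharacter.indFun ((Cfsg.sigmaCore M).subgroupOf M)
      (Char.IsIrrCharacter.isCharacter hθ)
    exact ⟨Char.IsCharacter.isGeneralizedCharacter hc, Char.isClassFunction_indFun _ _,
      fun x hx => Char.indFun_eq_zero_of_normal _ _ hx⟩
  | zero => exact ⟨Char.IsGeneralizedCharacter.zero, fun _ _ => rfl, fun _ _ => rfl⟩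
  | add a b _ _ ha hb =>
    exact ⟨Char.IsGeneralizedCharacter.add ha.1 hb.1,
      fun x y => by simp only [Pi.add_apply]; rw [ha.2.1 x y, hb.2.1 x y],
      fun x hx => by simp [ha.2.2 x hx, hb.2.2 x hx]⟩
  | smul n a _ ha =>
    refine ⟨?_, fun x y => by simp only [Pi.smul_apply]; rw [ha.2.1 x y],
      fun x hx => by simp [ha.2.2 x hx]⟩
    induction n using Int.induction_on with
    | zero => simpa using Char.IsGeneralizedCharacter.zero
    | succ i hi => rw [add_smul, one_smul]; exact Char.IsGeneralizedCharacter.add hi ha.1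
    | pred i hi => rw [sub_smul, one_smul]; exact Char.IsGeneralizedCharacter.sub hi ha.1

theorem zero_off_supFull (hM : IsFType M) (hfr : IsFrob M) {α : ↥M → ℂ}
    (hα : α ∈ Cfsg.zspanOn (coreChars M) {1}ᶜ) : ∀ x : M, (x : G) ∉ supFull M → α x = 0 := by
  intro x hx
  rw [mem_supFull_iff hG hM hfr] at hx
  by_cases h1 : x = 1
  · exact hα.2 x (by simp [h1])
  · exact (span_coreChars hα.1).2.2 x fun h => hx ⟨h, h1⟩

theorem tau_isometry (hM : IsFType M) (hfr : IsFrob M) :
    Cfsg.IsLinearIsometryOn (Cfsg.zspanOn (coreChars M) {1}ᶜ) (tau M) ∧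
      ∀ α ∈ Cfsg.zspanOn (coreChars M) {1}ᶜ, tau M α 1 = 0 := by
  classical
  have hD := dade_full hG hM
  refine ⟨⟨fun α _ β _ => tau_add α β, fun α _ n => tau_zsmul n α, fun α hα β hβ => ?_,
    fun α hα => ?_⟩, fun α hα => ?_⟩
  · exact (Cfsg.Agent.S1500.result (supFull M) M (Cfsg.supportR M) hD α
      (span_coreChars hα.1).2.1 (zero_off_supFull hG hM hfr hα)).1 β
      (span_coreChars hβ.1).2.1 (zero_off_supFull hG hM hfr hβ)
  · exact Cfsg.Agent.S1501.result (supFull M) M (Cfsg.supportR M) hD α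
      (span_coreChars hα.1).1 (zero_off_supFull hG hM hfr hα)
  · refine OddChar.dadeIsometry_eq_zero ?_
    rintro ⟨a, ha, u, hu, x, e⟩
    rw [mul_one, mul_inv_cancel] at e
    have hua : u = a⁻¹ := eq_inv_of_mul_eq_one_right e.symm
    have hmem : u ∈ Cfsg.supportR M a ⊓ (M ⊓ centralizer ({a} : Set G)) :=
      ⟨hu, by
        rw [hua]
        exact Subgroup.inv_mem _ (mem_inf.2 ⟨hD.subset ha, mem_centralizer_singleton_iff.2 rfl⟩)⟩
    rw [hD.inf_eq_bot a ha, mem_bot] at hmem
    rw [hmem] at hua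
    exact hD.one_not_mem (by rwa [inv_eq_one.1 hua.symm] at ha)

/-- If every centraliser of the core lies in `M`, the core is TI and `τ` is induction. -/
theorem coherent_of_TI (hM : IsFType M) (hfr : IsFrob M)
    (hcen : ∀ x ∈ Cfsg.sigmaCore M, x ≠ 1 → centralizer ({x} : Set G) ≤ M) :
    Cfsg.IsCoherent (coreChars M) {1}ᶜ (tau M) := by
  classical
  obtain ⟨hnil, hne, hlt, -⟩ := core_facts hG hM
  haveI hn := core_normal (M := M)
  set H := Cfsg.sigmaCore M with hH
  have hD := dade_full hG hM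
  have hA : supFull M = coreSet M := supFull_eq_coreSet hG hM hfr
  have hN : normalizer (H : Set G) = M := by
    refine le_antisymm ?_ ?_
    · intro g hg
      obtain ⟨⟨h, hh⟩, h1⟩ := H.ne_bot_iff_exists_ne_one.1 hne
      have h1' : h ≠ 1 := fun e => h1 (Subtype.ext e)
      have ha : h ∈ supFull M := hA ▸ ⟨hh, h1'⟩
      have ha' : g * h * g⁻¹ ∈ supFull M := hA ▸
        ⟨(mem_set_normalizer_iff.1 hg h).1 hh, fun e => h1' (conj_eq_one_iff.1 e)⟩
      obtain ⟨m, hm, e⟩ := hD.fusion h ha g ha'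
      have hc : m⁻¹ * g ∈ centralizer ({h} : Set G) := by
        rw [mem_centralizer_singleton_iff]
        calc m⁻¹ * g * h = m⁻¹ * (g * h * g⁻¹) * g := by group
          _ = h * (m⁻¹ * g) := by rw [← e]; group
      simpa using M.mul_mem hm (hcen h hh h1' hc)
    · rw [← normal_subgroupOf_iff_le_normalizer hlt.le]
      exact hn
  have hTI : Cfsg.IsTISubset (H : Set G) := by
    intro g hg x hx hgx
    by_contra h1
    have ha : x ∈ supFull M := hA ▸ ⟨hx, h1⟩
    have ha' : g * x * g⁻¹ ∈ supFull M := hA ▸ ⟨hgx, fun e => h1 (conj_eq_one_iff.1 e)⟩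
    obtain ⟨m, hm, e⟩ := hD.fusion x ha g ha'
    have hc : m⁻¹ * g ∈ centralizer ({x} : Set G) := by
      rw [mem_centralizer_singleton_iff]
      calc m⁻¹ * g * x = m⁻¹ * (g * x * g⁻¹) * g := by group
        _ = x * (m⁻¹ * g) := by rw [← e]; group
    rw [hN] at hg
    exact hg (by simpa using M.mul_mem hm (hcen x hx h1 hc))
  have hC : ∀ k ∈ H, k ≠ 1 → centralizer ({k} : Set G) ≤ H := fun k hk hk1 x hx =>
    hfr k hk hk1 ⟨hcen k hk hk1 hx, hx⟩
  have hodd : Odd (Nat.card H) := hG.1.of_dvd_nat (card_subgroup_dvd_card _)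
  rcases OddChar.Sibley.feit_sibley H M hN.symm hne hTI hlt hC with
    ⟨-, h2, -⟩ | ⟨h2, -⟩ | h
  · exfalso
    have hio : Odd (H.subgroupOf M).index :=
      (hG.1.of_dvd_nat (card_subgroup_dvd_card M)).of_dvd_nat (index_dvd_card _)
    rw [h2] at hodd
    exact Nat.not_even_iff_odd.2 hodd (hio.add_odd odd_one)
  · exfalso
    rw [h2] at hodd
    rcases Nat.eq_zero_or_pos ((Nat.card G).factorization 2) with h0 | h0
    · exact hne (card_eq_one.1 (by rw [h2, h0, pow_zero]))
    · exact Nat.not_even_iff_odd.2 hodd (Nat.even_pow.2 ⟨even_two, h0.ne'⟩)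
  · rw [OddChar.Sibley.setOf_irr_eq_above' H M hn hC] at h
    obtain ⟨hex, τ₁, hτ₁, hag⟩ := h
    refine ⟨hex, τ₁, hτ₁, fun α hα => (hag α hα).trans ?_⟩
    have hcl := (span_coreChars hα.1).2.1
    have hoff := zero_off_supFull hG hM hfr hα
    show Cfsg.indFun M α = tau M α
    rw [tau, Char.IsClassFunction.eq_sum_classInner
        (OddChar.dadeIsometry_isClassFunction hD hcl),
      Char.IsClassFunction.eq_sum_classInner (Char.isClassFunction_indFun M α)]
    refine Finset.sum_congr rfl fun χ _ => ?_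
    rw [(Cfsg.Agent.S1500.result (supFull M) M (Cfsg.supportR M) hD α hcl hoff).2 χ
        (fun m => (χ : G → ℂ) m) (Char.IsIrrCharacter.isClassFunction χ.2) ?_,
      Char.classInner_indFun M α _ (Char.IsIrrCharacter.isClassFunction χ.2)]
    intro a ha
    have ha' : (a : G) ∈ coreSet M := hA ▸ ha
    rw [OddChar.MaxTypes.supportR_of_le (hcen a ha'.1 ha'.2)]
    simp

omit hG [Fintype M] [Fintype G] in
theorem exponent_complement {Γ : Type*} [Group Γ] [Finite Γ] (hodd : Odd (Nat.card Γ))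
    (K : Subgroup Γ) [K.Normal] (hK : K ≠ ⊥)
    (hC : ∀ h ∈ K, h ≠ 1 → centralizer ({h} : Set Γ) ≤ K) :
    Monoid.exponent (Γ ⧸ K) = K.index := by
  obtain ⟨E, hE⟩ := exists_right_complement'_of_coprime
    (OddChar.FrobKernel.coprime_card_index K hC)
  have hfpf : ∀ h ∈ E, h ≠ 1 → K ⊓ centralizer {h} = ⊥ := by
    intro h hh h1
    rw [eq_bot_iff_forall]
    intro k hk
    by_contra hk1
    exact h1 (disjoint_def.1 hE.disjoint
      (OddChar.FrobKernel.mem_of_commute K hC hk.1 hk1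
        (mem_centralizer_singleton_iff.1 hk.2).symm) hh)
  haveI : IsZGroup E := ⟨fun p hp P => by
    haveI : Fact p.Prime := ⟨hp⟩
    rcases Frobenius.sylow_cyclic_or_quaternion hE hK hfpf (P : Subgroup E) P.isPGroup' with
      h | ⟨-, n, ⟨e⟩⟩
    · exact h
    · exfalso
      have h1 : 2 ∣ Nat.card P := by
        rw [Nat.card_congr e.toEquiv, Nat.card_eq_fintype_card, QuaternionGroup.card]
        exact dvd_mul_of_dvd_left (by norm_num) _
      exact Nat.not_even_iff_odd.2 hodd (even_iff_two_dvd.2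
        ((h1.trans (card_subgroup_dvd_card _)).trans (card_subgroup_dvd_card _)))⟩
  rw [Monoid.exponent_eq_of_mulEquiv (hE.symm.QuotientMulEquiv), IsZGroup.exponent_eq_card,
    hE.symm.index_eq_card]

/-- PF 12.6. -/
theorem coherent (hM : IsFType M) (hfr : IsFrob M) :
    (∀ χ ∈ coreChars M, Cfsg.IsIrrCharacter M χ) ∧
      Cfsg.IsCoherent (coreChars M) {1}ᶜ (tau M) := by
  classical
  haveI hn := core_normal (M := M)
  obtain ⟨hnil, hne, hlt, hFH⟩ := core_facts hG hM
  obtain ⟨hH1, hH2, hHnil, hHcard⟩ := core_proper hG hM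
  have hC := frob_centralizer hfr
  refine ⟨OddChar.Irr.irr_of_above hC, ?_⟩
  set H := (Cfsg.sigmaCore M).subgroupOf M with hH
  obtain ⟨hiso, hiso1⟩ := tau_isometry hG hM hfr
  have hoddM : Odd (Nat.card M) := hG.1.of_dvd_nat (card_subgroup_dvd_card M)
  have hoddH : Odd (Nat.card H) := hoddM.of_dvd_nat (card_subgroup_dvd_card H)
  have hoddi : Odd H.index := hoddM.of_dvd_nat (index_dvd_card H)
  rcases OddChar.FrobCoh.feit_theorem H hiso hiso1 hH1 hH2 hC (fun h => by
      rw [h] at hoddH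
      exact Nat.not_even_iff_odd.2 hoddH (hoddi.add_odd odd_one)) with h | h
  · exact h
  obtain ⟨p, hp, ⟨m, hm⟩, hnab, hbound⟩ := h
  by_cases hcen : ∀ x ∈ Cfsg.sigmaCore M, x ≠ 1 → centralizer ({x} : Set G) ≤ M
  · exact coherent_of_TI hG hM hfr hcen
  exfalso
  push Not at hcen
  obtain ⟨x, hx, hx1, hxM⟩ := hcen
  obtain ⟨g, hg, hgM⟩ := SetLike.not_le_iff_exists.1 hxM
  have hHF : Cfsg.sigmaCore M ≤ Cfsg.fittingOf M := by
    intro y hy
    exact mem_map.2 ⟨⟨y, hlt.le hy⟩, Solvable.le_fittingSubgroup hn hHnil (mem_subgroupOf.2 hy),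
      rfl⟩
  have hX : Cfsg.fittingOf M ⊓ (Cfsg.fittingOf M).map (MulAut.conj g).toMonoidHom ≠ ⊥ := by
    intro hbot
    have h2 : x ∈ Cfsg.fittingOf M ⊓ (Cfsg.fittingOf M).map (MulAut.conj g).toMonoidHom := by
      refine mem_inf.2 ⟨hHF hx, mem_map.2 ⟨x, hHF hx, ?_⟩⟩
      show g * x * g⁻¹ = x
      rw [mem_centralizer_singleton_iff.1 hg, mul_inv_cancel_right]
    rw [hbot, mem_bot] at h2
    exact hx1 h2
  obtain ⟨K, U, hKU⟩ := OddOrder.exists_sigmaDecomposition hG hM.coatom
  have hK : K = ⊥ := card_eq_one.1 (Nat.eq_one_iff_not_exists_prime_dvd.2 fun q hq hd => by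
    have := hKU.hall.2.1 q hq hd
    rw [hM.kappa_eq] at this
    exact this)
  -- the rows of BG 15.7
  obtain ⟨-, -, hcases⟩ := OddOrder.fitting_not_ti_structure hG hM.coatom hKU g hgM hX
  have hFHsub : Cfsg.fittingHall M = H := by
    rw [hH, ← hFH, Cfsg.fittingHallOf, subgroupOf,
      comap_map_eq_self_of_injective M.subtype_injective]
  rcases hcases with ⟨-, hab, -⟩ | ⟨r, -, -, -, -, -, -, hexp⟩ | ⟨r, -, -, -, -, -, -, -, hK1, -⟩
  · refine hnab ⟨⟨fun a b => Subtype.ext (Subtype.ext ?_)⟩⟩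
    have := congrArg Subtype.val (hab.is_comm.comm
      (⟨(a : M), hFH ▸ mem_subgroupOf.1 a.2⟩ : Cfsg.fittingHallOf M)
      ⟨(b : M), hFH ▸ mem_subgroupOf.1 b.2⟩)
    simpa using this
  swap
  · exact hK1 hK
  have hm0 : m ≠ 0 := fun h0 => hH1 (card_eq_one.1 (by rw [hm, h0, pow_zero]))
  have hdiv : p ∣ Nat.card (Cfsg.fittingHallOf M) := by
    rw [hFH, ← hHcard, hm]; exact dvd_pow_self p hm0
  have he := hexp p hp hdiv
  rw [Monoid.exponent_eq_of_mulEquiv (QuotientGroup.quotientMulEquivOfEq hFHsub),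
    exponent_complement hoddM H hH1 hC] at he
  have hpo : Odd p := hoddH.of_dvd_nat (by rw [hm]; exact dvd_pow_self p hm0)
  have h4 := sq_bound_of_dvd_sub_one hp hpo hoddi he
  have hsub : (⁅H, H⁆ : Subgroup M).subgroupOf H = commutator H := by
    rw [← map_subtype_commutator H, subgroupOf,
      comap_map_eq_self_of_injective H.subtype_injective]
  have hidx : (⁅H, H⁆ : Subgroup M).relIndex H = (commutator H).index := by
    rw [relIndex, hsub]
  rw [hidx] at hbound
  obtain ⟨r, -, hr⟩ := (Nat.dvd_prime_pow hp).1 (hm ▸ (commutator H).index_dvd_card)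
  haveI := hHnil
  rcases r with - | - | r
  · rw [pow_zero, index_eq_one] at hr
    haveI : Nontrivial H := (nontrivial_iff_ne_bot H).2 hH1
    haveI : Group.IsSolvable H := inferInstance
    exact (Group.IsSolvable.commutator_lt_top_of_nontrivial H).ne hr
  · rw [zero_add, pow_one] at hr
    have hcomm := OddChar.FrobSection.commutator_eq_bot_of_index_prime (Q := H) (hr ▸ hp)
    refine hnab ⟨⟨fun a b => ?_⟩⟩
    have h5 : ⁅a, b⁆ ∈ commutator H := commutator_mem_commutator (mem_top a) (mem_top b)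
    rw [hcomm, mem_bot, commutatorElement_eq_one_iff_mul_comm] at h5
    exact h5
  · have h5 : p ^ 2 ≤ (commutator H).index := by
      rw [hr]; exact Nat.pow_le_pow_right hp.pos (by omega)
    omega

/-- `ψ = τ₁ ζ` for a linear-induced `ζ`, and the values of `ρ ψ` on the core. -/
theorem exists_probe (hM : IsFType M) (hfr : IsFrob M) :
    ∃ (ψ : G → ℂ) (ζ : ↥M → ℂ) (b : ℤ), ζ ∈ coreChars M ∧ Cfsg.IsIrrCharacter M ζ ∧
      ζ 1 = ((Cfsg.sigmaCore M).relIndex M : ℂ) ∧
      (Cfsg.IsIrrCharacter G ψ ∨ Cfsg.IsIrrCharacter G (-ψ)) ∧ Cfsg.conjFun ψ ≠ ψ ∧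
      tau M (ζ - Cfsg.conjFun ζ) = ψ - Cfsg.conjFun ψ ∧
      ∀ x : M, (x : G) ∈ coreSet M → rho M ψ x = ζ x + b := by
  classical
  haveI hn := core_normal (M := M)
  obtain ⟨hirr, -, τ₁, hτ₁, hag⟩ := coherent hG hM hfr
  obtain ⟨hH1, hH2, hHnil, -⟩ := core_proper hG hM
  have hA : supFull M = coreSet M := supFull_eq_coreSet hG hM hfr
  have hD := dade_full hG hM
  have hidx : (Cfsg.sigmaCore M).relIndex M = ((Cfsg.sigmaCore M).subgroupOf M).index := rfl
  set H := (Cfsg.sigmaCore M).subgroupOf M with hH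
  haveI := hHnil
  obtain ⟨ζ, hζ, hζ1⟩ := OddChar.Above.exists_linear_member H inferInstance ⊥
    (bot_lt_iff_ne_bot.2 hH1)
  have hζS : ζ ∈ coreChars M := hζ
  have hζirr := hirr ζ hζS
  have hmz : ∀ {χ : ↥M → ℂ}, χ ∈ coreChars M → χ ∈ Cfsg.zspan (coreChars M) := fun h =>
    OddChar.mem_zspan_self h
  have hcz : Cfsg.conjFun ζ ∈ coreChars M := OddChar.Above.above_conj H ⊥ hζ
  have hne : Cfsg.conjFun ζ ≠ ζ := by
    intro e
    obtain ⟨θ, hθ, hθ1, -, e'⟩ := hζ
    have hp : ζ ≠ fun _ => 1 := fun h => by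
      have h1 : Cfsg.classInner ζ (fun _ => 1) = 0 := by
        rw [e', Char.classInner_indFun H θ _ (fun _ _ => rfl)]
        exact Char.classInner_irr_of_ne hθ Char.isIrrCharacter_principal hθ1
      rw [h, Char.classInner_irr_self Char.isIrrCharacter_principal] at h1
      exact one_ne_zero h1
    exact hp (Char.eq_one_of_real_of_odd (hG.1.of_dvd_nat (card_subgroup_dvd_card M)) ⟨ζ, hζirr⟩
      fun x => Complex.conj_eq_iff_im.1 (congrFun e x))
  set ψ := τ₁ ζ with hψ
  set ψ' := τ₁ (Cfsg.conjFun ζ) with hψ'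
  have hψg := hτ₁.2.2.2 _ (hmz hζS)
  have hψc := Char.IsGeneralizedCharacter.isClassFunction hψg
  have hnψ : Cfsg.classInner ψ ψ = 1 := by
    rw [hψ, hτ₁.2.2.1 _ (hmz hζS) _ (hmz hζS), Char.classInner_irr_self hζirr]
  have hnψ' : Cfsg.classInner ψ' ψ' = 1 := by
    rw [hψ', hτ₁.2.2.1 _ (hmz hcz) _ (hmz hcz), Char.classInner_irr_self (hirr _ hcz)]
  have hoψ : Cfsg.classInner ψ' ψ = 0 := by
    rw [hψ, hψ', hτ₁.2.2.1 _ (hmz hcz) _ (hmz hζS),
      Char.classInner_irr_of_ne (hirr _ hcz) hζirr hne]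
  have hd : tau M (ζ - Cfsg.conjFun ζ) = ψ - ψ' := by
    rw [← hag _ ⟨Submodule.sub_mem _ (hmz hζS) (hmz hcz), fun x hx => by
      have hx1 : x = 1 := by simpa using hx
      subst hx1
      simp [Pi.sub_apply, Cfsg.conjFun, hζ1]⟩]
    exact map_sub_of_add hτ₁.1 (Submodule.sub_mem _ (hmz hζS) (hmz hcz)) (hmz hcz)
  have hsum : Cfsg.conjFun ψ - Cfsg.conjFun ψ' = ψ' - ψ := by
    rw [← OddChar.conjFun_sub, ← hd, ← tau_conj, OddChar.conjFun_sub, OddChar.conjFun_conjFun,
      ← neg_sub ζ (Cfsg.conjFun ζ), show -(ζ - Cfsg.conjFun ζ) =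
        (0 : ↥M → ℂ) - (ζ - Cfsg.conjFun ζ) from (zero_sub _).symm, tau_sub, hd]
    have h0 : tau M (0 : ↥M → ℂ) = 0 := by
      have := tau_smul (0 : ℂ) (0 : ↥M → ℂ) (M := M)
      simpa using this
    rw [h0, zero_sub, neg_sub]
  have hψirr := OddChar.irr_or_neg_of_norm_one hψg hnψ
  have hψ'g := hτ₁.2.2.2 _ (hmz hcz)
  have hψ'irr := OddChar.irr_or_neg_of_norm_one hψ'g hnψ'
  -- the conjugate of `ψ` is `ψ'`
  have hsig : ∀ {a b : G → ℂ}, (Cfsg.IsIrrCharacter G a ∨ Cfsg.IsIrrCharacter G (-a)) →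
      (Cfsg.IsIrrCharacter G b ∨ Cfsg.IsIrrCharacter G (-b)) →
      (Cfsg.classInner a b = 0 ∨ (a = b ∧ Cfsg.classInner a b = 1) ∨
        (a = -b ∧ Cfsg.classInner a b = -1)) := by
    intro a b ha hb
    rcases ha with ha | ha <;> rcases hb with hb | hb
    · by_cases h : a = b
      · exact Or.inr (Or.inl ⟨h, h ▸ Char.classInner_irr_self ha⟩)
      · exact Or.inl (Char.classInner_irr_of_ne ha hb h)
    · by_cases h : a = -b
      · refine Or.inr (Or.inr ⟨h, ?_⟩)
        have n := Char.classInner_irr_self hb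
        rw [Char.classInner_neg_left, Char.classInner_neg_right, neg_neg] at n
        rw [h, Char.classInner_neg_left, n]
      · have := Char.classInner_irr_of_ne ha hb h
        rw [Char.classInner_neg_right, neg_eq_zero] at this
        exact Or.inl this
    · by_cases h : -a = b
      · refine Or.inr (Or.inr ⟨by rw [← h, neg_neg], ?_⟩)
        have n := Char.classInner_irr_self ha
        rw [Char.classInner_neg_left, Char.classInner_neg_right, neg_neg] at n
        rw [← h, Char.classInner_neg_right, n]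
      · have := Char.classInner_irr_of_ne ha hb h
        rw [Char.classInner_neg_left, neg_eq_zero] at this
        exact Or.inl this
    · by_cases h : a = b
      · subst h
        refine Or.inr (Or.inl ⟨rfl, ?_⟩)
        have := Char.classInner_irr_self ha
        rwa [Char.classInner_neg_left, Char.classInner_neg_right, neg_neg] at this
      · have := Char.classInner_irr_of_ne ha hb (fun e => h (neg_injective e))
        rw [Char.classInner_neg_left, Char.classInner_neg_right, neg_neg] at this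
        exact Or.inl this
  have hcirr : ∀ {a : G → ℂ}, (Cfsg.IsIrrCharacter G a ∨ Cfsg.IsIrrCharacter G (-a)) →
      (Cfsg.IsIrrCharacter G (Cfsg.conjFun a) ∨ Cfsg.IsIrrCharacter G (-Cfsg.conjFun a)) := by
    intro a ha
    rcases ha with ha | ha
    · exact Or.inl (OddChar.isIrrCharacter_conjFun ha)
    · refine Or.inr ?_
      convert OddChar.isIrrCharacter_conjFun ha using 1
      funext x; simp [Cfsg.conjFun]
  have hkey : Cfsg.classInner (Cfsg.conjFun ψ) ψ - Cfsg.classInner (Cfsg.conjFun ψ') ψ = -1 := by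
    rw [← Char.classInner_sub_left, hsum, Char.classInner_sub_left, hoψ, hnψ, zero_sub]
  have hneg1 : Cfsg.conjFun ψ ≠ -ψ := by
    intro e
    have he := congrFun e 1
    rcases hψirr with hi | hi
    · have hr := OddChar.conj_apply_one (Char.IsIrrCharacter.isCharacter hi)
      refine Char.IsIrrCharacter.apply_one_ne_zero hi ?_
      have hr' : Cfsg.conjFun ψ 1 = ψ 1 := hr
      rw [hr', Pi.neg_apply] at he
      linear_combination he / 2
    · have hr := OddChar.conj_apply_one (Char.IsIrrCharacter.isCharacter hi)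
      refine Char.IsIrrCharacter.apply_one_ne_zero hi ?_
      have hr' : Cfsg.conjFun ψ 1 = ψ 1 := by
        simp only [Pi.neg_apply, map_neg, neg_inj] at hr
        exact hr
      rw [hr', Pi.neg_apply] at he
      rw [Pi.neg_apply]
      linear_combination -he / 2
  have hψ'eq : Cfsg.conjFun ψ' = ψ := by
    rcases hsig (hcirr hψ'irr) hψirr with h | ⟨h, -⟩ | ⟨-, h⟩
    · rw [h, sub_zero] at hkey
      rcases hsig (hcirr hψirr) hψirr with h2 | ⟨-, h2⟩ | ⟨h2, -⟩
      · rw [h2] at hkey; norm_num at hkey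
      · rw [h2] at hkey; norm_num at hkey
      · exact absurd h2 hneg1
    · exact h
    · rw [h] at hkey
      rcases hsig (hcirr hψirr) hψirr with h2 | ⟨-, h2⟩ | ⟨-, h2⟩ <;>
        rw [h2] at hkey <;> norm_num at hkey
  have hψbar : ψ' = Cfsg.conjFun ψ := by rw [← hψ'eq, OddChar.conjFun_conjFun]
  have hψne : Cfsg.conjFun ψ ≠ ψ := by
    intro e
    rw [hψbar, e, hnψ] at hoψ
    exact one_ne_zero hoψ
  -- `ρ ψ`
  set e1 : ↥M → ℂ := Cfsg.indFun H (fun _ => 1) with he1
  have he1H : ∀ x : H, e1 x = (H.index : ℂ) := by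
    intro x
    have hi : ∀ g, CharTwist.conjFun H (fun _ : H => (1 : ℂ)) g = fun _ => 1 := fun _ => rfl
    rw [he1, CharTwist.indFun_normal_apply]
    simp only [hi, Finset.sum_const, Finset.card_univ, nsmul_eq_mul, mul_one]
    rw [← Nat.card_eq_fintype_card, ← H.card_mul_index, Nat.cast_mul,
      inv_mul_cancel_left₀ (Nat.cast_ne_zero.2 Nat.card_pos.ne')]
  have he1g : Cfsg.IsGeneralizedCharacter M e1 := Char.IsCharacter.isGeneralizedCharacter
    (Char.IsCharacter.indFun H (Char.IsIrrCharacter.isCharacter Char.isIrrCharacter_principal))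
  -- test functions
  let β : (H → ℂ) → (↥M → ℂ) := fun θ => Cfsg.indFun H θ - θ 1 • e1
  have hβ : ∀ θ : H → ℂ, Cfsg.IsClassFunction M (β θ) ∧
      ∀ x : M, (x : G) ∉ supFull M → β θ x = 0 := by
    intro θ
    refine ⟨fun x y => ?_, fun x hx => ?_⟩
    · simp only [β, Pi.sub_apply, Pi.smul_apply, he1]
      rw [Char.isClassFunction_indFun H θ x y, Char.isClassFunction_indFun H _ x y]
    · rw [mem_supFull_iff hG hM hfr] at hx
      by_cases h1 : x = 1
      · subst h1
        simp [β, he1, Char.indFun_apply_one, mul_comm]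
      · have hx' : x ∉ H := fun h => hx ⟨h, h1⟩
        simp [β, he1, Char.indFun_eq_zero_of_normal H _ hx']
  -- `ζ` as an induced character
  obtain ⟨θ₀, hθ₀, hθ₀1, -, hζe⟩ := id hζ
  have hθ₀d : θ₀ 1 = 1 := by
    rw [hζe, Char.indFun_apply_one] at hζ1
    exact (mul_eq_left₀ (Nat.cast_ne_zero.2 index_ne_zero_of_finite)).1 hζ1
  have hβ0g : Cfsg.IsGeneralizedCharacter M (ζ - e1) :=
    Char.IsGeneralizedCharacter.sub (span_coreChars (hmz hζS)).1 he1g
  have hβ0 : β θ₀ = ζ - e1 := by simp [β, hθ₀d, hζe]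
  obtain ⟨N₀, hN₀⟩ := OddChar.Coh.exists_int_inner (Cfsg.Agent.S1501.result (supFull M) M
    (Cfsg.supportR M) hD (ζ - e1) hβ0g (hβ0 ▸ (hβ θ₀).2)) hψg
  change Cfsg.classInner (tau M (ζ - e1)) ψ = (N₀ : ℂ) at hN₀
  set b : ℤ := 1 - N₀ with hb
  refine ⟨ψ, ζ, b, hζS, hζirr, by rw [hidx, hζ1], hψirr, hψne, by rw [hd, hψbar], ?_⟩
  let f : ↥M → ℂ := fun x => if (x : G) ∈ supFull M then rho M ψ x else 0
  have hf : Cfsg.IsClassFunction M f := by
    intro a x
    by_cases ha : (a : G) ∈ supFull M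
    · have ha' : (x : G) * a * (x : G)⁻¹ ∈ supFull M := hD.conj_mem x x.2 a ha
      simp only [f, Subgroup.coe_mul, InvMemClass.coe_inv, if_pos ha, if_pos ha']
      simp only [rho]
      have hcard : Nat.card (Cfsg.supportR M ((x : G) * a * (x : G)⁻¹)) =
          Nat.card (Cfsg.supportR M (a : G)) := by
        rw [OddChar.dade_H_conj hD ha x.2]
        exact (Nat.card_congr (Cfsg.supportR M (a : G) |>.equivMapOfInjective
          (MulAut.conj (x : G)).toMonoidHom (MulAut.conj (x : G)).injective).toEquiv).symm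
      rw [hcard]
      congr 1
      rw [OddChar.dade_H_conj hD ha x.2, coe_map]
      refine (finsum_mem_image (g := ⇑(MulEquiv.toMonoidHom (MulAut.conj (x : G))))
        fun u _ v _ h => (MulAut.conj (x : G)).injective h).trans ?_
      refine finsum_mem_congr rfl fun u _ => ?_
      show ψ ((x : G) * a * (x : G)⁻¹ * ((x : G) * u * (x : G)⁻¹)) = ψ (a * u)
      rw [show (x : G) * a * (x : G)⁻¹ * ((x : G) * u * (x : G)⁻¹) =
        (x : G) * (a * u) * (x : G)⁻¹ by group]
      exact hψc ((a : G) * u) (x : G)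
    · have ha' : (x : G) * a * (x : G)⁻¹ ∉ supFull M := fun h => ha (by
        simpa [mul_assoc] using hD.conj_mem _ (M.inv_mem x.2) _ h)
      simp only [f, Subgroup.coe_mul, InvMemClass.coe_inv, if_neg ha, if_neg ha']
  have hdade : ∀ α : ↥M → ℂ, Cfsg.IsClassFunction M α →
      (∀ x : M, (x : G) ∉ supFull M → α x = 0) →
      Cfsg.classInner α f = Cfsg.classInner (tau M α) ψ := fun α hα hαA =>
    ((Cfsg.Agent.S1500.result (supFull M) M (Cfsg.supportR M) hD α hα hαA).2 ψ f hψc
      fun a ha => by simp only [f, if_pos ha, rho]).symm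
  let g : ↥M → ℂ := fun x => if (x : G) ∈ supFull M then f x - (ζ x + b) else 0
  have hgcl : Cfsg.IsClassFunction M g := by
    intro a x
    have hiff : ((x * a * x⁻¹ : M) : G) ∈ supFull M ↔ (a : G) ∈ supFull M := by
      refine ⟨fun h => ?_, fun h => hD.conj_mem x x.2 a h⟩
      simpa [mul_assoc] using hD.conj_mem _ (M.inv_mem x.2) _ h
    by_cases h : (a : G) ∈ supFull M
    · simp only [g, if_pos h, if_pos (hiff.2 h), hf a x,
        Char.IsIrrCharacter.isClassFunction hζirr a x]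
    · simp only [g, if_neg h, if_neg (fun h' => h (hiff.1 h'))]
  have hζ1' : Cfsg.classInner ζ (fun _ => (1 : ℂ)) = 0 := by
    rw [hζe, Char.classInner_indFun H θ₀ _ (fun _ _ => rfl)]
    exact Char.classInner_irr_of_ne hθ₀ Char.isIrrCharacter_principal hθ₀1
  have he1one : Cfsg.classInner e1 (fun _ => (1 : ℂ)) = 1 := by
    rw [he1, Char.classInner_indFun H _ _ (fun _ _ => rfl)]
    exact Char.classInner_irr_self Char.isIrrCharacter_principal
  have he1ζ : Cfsg.classInner e1 ζ = 0 := by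
    have h1 : Cfsg.classInner ζ e1 = 0 := by
      rw [hζe, Char.classInner_indFun H θ₀ _ (Char.isClassFunction_indFun H _),
        show (fun h : H => e1 h) = (H.index : ℂ) • (fun _ : H => (1 : ℂ)) from
          funext fun h => by simp [he1H h],
        Char.classInner_smul_right,
        Char.classInner_irr_of_ne hθ₀ Char.isIrrCharacter_principal hθ₀1, mul_zero]
    have := Char.classInner_conj_symm ζ e1
    rw [h1] at this
    simpa [eq_comm] using this
  -- `g` is orthogonal to the test functions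
  have horth : ∀ θ : Cfsg.IrrCharacter H, Cfsg.classInner (β (θ : H → ℂ)) g = 0 := by
    intro θ
    by_cases hθ1 : (θ : H → ℂ) = fun _ => 1
    · have h0 : β (θ : H → ℂ) = 0 := by simp [β, hθ1, he1]
      rw [h0, Char.classInner_zero_left]
    set χ := Cfsg.indFun H (θ : H → ℂ) with hχ
    have hχS : χ ∈ coreChars M := ⟨θ, θ.2, hθ1, fun a ha => by
      rw [show a = 1 from Subtype.ext (mem_bot.1 ha)], rfl⟩
    obtain ⟨d, hd'⟩ := Char.IsIrrCharacter.exists_degree θ.2
    have hτβ : tau M (β (θ : H → ℂ)) =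
        τ₁ χ - (d : ℂ) • ψ + (d : ℂ) • tau M (ζ - e1) := by
      have hmem : χ - (d : ℂ) • ζ ∈ Cfsg.zspanOn (coreChars M) {1}ᶜ := by
        refine ⟨?_, fun x hx => ?_⟩
        · rw [show ((d : ℂ)) = ((d : ℤ) : ℂ) by simp, OddChar.Coh.intCast_smul_eq]
          exact Submodule.sub_mem _ (hmz hχS) (Submodule.smul_mem _ _ (hmz hζS))
        · have hx1 : x = 1 := by simpa using hx
          subst hx1
          simp [hχ, Char.indFun_apply_one, hd', hζ1, mul_comm]
      have h1 : τ₁ (χ - (d : ℂ) • ζ) = τ₁ χ - (d : ℂ) • ψ := by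
        have hz : (d : ℂ) • ζ ∈ Cfsg.zspan (coreChars M) := by
          rw [show ((d : ℂ)) = ((d : ℤ) : ℂ) by simp, OddChar.Coh.intCast_smul_eq]
          exact Submodule.smul_mem _ _ (hmz hζS)
        rw [map_sub_of_add hτ₁.1 hmem.1 hz, show ((d : ℂ)) = ((d : ℤ) : ℂ) by simp,
          OddChar.Coh.intCast_smul_eq, hτ₁.2.1 _ (hmz hζS), OddChar.Coh.intCast_smul_eq]
      rw [← h1, hag _ hmem, ← tau_smul, ← tau_add]
      congr 1
      funext x
      simp only [β, hd', hχ, Pi.sub_apply, Pi.smul_apply, Pi.add_apply, smul_eq_mul]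
      ring
    have h1 : Cfsg.classInner (β (θ : H → ℂ)) f =
        Cfsg.classInner χ ζ - (d : ℂ) + (d : ℂ) * N₀ := by
      rw [hdade _ (hβ _).1 (hβ _).2, hτβ, Char.classInner_add_left, Char.classInner_sub_left,
        Char.classInner_smul_left, Char.classInner_smul_left, hnψ, hN₀, hψ,
        hτ₁.2.2.1 _ (hmz hχS) _ (hmz hζS), mul_one]
    have hχ1 : Cfsg.classInner χ (fun _ => (1 : ℂ)) = 0 := by
      rw [hχ, Char.classInner_indFun H _ _ (fun _ _ => rfl)]
      exact Char.classInner_irr_of_ne θ.2 Char.isIrrCharacter_principal hθ1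
    have h2 : Cfsg.classInner (β (θ : H → ℂ)) (ζ + (b : ℂ) • (fun _ => (1 : ℂ))) =
        Cfsg.classInner χ ζ - (d : ℂ) * b := by
      simp only [β, hd', ← hχ, Char.classInner_sub_left, Char.classInner_smul_left,
        Char.classInner_add_right, Char.classInner_smul_right, hχ1, he1one, he1ζ, map_intCast]
      ring
    rw [classInner_congr_supp (A := {x : M | (x : G) ∈ supFull M}) (hβ _).2
        (f' := f - (ζ + (b : ℂ) • (fun _ => (1 : ℂ)))) (fun x hx => by
          have hx' : (x : G) ∈ supFull M := hx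
          simp [g, if_pos hx']),
      Char.classInner_sub_right, h1, h2, hb]
    push_cast
    ring
  have hg0 : g = 0 := by
    set gH : H → ℂ := fun x => g x
    have hgH : Cfsg.IsClassFunction H gH := fun a x => by
      show g ((x * a * x⁻¹ : H) : M) = g a
      simpa using hgcl (a : M) (x : M)
    set c : Cfsg.IrrCharacter H → ℂ := fun θ => Cfsg.classInner gH θ
    have hexp : gH = ∑ θ, c θ • (θ : H → ℂ) := Char.IsClassFunction.eq_sum_classInner hgH
    have hi0 : (H.index : ℂ) ≠ 0 := Nat.cast_ne_zero.2 index_ne_zero_of_finite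
    have hres : g = (H.index : ℂ)⁻¹ • Cfsg.indFun H gH := by
      funext x
      by_cases hx : x ∈ H
      · have hinv : ∀ y, CharTwist.conjFun H gH y = gH := fun y => funext fun k => by
          show g _ = g k
          exact hgcl (k : M) y
        have h := CharTwist.indFun_normal_apply H gH ⟨x, hx⟩
        simp only [hinv, Finset.sum_const, Finset.card_univ, nsmul_eq_mul] at h
        rw [Pi.smul_apply, h, smul_eq_mul, ← Nat.card_eq_fintype_card, ← H.card_mul_index,
          Nat.cast_mul, mul_assoc, inv_mul_cancel_left₀ (Nat.cast_ne_zero.2 Nat.card_pos.ne'),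
          inv_mul_cancel_left₀ hi0]
      · rw [Pi.smul_apply, Char.indFun_eq_zero_of_normal H _ hx, smul_zero]
        have : (x : G) ∉ supFull M := fun h => hx ((mem_supFull_iff hG hM hfr x).1 h).1
        simp only [g, if_neg this]
    have hg1 : ∑ θ, c θ * (θ : H → ℂ) 1 = 0 := by
      have h := congrFun hexp 1
      simp only [Finset.sum_apply, Pi.smul_apply, smul_eq_mul] at h
      rw [← h]
      have : ((1 : M) : G) ∉ supFull M := by simpa using hD.one_not_mem
      show g ((1 : H) : M) = 0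
      simp only [g, OneMemClass.coe_one]
      rw [if_neg (by simpa using this)]
    have hdec : g = ∑ θ, ((H.index : ℂ)⁻¹ * c θ) • β (θ : H → ℂ) := by
      rw [hres]
      conv_lhs => rw [hexp, Char.indFun_sum, Finset.smul_sum]
      simp only [β, smul_sub, Finset.sum_sub_distrib, Char.indFun_smul, smul_smul]
      have h0 : ∑ θ : Cfsg.IrrCharacter H,
          ((H.index : ℂ)⁻¹ * c θ * (θ : H → ℂ) 1) • e1 = 0 := by
        rw [← Finset.sum_smul,
          Finset.sum_congr rfl (fun θ _ => mul_assoc ((H.index : ℂ)⁻¹) (c θ) _),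
          ← Finset.mul_sum, hg1, mul_zero, zero_smul]
      rw [h0, sub_zero]
    refine OddChar.Coh.classInner_self_eq_zero ?_
    nth_rewrite 1 [hdec]
    rw [Char.classInner_sum_left]
    refine Finset.sum_eq_zero fun θ _ => ?_
    rw [Char.classInner_smul_left, horth θ, mul_zero]
  intro x hx
  have hx' : (x : G) ∈ supFull M := hA ▸ hx
  have := congrFun hg0 x
  simp only [g, f, if_pos hx', Pi.zero_apply, sub_eq_zero] at this
  exact this

/-- The norm of `ζ + b` on the kernel, times `|M|`. -/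
theorem norm_probe (hM : IsFType M) (hfr : IsFrob M) {ζ : ↥M → ℂ} (hζ : ζ ∈ coreChars M)
    (h1 : ζ 1 = ((Cfsg.sigmaCore M).relIndex M : ℂ)) (b : ℤ) :
    ∑ᶠ x ∈ {x : M | (x : G) ∈ coreSet M}, ‖ζ x + b‖ ^ 2 =
      (Nat.card M : ℝ) - ((Cfsg.sigmaCore M).relIndex M : ℝ) ^ 2
        - 2 * b * ((Cfsg.sigmaCore M).relIndex M : ℝ)
        + (b : ℝ) ^ 2 * ((Nat.card (Cfsg.sigmaCore M) : ℝ) - 1) := by
  classical
  haveI hn := core_normal (M := M)
  have hirr := OddChar.Irr.irr_of_above (frob_centralizer hfr) ζ hζ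
  have hcard := (core_proper hG hM).2.2.2
  set H := (Cfsg.sigmaCore M).subgroupOf M with hH
  set e : ℕ := (Cfsg.sigmaCore M).relIndex M
  set T : Finset M := Finset.univ.filter (fun x => x ∈ H) with hT
  have hset : {x : M | (x : G) ∈ coreSet M} = ↑(T.erase 1) := by
    ext x
    simp [hT, hH, coreSet, mem_subgroupOf]
  rw [hset, finsum_mem_coe_finset]
  have hoff : ∀ x ∉ T, ζ x = 0 := fun x hx =>
    (span_coreChars (OddChar.mem_zspan_self hζ)).2.2 x (by simpa [hT] using hx)
  obtain ⟨θ, hθ, hθ1, -, hζe⟩ := id hζ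
  have hM0 : (Nat.card M : ℂ) ≠ 0 := Nat.cast_ne_zero.2 Nat.card_pos.ne'
  have s1 : ∑ x ∈ T, ζ x * conj (ζ x) = (Nat.card M : ℂ) := by
    rw [Finset.sum_subset (Finset.subset_univ T) (fun x _ hx => by rw [hoff x hx, zero_mul])]
    have h := Char.classInner_irr_self hirr
    rw [Cfsg.classInner, inv_mul_eq_one₀ hM0] at h
    exact h.symm
  have s2 : ∑ x ∈ T, ζ x = 0 := by
    rw [Finset.sum_subset (Finset.subset_univ T) (fun x _ hx => hoff x hx)]
    have h : Cfsg.classInner ζ (fun _ => (1 : ℂ)) = 0 := by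
      rw [hζe, Char.classInner_indFun H θ _ (fun _ _ => rfl)]
      exact Char.classInner_irr_of_ne hθ Char.isIrrCharacter_principal hθ1
    rw [Cfsg.classInner, mul_eq_zero] at h
    simpa using h.resolve_left (inv_ne_zero hM0)
  have s3 : ∑ x ∈ T, conj (ζ x) = 0 := by rw [← map_sum, s2, map_zero]
  have hTc : T.card = Nat.card (Cfsg.sigmaCore M) := by
    rw [← hcard, Nat.card_eq_fintype_card, Fintype.card_subtype, hT]
  have h1T : (1 : M) ∈ T := by simp [hT, one_mem]
  apply Complex.ofReal_injective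
  push_cast
  have key : ∀ x : M, ((‖ζ x + b‖ : ℂ)) ^ 2 = (ζ x + b) * (conj (ζ x) + b) := fun x => by
    rw [← Complex.mul_conj', map_add, map_intCast]
  simp only [key]
  rw [Finset.sum_erase_eq_sub h1T, h1, map_natCast]
  simp only [add_mul, mul_add, Finset.sum_add_distrib, ← Finset.mul_sum, ← Finset.sum_mul,
    s1, s2, s3, Finset.sum_const, nsmul_eq_mul, hTc]
  ring

end CfsgLib.FT
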