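import Cfsg.Agent.Lib.FT.Pair
import Cfsg.Agent.Lib.FT.Probe
import Cfsg.Agent.Lib.FT.CrossOrth
import Cfsg.Agent.Lib.FT.RealParity
import Cfsg.Agent.Lib.FT.LinearPairs
import Cfsg.Agent.Lib.FT.Tiles
import Cfsg.Agent.Lib.OddOrder.KappaBasic

/-!
PROJECT FT, helpers of LThree: coherent families over the cores of two non-conjugate maximal
subgroups.

For a family `X` with Dade realisation `f` and `ζ ∈ X` of degree the index, `Γ = β - 1 + f ζ`
(`β` the image of `Ind 1 - ζ`) is real and orthogonal to `1`; the families of non-conjugate subgroups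
are orthogonal; a function orthogonal to the whole family averages to a constant on the core.
-/

set_option autoImplicit false
set_option linter.style.haveILetI false
set_option linter.unusedSectionVars false

open ComplexConjugate

namespace CfsgLib.FT

open Subgroup

universe u

variable {G : Type u} [Group G]

/-- `Ind 1` from the core. -/
noncomputable def coreOne (M : Subgroup G) [Fintype M] : ↥M → ℂ :=
  Cfsg.indFun ((Cfsg.sigmaCore M).subgroupOf M) fun _ => 1

/-- A conjugation stable family of irreducible characters over the core, with a coherent map `f`. -/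
structure CoreFamily [Fintype G] (M : Subgroup G) [Fintype M] (X : Set (↥M → ℂ))
    (f : (↥M → ℂ) → (G → ℂ)) (ζ : ↥M → ℂ) : Prop where
  sub : X ⊆ coreChars M
  irr : ∀ ξ ∈ X, Cfsg.IsIrrCharacter M ξ
  conjMem : ∀ ξ ∈ X, Cfsg.conjFun ξ ∈ X
  mem : ζ ∈ X
  deg : ζ 1 = ((Cfsg.sigmaCore M).relIndex M : ℂ)
  iso : Cfsg.IsLinearIsometryOn (Cfsg.zspan X) f
  agree : ∀ α ∈ Cfsg.zspanOn X {1}ᶜ, f α = tauCore M α

/-- `β - 1 + f ζ`. -/
noncomputable def gammaCore (M : Subgroup G) [Fintype M] (f : (↥M → ℂ) → (G → ℂ)) (ζ : ↥M → ℂ) :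
    G → ℂ :=
  tauCore M (coreOne M - ζ) - (fun _ => 1) + f ζ

variable [Fintype G] (hG : Cfsg.IsMinSimpleOddOrder G) {M N : Subgroup G} [Fintype M] [Fintype N]
  {X : Set (↥M → ℂ)} {Y : Set (↥N → ℂ)} {f : (↥M → ℂ) → (G → ℂ)} {g : (↥N → ℂ) → (G → ℂ)}
  {ζ : ↥M → ℂ} {η : ↥N → ℂ}

theorem signed_inner {a b : G → ℂ} {χ μ : G → ℂ} {ε ε' : ℤ} (ha : a = (ε : ℂ) • χ)
    (hb : b = (ε' : ℂ) • μ) :
    Cfsg.classInner a b = (ε : ℂ) * ε' * Cfsg.classInner χ μ := by
  rw [ha, hb, Char.classInner_smul_left, Char.classInner_smul_right, map_intCast]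
  ring

theorem coreOne_apply_mem {x : M} (hx : x ∈ (Cfsg.sigmaCore M).subgroupOf M) :
    coreOne M x = ((Cfsg.sigmaCore M).relIndex M : ℂ) := by
  classical
  haveI := core_normal (M := M)
  set H := (Cfsg.sigmaCore M).subgroupOf M with hH
  have h := CharTwist.indFun_normal_apply H (fun _ : H => (1 : ℂ)) ⟨x, hx⟩
  have hi : ∀ y, CharTwist.conjFun H (fun _ : H => (1 : ℂ)) y = fun _ => 1 := fun _ => rfl
  simp only [hi, Finset.sum_const, Finset.card_univ, nsmul_eq_mul, mul_one] at h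
  show Cfsg.indFun H _ x = ((H.index : ℕ) : ℂ)
  rw [h, ← Nat.card_eq_fintype_card, ← H.card_mul_index, Nat.cast_mul,
    inv_mul_cancel_left₀ (Nat.cast_ne_zero.2 Nat.card_pos.ne')]

theorem coreOne_facts :
    Cfsg.IsGeneralizedCharacter M (coreOne M) ∧ Cfsg.IsClassFunction M (coreOne M) ∧
      (∀ x : M, x ∉ (Cfsg.sigmaCore M).subgroupOf M → coreOne M x = 0) ∧
      Cfsg.conjFun (coreOne M) = coreOne M ∧
      Cfsg.classInner (coreOne M) (fun _ => 1) = 1 ∧
      Cfsg.classInner (coreOne M) (coreOne M) = ((Cfsg.sigmaCore M).relIndex M : ℂ) ∧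
      ∀ χ ∈ coreChars M, Cfsg.classInner (coreOne M) χ = 0 ∧ Cfsg.classInner χ (coreOne M) = 0 ∧
        Cfsg.classInner χ (fun _ => 1) = 0 := by
  classical
  haveI := core_normal (M := M)
  set H := (Cfsg.sigmaCore M).subgroupOf M with hH
  have hz : ∀ x : M, x ∉ H → coreOne M x = 0 := fun x hx => Char.indFun_eq_zero_of_normal H _ hx
  have hcl : Cfsg.IsClassFunction M (coreOne M) := Char.isClassFunction_indFun H _
  have hres : (fun h : H => coreOne M h) = ((H.index : ℕ) : ℂ) • fun _ : H => (1 : ℂ) := by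
    funext h
    rw [coreOne_apply_mem h.2]
    simp [Subgroup.relIndex, hH]
  refine ⟨Char.IsCharacter.isGeneralizedCharacter (Char.IsCharacter.indFun H
    (Char.IsIrrCharacter.isCharacter Char.isIrrCharacter_principal)), hcl, hz, ?_, ?_, ?_, ?_⟩
  · funext x
    by_cases hx : x ∈ H
    · simp [Cfsg.conjFun, coreOne_apply_mem hx]
    · simp [Cfsg.conjFun, hz x hx]
  · rw [coreOne, Char.classInner_indFun H _ _ (fun _ _ => rfl)]
    exact Char.classInner_irr_self Char.isIrrCharacter_principal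
  · conv_lhs => arg 1; rw [coreOne]
    rw [Char.classInner_indFun H _ _ hcl, hres, Char.classInner_smul_right,
      Char.classInner_irr_self Char.isIrrCharacter_principal, map_natCast, mul_one]
    rfl
  · rintro χ ⟨θ, hθ, hθ1, -, rfl⟩
    have h1 : Cfsg.classInner (Cfsg.indFun H θ) (fun _ : M => (1 : ℂ)) = 0 := by
      rw [Char.classInner_indFun H θ _ (fun _ _ => rfl)]
      exact Char.classInner_irr_of_ne hθ Char.isIrrCharacter_principal hθ1
    have h2 : Cfsg.classInner (Cfsg.indFun H θ) (coreOne M) = 0 := by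
      rw [Char.classInner_indFun H θ _ hcl, hres, Char.classInner_smul_right,
        Char.classInner_irr_of_ne hθ Char.isIrrCharacter_principal hθ1, mul_zero]
    refine ⟨?_, h2, h1⟩
    rw [← Char.classInner_conj_symm, h2, map_zero]

theorem rho_add_const {Φ Ψ : G → ℂ} (c : ℂ) (a : G) :
    rho M (Φ - (fun _ => c) + Ψ) a = rho M Φ a - c + rho M Ψ a := by
  classical
  have hne : (Nat.card (Cfsg.supportR M a) : ℂ) ≠ 0 := Nat.cast_ne_zero.2 Nat.card_pos.ne'
  simp only [rho, finsum_mem_eq_toFinset_sum, Pi.add_apply, Pi.sub_apply,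
    Finset.sum_add_distrib, Finset.sum_sub_distrib, Finset.sum_const, nsmul_eq_mul]
  rw [Set.toFinset_card, ← Nat.card_eq_fintype_card]
  rw [show Nat.card ↥(Cfsg.supportR M a : Set G) = Nat.card (Cfsg.supportR M a) from rfl]
  field_simp

include hG

theorem core_supported {α : ↥M → ℂ} (hα : α ∈ Cfsg.zspan (coreChars M)) (h1 : α 1 = 0) :
    Cfsg.IsGeneralizedCharacter M α ∧ Cfsg.IsClassFunction M α ∧
      ∀ x : M, (x : G) ∉ coreSet M → α x = 0 := by
  obtain ⟨hg, hc, hz⟩ := span_coreChars hα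
  refine ⟨hg, hc, fun x hx => ?_⟩
  by_cases h : x = 1
  · rw [h, h1]
  · exact hz x fun hm => hx ⟨mem_subgroupOf.1 hm, fun e => h (Subtype.ext e)⟩

theorem inner_tauCore (hM : IsCoatom M) {α : ↥M → ℂ} (hα : Cfsg.IsClassFunction M α)
    (hA : ∀ x : M, (x : G) ∉ coreSet M → α x = 0) {Φ : G → ℂ}
    (hΦ : Cfsg.IsClassFunction G Φ) :
    Cfsg.classInner (tauCore M α) Φ = Cfsg.classInner α fun a : M => rho M Φ a :=
  (Cfsg.Agent.S1500.result (coreSet M) M (Cfsg.supportR M) (dade_core hG hM) α hα hA).2 Φ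
    (fun a : M => rho M Φ a) hΦ fun _ _ => rfl

theorem isometry_tauCore (hM : IsCoatom M) {α β : ↥M → ℂ} (hα : Cfsg.IsClassFunction M α)
    (hA : ∀ x : M, (x : G) ∉ coreSet M → α x = 0) (hβ : Cfsg.IsClassFunction M β)
    (hB : ∀ x : M, (x : G) ∉ coreSet M → β x = 0) :
    Cfsg.classInner (tauCore M α) (tauCore M β) = Cfsg.classInner α β :=
  (Cfsg.Agent.S1500.result (coreSet M) M (Cfsg.supportR M) (dade_core hG hM) α hα hA).1 β hβ hB

theorem tauCore_one_inner (hM : IsCoatom M) {α : ↥M → ℂ} (hα : Cfsg.IsClassFunction M α)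
    (hA : ∀ x : M, (x : G) ∉ coreSet M → α x = 0) :
    Cfsg.classInner (tauCore M α) (fun _ => 1) = Cfsg.classInner α fun _ => 1 := by
  rw [inner_tauCore hG hM hα hA (Φ := fun _ => (1 : ℂ)) (fun _ _ => rfl)]
  refine congrArg _ (funext fun a => ?_)
  classical
  simp only [rho, finsum_mem_eq_toFinset_sum, Finset.sum_const, nsmul_eq_mul, mul_one]
  rw [Set.toFinset_card, ← Nat.card_eq_fintype_card]
  exact inv_mul_cancel₀ (Nat.cast_ne_zero.2 Nat.card_pos.ne')

theorem tauCore_eq_zero (hM : IsCoatom M) (hN : IsCoatom N) (hnc : NotConj M N) (α : ↥M → ℂ)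
    {z : G} (hz : z ∈ Cfsg.tildeOf N (coreSet N)) : tauCore M α z = 0 := by
  refine OddChar.dadeIsometry_eq_zero fun h => ?_
  rw [← tildeOf_eq_dadeSupport] at h
  exact Set.disjoint_left.1 (core_cosets_disjoint hG hM hN hnc) h hz

theorem rho_tauCore (hM : IsCoatom M) (hN : IsCoatom N) (hnc : NotConj M N) (α : ↥M → ℂ)
    {x : G} (hx : x ∈ coreSet N) : rho N (tauCore M α) x = 0 := by
  rw [rho, finsum_mem_congr (g := fun _ => (0 : ℂ)) rfl fun u hu => ?_, finsum_mem_zero, mul_zero]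
  exact tauCore_eq_zero hG hM hN hnc α ⟨x, hx, u, hu, 1, by group⟩

theorem inner_tauCore_tauCore (hM : IsCoatom M) (hN : IsCoatom N) (hnc : NotConj M N)
    (α : ↥M → ℂ) (β : ↥N → ℂ) : Cfsg.classInner (tauCore M α) (tauCore N β) = 0 := by
  rw [Cfsg.classInner, Finset.sum_eq_zero, mul_zero]
  intro z _
  by_cases hz : z ∈ Cfsg.tildeOf N (coreSet N)
  · rw [tauCore_eq_zero hG hM hN hnc α hz, zero_mul]
  · have : tauCore N β z = 0 := OddChar.dadeIsometry_eq_zero (by rwa [← tildeOf_eq_dadeSupport])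
    rw [this, map_zero, mul_zero]

theorem CoreFamily.signed (hF : CoreFamily M X f ζ) {ξ : ↥M → ℂ} (hξ : ξ ∈ X) :
    Cfsg.IsGeneralizedCharacter G (f ξ) ∧
      (Cfsg.IsIrrCharacter G (f ξ) ∨ Cfsg.IsIrrCharacter G (-f ξ)) ∧
      Cfsg.classInner (f ξ) (f ξ) = 1 := by
  have hm := OddChar.mem_zspan_self hξ
  have hn : Cfsg.classInner (f ξ) (f ξ) = 1 := by
    rw [hF.iso.2.2.1 _ hm _ hm, Char.classInner_irr_self (hF.irr ξ hξ)]
  exact ⟨hF.iso.2.2.2 _ hm, OddChar.irr_or_neg_of_norm_one (hF.iso.2.2.2 _ hm) hn, hn⟩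

theorem CoreFamily.conj_ne (hF : CoreFamily M X f ζ) {ξ : ↥M → ℂ} (hξ : ξ ∈ X) :
    Cfsg.conjFun ξ ≠ ξ :=
  conjFun_ne_self (hG.1.of_dvd_nat (card_subgroup_dvd_card M)) (hF.irr ξ hξ) fun e => by
    have h := (coreOne_facts.2.2.2.2.2.2 ξ (hF.sub hξ)).2.2
    rw [e, Char.classInner_irr_self Char.isIrrCharacter_principal] at h
    exact one_ne_zero h

/-- The coherent map commutes with complex conjugation. -/
theorem CoreFamily.map_conj (hM : IsCoatom M) (hF : CoreFamily M X f ζ) {ξ : ↥M → ℂ}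
    (hξ : ξ ∈ X) :
    f (Cfsg.conjFun ξ) = Cfsg.conjFun (f ξ) ∧ Cfsg.conjFun (f ξ) ≠ f ξ ∧
      Cfsg.classInner (f ξ) (fun _ => 1) = 0 ∧
      f ξ - Cfsg.conjFun (f ξ) = tauCore M (ξ - Cfsg.conjFun ξ) := by
  classical
  have hcξ := hF.conjMem ξ hξ
  obtain ⟨hga, hsa, hna⟩ := hF.signed hG hξ
  obtain ⟨hgb, hsb, hnb⟩ := hF.signed hG hcξ
  have hm := OddChar.mem_zspan_self hξ
  have hmc := OddChar.mem_zspan_self hcξ
  have hab : Cfsg.classInner (f ξ) (f (Cfsg.conjFun ξ)) = 0 := by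
    rw [hF.iso.2.2.1 _ hm _ hmc,
      Char.classInner_irr_of_ne (hF.irr ξ hξ) (hF.irr _ hcξ) (hF.conj_ne hG hξ).symm]
  have hdiff : f ξ - f (Cfsg.conjFun ξ) = tauCore M (ξ - Cfsg.conjFun ξ) := by
    rw [← hF.agree _ (OddChar.sub_conjFun_mem_zspanOn
      (fun χ hχ => Char.IsIrrCharacter.isCharacter (hF.irr χ hχ)) hξ hcξ)]
    exact (map_sub_of_add hF.iso.1 (Submodule.sub_mem _ hm hmc) hmc).symm
  have hcd : Cfsg.conjFun (f ξ) - Cfsg.conjFun (f (Cfsg.conjFun ξ)) =
      f (Cfsg.conjFun ξ) - f ξ := by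
    rw [← OddChar.conjFun_sub, hdiff, ← neg_sub (f ξ) (f (Cfsg.conjFun ξ)), hdiff]
    funext z
    simp only [Cfsg.conjFun, tauCore, Cfsg.dadeIsometry, Pi.sub_apply, Pi.neg_apply]
    split_ifs <;> simp
  have h1 : f ξ 1 = f (Cfsg.conjFun ξ) 1 := by
    have := congrFun hdiff 1
    rw [tauCore, dade_apply_one _ _ _ (dade_core hG hM), Pi.sub_apply, sub_eq_zero] at this
    exact this
  obtain ⟨ε, χ, hε, hχ, ea⟩ := isSignedIrr_norm hsa
  obtain ⟨ε', μ, hε', hμ, eb⟩ := isSignedIrr_norm hsb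
  obtain ⟨n, -, hn⟩ := Char.IsIrrCharacter.exists_degree hχ
  obtain ⟨m, -, hm'⟩ := Char.IsIrrCharacter.exists_degree hμ
  have hn0 : n ≠ 0 := fun h => Char.IsIrrCharacter.apply_one_ne_zero hχ (by rw [hn, h, Nat.cast_zero])
  have hm0 : m ≠ 0 := fun h => Char.IsIrrCharacter.apply_one_ne_zero hμ (by rw [hm', h, Nat.cast_zero])
  have hεε : ε = ε' := by
    rw [ea, eb, Pi.smul_apply, Pi.smul_apply, hn, hm', smul_eq_mul, smul_eq_mul] at h1
    have h1' : ε * (n : ℤ) = ε' * (m : ℤ) := by exact_mod_cast h1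
    rcases hε with rfl | rfl <;> rcases hε' with rfl | rfl <;> omega
  subst hεε
  have hεsq : (ε : ℂ) * ε = 1 := by rcases hε with rfl | rfl <;> simp
  have hca : Cfsg.conjFun (f ξ) = (ε : ℂ) • Cfsg.conjFun χ := by rw [ea, conjFun_smul_int]
  have hcb : Cfsg.conjFun (f (Cfsg.conjFun ξ)) = (ε : ℂ) • Cfsg.conjFun μ := by
    rw [eb, conjFun_smul_int]
  have hkey : Cfsg.classInner (Cfsg.conjFun (f ξ)) (f (Cfsg.conjFun ξ)) -
      Cfsg.classInner (Cfsg.conjFun (f (Cfsg.conjFun ξ))) (f (Cfsg.conjFun ξ)) = 1 := by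
    rw [← Char.classInner_sub_left, hcd, Char.classInner_sub_left, hnb, hab, sub_zero]
  rw [signed_inner hca eb, signed_inner hcb eb, hεsq, one_mul, one_mul] at hkey
  have hmain : Cfsg.conjFun χ = μ := by
    by_contra h
    rw [Char.classInner_irr_of_ne (OddChar.isIrrCharacter_conjFun hχ) hμ h, zero_sub] at hkey
    by_cases h' : Cfsg.conjFun μ = μ
    · rw [h', Char.classInner_irr_self hμ] at hkey
      norm_num at hkey
    · rw [Char.classInner_irr_of_ne (OddChar.isIrrCharacter_conjFun hμ) hμ h'] at hkey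
      norm_num at hkey
  have hbar : f (Cfsg.conjFun ξ) = Cfsg.conjFun (f ξ) := by rw [eb, hca, hmain]
  have hne : Cfsg.conjFun (f ξ) ≠ f ξ := by
    intro e
    rw [hbar, e, hna] at hab
    exact one_ne_zero hab
  refine ⟨hbar, hne, ?_, by rw [← hbar, hdiff]⟩
  have hχ1 : χ ≠ fun _ => 1 := by
    intro e
    refine hne ?_
    rw [hca, ea, e]
    funext z
    simp [Cfsg.conjFun]
  rw [ea, Char.classInner_smul_left,
    Char.classInner_irr_of_ne hχ Char.isIrrCharacter_principal hχ1, mul_zero]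

/-- The families of non-conjugate maximal subgroups are orthogonal. -/
theorem CoreFamily.orth (hM : IsCoatom M) (hN : IsCoatom N) (hnc : NotConj M N)
    (hF : CoreFamily M X f ζ) (hF' : CoreFamily N Y g η) {ξ : ↥M → ℂ} (hξ : ξ ∈ X)
    {ν : ↥N → ℂ} (hν : ν ∈ Y) : Cfsg.classInner (f ξ) (g ν) = 0 := by
  obtain ⟨-, hne, -, hd⟩ := hF.map_conj hG hM hξ
  obtain ⟨-, -, -, hd'⟩ := hF'.map_conj hG hN hν
  obtain ⟨ε, χ, hε, hχ, ea⟩ := isSignedIrr_norm (hF.signed hG hξ).2.1
  obtain ⟨ε', μ, hε', hμ, eb⟩ := isSignedIrr_norm (hF'.signed hG hν).2.1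
  have h0 := inner_tauCore_tauCore hG hM hN hnc (ξ - Cfsg.conjFun ξ) (ν - Cfsg.conjFun ν)
  rw [← hd, ← hd', signed_inner (χ := χ - Cfsg.conjFun χ) (μ := μ - Cfsg.conjFun μ) (ε := ε)
    (ε' := ε') (by rw [ea, conjFun_smul_int, smul_sub])
    (by rw [eb, conjFun_smul_int, smul_sub])] at h0
  have hεne : (ε : ℂ) * ε' ≠ 0 := by
    rcases hε with rfl | rfl <;> rcases hε' with rfl | rfl <;> norm_num
  have hχne : Cfsg.conjFun χ ≠ χ := fun e => hne (by rw [ea, conjFun_smul_int, e])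
  rw [signed_inner ea eb,
    (orth_pair hχ hμ hχne ((mul_eq_zero.1 h0).resolve_left hεne)).1, mul_zero]

theorem CoreFamily.sub_mem (hF : CoreFamily M X f ζ) :
    Cfsg.IsGeneralizedCharacter M (coreOne M - ζ) ∧
      Cfsg.IsClassFunction M (coreOne M - ζ) ∧
      ∀ x : M, (x : G) ∉ coreSet M → (coreOne M - ζ) x = 0 := by
  obtain ⟨hg, hc, hz, -⟩ := coreOne_facts (M := M)
  obtain ⟨hg', hc', hz'⟩ := span_coreChars (OddChar.mem_zspan_self (hF.sub hF.mem))
  refine ⟨Char.IsGeneralizedCharacter.sub hg hg', fun x y => by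
    simp only [Pi.sub_apply]; rw [hc x y, hc' x y], fun x hx => ?_⟩
  by_cases h : x = 1
  · subst h
    rw [Pi.sub_apply, hF.deg, coreOne_apply_mem (one_mem _), sub_self]
  · have hxH : x ∉ (Cfsg.sigmaCore M).subgroupOf M :=
      fun hm => hx ⟨mem_subgroupOf.1 hm, fun e => h (Subtype.ext e)⟩
    rw [Pi.sub_apply, hz x hxH, hz' x hxH, sub_zero]

theorem CoreFamily.diff_inner (hM : IsCoatom M) (hF : CoreFamily M X f ζ) {ξ : ↥M → ℂ}
    (hξ : ξ ∈ X) {d : ℕ} (hd : ξ 1 = (d : ℂ) * ζ 1) {Φ : G → ℂ}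
    (hΦ : Cfsg.IsClassFunction G Φ) :
    Cfsg.classInner (f ξ) Φ - (d : ℂ) * Cfsg.classInner (f ζ) Φ =
      Cfsg.classInner (ξ - (d : ℂ) • ζ) (fun a : M => rho M Φ a) := by
  have hmζ := OddChar.mem_zspan_self hF.mem
  have hz : (d : ℂ) • ζ ∈ Cfsg.zspan X := by
    rw [OddChar.Coh.natCast_smul_eq]
    exact Submodule.smul_mem _ _ hmζ
  have hmem : ξ - (d : ℂ) • ζ ∈ Cfsg.zspanOn X {1}ᶜ := by
    rw [OddChar.Coh.mem_zspanOn_iff]
    exact ⟨Submodule.sub_mem _ (OddChar.mem_zspan_self hξ) hz, by simp [hd]⟩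
  have hmem' : ξ - (d : ℂ) • ζ ∈ Cfsg.zspan (coreChars M) :=
    OddChar.Coh.zspan_mono hF.sub hmem.1
  obtain ⟨-, hc, hA⟩ := core_supported hG hmem' (by simp [hd])
  rw [← inner_tauCore hG hM hc hA hΦ, ← hF.agree _ hmem,
    map_sub_of_add hF.iso.1 hmem.1 hz, Char.classInner_sub_left, OddChar.Coh.natCast_smul_eq,
    hF.iso.2.1 _ hmζ, OddChar.Coh.classInner_zsmul_left, Int.cast_natCast]

/-- The real function `Γ`. -/
theorem CoreFamily.gamma_facts (hM : IsCoatom M) (hF : CoreFamily M X f ζ) :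
    Cfsg.IsGeneralizedCharacter G (gammaCore M f ζ) ∧
      Cfsg.conjFun (gammaCore M f ζ) = gammaCore M f ζ ∧
      Cfsg.classInner (gammaCore M f ζ) (fun _ => 1) = 0 ∧
      ∃ b : ℤ, (∀ ξ ∈ X, ξ 1 = ζ 1 → Cfsg.classInner (gammaCore M f ζ) (f ξ) = b) ∧
        Cfsg.classInner (gammaCore M f ζ) (gammaCore M f ζ) =
          ((Cfsg.sigmaCore M).relIndex M : ℂ) - 1 + 2 * b := by
  classical
  obtain ⟨hαg, hαc, hαA⟩ := hF.sub_mem hG
  obtain ⟨hg1, hc1, -, hconj1, he11, he1e1, he1χ⟩ := coreOne_facts (M := M)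
  obtain ⟨hψg, -, hψn⟩ := hF.signed hG hF.mem
  obtain ⟨hψbar, -, hψ1, hψd⟩ := hF.map_conj hG hM hF.mem
  set β := tauCore M (coreOne M - ζ) with hβ
  have hβg : Cfsg.IsGeneralizedCharacter G β :=
    Cfsg.Agent.S1501.result (coreSet M) M (Cfsg.supportR M) (dade_core hG hM) _ hαg hαA
  have h1g : Cfsg.IsGeneralizedCharacter G (fun _ : G => (1 : ℂ)) :=
    Char.IsGeneralizedCharacter.one
  have hΓg : Cfsg.IsGeneralizedCharacter G (gammaCore M f ζ) :=
    Char.IsGeneralizedCharacter.add (Char.IsGeneralizedCharacter.sub hβg h1g) hψg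
  have hβ1 : Cfsg.classInner β (fun _ => 1) = 1 := by
    rw [hβ, tauCore_one_inner hG hM hαc hαA, Char.classInner_sub_left, he11,
      (he1χ ζ (hF.sub hF.mem)).2.2, sub_zero]
  have h11 : Cfsg.classInner (fun _ : G => (1 : ℂ)) (fun _ => 1) = 1 :=
    Char.classInner_irr_self Char.isIrrCharacter_principal
  have h1f : ∀ ξ ∈ X, Cfsg.classInner (fun _ : G => (1 : ℂ)) (f ξ) = 0 := fun ξ hξ => by
    rw [← Char.classInner_conj_symm, (hF.map_conj hG hM hξ).2.2.1, map_zero]
  have hββ : Cfsg.classInner β β = ((Cfsg.sigmaCore M).relIndex M : ℂ) + 1 := by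
    rw [hβ, isometry_tauCore hG hM hαc hαA hαc hαA, Char.classInner_sub_left,
      Char.classInner_sub_right, Char.classInner_sub_right, he1e1,
      (he1χ ζ (hF.sub hF.mem)).1, (he1χ ζ (hF.sub hF.mem)).2.1,
      Char.classInner_irr_self (hF.irr ζ hF.mem)]
    ring
  obtain ⟨c, hc⟩ := OddChar.Coh.exists_int_inner hβg hψg
  have hfam : ∀ ξ ∈ X, ξ 1 = ζ 1 → Cfsg.classInner β (f ξ) =
      (c : ℂ) + if ξ = ζ then 0 else 1 := by
    intro ξ hξ h1
    by_cases h : ξ = ζ
    · rw [if_pos h, h, hc, add_zero]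
    rw [if_neg h]
    have hmem : ξ - ζ ∈ Cfsg.zspanOn X {1}ᶜ := by
      rw [OddChar.Coh.mem_zspanOn_iff]
      exact ⟨Submodule.sub_mem _ (OddChar.mem_zspan_self hξ) (OddChar.mem_zspan_self hF.mem),
        by simp [h1]⟩
    obtain ⟨-, hc', hA'⟩ := core_supported hG (OddChar.Coh.zspan_mono hF.sub hmem.1)
      (α := ξ - ζ) (by simp [h1])
    have h2 := isometry_tauCore hG hM hαc hαA hc' hA'
    rw [← hF.agree _ hmem, map_sub_of_add hF.iso.1 hmem.1 (OddChar.mem_zspan_self hF.mem),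
      ← hβ, Char.classInner_sub_right, hc, Char.classInner_sub_left,
      Char.classInner_sub_right, Char.classInner_sub_right, (he1χ ξ (hF.sub hξ)).1,
      (he1χ ζ (hF.sub hF.mem)).1, Char.classInner_irr_self (hF.irr ζ hF.mem),
      Char.classInner_irr_of_ne (hF.irr ζ hF.mem) (hF.irr ξ hξ) (Ne.symm h)] at h2
    linear_combination h2
  refine ⟨hΓg, ?_, ?_, c + 1, fun ξ hξ h1 => ?_, ?_⟩
  · -- real
    have hcβ : Cfsg.conjFun β = β + f ζ - Cfsg.conjFun (f ζ) := by
      rw [add_sub_assoc, hψd, hβ, tauCore, tauCore, ← dade_map_add]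
      have : coreOne M - ζ + (ζ - Cfsg.conjFun ζ) = Cfsg.conjFun (coreOne M - ζ) := by
        rw [OddChar.conjFun_sub, hconj1]
        abel
      rw [this]
      funext z
      simp only [Cfsg.conjFun, Cfsg.dadeIsometry]
      split_ifs <;> simp
    funext z
    have := congrFun hcβ z
    simp only [gammaCore, ← hβ, Cfsg.conjFun, Pi.add_apply, Pi.sub_apply, map_add, map_sub,
      map_one] at this ⊢
    linear_combination this
  · rw [gammaCore, ← hβ, Char.classInner_add_left, Char.classInner_sub_left, hβ1, h11, hψ1]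
    norm_num
  · rw [gammaCore, ← hβ, Char.classInner_add_left, Char.classInner_sub_left, hfam ξ hξ h1,
      h1f ξ hξ, hF.iso.2.2.1 _ (OddChar.mem_zspan_self hF.mem) _ (OddChar.mem_zspan_self hξ)]
    by_cases h : ξ = ζ
    · rw [if_pos h, h, Char.classInner_irr_self (hF.irr ζ hF.mem)]
      push_cast
      ring
    · rw [if_neg h, Char.classInner_irr_of_ne (hF.irr ζ hF.mem) (hF.irr ξ hξ) (Ne.symm h)]
      push_cast
      ring
  · have hψβ : Cfsg.classInner (f ζ) β = c := by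
      rw [← OddChar.Coh.classInner_comm_gen hβg hψg, hc]
    have h1β : Cfsg.classInner (fun _ : G => (1 : ℂ)) β = 1 := by
      rw [← OddChar.Coh.classInner_comm_gen hβg h1g, hβ1]
    rw [gammaCore, ← hβ]
    simp only [Char.classInner_add_left, Char.classInner_add_right, Char.classInner_sub_left,
      Char.classInner_sub_right]
    rw [hββ, hβ1, hc, h1β, h11, h1f ζ hF.mem, hψβ, hψ1, hψn]
    push_cast
    ring

/-- A function orthogonal to the whole family averages to an integer constant on the core. -/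
theorem CoreFamily.rho_const (hM : IsCoatom M) (hF : CoreFamily M X f ζ)
    (hall : coreChars M ⊆ X) {Φ : G → ℂ} (hΦg : Cfsg.IsGeneralizedCharacter G Φ)
    (horth : ∀ ξ ∈ X, Cfsg.classInner (f ξ) Φ = 0) :
    ∃ b : ℤ, Cfsg.classInner (tauCore M (coreOne M - ζ)) Φ = b ∧
      ∀ x ∈ coreSet M, rho M Φ x = b := by
  classical
  haveI := core_normal (M := M)
  have hΦ := Char.IsGeneralizedCharacter.isClassFunction hΦg
  have hD := dade_core hG hM
  obtain ⟨hαg, hαc, hαA⟩ := hF.sub_mem hG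
  obtain ⟨hg1, hc1, hz1, -, he11, -, he1χ⟩ := coreOne_facts (M := M)
  obtain ⟨b, hb⟩ := OddChar.Coh.exists_int_inner
    (Cfsg.Agent.S1501.result (coreSet M) M (Cfsg.supportR M) hD _ hαg hαA) hΦg
  change Cfsg.classInner (tauCore M (coreOne M - ζ)) Φ = (b : ℂ) at hb
  refine ⟨b, hb, ?_⟩
  set H := (Cfsg.sigmaCore M).subgroupOf M with hH
  have hmemA : ∀ x : M, (x : G) ∈ coreSet M ↔ x ∈ H ∧ x ≠ 1 := fun x => by
    simp [coreSet, hH, mem_subgroupOf]
  let v : ↥M → ℂ := fun x => if (x : G) ∈ coreSet M then rho M Φ x - b else 0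
  have hvcl : Cfsg.IsClassFunction M v := by
    intro a x
    by_cases ha : (a : G) ∈ coreSet M
    · have ha' : (x : G) * a * (x : G)⁻¹ ∈ coreSet M := hD.conj_mem x x.2 a ha
      simp only [v, Subgroup.coe_mul, InvMemClass.coe_inv, if_pos ha, if_pos ha']
      congr 1
      simp only [rho]
      have hcard : Nat.card (Cfsg.supportR M ((x : G) * a * (x : G)⁻¹)) =
          Nat.card (Cfsg.supportR M (a : G)) := by
        rw [OddChar.dade_H_conj hD ha x.2]
        exact (Nat.card_congr (Cfsg.supportR M (a : G) |>.equivMapOfInjective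
          (MulAut.conj (x : G)).toMonoidHom (MulAut.conj (x : G)).injective).toEquiv).symm
      rw [hcard]
      congr 1
      rw [OddChar.dade_H_conj hD ha x.2, coe_map]
      refine (finsum_mem_image (g := ⇑(MulEquiv.toMonoidHom (MulAut.conj (x : G))))
        fun u _ w _ h => (MulAut.conj (x : G)).injective h).trans ?_
      refine finsum_mem_congr rfl fun u _ => ?_
      show Φ ((x : G) * a * (x : G)⁻¹ * ((x : G) * u * (x : G)⁻¹)) = Φ (a * u)
      rw [show (x : G) * a * (x : G)⁻¹ * ((x : G) * u * (x : G)⁻¹) =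
        (x : G) * (a * u) * (x : G)⁻¹ by group]
      exact hΦ ((a : G) * u) (x : G)
    · have ha' : (x : G) * a * (x : G)⁻¹ ∉ coreSet M := fun h => ha (by
        simpa [mul_assoc] using hD.conj_mem _ (M.inv_mem x.2) _ h)
      simp only [v, Subgroup.coe_mul, InvMemClass.coe_inv, if_neg ha, if_neg ha']
  -- `v` is orthogonal to the test functions
  let t : (H → ℂ) → (↥M → ℂ) := fun θ => Cfsg.indFun H θ - θ 1 • coreOne M
  have htA : ∀ θ : H → ℂ, ∀ x : M, (x : G) ∉ coreSet M → t θ x = 0 := by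
    intro θ x hx
    rw [hmemA] at hx
    by_cases h1 : x = 1
    · subst h1
      simp only [t, Pi.sub_apply, Pi.smul_apply, smul_eq_mul, Char.indFun_apply_one,
        coreOne_apply_mem (one_mem _)]
      simp [Subgroup.relIndex, hH, mul_comm]
    · have hx' : x ∉ H := fun h => hx ⟨h, h1⟩
      simp [t, Char.indFun_eq_zero_of_normal H _ hx', hz1 x hx']
  have horthv : ∀ θ : Cfsg.IrrCharacter H, Cfsg.classInner (t (θ : H → ℂ)) v = 0 := by
    intro θ
    by_cases hθ1 : (θ : H → ℂ) = fun _ => 1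
    · have h0 : t (θ : H → ℂ) = 0 := by simp [t, hθ1, coreOne, H]
      rw [h0, Char.classInner_zero_left]
    set χ := Cfsg.indFun H (θ : H → ℂ) with hχ
    have hχS : χ ∈ coreChars M := ⟨θ, θ.2, hθ1, fun a ha => by
      rw [show a = 1 from Subtype.ext (mem_bot.1 ha)], rfl⟩
    obtain ⟨d, -, hd'⟩ := Char.IsIrrCharacter.exists_degree θ.2
    have hdeg : χ 1 = (d : ℂ) * ζ 1 := by
      rw [hχ, Char.indFun_apply_one, hd', hF.deg, mul_comm]
      rfl
    have h1 := hF.diff_inner hG hM (hall hχS) hdeg hΦ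
    rw [horth χ (hall hχS), horth ζ hF.mem, mul_zero, sub_zero] at h1
    have h2 : Cfsg.classInner (coreOne M - ζ) (fun a : M => rho M Φ a) = (b : ℂ) := by
      rw [← inner_tauCore hG hM hαc hαA hΦ, hb]
    have hsplit : t (θ : H → ℂ) = (χ - (d : ℂ) • ζ) - (d : ℂ) • (coreOne M - ζ) := by
      funext x
      simp only [t, hd', ← hχ, Pi.sub_apply, Pi.smul_apply, smul_eq_mul]
      ring
    rw [classInner_congr_supp (A := {x : M | (x : G) ∈ coreSet M}) (htA _)
        (f' := (fun a : M => rho M Φ a) - (b : ℂ) • fun _ => (1 : ℂ)) (fun x hx => by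
          have hx' : (x : G) ∈ coreSet M := hx
          simp [v, if_pos hx']),
      Char.classInner_sub_right, Char.classInner_smul_right, map_intCast]
    conv_lhs => arg 1; rw [hsplit, Char.classInner_sub_left, Char.classInner_smul_left, ← h1, h2]
    simp only [t, hd', ← hχ, Char.classInner_sub_left, Char.classInner_smul_left,
      (he1χ χ hχS).2.2, he11]
    ring
  -- hence zero
  have hv0 : v = 0 := by
    set vH : H → ℂ := fun x => v x
    have hvH : Cfsg.IsClassFunction H vH := fun a x => by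
      show v ((x * a * x⁻¹ : H) : M) = v a
      simpa using hvcl (a : M) (x : M)
    set c : Cfsg.IrrCharacter H → ℂ := fun θ => Cfsg.classInner vH θ
    have hexp : vH = ∑ θ, c θ • (θ : H → ℂ) := Char.IsClassFunction.eq_sum_classInner hvH
    have hi0 : (H.index : ℂ) ≠ 0 := Nat.cast_ne_zero.2 index_ne_zero_of_finite
    have hres : v = (H.index : ℂ)⁻¹ • Cfsg.indFun H vH := by
      funext x
      by_cases hx : x ∈ H
      · have hinv : ∀ y, CharTwist.conjFun H vH y = vH := fun y => funext fun k => by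
          show v _ = v k
          exact hvcl (k : M) y
        have h := CharTwist.indFun_normal_apply H vH ⟨x, hx⟩
        simp only [hinv, Finset.sum_const, Finset.card_univ, nsmul_eq_mul] at h
        rw [Pi.smul_apply, h, smul_eq_mul, ← Nat.card_eq_fintype_card, ← H.card_mul_index,
          Nat.cast_mul, mul_assoc, inv_mul_cancel_left₀ (Nat.cast_ne_zero.2 Nat.card_pos.ne'),
          inv_mul_cancel_left₀ hi0]
      · rw [Pi.smul_apply, Char.indFun_eq_zero_of_normal H _ hx, smul_zero]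
        have : (x : G) ∉ coreSet M := fun h => hx ((hmemA x).1 h).1
        simp only [v, if_neg this]
    have hv1 : ∑ θ, c θ * (θ : H → ℂ) 1 = 0 := by
      have h := congrFun hexp 1
      simp only [Finset.sum_apply, Pi.smul_apply, smul_eq_mul] at h
      rw [← h]
      show v ((1 : H) : M) = 0
      simp only [v, OneMemClass.coe_one]
      rw [if_neg hD.one_not_mem]
    have hdec : v = ∑ θ, ((H.index : ℂ)⁻¹ * c θ) • t (θ : H → ℂ) := by
      rw [hres]
      conv_lhs => rw [hexp, Char.indFun_sum, Finset.smul_sum]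
      simp only [t, smul_sub, Finset.sum_sub_distrib, Char.indFun_smul, smul_smul]
      have h0 : ∑ θ : Cfsg.IrrCharacter H,
          ((H.index : ℂ)⁻¹ * c θ * (θ : H → ℂ) 1) • coreOne M = 0 := by
        rw [← Finset.sum_smul,
          Finset.sum_congr rfl (fun θ _ => mul_assoc ((H.index : ℂ)⁻¹) (c θ) _),
          ← Finset.mul_sum, hv1, mul_zero, zero_smul]
      rw [h0, sub_zero]
    refine OddChar.Coh.classInner_self_eq_zero ?_
    nth_rewrite 1 [hdec]
    rw [Char.classInner_sum_left]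
    refine Finset.sum_eq_zero fun θ _ => ?_
    rw [Char.classInner_smul_left, horthv θ, mul_zero]
  intro x hx
  have h := congrFun hv0 (⟨x, hD.subset hx⟩ : M)
  simp only [v, if_pos hx, Pi.zero_apply, sub_eq_zero] at h
  exact h

/-- The averages of `f ζ` carry norm at least `1 - 1/|X|` when `X` has one degree. -/
theorem CoreFamily.norm_rho_ge (hM : IsCoatom M) (hF : CoreFamily M X f ζ)
    (hdeg : ∀ ξ ∈ X, ξ 1 = ζ 1) :
    1 - (Nat.card ↥X : ℝ)⁻¹ ≤
      (Nat.card M : ℝ)⁻¹ * ∑ᶠ a ∈ {a : M | (a : G) ∈ coreSet M}, ‖rho M (f ζ) a‖ ^ 2 := by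
  classical
  set ι := Finset.univ.filter (fun χ : Cfsg.IrrCharacter M => (χ : ↥M → ℂ) ∈ X) with hι
  have hm : Nat.card ↥X = ι.card := by
    rw [hι, ← Fintype.card_subtype, ← Nat.card_eq_fintype_card]
    exact Nat.card_congr
      { toFun := fun ξ => ⟨⟨ξ.1, hF.irr ξ.1 ξ.2⟩, ξ.2⟩
        invFun := fun χ => ⟨χ.1.1, χ.2⟩
        left_inv := fun _ => rfl
        right_inv := fun _ => rfl }
  let z0 : Cfsg.IrrCharacter M := ⟨ζ, hF.irr ζ hF.mem⟩
  have hz0 : z0 ∈ ι := by simp [hι, z0, hF.mem]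
  have hιne : (ι.card : ℂ) ≠ 0 := Nat.cast_ne_zero.2 (Finset.card_ne_zero.2 ⟨z0, hz0⟩)
  set τ₀ : ↥M → ℂ := (ι.card : ℂ)⁻¹ • ∑ χ ∈ ι, (ζ - (χ : ↥M → ℂ)) with hτ₀
  let F : ↥M → ℂ := fun a => if (a : G) ∈ coreSet M then rho M (f ζ) a else 0
  have hψc := Char.IsGeneralizedCharacter.isClassFunction (hF.signed hG hF.mem).1
  -- `⟨τ₀, F⟩` and `⟨τ₀, τ₀⟩`
  have hterm : ∀ χ ∈ ι, Cfsg.classInner (ζ - (χ : ↥M → ℂ)) F = 1 - if χ = z0 then 1 else 0 := by
    intro χ hχ
    have hχX : (χ : ↥M → ℂ) ∈ X := (Finset.mem_filter.1 hχ).2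
    have h1 := hF.diff_inner hG hM hχX (d := 1) (by simp [hdeg _ hχX]) hψc
    obtain ⟨-, -, hA⟩ := core_supported hG (α := ζ - (χ : ↥M → ℂ))
      (Submodule.sub_mem _ (OddChar.mem_zspan_self (hF.sub hF.mem))
        (OddChar.mem_zspan_self (hF.sub hχX))) (by simp [hdeg _ hχX])
    rw [classInner_congr_supp (A := {x : M | (x : G) ∈ coreSet M}) hA
      (f' := fun a : M => rho M (f ζ) a) (fun x hx => by
        have hx' : (x : G) ∈ coreSet M := hx
        simp [F, if_pos hx']), show ζ - (χ : ↥M → ℂ) = -((χ : ↥M → ℂ) - (1 : ℂ) • ζ) by simp,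
      Char.classInner_neg_left]
    simp only [Nat.cast_one, one_mul] at h1
    rw [← h1, hF.iso.2.2.1 _ (OddChar.mem_zspan_self hχX) _ (OddChar.mem_zspan_self hF.mem),
      hF.iso.2.2.1 _ (OddChar.mem_zspan_self hF.mem) _ (OddChar.mem_zspan_self hF.mem),
      Char.classInner_irr_self (hF.irr ζ hF.mem)]
    by_cases h : χ = z0
    · rw [if_pos h, h, Char.classInner_irr_self (hF.irr ζ hF.mem)]
      ring
    · rw [if_neg h, Char.classInner_irr_of_ne χ.2 (hF.irr ζ hF.mem)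
        fun e => h (Subtype.ext e)]
      ring
  have hval : Cfsg.classInner τ₀ F = ((1 - (ι.card : ℝ)⁻¹ : ℝ) : ℂ) := by
    rw [hτ₀, Char.classInner_smul_left, Char.classInner_sum_left, Finset.sum_congr rfl hterm,
      Finset.sum_sub_distrib, Finset.sum_const, Finset.sum_ite_eq' ι z0 (fun _ => (1 : ℂ)),
      if_pos hz0, nsmul_eq_mul, mul_one]
    push_cast
    rw [mul_sub, inv_mul_cancel₀ hιne, mul_one]
  have hnorm : Cfsg.classInner τ₀ τ₀ = ((1 - (ι.card : ℝ)⁻¹ : ℝ) : ℂ) := by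
    have e : ∀ χ ∈ ι, Cfsg.classInner (ζ - (χ : ↥M → ℂ)) τ₀ = 1 - if χ = z0 then 1 else 0 := by
      intro χ hχ
      have e2 : ∀ φ ∈ ι, Cfsg.classInner (ζ - (χ : ↥M → ℂ)) (ζ - (φ : ↥M → ℂ)) =
          1 - (if χ = z0 then 1 else 0) - (if φ = z0 then 1 else 0) + if φ = χ then 1 else 0 := by
        intro φ _
        rw [show (ζ : ↥M → ℂ) = (z0 : ↥M → ℂ) from rfl]
        simp only [Char.classInner_sub_left, Char.classInner_sub_right,
          Char.classInner_irrCharacter, @eq_comm _ z0 φ, @eq_comm _ χ φ, ↓reduceIte]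
        ring
      rw [hτ₀, Char.classInner_smul_right, Char.classInner_sum_right, Finset.sum_congr rfl e2,
        Finset.sum_add_distrib, Finset.sum_sub_distrib,
        Finset.sum_ite_eq' ι z0 (fun _ => (1 : ℂ)), Finset.sum_ite_eq' ι χ (fun _ => (1 : ℂ)),
        if_pos hz0, if_pos hχ, Finset.sum_const, nsmul_eq_mul, map_inv₀, map_natCast]
      field_simp
      ring
    conv_lhs => arg 1; rw [hτ₀]
    rw [Char.classInner_smul_left, Char.classInner_sum_left, Finset.sum_congr rfl e,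
      Finset.sum_sub_distrib, Finset.sum_const, Finset.sum_ite_eq' ι z0 (fun _ => (1 : ℂ)),
      if_pos hz0, nsmul_eq_mul, mul_one]
    push_cast
    rw [mul_sub, inv_mul_cancel₀ hιne, mul_one]
  have hFF : (Cfsg.classInner F F).re =
      (Nat.card M : ℝ)⁻¹ * ∑ᶠ a ∈ {a : M | (a : G) ∈ coreSet M}, ‖rho M (f ζ) a‖ ^ 2 := by
    rw [OddChar.Coh.classInner_self_eq, Complex.ofReal_re, finsum_mem_eq_toFinset_sum]
    congr 1
    rw [Set.toFinset_ofPred, Finset.sum_filter]
    refine Finset.sum_congr rfl fun a _ => ?_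
    by_cases ha : (a : G) ∈ coreSet M
    · simp [F, ha]
    · simp [F, ha]
  have hnn := OddChar.Coh.classInner_self_nonneg (F - τ₀)
  rw [Char.classInner_sub_left, Char.classInner_sub_right, Char.classInner_sub_right, hnorm,
    hval, ← Char.classInner_conj_symm τ₀ F, hval, Complex.conj_ofReal] at hnn
  simp only [Complex.sub_re, Complex.ofReal_re] at hnn
  rw [hm, ← hFF]
  linarith

/-- The degrees of the whole family. -/
theorem sum_sq_coreChars (hirr : ∀ χ ∈ coreChars M, Cfsg.IsIrrCharacter M χ) :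
    ∑ᶠ χ ∈ {χ : Cfsg.IrrCharacter M | (χ : ↥M → ℂ) ∈ coreChars M}, (χ : ↥M → ℂ) 1 ^ 2 =
      (Nat.card M : ℂ) - ((Cfsg.sigmaCore M).relIndex M : ℂ) := by
  classical
  haveI := core_normal (M := M)
  set H := (Cfsg.sigmaCore M).subgroupOf M with hH
  obtain ⟨-, hc1, -, -, -, -, he1χ⟩ := coreOne_facts (M := M)
  set δ : H → ℂ := fun x => if x = 1 then (Nat.card H : ℂ) else 0
  set D : ↥M → ℂ := fun x => if x = 1 then (Nat.card M : ℂ) else 0
  have hδ : Cfsg.IsClassFunction H δ := fun a x => by simp [δ]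
  have hδc : ∀ θ : Cfsg.IrrCharacter H, Cfsg.classInner δ θ = (θ : H → ℂ) 1 := fun θ => by
    rw [Cfsg.classInner, Finset.sum_eq_single 1 (fun y _ hy => by simp [δ, hy]) (by simp)]
    simp only [δ, if_true, OddChar.conj_apply_one (Char.IsIrrCharacter.isCharacter θ.2)]
    rw [← mul_assoc, inv_mul_cancel₀ (Nat.cast_ne_zero.2 Nat.card_pos.ne'), one_mul]
  have hD : Cfsg.indFun H δ = D := by
    funext x
    by_cases hx1 : x = 1
    · subst hx1
      simp only [Char.indFun_apply_one, δ, D, if_true]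
      rw [← H.card_mul_index, Nat.cast_mul, mul_comm]
    · rw [Char.indFun_apply]
      simp only [D, if_neg hx1]
      rw [Finset.sum_eq_zero, mul_zero]
      intro y _
      by_cases hy : y⁻¹ * x * y ∈ H
      · rw [Char.extendByZero_apply_mem _ _ hy]
        refine if_neg fun e => hx1 ?_
        have e' := congrArg Subtype.val e
        simp only [OneMemClass.coe_one] at e'
        calc x = y * (y⁻¹ * x * y) * y⁻¹ := by group
          _ = 1 := by rw [e']; group
      · exact Char.extendByZero_of_notMem _ _ hy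
  let one : Cfsg.IrrCharacter H := ⟨fun _ => 1, Char.isIrrCharacter_principal⟩
  have hexp : D - coreOne M =
      ∑ θ ∈ Finset.univ.erase one, (θ : H → ℂ) 1 • Cfsg.indFun H (θ : H → ℂ) := by
    rw [← hD]
    conv_lhs => arg 1; rw [Char.IsClassFunction.eq_sum_classInner hδ, Char.indFun_sum]
    rw [← Finset.add_sum_erase _ _ (Finset.mem_univ one)]
    simp only [hδc, Char.indFun_smul]
    rw [show ((one : H → ℂ) 1 • Cfsg.indFun H (one : H → ℂ)) = coreOne M by
      simp [one, coreOne, H], add_sub_cancel_left]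
  have hcl : Cfsg.IsClassFunction M (D - coreOne M) := fun a x => by
    simp only [Pi.sub_apply, hc1 a x]
    simp [D]
  have hDc : ∀ χ : Cfsg.IrrCharacter M, Cfsg.classInner D χ = (χ : ↥M → ℂ) 1 := fun χ => by
    rw [Cfsg.classInner, Finset.sum_eq_single 1 (fun y _ hy => by simp [D, hy]) (by simp)]
    simp only [D, if_true, OddChar.conj_apply_one (Char.IsIrrCharacter.isCharacter χ.2)]
    rw [← mul_assoc, inv_mul_cancel₀ (Nat.cast_ne_zero.2 Nat.card_pos.ne'), one_mul]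
  have h := congrFun (Char.IsClassFunction.eq_sum_classInner hcl) 1
  rw [Pi.sub_apply, coreOne_apply_mem (one_mem _)] at h
  simp only [D, if_true] at h
  rw [h, finsum_mem_eq_toFinset_sum, Set.toFinset_ofPred, Finset.sum_filter, Finset.sum_apply]
  refine Finset.sum_congr rfl fun χ _ => ?_
  rw [Pi.smul_apply, smul_eq_mul]
  by_cases hχ : (χ : ↥M → ℂ) ∈ coreChars M
  · rw [if_pos hχ, Char.classInner_sub_left, hDc, (he1χ _ hχ).1, sub_zero, sq]
  · rw [if_neg hχ, hexp, Char.classInner_sum_left, Finset.sum_eq_zero, zero_mul]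
    intro θ hθ
    have hm : Cfsg.indFun H (θ : H → ℂ) ∈ coreChars M :=
      ⟨θ, θ.2, fun e => (Finset.mem_erase.1 hθ).1 (Subtype.ext e), fun a ha => by
        rw [show a = 1 from Subtype.ext (mem_bot.1 ha)], rfl⟩
    rw [Char.classInner_smul_left,
      Char.classInner_irr_of_ne (hirr _ hm) χ.2 (fun e => hχ (e ▸ hm)), mul_zero]

end CfsgLib.FT
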