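import Cfsg.Agent.Lib.FT.Pair
import Cfsg.Agent.Lib.FT.Probe
import Cfsg.Agent.Lib.FT.TypeFChars
import Cfsg.Agent.Lib.FT.Grid
import Cfsg.Agent.Lib.FT.Tiles
import Cfsg.Agent.Lib.FT.CrossOrth
import Cfsg.Agent.Lib.FT.PairLink

/-!
FT module LTwoBase: the probe of a Frobenius `L` and the grid coefficients of `β = τ (Ind 1 - ζ)`.
`β` vanishes off the tile of `L`, so on `W ∖ (W₁ ∪ W₂)`; `family_bound` tests a function vanishing on
the tile against `τ (-(1 + M ζ))`, `M = (|L_σ| - 1) / e`.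
-/

set_option autoImplicit false
set_option linter.style.haveILetI false
set_option linter.unusedSectionVars false

namespace CfsgLib.FT

open Subgroup

universe u

variable {G : Type u} [Group G]

/-- The output of `exists_probe`. -/
structure IsProbe (L : Subgroup G) [Fintype G] [Fintype L] (ψ : G → ℂ) (ζ : ↥L → ℂ) (b : ℤ) :
    Prop where
  mem : ζ ∈ coreChars L
  irr : Cfsg.IsIrrCharacter L ζ
  degree : ζ 1 = ((Cfsg.sigmaCore L).relIndex L : ℂ)
  signed : Cfsg.IsIrrCharacter G ψ ∨ Cfsg.IsIrrCharacter G (-ψ)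
  conj_ne : Cfsg.conjFun ψ ≠ ψ
  tau_diff : tau L (ζ - Cfsg.conjFun ζ) = ψ - Cfsg.conjFun ψ
  rho_eq : ∀ x : L, (x : G) ∈ coreSet L → rho L ψ x = ζ x + b

/-- `β = τ (Ind 1 - ζ)`. -/
noncomputable def probeBeta (L : Subgroup G) [Fintype L] (ζ : ↥L → ℂ) : G → ℂ :=
  tau L (Cfsg.indFun (coreIn L) (fun _ => 1) - ζ)

open ComplexConjugate

/-- Functions with disjoint supports are orthogonal. -/
theorem classInner_of_disjoint {X : Type*} [Group X] [Fintype X] {f f' : X → ℂ}
    (h : ∀ x, f x = 0 ∨ f' x = 0) : Cfsg.classInner f f' = 0 := by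
  unfold Cfsg.classInner
  refine mul_eq_zero_of_right _ (Finset.sum_eq_zero fun x _ => ?_)
  rcases h x with e | e <;> simp [e]

variable [Fintype G] (hG : Cfsg.IsMinSimpleOddOrder G) {S T W₁ W₂ U V L : Subgroup G}
  [Fintype L]
include hG

/-- The inner product against a Dade image only sees the coset averages on the core. -/
theorem inner_tau_of_rho (hL : IsFType L) (hfr : IsFrob L) {α f : ↥L → ℂ}
    (hα : Cfsg.IsClassFunction L α) (hs : ∀ x : L, (x : G) ∉ coreSet L → α x = 0) {Φ : G → ℂ}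
    (hΦ : Cfsg.IsClassFunction G Φ) (h : ∀ x : L, (x : G) ∈ coreSet L → rho L Φ x = f x) :
    Cfsg.classInner (tau L α) Φ = Cfsg.classInner α f := by
  rw [inner_tau hG hL hα (by rwa [supFull_eq_coreSet hG hL hfr]) hΦ]
  exact classInner_congr_supp (A := {x : L | (x : G) ∈ coreSet L}) hs h

omit [Fintype L] in
theorem rho_principal (a : G) : rho L (fun _ => (1 : ℂ)) a = 1 := by
  classical
  rw [rho_eq_sum hG, Finset.sum_const, Finset.card_univ, ← Nat.card_eq_fintype_card,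
    nsmul_eq_mul, mul_one, inv_mul_cancel₀ (Nat.cast_ne_zero.2 Nat.card_pos.ne')]

omit [Fintype L] in
theorem rho_conjFun (Φ : G → ℂ) (a : G) : rho L (Cfsg.conjFun Φ) a = conj (rho L Φ a) := by
  classical
  rw [rho_eq_sum hG, rho_eq_sum hG, map_mul, map_inv₀, map_natCast, map_sum]
  rfl

omit [Fintype L] in
theorem tau_eq_zero (hL : IsFType L) (hfr : IsFrob L) (α : ↥L → ℂ) {g : G}
    (hg : g ∉ Cfsg.tildeOf L (coreSet L)) : tau L α g = 0 := by
  refine OddChar.dadeIsometry_eq_zero ?_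
  rwa [supFull_eq_coreSet hG hL hfr, ← tildeOf_eq_dadeSupport]

omit [Fintype L] in
theorem signed_classFun {ψ : G → ℂ}
    (h : Cfsg.IsIrrCharacter G ψ ∨ Cfsg.IsIrrCharacter G (-ψ)) : Cfsg.IsClassFunction G ψ :=
  Char.IsGeneralizedCharacter.isClassFunction (PairPins.isGeneralized_of_signed h)

theorem exists_isProbe (hL : IsFType L) (hfr : IsFrob L) :
    ∃ (ψ : G → ℂ) (ζ : ↥L → ℂ) (b : ℤ), IsProbe L ψ ζ b := by
  obtain ⟨ψ, ζ, b, h1, h2, h3, h4, h5, h6, h7⟩ := exists_probe hG hL hfr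
  exact ⟨ψ, ζ, b, h1, h2, h3, h4, h5, h6, h7⟩

theorem beta_facts (hL : IsFType L) (hfr : IsFrob L) {ψ : G → ℂ} {ζ : ↥L → ℂ} {b : ℤ}
    (hp : IsProbe L ψ ζ b) :
    Cfsg.IsGeneralizedCharacter G (probeBeta L ζ) ∧
      Cfsg.classInner (probeBeta L ζ) (probeBeta L ζ) =
        ((Cfsg.sigmaCore L).relIndex L : ℂ) + 1 ∧
      Cfsg.classInner (probeBeta L ζ) (fun _ => 1) = 1 ∧
      Cfsg.classInner (probeBeta L ζ) ψ = (b : ℂ) - 1 ∧
      Cfsg.classInner (probeBeta L ζ) (Cfsg.conjFun ψ) = (b : ℂ) ∧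
      Cfsg.conjFun (probeBeta L ζ) = probeBeta L ζ + ψ - Cfsg.conjFun ψ ∧
      ∀ g, g ∉ Cfsg.tildeOf L (coreSet L) →
        probeBeta L ζ g = 0 ∧ (ψ - Cfsg.conjFun ψ) g = 0 := by
  classical
  have hA : supFull L = coreSet L := supFull_eq_coreSet hG hL hfr
  have hD := dade_full hG hL
  obtain ⟨hζg, hζc, hζ0⟩ := span_coreChars (OddChar.mem_zspan_self hp.mem)
  obtain ⟨θ, hθ, hθ1, -, hζe⟩ := id hp.mem
  have hcz : Cfsg.conjFun ζ ≠ ζ := fun e => hp.conj_ne (by
    have h := hp.tau_diff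
    have h0 : tau L (ζ - ζ) = (0 : G → ℂ) := by rw [tau_sub, sub_self]
    rw [e, h0, eq_comm, sub_eq_zero] at h
    exact h.symm)
  have hcirr := OddChar.isIrrCharacter_conjFun hp.irr
  set H := coreIn L with hH
  set e1 : ↥L → ℂ := Cfsg.indFun H (fun _ => 1) with he1
  have he1H : ∀ x : H, e1 x = (H.index : ℂ) := by
    intro x
    have hi : ∀ g, CharTwist.conjFun H (fun _ : H => (1 : ℂ)) g = fun _ => 1 := fun _ => rfl
    rw [he1, CharTwist.indFun_normal_apply]
    simp only [hi, Finset.sum_const, Finset.card_univ, nsmul_eq_mul, mul_one]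
    rw [← Nat.card_eq_fintype_card, ← H.card_mul_index, Nat.cast_mul,
      inv_mul_cancel_left₀ (Nat.cast_ne_zero.2 Nat.card_pos.ne')]
  have he10 : ∀ x, x ∉ H → e1 x = 0 := fun x hx => Char.indFun_eq_zero_of_normal H _ hx
  have he1c : Cfsg.conjFun e1 = e1 := by
    funext x
    by_cases hx : x ∈ H
    · show conj (e1 x) = e1 x
      rw [show e1 x = _ from he1H ⟨x, hx⟩, map_natCast]
    · show conj (e1 x) = e1 x
      rw [he10 x hx, map_zero]
  have he1g : Cfsg.IsGeneralizedCharacter L e1 := Char.IsCharacter.isGeneralizedCharacter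
    (Char.IsCharacter.indFun H (Char.IsIrrCharacter.isCharacter Char.isIrrCharacter_principal))
  have hidx : H.index = (Cfsg.sigmaCore L).relIndex L := rfl
  have h11 : Cfsg.classInner e1 (fun _ => (1 : ℂ)) = 1 := by
    rw [he1, Char.classInner_indFun H _ _ (fun _ _ => rfl)]
    exact Char.classInner_irr_self Char.isIrrCharacter_principal
  have hζ1 : Cfsg.classInner ζ (fun _ => (1 : ℂ)) = 0 := by
    rw [hζe, Char.classInner_indFun H θ _ (fun _ _ => rfl)]
    exact Char.classInner_irr_of_ne hθ Char.isIrrCharacter_principal hθ1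
  have hζe1 : Cfsg.classInner ζ e1 = 0 := by
    rw [hζe, Char.classInner_indFun H θ _ (Char.isClassFunction_indFun H _),
      show (fun h : H => e1 h) = (H.index : ℂ) • (fun _ : H => (1 : ℂ)) from
        funext fun h => by simp [he1H h],
      Char.classInner_smul_right,
      Char.classInner_irr_of_ne hθ Char.isIrrCharacter_principal hθ1, mul_zero]
  have he1ζ : Cfsg.classInner e1 ζ = 0 := by
    rw [← Char.classInner_conj_symm, hζe1, map_zero]
  have he1ζc : Cfsg.classInner e1 (Cfsg.conjFun ζ) = 0 := by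
    conv_lhs => rw [← he1c]
    rw [classInner_conjFun_conjFun, he1ζ, map_zero]
  have he11 : Cfsg.classInner e1 e1 = (H.index : ℂ) := by
    rw [he1, Char.classInner_indFun H _ _ (Char.isClassFunction_indFun H _),
      show (fun h : H => e1 h) = (H.index : ℂ) • (fun _ : H => (1 : ℂ)) from
        funext fun h => by simp [he1H h],
      Char.classInner_smul_right, Char.classInner_irr_self Char.isIrrCharacter_principal,
      map_natCast, mul_one]
  set α := e1 - ζ with hα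
  have hαg : Cfsg.IsGeneralizedCharacter L α := Char.IsGeneralizedCharacter.sub he1g hζg
  have hαc := Char.IsGeneralizedCharacter.isClassFunction hαg
  have hαs : ∀ x : L, (x : G) ∉ coreSet L → α x = 0 := by
    intro x hx
    by_cases hxH : x ∈ H
    · have h1 : x = 1 := by
        by_contra h
        exact hx ⟨hxH, fun e => h (Subtype.ext e)⟩
      subst h1
      rw [hα, Pi.sub_apply, hp.degree,
        show e1 1 = _ from he1H ⟨1, one_mem _⟩, hidx, sub_self]
    · rw [hα, Pi.sub_apply, he10 x hxH, hζ0 x hxH, sub_zero]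
  have hαs' : ∀ x : L, (x : G) ∉ supFull L → α x = 0 := by rw [hA]; exact hαs
  have hψc := signed_classFun hG hp.signed
  refine ⟨Cfsg.Agent.S1501.result (supFull L) L (Cfsg.supportR L) hD α hαg hαs', ?_, ?_, ?_, ?_, ?_,
    fun g hg => ⟨tau_eq_zero hG hL hfr α hg, by rw [← hp.tau_diff]; exact tau_eq_zero hG hL hfr _ hg⟩⟩
  · show Cfsg.classInner (tau L α) (tau L α) = _
    rw [tau, (Cfsg.Agent.S1500.result (supFull L) L (Cfsg.supportR L) hD α hαc hαs').1 α hαc hαs',
      hα, Char.classInner_sub_left, Char.classInner_sub_right, Char.classInner_sub_right, he11,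
      he1ζ, hζe1, Char.classInner_irr_self hp.irr, hidx]
    ring
  · show Cfsg.classInner (tau L α) _ = _
    rw [inner_tau_of_rho hG hL hfr hαc hαs (fun _ _ => rfl) (f := fun _ => 1)
      fun x _ => rho_principal hG x.1, hα, Char.classInner_sub_left, h11, hζ1, sub_zero]
  · show Cfsg.classInner (tau L α) _ = _
    rw [inner_tau_of_rho hG hL hfr hαc hαs hψc (f := ζ + (b : ℂ) • (fun _ => (1 : ℂ)))
      (fun x hx => by simp [hp.rho_eq x hx]), hα, Char.classInner_sub_left,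
      Char.classInner_add_right, Char.classInner_add_right, Char.classInner_smul_right,
      Char.classInner_smul_right, he1ζ, h11, hζ1, Char.classInner_irr_self hp.irr, map_intCast]
    ring
  · show Cfsg.classInner (tau L α) _ = _
    rw [inner_tau_of_rho hG hL hfr hαc hαs
      (fun x y => by simp only [Cfsg.conjFun, hψc x y])
      (f := Cfsg.conjFun ζ + (b : ℂ) • (fun _ => (1 : ℂ)))
      (fun x hx => by simp [rho_conjFun hG, hp.rho_eq x hx, Cfsg.conjFun]), hα,
      Char.classInner_sub_left, Char.classInner_add_right, Char.classInner_add_right,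
      Char.classInner_smul_right, Char.classInner_smul_right, he1ζc, h11, hζ1,
      Char.classInner_irr_of_ne hp.irr hcirr hcz.symm, map_intCast]
    ring
  · show Cfsg.conjFun (tau L α) = tau L α + ψ - Cfsg.conjFun ψ
    rw [← tau_conj, add_sub_assoc, ← hp.tau_diff, ← tau_add, hα, OddChar.conjFun_sub, he1c]
    congr 1
    abel

omit [Fintype L] in
/-- The regular elements of `W` lie in no tile. -/
theorem hat_notMem_tilde (hpd : PairData S T W₁ W₂ U V) (hL : IsCoatom L) {w : G}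
    (hw : w ∈ W₁ ⊔ W₂) (h1 : w ∉ W₁) (h2 : w ∉ W₂) : w ∉ Cfsg.tildeOf L (coreSet L) := by
  obtain ⟨U', hKU⟩ := exists_decomposition_of_typeP hG hpd.maxS hpd.typeS
  have hW2 := W₂_eq_kappaStar hG hpd.maxS hpd.typeS
  obtain ⟨-, -, h3⟩ := Cfsg.Agent.S1379.result hG
  have hZ := (h3 S W₁ U' hpd.maxS hKU hpd.typeS.W₁_ne).2 L hL 1 w
  rw [one_mul, inv_one, mul_one] at hZ
  refine hZ ⟨?_, ?_⟩
  · have hw' : w ∈ W₁ ⊔ OddOrder.kappaStar S W₁ := hW2 ▸ hw
    exact hw'
  · rintro (h | h)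
    · exact h1 h
    · exact h2 (hW2 ▸ (h : w ∈ OddOrder.kappaStar S W₁))

open Classical in
/-- The coefficients of `β` on the grid. -/
theorem exists_grid (hpd : PairData S T W₁ W₂ U V) {χ : (↥(W₁ ⊔ W₂) →* ℂˣ) → (G → ℂ)}
    (hχ : Cfsg.IsCyclicTIFamily W₁ W₂ χ) (hL : IsFType L) (hfr : IsFrob L) {ψ : G → ℂ}
    {ζ : ↥L → ℂ} {b : ℤ} (hp : IsProbe L ψ ζ b) :
    (∀ ω, Cfsg.classInner ψ (χ ω) = 0 ∧ Cfsg.classInner (Cfsg.conjFun ψ) (χ ω) = 0) ∧
    ∃ a : (↥(W₁ ⊔ W₂) →* ℂˣ) → ℤ,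
      (∀ ω, Cfsg.classInner (probeBeta L ζ) (χ ω) = a ω) ∧ a 1 = 1 ∧ (∀ ω, a ω⁻¹ = a ω) ∧
      (∀ φ η, TrivialOn φ W₂ → TrivialOn η W₁ → a (φ * η) = a φ + a η - 1) ∧
      (∑ᶠ ω, a ω ^ 2) + (b - 1) ^ 2 + b ^ 2 ≤ ((Cfsg.sigmaCore L).relIndex L : ℤ) + 1 ∧
      (((Cfsg.sigmaCore L).relIndex L : ℤ) + 1 ≤ (∑ᶠ ω, a ω ^ 2) + (b - 1) ^ 2 + b ^ 2 →
        ∀ g, probeBeta L ζ g = (∑ᶠ ω, (a ω : ℂ) * χ ω g) + ((b : ℂ) - 1) * ψ g
          + (b : ℂ) * Cfsg.conjFun ψ g) := by
  classical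
  obtain ⟨hne1, hne2, hdisj, hcomm, hcyc, -⟩ := id hpd.typeS.selfNormalizing
  haveI := hcyc
  haveI : Finite (↥(W₁ ⊔ W₂) →* ℂˣ) := OddChar.finite_linearChar _
  letI := Fintype.ofFinite (↥(W₁ ⊔ W₂) →* ℂˣ)
  obtain ⟨hβg, hβn, hβ1, hβψ, hβψc, hβc, hβ0⟩ := beta_facts hG hL hfr hp
  have hoddG : Odd (Nat.card G) := hG.1
  have hW := hpd.typeS.selfNormalizing
  set β := probeBeta L ζ
  have hβV : ∀ w : ↥(W₁ ⊔ W₂), (w : G) ∉ W₁ → (w : G) ∉ W₂ →
      β w = 0 ∧ (ψ - Cfsg.conjFun ψ) w = 0 := fun w ha hb =>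
    hβ0 _ (hat_notMem_tilde hG hpd hL.coatom w.2 ha hb)
  have horth : ∀ ω, Cfsg.classInner ψ (χ ω) = 0 := by
    intro ω
    by_contra h
    have hfix : ∀ w : ↥(W₁ ⊔ W₂), (w : G) ∉ W₁ → (w : G) ∉ W₂ → ω w = 1 := by
      intro w ha hb
      have he := (hβV w ha hb).2
      have hval : conj (ω w : ℂ) = (ω w : ℂ) := by
        rcases OddChar.CyclicUnique.Signed.eq_or_neg hp.signed (hχ.irr_or_neg ω) h with
          ⟨e, -⟩ | ⟨e, -⟩ <;>
          simp only [e, Pi.sub_apply, Cfsg.conjFun, Pi.neg_apply, map_neg, hχ.eq_on ω w ha hb]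
            at he <;>
          first
            | exact (sub_eq_zero.1 he).symm
            | (linear_combination he)
      have hoW : Odd (orderOf w) :=
        (hoddG.of_dvd_nat (W₁ ⊔ W₂).card_subgroup_dvd_card).of_dvd_nat (orderOf_dvd_natCard w)
      have hpow : (ω w : ℂ) ^ orderOf w = 1 := by
        rw [← Units.val_pow_eq_pow_val, ← map_pow, pow_orderOf_eq_one, map_one, Units.val_one]
      have hn : ‖(ω w : ℂ)‖ = 1 := Complex.norm_eq_one_of_pow_eq_one hpow (orderOf_pos w).ne'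
      have hsq : (ω w : ℂ) ^ 2 = 1 := by
        rw [pow_two]
        nth_rewrite 2 [← hval]
        rw [Complex.mul_conj', hn]
        norm_num
      obtain ⟨m, hm⟩ := hoW
      rw [hm, pow_succ, pow_mul, hsq, one_pow, one_mul] at hpow
      exact Units.ext hpow
    have hoddsub : ∀ {A : Subgroup G} {x : G}, x ∈ A → x * x = 1 → x = 1 := fun {A x} _ h2 => by
      obtain ⟨m, hm⟩ := hoddG.of_dvd_nat (orderOf_dvd_natCard x)
      have := pow_orderOf_eq_one x
      rwa [hm, pow_succ, pow_mul, pow_two, h2, one_pow, one_mul] at this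
    obtain ⟨a₀, ha₀, ha₀1⟩ : ∃ a ∈ W₁, a ≠ 1 := by
      by_contra hh
      push Not at hh
      exact hne1 ((eq_bot_iff_forall _).2 hh)
    obtain ⟨b₀, hb₀, hb₀1⟩ : ∃ b ∈ W₂, b ≠ 1 := by
      by_contra hh
      push Not at hh
      exact hne2 ((eq_bot_iff_forall _).2 hh)
    have hab : ∀ (a : G) (ha : a ∈ W₁) (b : G) (hb : b ∈ W₂), a ≠ 1 → b ≠ 1 →
        ω ⟨a, mem_sup_left ha⟩ * ω ⟨b, mem_sup_right hb⟩ = 1 := by
      intro a ha b hb h1 h2
      rw [← map_mul]
      refine hfix _ (fun hm => h2 ?_) (fun hm => h1 ?_)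
      · have h' : b ∈ W₁ := (Subgroup.mul_mem_cancel_left W₁ ha).1 (show a * b ∈ W₁ from hm)
        exact mem_bot.1 (hdisj ▸ (⟨h', hb⟩ : b ∈ W₁ ⊓ W₂))
      · have h' : a ∈ W₂ := (Subgroup.mul_mem_cancel_right W₂ hb).1 (show a * b ∈ W₂ from hm)
        exact mem_bot.1 (hdisj ▸ (⟨ha, h'⟩ : a ∈ W₁ ⊓ W₂))
    have hb₂ : b₀ * b₀ ≠ 1 := fun h2 => hb₀1 (hoddsub hb₀ h2)
    have ha₂ : a₀ * a₀ ≠ 1 := fun h2 => ha₀1 (hoddsub ha₀ h2)
    have hA : ω ⟨a₀, mem_sup_left ha₀⟩ = 1 := by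
      have e1 := hab a₀ ha₀ b₀ hb₀ ha₀1 hb₀1
      have e2 := hab (a₀ * a₀) (mul_mem ha₀ ha₀) b₀ hb₀ ha₂ hb₀1
      rw [show (⟨a₀ * a₀, mem_sup_left (mul_mem ha₀ ha₀)⟩ : ↥(W₁ ⊔ W₂)) =
        ⟨a₀, mem_sup_left ha₀⟩ * ⟨a₀, mem_sup_left ha₀⟩ from rfl, map_mul, mul_assoc, e1,
        mul_one] at e2
      exact e2
    have hB : ω ⟨b₀, mem_sup_right hb₀⟩ = 1 := by
      have e1 := hab a₀ ha₀ b₀ hb₀ ha₀1 hb₀1
      rwa [hA, one_mul] at e1
    have hω : ω = 1 := by
      refine OddChar.sup_hom_ext (fun w hw => ?_) (fun w hw => ?_)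
      · by_cases h1 : (w : G) = 1
        · rw [show w = 1 from Subtype.ext h1]; simp
        · have := hab w hw b₀ hb₀ h1 hb₀1
          rw [hB, mul_one] at this
          simpa using this
      · by_cases h1 : (w : G) = 1
        · rw [show w = 1 from Subtype.ext h1]; simp
        · have := hab a₀ ha₀ w hw ha₀1 h1
          rw [hA, one_mul] at this
          simpa using this
    subst hω
    refine hp.conj_ne ?_
    rcases OddChar.CyclicUnique.Signed.eq_or_neg hp.signed (hχ.irr_or_neg 1) h with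
      ⟨e, -⟩ | ⟨e, -⟩ <;> (rw [e, hχ.map_one]; funext g; simp [Cfsg.conjFun])
  have horthc : ∀ ω, Cfsg.classInner (Cfsg.conjFun ψ) (χ ω) = 0 := fun ω => by
    have h := classInner_conjFun_conjFun ψ (χ ω⁻¹)
    rw [horth, map_zero, apply_inv hW hoddG hχ, OddChar.conjFun_conjFun] at h
    exact h
  choose a ha using fun ω =>
    OddChar.Coh.exists_int_inner hβg (PairPins.isGeneralized_of_signed (hχ.irr_or_neg ω))
  have ha1 : a 1 = 1 := by
    have := ha 1
    rw [hχ.map_one, hβ1] at this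
    exact_mod_cast this.symm
  refine ⟨fun ω => ⟨horth ω, horthc ω⟩, a, ha, ha1, fun ω => ?_, fun φ η hφ hη => ?_, ?_⟩
  · have h := classInner_conjFun_conjFun β (χ ω)
    rw [← apply_inv hW hoddG hχ, hβc, Char.classInner_sub_left, Char.classInner_add_left,
      horth, horthc, ha, ha, map_intCast, add_zero, sub_zero] at h
    exact_mod_cast h
  · have h := Cfsg.Agent.S1506.result W₁ W₂ hW χ hχ β
      (Char.IsGeneralizedCharacter.isClassFunction hβg) (fun w x y => (hβV w x y).1) φ 1 η 1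
      (fun w hw => ⟨hφ w hw, rfl⟩) (fun w hw => ⟨hη w hw, rfl⟩)
    have eφ : φ * 1 = φ := MonoidHom.ext fun x => mul_one (φ x)
    have eη : 1 * η = η := MonoidHom.ext fun x => one_mul (η x)
    have e1 : (1 : ↥(W₁ ⊔ W₂) →* ℂˣ) * 1 = 1 := MonoidHom.ext fun x => one_mul 1
    rw [eφ, eη, e1, ha, ha, ha, ha, ha1] at h
    have : a (φ * η) + 1 = a φ + a η := by exact_mod_cast h
    omega
  have hψψ : Cfsg.classInner ψ ψ = 1 := OddChar.CyclicUnique.Signed.inner_self hp.signed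
  have hψc2 : Cfsg.classInner (Cfsg.conjFun ψ) (Cfsg.conjFun ψ) = 1 := by
    rw [classInner_conjFun_conjFun, hψψ, map_one]
  have hψψc : Cfsg.classInner ψ (Cfsg.conjFun ψ) = 0 := by
    rcases hp.signed with h | h
    · exact Char.classInner_irr_of_ne h (OddChar.isIrrCharacter_conjFun h) hp.conj_ne.symm
    · have h' := OddChar.isIrrCharacter_conjFun h
      have e : Cfsg.conjFun ψ = -Cfsg.conjFun (-ψ) := by funext g; simp [Cfsg.conjFun]
      have := Char.classInner_irr_of_ne h h' fun e' => hp.conj_ne (by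
        rw [e, ← e', neg_neg])
      rw [e, Char.classInner_neg_right, show ψ = - -ψ from (neg_neg ψ).symm,
        Char.classInner_neg_left, neg_neg (-ψ), this, neg_zero, neg_zero]
  let f : (↥(W₁ ⊔ W₂) →* ℂˣ) ⊕ Bool → G → ℂ :=
    Sum.elim χ (fun t => if t then ψ else Cfsg.conjFun ψ)
  let k : (↥(W₁ ⊔ W₂) →* ℂˣ) ⊕ Bool → ℝ :=
    Sum.elim (fun ω => (a ω : ℝ)) (fun t => if t then (b : ℝ) - 1 else (b : ℝ))
  have hs : ∀ i j, i ≠ j → Cfsg.classInner (f i) (f j) = 0 := by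
    have hψψc' : Cfsg.classInner (Cfsg.conjFun ψ) ψ = 0 := by
      rw [← Char.classInner_conj_symm, hψψc, map_zero]
    have hr1 : ∀ ω, Cfsg.classInner (χ ω) ψ = 0 := fun ω => by
      rw [← Char.classInner_conj_symm, horth, map_zero]
    have hr2 : ∀ ω, Cfsg.classInner (χ ω) (Cfsg.conjFun ψ) = 0 := fun ω => by
      rw [← Char.classInner_conj_symm, horthc, map_zero]
    intro i j hij
    rcases i with i | (_ | _) <;> rcases j with j | (_ | _)
    · show Cfsg.classInner (χ i) (χ j) = 0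
      rw [hχ.orthonormal, if_neg fun e => hij (congrArg Sum.inl e)]
    · exact hr2 i
    · exact hr1 i
    · exact horthc j
    · exact absurd rfl hij
    · exact hψψc'
    · exact horth j
    · exact hψψc
    · exact absurd rfl hij
  obtain ⟨hle, heq⟩ := OddChar.Coh.bessel Finset.univ f β (fun i _ j _ h => hs i j h)
    (fun _ => 1) k (fun i _ => by
      rcases i with i | (_ | _)
      · show Cfsg.classInner (χ i) (χ i) = _
        rw [hχ.orthonormal, if_pos rfl, Complex.ofReal_one]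
      · show Cfsg.classInner (Cfsg.conjFun ψ) (Cfsg.conjFun ψ) = _
        rw [hψc2, Complex.ofReal_one]
      · show Cfsg.classInner ψ ψ = _
        rw [hψψ, Complex.ofReal_one])
    (fun _ _ => one_pos) (fun i _ => by
      rcases i with i | (_ | _)
      · show Cfsg.classInner β (χ i) = ((a i : ℝ) : ℂ)
        rw [ha i, Complex.ofReal_intCast]
      · show Cfsg.classInner β (Cfsg.conjFun ψ) = ((b : ℝ) : ℂ)
        rw [hβψc, Complex.ofReal_intCast]
      · show Cfsg.classInner β ψ = (((b : ℝ) - 1 : ℝ) : ℂ)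
        rw [hβψ, Complex.ofReal_sub, Complex.ofReal_intCast, Complex.ofReal_one])
  have hsum : ∑ i, k i ^ 2 / (1 : ℝ) =
      ((((∑ ω, a ω ^ 2) + (b - 1) ^ 2 + b ^ 2 : ℤ)) : ℝ) := by
    simp [k, Fintype.sum_sum_type, add_assoc]
  have hnorm : (Cfsg.classInner β β).re = (((Cfsg.sigmaCore L).relIndex L : ℤ) + 1 : ℤ) := by
    rw [hβn]; simp
  rw [hsum, hnorm, Int.cast_le] at hle
  rw [hsum, hnorm, Int.cast_le] at heq
  rw [finsum_eq_sum_of_fintype]
  refine ⟨hle, fun h g => ?_⟩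
  rw [finsum_eq_sum_of_fintype]
  have := congrFun (heq h) g
  rw [this, Finset.sum_apply, Fintype.sum_sum_type]
  simp [f, k, add_assoc]

/-- A virtual character that vanishes on the tile and meets `ψ` has norm at least
`(|L_σ| - 1) / e`. -/
theorem family_bound (hL : IsFType L) (hfr : IsFrob L) {ψ : G → ℂ} {ζ : ↥L → ℂ} {b : ℤ}
    (hp : IsProbe L ψ ζ b) {Φ : G → ℂ} (hΦ : Cfsg.IsGeneralizedCharacter G Φ)
    (h0 : ∀ g ∈ Cfsg.tildeOf L (coreSet L), Φ g = 0) (hne : Cfsg.classInner Φ ψ ≠ 0) :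
    ((Nat.card (Cfsg.sigmaCore L) : ℝ) - 1) ≤
      ((Cfsg.sigmaCore L).relIndex L : ℝ) * (Cfsg.classInner Φ Φ).re := by
  classical
  set k : ℕ := Nat.card (Cfsg.sigmaCore L) with hk
  set e : ℕ := (Cfsg.sigmaCore L).relIndex L with he
  have hidx : (coreIn L).index = e := rfl
  have he0 : (0 : ℝ) < e := by
    rw [← hidx]
    exact Nat.cast_pos.2 (Nat.pos_of_ne_zero index_ne_zero_of_finite)
  have hLcard : (Nat.card L : ℝ) = k * e := by
    rw [← (coreIn L).card_mul_index, card_coreIn, hidx]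
    push_cast
    rfl
  set M : ℝ := ((k : ℝ) - 1) / e with hM
  have hMe : M * e = (k : ℝ) - 1 := div_mul_cancel₀ _ he0.ne'
  obtain ⟨hζg, hζc, hζ0⟩ := span_coreChars (OddChar.mem_zspan_self hp.mem)
  have hA : supFull L = coreSet L := supFull_eq_coreSet hG hL hfr
  have hD := dade_full hG hL
  let α : ↥L → ℂ := fun x => if (x : G) ∈ coreSet L then -(1 + (M : ℂ) * ζ x) else 0
  have hαc : Cfsg.IsClassFunction L α := by
    intro x y
    have hiff : ((y * x * y⁻¹ : L) : G) ∈ coreSet L ↔ (x : G) ∈ coreSet L := by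
      refine ⟨fun h => ?_, fun h => coreSet_conj y.2 h⟩
      have := coreSet_conj (inv_mem y.2) h
      simpa [mul_assoc] using this
    simp only [α, hζc x y]
    exact if_congr hiff rfl rfl
  have hαs : ∀ x : L, (x : G) ∉ coreSet L → α x = 0 := fun x hx => if_neg hx
  set P : Finset L := Finset.univ.filter fun x : L => (x : G) ∈ coreSet L with hP
  have hPeq : P = (Finset.univ.filter fun x : L => x ∈ coreIn L).erase 1 := by
    ext x
    simp [hP, coreSet, coreIn, mem_subgroupOf, and_comm]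
  have h1mem : (1 : L) ∈ Finset.univ.filter fun x : L => x ∈ coreIn L := by simp [one_mem]
  have hcard : (P.card : ℂ) = (k : ℂ) - 1 := by
    rw [hPeq, Finset.card_erase_of_mem h1mem, ← Fintype.card_subtype,
      ← Nat.card_eq_fintype_card, card_coreIn, Nat.cast_sub Nat.card_pos, Nat.cast_one]
  have hoff : ∀ x ∈ Finset.univ, x ∉ Finset.univ.filter (fun x : L => x ∈ coreIn L) → ζ x = 0 :=
    fun x _ hx => hζ0 x (by simpa using hx)
  obtain ⟨θ, hθ, hθ1, -, hζe⟩ := id hp.mem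
  have hL0 : (Nat.card L : ℂ) ≠ 0 := Nat.cast_ne_zero.2 Nat.card_pos.ne'
  have s1 : ∑ x ∈ P, ζ x = -(e : ℂ) := by
    have h : Cfsg.classInner ζ (fun _ => (1 : ℂ)) = 0 := by
      rw [hζe, Char.classInner_indFun (coreIn L) θ _ (fun _ _ => rfl)]
      exact Char.classInner_irr_of_ne hθ Char.isIrrCharacter_principal hθ1
    rw [Cfsg.classInner, mul_eq_zero] at h
    have h' : ∑ x, ζ x = 0 := by simpa using h.resolve_left (inv_ne_zero hL0)
    rw [hPeq, Finset.sum_erase_eq_sub h1mem, Finset.sum_subset (Finset.subset_univ _) hoff, h',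
      hp.degree, zero_sub]
  have s1' : ∑ x ∈ P, conj (ζ x) = -(e : ℂ) := by rw [← map_sum, s1, map_neg, map_natCast]
  have s2 : ∑ x ∈ P, ζ x * conj (ζ x) = (Nat.card L : ℂ) - (e : ℂ) ^ 2 := by
    have h := Char.classInner_irr_self hp.irr
    rw [Cfsg.classInner, inv_mul_eq_one₀ hL0] at h
    rw [hPeq, Finset.sum_erase_eq_sub h1mem, Finset.sum_subset (Finset.subset_univ _)
      (fun x hx hx' => by rw [hoff x hx hx', zero_mul]), ← h, hp.degree, map_natCast, ← sq]
  have hinner : ∀ (c d : ℂ), Cfsg.classInner α (fun x => c * ζ x + d) = (Nat.card L : ℂ)⁻¹ *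
      (-(conj c * (-(e : ℂ))) - conj d * ((k : ℂ) - 1)
        - (M : ℂ) * conj c * ((Nat.card L : ℂ) - (e : ℂ) ^ 2) - (M : ℂ) * conj d * (-(e : ℂ))) := by
    intro c d
    rw [Cfsg.classInner]
    congr 1
    rw [← Finset.sum_subset (Finset.subset_univ P) (fun x _ hx => by
      rw [hαs x (by simpa [hP] using hx), zero_mul])]
    calc _ = ∑ x ∈ P, (-(conj c * conj (ζ x)) - conj d
            - (M : ℂ) * conj c * (ζ x * conj (ζ x)) - (M : ℂ) * conj d * ζ x) := by
          refine Finset.sum_congr rfl fun x hx => ?_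
          simp only [α, if_pos (Finset.mem_filter.1 hx).2, map_add, map_mul]
          ring
      _ = _ := by
          simp only [Finset.sum_sub_distrib, Finset.sum_neg_distrib, ← Finset.mul_sum,
            Finset.sum_const, nsmul_eq_mul, s1, s1', s2, hcard]
          ring
  have hLC : (Nat.card L : ℂ) = (k : ℂ) * (e : ℂ) := by exact_mod_cast hLcard
  have hMC : (M : ℂ) * (e : ℂ) = (k : ℂ) - 1 := by
    rw [← Complex.ofReal_natCast, ← Complex.ofReal_natCast, ← Complex.ofReal_one,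
      ← Complex.ofReal_sub, ← Complex.ofReal_mul, hMe]
  have hαα : Cfsg.classInner α α = ((M : ℂ) ^ 2 - M) := by
    rw [classInner_congr_supp (A := {x : L | (x : G) ∈ coreSet L}) hαs
      (f' := fun x => -(M : ℂ) * ζ x + (-1)) (fun x hx => by
        simp only [α, if_pos (show (x : G) ∈ coreSet L from hx)]; ring), hinner,
      map_neg, map_neg, Complex.conj_ofReal, map_one, inv_mul_eq_iff_eq_mul₀ hL0, hLC]
    linear_combination (-(1 + (M : ℂ) * e)) * hMC
  have hψc := signed_classFun hG hp.signed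
  set Ψ := tau L α with hΨ
  have hαψ : Cfsg.classInner Ψ ψ = 1 - (M : ℂ) := by
    rw [hΨ, inner_tau_of_rho hG hL hfr hαc hαs hψc (f := fun x => (1 : ℂ) * ζ x + (b : ℂ))
      (fun x hx => by rw [one_mul]; exact hp.rho_eq x hx), hinner, map_one, map_intCast,
      inv_mul_eq_iff_eq_mul₀ hL0, hLC]
    linear_combination ((b : ℂ) + (e : ℂ)) * hMC
  have hΨΨ : Cfsg.classInner Ψ Ψ = ((M : ℂ) ^ 2 - M) := by
    rw [hΨ, tau, (Cfsg.Agent.S1500.result (supFull L) L (Cfsg.supportR L) hD α hαc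
      (by rw [hA]; exact hαs)).1 α hαc (by rw [hA]; exact hαs), hαα]
  have hΦΨ : Cfsg.classInner Φ Ψ = 0 := classInner_of_disjoint fun g => by
    by_cases hg : g ∈ Cfsg.tildeOf L (coreSet L)
    · exact Or.inl (h0 g hg)
    · exact Or.inr (tau_eq_zero hG hL hfr α hg)
  have hψψ : Cfsg.classInner ψ ψ = 1 := OddChar.CyclicUnique.Signed.inner_self hp.signed
  obtain ⟨z, hz⟩ := OddChar.Coh.exists_int_inner hΦ (PairPins.isGeneralized_of_signed hp.signed)
  have hz0 : (1 : ℝ) ≤ (z : ℝ) ^ 2 := by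
    have : z ≠ 0 := fun h => hne (by rw [hz, h, Int.cast_zero])
    exact_mod_cast PairPins.one_le_sq this
  have hψΨ : Cfsg.classInner ψ Ψ = 1 - (M : ℂ) := by
    rw [← Char.classInner_conj_symm, hαψ, map_sub, map_one, Complex.conj_ofReal]
  have hψΦ : Cfsg.classInner ψ Φ = (z : ℂ) := by
    rw [← Char.classInner_conj_symm, hz, map_intCast]
  have hΨΦ : Cfsg.classInner Ψ Φ = 0 := by rw [← Char.classInner_conj_symm, hΦΨ, map_zero]
  have hpos := OddChar.Coh.classInner_self_nonneg (Φ - ((((z : ℂ) * M)) • ψ + (z : ℂ) • Ψ))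
  have hval : Cfsg.classInner (Φ - ((((z : ℂ) * M)) • ψ + (z : ℂ) • Ψ))
      (Φ - ((((z : ℂ) * M)) • ψ + (z : ℂ) • Ψ)) =
      Cfsg.classInner Φ Φ - (((z : ℝ) ^ 2 * M : ℝ) : ℂ) := by
    simp only [Char.classInner_sub_left, Char.classInner_sub_right, Char.classInner_add_left,
      Char.classInner_add_right, Char.classInner_smul_left, Char.classInner_smul_right, hz, hψΦ,
      hΦΨ, hΨΦ, hψψ, hαψ, hψΨ, hΨΨ, map_mul, map_intCast, Complex.conj_ofReal]
    push_cast
    ring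
  rw [hval, Complex.sub_re, Complex.ofReal_re, sub_nonneg] at hpos
  have hM0 : 0 ≤ M := div_nonneg (sub_nonneg.2 (by exact_mod_cast Nat.card_pos (α := Cfsg.sigmaCore L))) he0.le
  calc (k : ℝ) - 1 = M * e := hMe.symm
    _ ≤ (z : ℝ) ^ 2 * M * e := by
        refine mul_le_mul_of_nonneg_right (le_mul_of_one_le_left hM0 hz0) he0.le
    _ ≤ _ := by rw [mul_comm]; exact mul_le_mul_of_nonneg_left hpos he0.le

end CfsgLib.FT
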