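import Cfsg.Agent.Lib.FT.LinkedLayer
import Cfsg.Agent.Lib.FT.Grid
import Cfsg.Agent.Lib.FT.Congr
import Cfsg.Agent.Lib.OddChar.FixedClasses

/-!
FT module LinkedCentral: `T' = R` a TI `q`-group, `W' ≤ Z(R)`.

`ψ = f ζ` is a rational constant on `W'^#` (Galois), so `⟨Ind λ, ψ⟩` is a multiple of `|R : W'|`
(`PairCount.congruence`); a fixed character lies over some `λ ≠ 1` (counting), and `linked_of_layer` applies.
-/

set_option autoImplicit false
set_option linter.style.haveILetI false

namespace CfsgLib.FT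

open Subgroup
open scoped ComplexConjugate

universe u

variable {G : Type u} [Group G] [Fintype G] {T W V W' : Subgroup G} [Fintype T]

local instance instDerivedNormalC (T : Subgroup G) : (⁅T, T⁆.subgroupOf T).Normal := derived_normal T

/-- The coprime power of a member of the linear family is a member. -/
theorem linChars_pow {k : ℕ} (hk : k.Coprime (Nat.card T)) {ξ : ↥T → ℂ} (hξ : ξ ∈ linChars T) :
    (fun x => ξ (x ^ k)) ∈ linChars T := by
  classical
  set K := ⁅T, T⁆.subgroupOf T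
  haveI : Fintype K := Fintype.ofFinite _
  obtain ⟨φ, hφ, hne, hker, rfl⟩ := hξ
  have hkK : k.Coprime (Nat.card K) := hk.coprime_dvd_right K.card_subgroup_dvd_card
  refine ⟨fun y => φ (y ^ k), CharGalois.isIrrCharacter_powMap hkK hφ, fun e => hne ?_,
    fun a ha => ?_, ?_⟩
  · funext y
    obtain ⟨z, hz⟩ := (CharGalois.pow_bijective hkK).2 y
    rw [← hz]
    exact congrFun e z
  · show φ (a ^ k) = φ ((1 : K) ^ k)
    rw [one_pow, hker _ (by rw [coe_pow]; exact Subgroup.pow_mem _ ha k)]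
  · funext x
    simp only [Cfsg.indFun]
    congr 1
    refine Finset.sum_congr rfl fun y _ => ?_
    have hc : y⁻¹ * x ^ k * y = (y⁻¹ * x * y) ^ k := by
      have := conj_pow (i := k) (a := y⁻¹) (b := x)
      rw [inv_inv] at this
      exact this.symm
    rw [hc]
    by_cases hm : y⁻¹ * x * y ∈ K
    · rw [Char.extendByZero_apply_mem K φ (Subgroup.pow_mem _ hm k),
        Char.extendByZero_apply_mem K (fun y => φ (y ^ k)) hm]
      exact congrArg φ (Subtype.ext (by simp))
    · rw [Char.extendByZero_of_notMem K φ (pow_notMem_of_coprime hk hm),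
        Char.extendByZero_of_notMem K (fun y => φ (y ^ k)) hm]

variable (hG : Cfsg.IsMinSimpleOddOrder G)
include hG

/-- The members of the image family are rational on `T''`. -/
theorem linMap_apply_pow (h : CoreSide T W V W')
    (hTI : Cfsg.IsTISubset ((⁅T, T⁆ : Subgroup G) : Set G))
    (hN : normalizer ((⁅T, T⁆ : Subgroup G) : Set G) = T)
    {f : (↥T → ℂ) → (G → ℂ)} (hf : IsLinMap T f) {ξ : ↥T → ℂ} (hξ : ξ ∈ linChars T)
    {k : ℕ} (hk : k.Coprime (Nat.card G)) {z : T} (hz : (z : G) ∈ ⁅⁅T, T⁆, ⁅T, T⁆⁆) (hz1 : z ≠ 1) :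
    f ξ ((z : G) ^ k) = f ξ (z : G) := by
  classical
  obtain ⟨hirr, -, -, h2, -⟩ := linChars_facts hG h
  have hkT : k.Coprime (Nat.card T) := hk.coprime_dvd_right T.card_subgroup_dvd_card
  haveI : Finite ↥(linChars T) := Nat.finite_of_card_ne_zero (by omega)
  obtain ⟨⟨ξ', hξ'⟩, hne⟩ : ∃ x : ↥(linChars T), x ≠ ⟨ξ, hξ⟩ := by
    haveI : Nontrivial ↥(linChars T) := Finite.one_lt_card_iff_nontrivial.1 h2
    exact exists_ne _
  have hne : ξ' ≠ ξ := fun e => hne (Subtype.ext e)
  set η := fun x : T => ξ (x ^ k)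
  set η' := fun x : T => ξ' (x ^ k)
  have hη := linChars_pow hkT hξ
  have hη' := linChars_pow hkT hξ'
  have hgen : ∀ {a}, a ∈ linChars T → Cfsg.IsGeneralizedCharacter G (f a) := fun {a} ha =>
    hf.1.2.2.2 a (OddChar.mem_zspan_self ha)
  have hsgn : ∀ {a}, a ∈ linChars T → OddChar.CyclicUnique.Signed (f a) := fun {a} ha =>
    OddChar.irr_or_neg_of_norm_one (hgen ha) (by
      rw [hf.1.2.2.1 _ (OddChar.mem_zspan_self ha) _ (OddChar.mem_zspan_self ha),
        Char.classInner_irr_self (hirr a ha).1])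
  set ψ := fun g : G => f ξ (g ^ k) with hψdef
  have hψs : OddChar.CyclicUnique.Signed ψ := by
    rcases hsgn hξ with h1 | h1
    · exact Or.inl (CharGalois.isIrrCharacter_powMap hk h1)
    · exact Or.inr (CharGalois.isIrrCharacter_powMap hk h1)
  have hdiff : ∀ {a b}, a ∈ linChars T → b ∈ linChars T →
      f a - f b = tauCore T (a - b) ∧ (∀ x : T, (x : G) ∉ coreSet T → (a - b) x = 0) ∧
        Cfsg.IsClassFunction T (a - b) := by
    intro a b ha hb
    have hd : a - b ∈ Cfsg.zspanOn (linChars T) {1}ᶜ := OddChar.Coh.mem_zspanOn_iff.2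
      ⟨Submodule.sub_mem _ (OddChar.mem_zspan_self ha) (OddChar.mem_zspan_self hb), by
        simp [(hirr a ha).2, (hirr b hb).2]⟩
    have e1 := hf.2 _ hd
    rw [OddChar.Coh.zspan_isometry_sub hf.1 (OddChar.mem_zspan_self ha)
      (OddChar.mem_zspan_self hb)] at e1
    refine ⟨e1, fun x hx => ?_, fun x y => by
      simp [Char.IsIrrCharacter.isClassFunction (hirr a ha).1 x y,
        Char.IsIrrCharacter.isClassFunction (hirr b hb).1 x y]⟩
    by_cases hxR : (x : G) ∈ ⁅T, T⁆
    · have : x = 1 := Subtype.ext (by_contra fun h1 => hx (h.mem_coreSet.2 ⟨hxR, h1⟩))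
      subst this
      simp [(hirr a ha).2, (hirr b hb).2]
    · simp [linChars_apply_of_notMem ha hxR, linChars_apply_of_notMem hb hxR]
  -- `ψ` meets `f η' - f η`
  have hinner : Cfsg.classInner (f η' - f η) ψ = -1 := by
    obtain ⟨e1, hs1, hc1⟩ := hdiff hη' hη
    obtain ⟨e2, hs2, hc2⟩ := hdiff hξ' hξ
    have e3 : Cfsg.classInner (η' - η) (fun x : T => ψ x) =
        Cfsg.classInner (ξ' - ξ) (fun x : T => f ξ x) := by
      unfold Cfsg.classInner
      congr 1
      refine Fintype.sum_equiv (Equiv.ofBijective _ (CharGalois.pow_bijective hkT)) _ _ fun x => ?_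
      simp [η, η', hψdef]
    rw [e1, h.tauCore_inner hTI hN hG hc1 hs1 hψs.isClassFunction, e3,
      ← h.tauCore_inner hTI hN hG hc2 hs2 (hsgn hξ).isClassFunction, ← e2,
      Char.classInner_sub_left, (hsgn hξ).inner_self,
      hf.1.2.2.1 _ (OddChar.mem_zspan_self hξ') _ (OddChar.mem_zspan_self hξ),
      Char.classInner_irr_of_ne (hirr ξ' hξ').1 (hirr ξ hξ).1 hne, zero_sub]
  obtain ⟨ρ, hρ, hρne⟩ : ∃ ρ, ρ ∈ linChars T ∧ Cfsg.classInner (f ρ) ψ ≠ 0 := by
    by_contra hc
    push_neg at hc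
    rw [Char.classInner_sub_left, hc η' hη', hc η hη, sub_zero] at hinner
    norm_num at hinner
  have hat1 : ∀ {a}, a ∈ linChars T → f a 1 = f ξ 1 := fun {a} ha => by
    obtain ⟨e1, -, -⟩ := hdiff ha hξ
    have := congrFun e1 1
    rw [tauCore, dade_apply_one _ _ _ (dade_core hG h.coatom)] at this
    exact sub_eq_zero.1 this
  have hne1 : f ξ 1 ≠ 0 := by
    rcases hsgn hξ with h1 | h1
    · exact Char.IsIrrCharacter.apply_one_ne_zero h1
    · simpa using Char.IsIrrCharacter.apply_one_ne_zero h1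
  have heq : f ρ = ψ := by
    rcases (hsgn hρ).eq_or_neg hψs hρne with ⟨e, -⟩ | ⟨e, -⟩
    · exact e
    · exfalso
      have := congrFun e 1
      rw [hat1 hρ, Pi.neg_apply, show ψ 1 = f ξ 1 by simp [hψdef]] at this
      exact hne1 (by linear_combination this / 2)
  calc f ξ ((z : G) ^ k) = f ρ (z : G) := by rw [heq]
    _ = f ξ (z : G) := by
      obtain ⟨e1, -, hc1⟩ := hdiff hρ hξ
      have := congrFun e1 (z : G)
      have hzc : (z : G) ∈ coreSet T := h.mem_coreSet.2
        ⟨commutator_le_of_subgroup _ hz, fun e => hz1 (Subtype.ext e)⟩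
      rw [tauCore, OddChar.dadeIsometry_apply (dade_core hG h.coatom) hc1 z hzc (x := 1) (u := 1)
        (one_mem _) (by simp), Pi.sub_apply, Pi.sub_apply, linChars_apply_of_mem hρ hz,
        linChars_apply_of_mem hξ hz, (hirr ρ hρ).2, (hirr ξ hξ).2, sub_self] at this
      exact sub_eq_zero.1 this

omit hG in
/-- In a layer over a central linear character some character is fixed by an element of order `r`. -/
theorem exists_fixed_over {L : Type*} [Group L] [Fintype L] (K : Subgroup L) [hK : K.Normal]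
    [Fintype K] (Z : Subgroup K) [Fintype Z] (hZ : Z ≤ Subgroup.center K) {x : L} {r : ℕ}
    (hr : r.Prime) (hx : x ^ r = 1)
    (hZx : ∀ z : Z, x * ((z : K) : L) * x⁻¹ = ((z : K) : L))
    (lam : ↥Z →* ℂˣ) (hM : ¬ r ∣ Z.index) :
    ∃ χ : Cfsg.IrrCharacter K, CharTwist.conjFun K (χ : K → ℂ) x = χ ∧
      ∀ z : Z, (χ : K → ℂ) z = (χ : K → ℂ) 1 * (lam z : ℂ) := by
  classical
  set Φ := Cfsg.indFun Z fun z => (lam z : ℂ) with hΦ
  have hΦc : Cfsg.IsClassFunction K Φ := Char.isClassFunction_indFun _ _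
  have hco : ∀ χ : Cfsg.IrrCharacter K, ∀ l : ↥Z →* ℂˣ,
      (∀ z : Z, (χ : K → ℂ) z = (χ : K → ℂ) 1 * (l z : ℂ)) →
      Cfsg.classInner Φ (χ : K → ℂ) = if lam = l then (χ : K → ℂ) 1 else 0 := by
    intro χ l hl
    rw [hΦ, Char.classInner_indFun Z _ _ (Char.IsIrrCharacter.isClassFunction χ.2),
      show (fun z : Z => (χ : K → ℂ) z) = (χ : K → ℂ) 1 • fun z => ((l z : ℂˣ) : ℂ) from
        funext hl, Char.classInner_smul_right,
      CharTools.conj_apply_one (Char.IsIrrCharacter.isCharacter χ.2)]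
    split_ifs with e
    · rw [e, Char.classInner_irr_self (Char.isIrrCharacter_linear l), mul_one]
    · rw [Char.classInner_irr_of_ne (Char.isIrrCharacter_linear lam)
        (Char.isIrrCharacter_linear l) (fun e' => e (MonoidHom.ext fun z =>
          Units.ext (congrFun e' z))), mul_zero]
  choose l hl using fun χ : Cfsg.IrrCharacter K => exists_central_linear χ.2 Z hZ
  by_contra hnone
  push_neg at hnone
  let σ : Equiv.Perm (Cfsg.IrrCharacter K) :=
    { toFun := fun χ => ⟨CharTwist.conjFun K χ x, CharTwist.isIrrCharacter_conjFun K χ.2 x⟩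
      invFun := fun χ => ⟨CharTwist.conjFun K χ x⁻¹, CharTwist.isIrrCharacter_conjFun K χ.2 x⁻¹⟩
      left_inv := fun χ => Subtype.ext (funext fun n => by
        simp only [CharTwist.conjFun]; exact congrArg χ.1 (Subtype.ext (by simp [mul_assoc])))
      right_inv := fun χ => Subtype.ext (funext fun n => by
        simp only [CharTwist.conjFun]; exact congrArg χ.1 (Subtype.ext (by simp [mul_assoc]))) }
  have hlσ : ∀ χ, l (σ χ) = l χ := fun χ => MonoidHom.ext fun z => Units.ext <| by
    have h1 := hl (σ χ) z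
    have h2 := hl χ z
    have e1 : ((σ χ : Cfsg.IrrCharacter K) : K → ℂ) z = (χ : K → ℂ) z := by
      show CharTwist.conjFun K (χ : K → ℂ) x z = _
      simp only [CharTwist.conjFun]
      exact congrArg χ.1 (Subtype.ext (by simp [hZx z]))
    have e2 : ((σ χ : Cfsg.IrrCharacter K) : K → ℂ) 1 = (χ : K → ℂ) 1 := by
      show CharTwist.conjFun K (χ : K → ℂ) x 1 = _
      simp only [CharTwist.conjFun]
      exact congrArg χ.1 (Subtype.ext (by simp))
    rw [e1, e2, h2] at h1
    exact (mul_left_cancel₀ (Char.IsIrrCharacter.apply_one_ne_zero χ.2) h1).symm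
  let F : Cfsg.IrrCharacter K → ℂ := fun χ => if lam = l χ then (χ : K → ℂ) 1 ^ 2 else 0
  have hF : ∀ χ, F (σ χ) = F χ := fun χ => by
    have e2 : ((σ χ : Cfsg.IrrCharacter K) : K → ℂ) 1 = (χ : K → ℂ) 1 := by
      show CharTwist.conjFun K (χ : K → ℂ) x 1 = _
      simp only [CharTwist.conjFun]
      exact congrArg χ.1 (Subtype.ext (by simp))
    simp only [F, hlσ, e2]
  have hint : ∀ χ, IsIntegral ℤ (F χ) := fun χ => by
    simp only [F]
    split_ifs
    · rw [← CharTools.irr_degree_cast χ, ← Nat.cast_pow]; exact isIntegral_natCast _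
    · exact isIntegral_zero
  have hσr : σ ^ r = 1 := by
    have hpow : ∀ (n : ℕ) (χ : Cfsg.IrrCharacter K),
        (((σ ^ n) χ : Cfsg.IrrCharacter K) : K → ℂ) = CharTwist.conjFun K χ (x ^ n) := by
      intro n
      induction n with
      | zero =>
        intro χ; funext a
        simp only [CharTwist.conjFun, pow_zero, Equiv.Perm.one_apply]
        exact congrArg χ.1 (Subtype.ext (by simp))
      | succ n ih =>
        intro χ; funext a
        rw [pow_succ' σ, Equiv.Perm.mul_apply]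
        show CharTwist.conjFun K (((σ ^ n) χ : Cfsg.IrrCharacter K) : K → ℂ) x a = _
        rw [ih]
        simp only [CharTwist.conjFun]
        exact congrArg χ.1 (Subtype.ext (by simp [pow_succ, mul_assoc]))
    refine Equiv.ext fun χ => Subtype.ext ?_
    rw [hpow, hx]
    funext a
    simp only [CharTwist.conjFun]
    exact congrArg χ.1 (Subtype.ext (by simp))
  have hω := Complex.isPrimitiveRoot_exp r hr.ne_zero
  have hsum := congOne_sum_fixed hr hω σ hσr F hF hint
  have hzero : ∑ χ ∈ Finset.univ.filter (fun χ => σ χ = χ), F χ = 0 := by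
    refine Finset.sum_eq_zero fun χ hχ => if_neg fun e => ?_
    obtain ⟨z, hz⟩ := hnone χ (congrArg Subtype.val (Finset.mem_filter.1 hχ).2)
    exact hz (by rw [hl χ z, e])
  have htot : ∑ χ, F χ = (Z.index : ℂ) := by
    have h1 := congrFun (Char.IsClassFunction.eq_sum_classInner hΦc) 1
    rw [hΦ, Char.indFun_apply_one, map_one, Units.val_one, mul_one, Finset.sum_apply] at h1
    rw [h1]
    refine Finset.sum_congr rfl fun χ _ => ?_
    rw [Pi.smul_apply, smul_eq_mul, ← hΦ, hco χ (l χ) (hl χ)]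
    simp only [F]
    split_ifs <;> ring
  rw [hzero, htot] at hsum
  obtain ⟨c, hc, e⟩ := hsum
  rw [sub_zero] at e
  exact hM (Int.natCast_dvd_natCast.1 (int_dvd_of_one_sub hr hω hc (n := (Z.index : ℤ))
    (by exact_mod_cast e)))

theorem linked_central (h : CoreSide T W V W') (hnil : Group.IsNilpotent ↥⁅T, T⁆)
    (hp : ∃ n : ℕ, Nat.card ↥⁅T, T⁆ = Nat.card W' ^ n)
    (hTI : Cfsg.IsTISubset ((⁅T, T⁆ : Subgroup G) : Set G)) (hN : normalizer ((⁅T, T⁆ : Subgroup G) : Set G) = T)
    (hZ : W' ≤ centralizer ((⁅T, T⁆ : Subgroup G) : Set G)) : Linked T W := by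
  classical
  haveI : Fact (Nat.card W').Prime := ⟨h.q_prime⟩
  obtain ⟨hirr, -, hW'le, hm2, -⟩ := linChars_facts hG h
  set K := ⁅T, T⁆.subgroupOf T with hKdef
  haveI : Fintype K := Fintype.ofFinite _
  have hW'T : W' ≤ T :=
    hW'le.trans ((commutator_le_of_subgroup _).trans (commutator_le_of_subgroup T))
  set Zs := W'.subgroupOf T
  have hzc : ∀ z ∈ Zs, ∀ x : T, x * z = z * x := by
    intro z hz x
    obtain ⟨r, hr, v, hv, e⟩ := h.typeP.W₁_compl.2.2.2 _ x.2
    have h1 : r * (z : G) = z * r := mem_centralizer_iff.1 (hZ hz) r hr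
    have h2 : v * (z : G) = z * v := by
      rcases eq_or_ne v 1 with rfl | hv1
      · simp
      · have hmem : (z : G) ∈ ⁅T, T⁆ ⊓ centralizer ({v} : Set G) := by
          rw [h.typeP.W₂_centralizer v hv hv1]; exact hz
        exact (mem_centralizer_singleton_iff.1 hmem.2).symm
    refine Subtype.ext ?_
    show (x : G) * z = z * x
    rw [e, mul_assoc, h2, ← mul_assoc, h1, mul_assoc]
  haveI hZn : Zs.Normal := ⟨fun z hz x => by
    rw [hzc z hz x, mul_inv_cancel_right]; exact hz⟩
  have hZR' : Zs ≤ ⁅⁅T, T⁆, ⁅T, T⁆⁆.subgroupOf T := fun z hz => hW'le hz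
  have hZK : Zs ≤ K := fun z hz => commutator_le_of_subgroup ⁅T, T⁆ (hW'le hz)
  have hZcard : Nat.card Zs = Nat.card W' := Nat.card_congr (subgroupOfEquivOfLe hW'T).toEquiv
  have hZ1 : Zs ≠ ⊥ := fun e => h.q_prime.ne_one (by rw [← hZcard, e, card_bot])
  have hkc : (Zs.subgroupOf K) ≤ center K := fun a ha =>
    mem_center_iff.2 fun b => Subtype.ext (hzc a ha b)
  obtain ⟨μ, θ, hμ⟩ := exists_fixedInd hG h
  obtain ⟨θ₀, hθ₀, hne₀, hθ1, hinv, hμdef, hμres⟩ := fixedInd_data h hμ
  obtain ⟨f, hf⟩ := exists_linMap hG h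
  obtain ⟨ζ, hζ⟩ : (linChars T).Nonempty := by
    by_contra hc
    rw [Set.not_nonempty_iff_eq_empty.1 hc] at hm2
    simp at hm2
  obtain ⟨lamK, hlamK⟩ := exists_central_linear hθ₀ (Zs.subgroupOf K) hkc
  let e := (subgroupOfEquivOfLe hZK).symm
  set lam : ↥Zs →* ℂˣ := lamK.comp e.toMonoidHom
  have hval : ∀ z : Zs, θ₀ ⟨(z : T), hZK z.2⟩ = (θ : ℂ) * (lam z : ℂ) := fun z => by
    rw [← hθ1]
    exact hlamK (e z)
  set M := Zs.relIndex K with hMdef
  -- `λ ≠ 1`, by counting the characters fixed by an element of prime order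
  have hlam : lam ≠ 1 := by
    intro hl1
    obtain ⟨r, hr, hrW⟩ := Nat.exists_prime_and_dvd
      ((Subgroup.one_lt_card_iff_ne_bot W).2 h.typeP.W₁_ne).ne'
    haveI := Fact.mk hr
    obtain ⟨v, hv⟩ := exists_prime_orderOf_dvd_card' (G := W) r hrW
    have hv1 : (v : G) ≠ 1 := fun e1 => by
      rw [show v = 1 from Subtype.ext e1, orderOf_one] at hv
      exact hr.ne_one hv.symm
    set x : T := ⟨v, h.W_le v.2⟩
    have hxo : orderOf x = r := by
      rw [← Subgroup.orderOf_coe]; show orderOf (v : G) = r; rw [Subgroup.orderOf_coe, hv]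
    have hKcard : Nat.card K = Nat.card ↥⁅T, T⁆ :=
      Nat.card_congr (subgroupOfEquivOfLe (commutator_le_of_subgroup T)).toEquiv
    have hrK : Nat.Coprime r (Nat.card K) := by
      rw [hKcard]; exact (h.coprime.coprime_dvd_right hrW).symm
    have hfixW : K ⊓ centralizer ({x} : Set T) = Zs := by
      ext a
      simp only [mem_inf, mem_centralizer_singleton_iff]
      rw [show a ∈ Zs ↔ (a : G) ∈ W' from Iff.rfl, ← h.typeP.W₂_centralizer v v.2 hv1, mem_inf,
        mem_centralizer_singleton_iff]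
      exact and_congr Iff.rfl ⟨fun h1 => congrArg Subtype.val h1, fun h1 => Subtype.ext h1⟩
    have hcount := OddChar.card_fixed_irr_of_coprime K x (hxo ▸ hrK) Zs hfixW
      (fun a ha b _ => (hzc a ha b).symm)
    set Zk := Zs.subgroupOf K
    haveI : Fintype Zk := Fintype.ofFinite _
    have hxz : ∀ z : Zk, x * ((z : K) : T) * x⁻¹ = ((z : K) : T) := fun z => by
      rw [show x * ((z : K) : T) = ((z : K) : T) * x from hzc _ z.2 x, mul_inv_cancel_right]
    have hMr : ¬ r ∣ Zk.index := fun hd =>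
      hr.ne_one (Nat.dvd_one.1 (hrK ▸ Nat.dvd_gcd dvd_rfl (hd.trans Zk.index_dvd_card)))
    choose χl hfix hover using fun l : ↥Zk →* ℂˣ =>
      exists_fixed_over K Zk hkc hr (by rw [← hxo]; exact pow_orderOf_eq_one x) hxz l hMr
    have hZk : Nat.card Zk = Nat.card W' := by
      rw [Nat.card_congr (subgroupOfEquivOfLe hZK).toEquiv, hZcard]
    letI : CommGroup Zk := { (inferInstance : Group Zk) with
      mul_comm := fun a b => Subtype.ext ((mem_center_iff.1 (hkc b.2)) a) }
    have hhom : Nat.card (↥Zk →* ℂˣ) = Nat.card W' := by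
      rw [CommGroup.card_monoidHom_of_hasEnoughRootsOfUnity, hZk]
    have hxinv : CharTwist.conjFun K θ₀ x = θ₀ := hinv x
    let Φ : Option (↥Zk →* ℂˣ) →
        {χ : Cfsg.IrrCharacter K // CharTwist.conjFun K (χ : K → ℂ) x = χ} := fun o =>
      o.elim ⟨⟨θ₀, hθ₀⟩, hxinv⟩ fun l => if l = 1 then ⟨Char.principalIrr, rfl⟩ else ⟨χl l, hfix l⟩
    have hlK1 : ∀ z : Zk, θ₀ (z : K) = θ₀ 1 := fun z => by
      rw [hθ1]
      have h1 := hval ⟨((z : K) : T), z.2⟩
      rw [hl1] at h1
      simpa using h1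
    have hχ0 : ∀ l : ↥Zk →* ℂˣ, l ≠ 1 → ∀ χ : Cfsg.IrrCharacter K,
        (∀ z : Zk, (χ : K → ℂ) z = (χ : K → ℂ) 1) → χl l ≠ χ := by
      intro l hl χ hχ e1
      refine hl (MonoidHom.ext fun z => Units.ext ?_)
      have h1 := hover l z
      rw [e1, hχ z] at h1
      exact (mul_eq_left₀ (Char.IsIrrCharacter.apply_one_ne_zero χ.2)).1 h1.symm
    have hinj : Function.Injective Φ := by
      intro o o' eo
      rcases o with _ | l <;> rcases o' with _ | l' <;> simp only [Φ, Option.elim] at eo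
      · rfl
      · exfalso
        split_ifs at eo with hl
        · exact hne₀ (congrArg (fun t => t.1.1) eo)
        · exact hχ0 l' hl ⟨θ₀, hθ₀⟩ hlK1 (congrArg Subtype.val eo).symm
      · exfalso
        split_ifs at eo with hl
        · exact hne₀ (congrArg (fun t => t.1.1) eo).symm
        · exact hχ0 l hl ⟨θ₀, hθ₀⟩ hlK1 (congrArg Subtype.val eo)
      · refine congrArg some ?_
        split_ifs at eo with hl hl' hl'
        · rw [hl, hl']
        · exact absurd (congrArg Subtype.val eo).symm (hχ0 l' hl' Char.principalIrr fun z => rfl)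
        · exact absurd (congrArg Subtype.val eo) (hχ0 l hl Char.principalIrr fun z => rfl)
        · refine MonoidHom.ext fun z => Units.ext ?_
          have h1 := hover l z
          rw [show χl l = χl l' from congrArg Subtype.val eo, hover l' z] at h1
          exact (mul_left_cancel₀ (Char.IsIrrCharacter.apply_one_ne_zero (χl l').2) h1).symm
    haveI : Finite (↥Zk →* ℂˣ) := Nat.finite_of_card_ne_zero (by
      rw [hhom]; exact h.q_prime.ne_zero)
    have hle := Nat.card_le_card_of_injective Φ hinj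
    rw [Finite.card_option, hhom, hcount, hZcard] at hle
    omega
  -- the numbers
  obtain ⟨hθw, -⟩ := fixedInd_degree hG h hμ
  have hθM : θ ^ 2 ≤ M := degree_sq_le hθ₀ _ hkc hθ1
  have hw2 : 2 ≤ Nat.card W := (Subgroup.one_lt_card_iff_ne_bot W).2 h.typeP.W₁_ne
  have hwM : Nat.card W ^ 2 < M := lt_of_lt_of_le (Nat.pow_lt_pow_left
    (show Nat.card W < θ by omega) two_ne_zero) hθM
  haveI : Fintype Zs := Fintype.ofFinite _
  have hlinv : ∀ g : T, CharTwist.conjFun Zs (fun z => (lam z : ℂ)) g = fun z => (lam z : ℂ) :=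
    fun g => funext fun z => by
      simp only [CharTwist.conjFun]
      refine congrArg (fun z => ((lam z : ℂˣ) : ℂ)) (Subtype.ext ?_)
      simp [hzc z z.2 g]
  have hidx : Zs.index = Nat.card W * M := by
    rw [← relIndex_mul_index hZK, h.index_derived, mul_comm]
  refine linked_of_layer hG h hTI hN Zs hZR' lam hlam hf hμ hζ (n := Nat.card W * M)
    (X := Nat.card W * θ) ?_ (Nat.mul_pos (by omega) (by nlinarith)) ?_ ?_ ?_ ?_
  · rw [CharDeep.Cliff.classInner_indFun_self Zs (Char.isIrrCharacter_linear lam) hlinv, hidx]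
  · rw [pow_two]
    exact Nat.mul_lt_mul_of_pos_right (by nlinarith) (by nlinarith)
  · have hμc : Cfsg.IsClassFunction T μ := hμdef ▸ Char.isClassFunction_indFun _ _
    rw [← Char.classInner_conj_symm, Char.classInner_indFun Zs _ _ hμc,
      show (fun z : Zs => μ z) = ((Nat.card W * θ : ℕ) : ℂ) • fun z : Zs => ((lam z : ℂˣ) : ℂ) from
        funext fun z => by
          rw [show μ (z : T) = μ ((⟨(z : T), hZK z.2⟩ : K) : T) from rfl, hμres, hval z]
          simp; ring,
      Char.classInner_smul_right, Char.classInner_irr_self (Char.isIrrCharacter_linear lam)]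
    simp
  · intro ξ hξ
    refine dvd_of_const hG h hTI hN (q := Nat.card W') hp Zs hZK hZ1
      (fun z hz y _ => (hzc z hz y).symm) lam hlam (hf.1.2.2.2 ξ (OddChar.mem_zspan_self hξ))
      (by rw [hf.1.2.2.1 _ (OddChar.mem_zspan_self hξ) _ (OddChar.mem_zspan_self hξ),
        Char.classInner_irr_self (hirr ξ hξ).1]) fun z hz hz1 z' hz' hz'1 => ?_
    have ho : orderOf z = Nat.card W' := by
      have h1 : orderOf (⟨z, hz⟩ : Zs) ∣ Nat.card W' := hZcard ▸ orderOf_dvd_natCard _
      rw [Subgroup.orderOf_mk] at h1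
      exact (h.q_prime.eq_one_or_self_of_dvd _ h1).resolve_left
        (fun e1 => hz1 (orderOf_eq_one_iff.1 e1))
    haveI : Finite Zs := inferInstance
    have hgen : zpowers z = Zs := eq_of_le_of_card_ge (zpowers_le.2 hz) (by
      rw [Nat.card_zpowers, ho, hZcard])
    obtain ⟨j, hj⟩ := mem_powers_iff_mem_zpowers.2 (hgen.symm ▸ hz' : z' ∈ zpowers z)
    replace hj : z ^ j = z' := hj
    have hjc : j.Coprime (Nat.card W') := Nat.Coprime.symm
      ((Nat.Prime.coprime_iff_not_dvd h.q_prime).2 fun hd => hz'1 (by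
        rw [← hj, ← orderOf_dvd_iff_pow_eq_one, ho]; exact hd))
    obtain ⟨k, hk, hkj⟩ := exists_coprime_lift (G := G) W'.card_subgroup_dvd_card hjc
    have hzk : z ^ k = z' := by
      rw [← hj, pow_eq_pow_iff_modEq, ho]; exact hkj
    rw [← hzk, coe_pow]
    exact (linMap_apply_pow hG h hTI hN hf hξ hk (hW'le hz) hz1).symm
  · intro A hA
    have hM1 : (Nat.card W : ℤ) ^ 2 < M := by exact_mod_cast hwM
    have hA2 : (1 : ℤ) ≤ A ^ 2 := one_le_pow₀ hA
    have hM0 : (0 : ℤ) ≤ M := by positivity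
    have hm0 : (0 : ℤ) ≤ (Nat.card ↥(linChars T) : ℤ) * A ^ 2 * (Nat.card W * M) := by positivity
    have h1 : (M : ℤ) * M ≤ M * M * A ^ 2 := le_mul_of_one_le_right (by positivity) hA2
    have h2 : (Nat.card W : ℤ) ^ 2 * M < M * M := mul_lt_mul_of_pos_right hM1 (by nlinarith)
    have h3 : (0 : ℤ) ≤ ((Nat.card W : ℤ) * θ) ^ 2 := sq_nonneg _
    push_cast
    linarith [h1, h2, h3, hm0, show ((Nat.card ↥(linChars T) : ℤ) * A ^ 2 - 2 * θ * A) *
        ((Nat.card W : ℤ) * M) + ((Nat.card W : ℤ) * θ + M * A) ^ 2 =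
        (Nat.card ↥(linChars T) : ℤ) * A ^ 2 * (Nat.card W * M) +
          ((Nat.card W : ℤ) * θ) ^ 2 + M * M * A ^ 2 by ring]


end CfsgLib.FT
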