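import Cfsg.Agent.Lib.FT.Pair
import Cfsg.Agent.Lib.OddOrder.TypeExclusive
import Cfsg.Agent.Lib.OddOrder.Section15Centralizer
import Cfsg.Agent.Lib.OddOrder.FHall
import Cfsg.Agent.Lib.Solvable.CoprimeAction

/-!
FT: the case split for `T` of type V used by `Linked.linked_five`.

`R = T' = T_F` is nilpotent. Either one of the conditions of S1521 for `M = 1` holds (not a prime power, abelian,
`w ∣ q - 1`), or `R` is a `q`-group which is TI or of order `q³` with `w ∣ q + 1`.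
-/

set_option autoImplicit false
set_option maxHeartbeats 400000
set_option linter.style.haveILetI false

namespace CfsgLib.FT

open Subgroup CfsgLib.OddOrder
open scoped commutatorElement

universe u

variable {G : Type u} [Group G] [Finite G] (hG : Cfsg.IsMinSimpleOddOrder G)
  {T W V W' : Subgroup G}
include hG

omit hG in
/-- For type V the derived subgroup is `T_F`, with `V = 1`. -/
theorem typeFive_derived (hP : Cfsg.IsTypePWith T W V W') (h5 : Cfsg.IsOfTypeV T) :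
    V = ⊥ ∧ ⁅T, T⁆ = Cfsg.fittingHallOf T := by
  obtain ⟨A, B, C, hP', hB, -⟩ := h5
  have hV : V = ⊥ := by
    by_contra hV
    exact (TypeP.U_ne_bot_iff hP hP').1 hV hB
  refine ⟨hV, (eq_of_le_of_card_ge hP.U_compl.1 ?_).symm⟩
  rw [← TypeP.card_mul hP, hV, card_bot, mul_one]

/-- The split of type V; `q = |W'|`, `w = |W|`, `R = T'`. -/
theorem typeFive_cases (h : CoreSide T W V W') (h5 : Cfsg.IsOfTypeV T) :
    Group.IsNilpotent ↥⁅T, T⁆ ∧
      ((¬ ∃ p m : ℕ, p.Prime ∧ Nat.card ↥⁅T, T⁆ = p ^ m) ∨ IsMulCommutative ↥⁅T, T⁆ ∨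
        (∃ m : ℕ, Nat.card ↥⁅T, T⁆ = Nat.card W' ^ m ∧ Nat.card W ∣ Nat.card W' - 1) ∨
        ((∃ n : ℕ, Nat.card ↥⁅T, T⁆ = Nat.card W' ^ n) ∧
          (Cfsg.IsTISubset ((⁅T, T⁆ : Subgroup G) : Set G) ∧
              normalizer ((⁅T, T⁆ : Subgroup G) : Set G) = T ∨
            Nat.card ↥⁅T, T⁆ = Nat.card W' ^ 3 ∧ Nat.card W ∣ Nat.card W' + 1))) := by
  obtain ⟨-, hR⟩ := typeFive_derived h.typeP h5
  have hnil : Group.IsNilpotent ↥⁅T, T⁆ := hR ▸ fittingHallOf_isNilpotent T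
  refine ⟨hnil, ?_⟩
  by_cases hpp : ∃ p m : ℕ, p.Prime ∧ Nat.card ↥⁅T, T⁆ = p ^ m
  swap
  · exact Or.inl hpp
  obtain ⟨r, m, hr, hcard⟩ := hpp
  have hW' : W' ≤ ⁅T, T⁆ := hR ▸ h.typeP.W₂_le.trans inf_le_left
  have hrq : r = Nat.card W' := ((Nat.prime_dvd_prime_iff_eq h.q_prime hr).1
    (h.q_prime.dvd_of_dvd_pow (hcard ▸ card_dvd_of_le hW'))).symm
  subst hrq
  obtain ⟨A, B, C, hP', -, hcase⟩ := h5
  have hw : Nat.card A = Nat.card W := by
    rw [card_eq_relIndex_of_isComplIn (isComplIn_swap h.typeP.W₁_compl),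
      card_eq_relIndex_of_isComplIn (isComplIn_swap hP'.W₁_compl)]
  rw [← hR] at hcase
  have hfact : ∀ {p : ℕ}, p.Prime → p ∣ Nat.card ↥⁅T, T⁆ → p = Nat.card W' := fun hp hd =>
    (Nat.prime_dvd_prime_iff_eq hp h.q_prime).1 (hp.dvd_of_dvd_pow (hcard ▸ hd))
  rcases hcase with hTI | ⟨p, hp, hd, hw1, -⟩ | ⟨p, hp, hd, h3, hw1, -⟩
  · refine Or.inr (Or.inr (Or.inr ⟨⟨m, hcard⟩, Or.inl ⟨hTI, ?_⟩⟩))
    refine normalizer_eq_of_isCoatom_of_le hG h.coatom ?_ (commutator_le_self T)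
      (Solvable.le_normalizer_commutator_left T T)
    exact fun hb => h.typeP.H_not_cyclic (by rw [← hR, hb]; infer_instance)
  · exact Or.inr (Or.inr (Or.inl ⟨m, hcard, hfact hp hd ▸ hw ▸ hw1⟩))
  · obtain rfl := hfact hp hd
    refine Or.inr (Or.inr (Or.inr ⟨⟨m, hcard⟩, Or.inr ⟨?_, hw ▸ hw1⟩⟩))
    haveI := Fact.mk hp
    have htop : Cfsg.pCore (Nat.card W') ↥⁅T, T⁆ = ⊤ := by
      refine top_le_iff.1 (le_sSup ⟨inferInstance, ?_⟩)
      exact (IsPGroup.of_card hcard).to_subgroup ⊤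
    rw [htop, card_top] at h3
    exact h3

omit hG in
/-- `T / T''` is a Frobenius group with kernel `T' / T''`. -/
theorem coreSide_frob (h : CoreSide T W V W') {k x : G} (hk : k ∈ ⁅T, T⁆)
    (hk2 : k ∉ ⁅⁅T, T⁆, ⁅T, T⁆⁆) (hx : x ∈ T)
    (hxk : x * k * x⁻¹ * k⁻¹ ∈ ⁅⁅T, T⁆, ⁅T, T⁆⁆) : x ∈ ⁅T, T⁆ := by
  set K := ⁅T, T⁆ with hK
  have hP := h.typeP
  have hKK : ⁅K, K⁆ ≤ K := commutator_le_self K
  have hKn : K ≤ normalizer ((⁅K, K⁆ : Subgroup G) : Set G) :=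
    Solvable.le_normalizer_commutator_left K K
  have hTn : T ≤ normalizer ((⁅K, K⁆ : Subgroup G) : Set G) := fun t ht => by
    rw [mem_normalizer_iff_map_conj_eq, map_commutator, mem_normalizer_iff_map_conj_eq.1
      (Solvable.le_normalizer_commutator_left T T ht)]
  obtain ⟨r, hr, a, ha, rfl⟩ := hP.W₁_compl.2.2.2 x hx
  suffices ha1 : a = 1 by rw [ha1, mul_one]; exact hr
  by_contra ha1
  have haT : a ∈ T := hP.W₁_compl.2.1 ha
  have hka : a * k * a⁻¹ * k⁻¹ ∈ ⁅K, K⁆ := by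
    have hkr : r * k * r⁻¹ * k⁻¹ ∈ ⁅K, K⁆ := by
      rw [← commutatorElement_def]
      exact commutator_mem_commutator hr hk
    have h1 : r * (a * k * a⁻¹ * k⁻¹) * r⁻¹ ∈ ⁅K, K⁆ := by
      rw [show r * (a * k * a⁻¹ * k⁻¹) * r⁻¹ =
        (r * a * k * (r * a)⁻¹ * k⁻¹) * (r * k * r⁻¹ * k⁻¹)⁻¹ by group]
      exact mul_mem hxk (inv_mem hkr)
    exact (mem_normalizer_iff.1 (hKn hr) _).2 h1
  have haK : zpowers a ≤ normalizer (K : Set G) :=
    zpowers_le.2 (Solvable.le_normalizer_commutator_left T T haT)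
  have hco : (Nat.card (zpowers a)).Coprime (Nat.card K) :=
    (h.coprime.coprime_dvd_right (card_dvd_of_le (zpowers_le.2 ha))).symm
  have haKK : zpowers a ≤ normalizer ((⁅K, K⁆ : Subgroup G) : Set G) := zpowers_le.2 (hTn haT)
  have hsolv : Group.IsSolvable (zpowers a) :=
    Group.isSolvable_of_comm fun u v => mul_comm' u v
  obtain ⟨c, hc, hkc⟩ := Solvable.exists_fixed_of_fixed_mod haK hco (Or.inl hsolv) hKK hKn haKK hk
    fun b hb => by
      obtain ⟨n, rfl⟩ := mem_zpowers_iff.1 hb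
      induction n using Int.induction_on with
      | zero => simp [one_mem]
      | succ i ih =>
        rw [show a ^ ((i : ℤ) + 1) * k * (a ^ ((i : ℤ) + 1))⁻¹ * k⁻¹ =
          a * (a ^ (i : ℤ) * k * (a ^ (i : ℤ))⁻¹ * k⁻¹) * a⁻¹ * (a * k * a⁻¹ * k⁻¹) by group]
        exact mul_mem ((mem_normalizer_iff.1 (hTn haT) _).1 (ih (zpow_mem (mem_zpowers a) _))) hka
      | pred i ih =>
        rw [show a ^ (-(i : ℤ) - 1) * k * (a ^ (-(i : ℤ) - 1))⁻¹ * k⁻¹ =
          a⁻¹ * ((a ^ (-(i : ℤ)) * k * (a ^ (-(i : ℤ)))⁻¹ * k⁻¹) * (a * k * a⁻¹ * k⁻¹)⁻¹) * a⁻¹⁻¹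
          by group]
        exact (mem_normalizer_iff.1 (inv_mem (hTn haT)) _).1
          (mul_mem (ih (zpow_mem (mem_zpowers a) _)) (inv_mem hka))
  have hcW : c ∈ W' := hP.W₂_centralizer a ha ha1 ▸
    mem_inf.2 ⟨hc.1, mem_centralizer_singleton_iff.2
      (mem_centralizer_iff.1 hc.2 a (mem_zpowers a)).symm⟩
  have hc2 : c ∈ ⁅K, K⁆ := (hP.W₂_le.trans inf_le_right) hcW
  refine hk2 ?_
  rw [show k = c * (k⁻¹ * c)⁻¹ by group]
  exact mul_mem hc2 (inv_mem hkc)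

omit hG in
/-- In the case `|R| = q³`: `R' = W'`, of index `q²`. -/
theorem typeFive_cube (h : CoreSide T W V W') (h3 : Nat.card ↥⁅T, T⁆ = Nat.card W' ^ 3) :
    ⁅⁅T, T⁆, ⁅T, T⁆⁆ = W' ∧ ⁅⁅T, T⁆, ⁅T, T⁆⁆.relIndex ⁅T, T⁆ = Nat.card W' ^ 2 := by
  set K := ⁅T, T⁆ with hK
  set q := Nat.card W' with hq
  haveI := Fact.mk h.q_prime
  have hq1 : 1 < q := h.q_prime.one_lt
  have hW' : W' ≤ ⁅K, K⁆ := h.typeP.W₂_le.trans inf_le_right
  have hKne : ¬ IsMulCommutative K := fun hab => by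
    have hb : ⁅K, K⁆ = ⊥ := commutator_eq_bot_iff_le_centralizer.2
      (le_centralizer_iff_isMulCommutative.2 hab)
    rw [hb, le_bot_iff] at hW'
    rw [hq, hW', card_bot] at hq1
    exact absurd hq1 (lt_irrefl 1)
  obtain ⟨k, hk0, hk⟩ := IsPGroup.card_center_eq_prime_pow h3 three_pos
  have hle : Nat.card (center K) * (center K).index = q ^ 3 :=
    (center K).card_mul_index.trans h3
  have hidx : (center K).index = Nat.card (↥K ⧸ center K) := (center K).index_eq_card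
  have hcenter : k = 1 := by
    by_contra hk1
    refine hKne ⟨⟨?_⟩⟩
    have h2 : 2 ≤ k := by omega
    rw [hk, hidx] at hle
    have hdvd : Nat.card (↥K ⧸ center K) ∣ q := by
      have : q ^ 2 * Nat.card (↥K ⧸ center K) ∣ q ^ 2 * q := by
        rw [← pow_succ, ← hle]
        exact Nat.mul_dvd_mul_right (pow_dvd_pow q h2) _
      exact Nat.dvd_of_mul_dvd_mul_left (by positivity) this
    haveI : IsCyclic (↥K ⧸ center K) := by
      rcases (Nat.dvd_prime h.q_prime).1 hdvd with h1 | h1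
      · haveI : Subsingleton (↥K ⧸ center K) := (Nat.card_eq_one_iff_unique.1 h1).1
        infer_instance
      · exact isCyclic_of_prime_card h1
    exact commutative_of_cyclic_center_quotient (QuotientGroup.mk' (center K))
      (QuotientGroup.ker_mk' _).le
  subst hcenter
  rw [pow_one] at hk
  have hcard2 : Nat.card (↥K ⧸ center K) = q ^ 2 := by
    rw [hk, hidx] at hle
    exact Nat.eq_of_mul_eq_mul_left h.q_prime.pos (hle.trans (pow_succ' q 2))
  have hcomm : ⁅K, K⁆ ≤ (center K).map K.subtype := by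
    refine commutator_le.2 fun a ha b hb => ?_
    refine ⟨⁅(⟨a, ha⟩ : K), ⟨b, hb⟩⁆, (QuotientGroup.eq_one_iff (N := center K) _).1 ?_, rfl⟩
    change QuotientGroup.mk' (center K) ⁅(⟨a, ha⟩ : K), ⟨b, hb⟩⁆ = 1
    rw [map_commutatorElement, commutatorElement_eq_one_iff_commute]
    exact (IsPGroup.isMulCommutative_of_card_eq_prime_sq hcard2).is_comm.comm _ _
  have heq : ⁅K, K⁆ = W' := (eq_of_le_of_card_ge hW' (by
    refine (card_le_of_le hcomm).trans (le_of_eq ?_)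
    rw [card_map_of_injective K.subtype_injective, hk])).symm
  refine ⟨heq, Nat.eq_of_mul_eq_mul_left h.q_prime.pos ?_⟩
  rw [← pow_succ' q 2, ← h3, heq, ← relIndex_bot_left W',
    relIndex_mul_relIndex ⊥ W' K bot_le (hW'.trans (commutator_le_self K)), relIndex_bot_left]

end CfsgLib.FT
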