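import Cfsg.Agent.Lib.FT.CoreFam
import Cfsg.Agent.Lib.FT.TypeFiveCases
import Cfsg.Agent.S1521

/-!
FT helper for `Linked.linked_five`: when S1521 applies to `T'` (`M = 1`), the whole family over `T'` is
coherent, so its extension restricted to the linear family links it to every fixed character.
-/

set_option autoImplicit false
set_option linter.style.haveILetI false

namespace CfsgLib.FT

open Subgroup
open CfsgLib.OddChar (mem_zspan_self)
open CoreFamAux
open scoped commutatorElement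

universe u

variable {G : Type u} [Group G] [Fintype G] (hG : Cfsg.IsMinSimpleOddOrder G)
  {T W V W' : Subgroup G} [Fintype T]
include hG

theorem linked_of_coherent_all (h : CoreSide T W V W')
    (hc : Cfsg.IsCoherent (Cfsg.inducedIrrAbove (derIn T) ⊥) {1}ᶜ (tauCore T)) :
    Linked T W := by
  classical
  obtain ⟨-, τ₁, hiso, hagree⟩ := hc
  obtain ⟨R, hS⟩ := exists_system hG h
  obtain ⟨μ, θ, hμ⟩ := exists_fixedInd hG h
  obtain ⟨ζ, hζ⟩ := linChars_nonempty hG h
  have hsub : linChars T ⊆ Cfsg.inducedIrrAbove (derIn T) ⊥ := OddChar.Above.above_mono _ bot_le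
  have hzsub : Cfsg.zspan (linChars T) ⊆ Cfsg.zspan (Cfsg.inducedIrrAbove (derIn T) ⊥) :=
    fun α hα => Submodule.span_mono hsub hα
  have hθ : 1 < θ := by
    have h1 := (fixedInd_degree hG h hμ).1
    have h3 : 3 ≤ Nat.card W := h.card_W hG ▸ three_le (h.hyp hG)
    omega
  refine ⟨τ₁, μ, ζ, θ, ⟨⟨fun a ha b hb => hiso.1 a (hzsub ha) b (hzsub hb),
    fun a ha n => hiso.2.1 a (hzsub ha) n, fun a ha b hb => hiso.2.2.1 a (hzsub ha) b (hzsub hb),
    fun a ha => hiso.2.2.2 a (hzsub ha)⟩, fun α hα => hagree α ⟨hzsub hα.1, hα.2⟩⟩, hμ, hζ,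
    fun ξ hξ => ?_⟩
  obtain ⟨hζi, hζ1⟩ := linChars_mem hG h ζ hζ
  obtain ⟨hξi, hξ1⟩ := linChars_mem hG h ξ hξ
  have hα : μ - (θ : ℂ) • ζ ∈ Cfsg.zspanOn (Cfsg.inducedIrrAbove (derIn T) ⊥) {1}ᶜ := by
    refine ⟨?_, fun x hx => ?_⟩
    · rw [show (θ : ℂ) • ζ = (θ : ℤ) • ζ by ext x; simp]
      exact Submodule.sub_mem _ (mem_zspan_self hμ.1)
        (Submodule.smul_mem _ _ (mem_zspan_self (hsub hζ)))
    · obtain rfl : x = 1 := by simpa using hx
      simp [hμ.2.2, hζ1, mul_comm]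
  have hne : μ ≠ ξ := fun e => by
    have h1 := hμ.2.2
    rw [e, hξ1] at h1
    have h2 : Nat.card W * θ = Nat.card W * 1 := by rw [mul_one]; exact_mod_cast h1.symm
    exact hθ.ne' (Nat.eq_of_mul_eq_mul_left Nat.card_pos h2)
  rw [← hagree _ hα, hiso.2.2.1 _ hα.1 _ (mem_zspan_self (hsub hξ)), Char.classInner_sub_left,
    Char.classInner_smul_left, hS.orthogonal μ hμ.1 ξ (hsub hξ) hne]
  split_ifs with e
  · simp [e, Char.classInner_irr_self hζi]
  · simp [hS.orthogonal ζ (hsub hζ) ξ (hsub hξ) (Ne.symm e)]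

/-- The S1521 cases of type V. -/
theorem linked_of_good (h : CoreSide T W V W') (hnil : Group.IsNilpotent ↥⁅T, T⁆)
    (hgood : (¬ ∃ p m : ℕ, p.Prime ∧ Nat.card ↥⁅T, T⁆ = p ^ m) ∨ IsMulCommutative ↥⁅T, T⁆ ∨
      ∃ m : ℕ, Nat.card ↥⁅T, T⁆ = Nat.card W' ^ m ∧ Nat.card W ∣ Nat.card W' - 1) :
    Linked T W := by
  classical
  refine linked_of_coherent_all hG h ?_
  haveI : Group.IsSolvable T := OddOrder.isSolvable_of_ne_top hG h.coatom.1
  have hy := h.hyp hG
  obtain ⟨R, hS⟩ := exists_system hG h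
  have e : ↥(derIn T) ≃* ↥⁅T, T⁆ := subgroupOfEquivOfLe (commutator_le_self T)
  haveI : Group.IsNilpotent ↥(derIn T) := Group.nilpotent_of_mulEquiv e.symm
  have hne : derIn T ≠ ⊥ := fun hb => hy.ne₂ (le_bot_iff.1 (hb ▸ hy.le))
  have hidx : (derIn T).index = Nat.card W := h.index_derIn hG
  have htop : derIn T < ⊤ := by
    refine lt_top_iff_ne_top.2 fun ht => ?_
    have h3 : 3 ≤ Nat.card W := h.card_W hG ▸ three_le hy
    rw [ht, index_top] at hidx
    omega
  have hcard : (⊥ : Subgroup T).relIndex (derIn T) = Nat.card ↥⁅T, T⁆ := by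
    rw [relIndex_bot_left, Nat.card_congr e.toEquiv]
  refine Cfsg.Agent.S1521.result (derIn T) inferInstance (tauCore T) R hS
    (hG.1.of_dvd_nat (card_subgroup_dvd_card T)) ⊥ bot_le inferInstance ⁅derIn T, derIn T⁆
    (sup_bot_eq _).symm (Group.IsSolvable.commutator_lt_of_ne_bot hne) htop ?_ ?_
  · intro k hk hk2 x hx
    refine mem_subgroupOf.2 (coreSide_frob h (mem_subgroupOf.1 hk) ?_ x.2 ?_)
    · exact fun hm => hk2 (by rw [← derIn_two]; exact mem_subgroupOf.2 hm)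
    · rw [← derIn_two] at hx
      exact mem_subgroupOf.1 hx
  · rcases hgood with hg | hg | ⟨m, hm, hd⟩
    · exact Or.inr (Or.inr (Or.inl (by rwa [hcard])))
    · refine Or.inr (Or.inr (Or.inr (Or.inl ?_)))
      rw [le_bot_iff, commutator_eq_bot_iff_le_centralizer]
      intro a ha
      refine mem_centralizer_iff.2 fun b hb => Subtype.ext ?_
      exact (congrArg Subtype.val (hg.is_comm.comm
        (⟨(b : G), mem_subgroupOf.1 hb⟩ : ↥⁅T, T⁆) ⟨(a : G), mem_subgroupOf.1 ha⟩) :)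
    · exact Or.inr (Or.inr (Or.inr (Or.inr
        ⟨_, m, h.q_prime, by rw [hcard, hm], by rw [hidx]; exact hd⟩)))

end CfsgLib.FT
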