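import Cfsg.Agent.Lib.FT.LinkedTI
import Cfsg.Agent.Lib.Solvable.CoprimeAction
import Cfsg.Agent.Lib.Char.CentralOver
import Cfsg.Agent.Lib.OddChar.Sibley
import Cfsg.Agent.S1492

/-!
FT module LinkedLayer: the layer over a character of a central subgroup `Z` of `R = T'`.
-/

set_option autoImplicit false
set_option linter.style.haveILetI false

namespace CfsgLib.FT

open Subgroup
open scoped ComplexConjugate

universe u

variable {G : Type u} [Group G] [Fintype G] {T W V W' : Subgroup G}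

/-- The central character. -/
theorem exists_central_linear {X : Type*} [Group X] [Fintype X] {χ : X → ℂ}
    (hχ : Cfsg.IsIrrCharacter X χ) (Z : Subgroup X) (hZ : Z ≤ Subgroup.center X) :
    ∃ lam : ↥Z →* ℂˣ, ∀ z : Z, χ z = χ 1 * (lam z : ℂ) := by
  have h1 := Char.IsIrrCharacter.apply_one_ne_zero hχ
  have hm : ∀ a b : Z, χ ((a : X) * b) * χ 1 = χ a * χ b := fun a b =>
    CharOver.apply_mul_central hχ (hZ b.2) a
  have hne : ∀ a : Z, χ a ≠ 0 := fun a h0 => by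
    have := hm a a⁻¹
    rw [h0, zero_mul] at this
    simp [h1] at this
  refine ⟨{ toFun := fun z => Units.mk0 (χ z / χ 1) (div_ne_zero (hne z) h1)
            map_one' := Units.ext (by simp [h1])
            map_mul' := fun a b => Units.ext ?_ }, fun z => ?_⟩
  · simp only [Units.val_mk0, Subgroup.coe_mul, Units.val_mul]
    field_simp
    linear_combination hm a b
  · show χ z = χ 1 * (χ z / χ 1)
    field_simp

/-- `χ (1) ^ 2 ≤ |X : Z|` for central `Z`. -/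
theorem degree_sq_le {X : Type*} [Group X] [Fintype X] {χ : X → ℂ}
    (hχ : Cfsg.IsIrrCharacter X χ) (Z : Subgroup X) (hZ : Z ≤ Subgroup.center X) {θ : ℕ}
    (hθ : χ 1 = (θ : ℂ)) : θ ^ 2 ≤ Z.index := by
  have h := Cfsg.Agent.S1492.result χ hχ ⊥ ⊤ Z bot_le le_top
    (fun c _ b hb => by rw [mem_bot.1 hb]; simp)
    (fun d hd c _ => by
      rw [mem_bot, ← mem_center_iff.1 (hZ hd) c]
      group)
    (fun b hb => by rw [mem_bot.1 hb])
  rw [hθ, card_top, Complex.norm_natCast, ← Z.card_mul_index] at h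
  push_cast at h
  have hpos : (0 : ℝ) < (Nat.card Z : ℝ) ^ 2 * (Z.index : ℝ) := by
    have h1 : (0 : ℝ) < Nat.card Z := by exact_mod_cast Nat.card_pos
    have h2 : (0 : ℝ) < Z.index := by
      exact_mod_cast Nat.pos_of_ne_zero index_ne_zero_of_finite
    positivity
  have h3 : ((θ : ℝ) ^ 2) * ((Nat.card Z : ℝ) ^ 2 * Z.index) ≤
      (Z.index : ℝ) * ((Nat.card Z : ℝ) ^ 2 * Z.index) := by linarith
  exact_mod_cast le_of_mul_le_mul_right h3 hpos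

local instance instDerivedNormal (T : Subgroup G) : (⁅T, T⁆.subgroupOf T).Normal := derived_normal T

/-- The character inducing a fixed induced character. -/
theorem fixedInd_data [Fintype T] (h : CoreSide T W V W') {μ : ↥T → ℂ} {θ : ℕ}
    (hμ : IsFixedInd T W μ θ) :
    ∃ θ₀ : ↥(⁅T, T⁆.subgroupOf T) → ℂ,
      Cfsg.IsIrrCharacter ↥(⁅T, T⁆.subgroupOf T) θ₀ ∧ θ₀ ≠ (fun _ => 1) ∧ θ₀ 1 = (θ : ℂ) ∧
      (∀ g : T, CharTwist.conjFun _ θ₀ g = θ₀) ∧ (μ = Cfsg.indFun _ θ₀) ∧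
      ∀ k : ↥(⁅T, T⁆.subgroupOf T), μ k = (Nat.card W : ℂ) * θ₀ k := by
  haveI := derived_normal T
  set K := ⁅T, T⁆.subgroupOf T
  haveI : Fintype K := Fintype.ofFinite _
  obtain ⟨⟨θ₀, hθ₀, hne, -, hdef⟩, hn, h1⟩ := hμ
  subst hdef
  have hcard := CharTwist.card_mul_classInner_indFun K hθ₀ hθ₀
  rw [hn, ← h.index_derived, ← Nat.cast_mul, K.card_mul_index, Nat.cast_inj] at hcard
  have hinv : ∀ g : T, CharTwist.conjFun K θ₀ g = θ₀ := fun g => by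
    by_contra hg
    exact absurd hcard.symm (ne_of_lt (Finite.card_subtype_lt (x := g) hg))
  have hW0 : (Nat.card W : ℂ) ≠ 0 := Nat.cast_ne_zero.2 Nat.card_pos.ne'
  rw [Char.indFun_apply_one, h.index_derived] at h1
  exact ⟨θ₀, hθ₀, hne, mul_left_cancel₀ hW0 h1, hinv, rfl, fun k => by
    rw [CharDeep.Cliff.indFun_res_invariant K hinv k, h.index_derived]⟩

/-- A linear character of an abelian subgroup fixed by a fixed-point-free element is trivial. -/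
theorem hom_eq_one_of_fpf {X : Type*} [Group X] [Finite X] (Z : Subgroup X) [hZn : Z.Normal]
    {x : X} (hfp : ∀ z ∈ Z, x * z = z * x → z = 1)
    (lam : ↥Z →* ℂˣ) (hfix : ∀ z : Z, lam ⟨x * z * x⁻¹, hZn.conj_mem _ z.2 x⟩ = lam z) :
    lam = 1 := by
  let s : Z → Z := fun z => ⟨x * z * x⁻¹, hZn.conj_mem _ z.2 x⟩ * z⁻¹
  have hinj : Function.Injective s := by
    intro a b hab'
    have e := congrArg Subtype.val hab'
    simp only [s, Subgroup.coe_mul, Subgroup.coe_inv] at e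
    have h1 : x * ((a : X)⁻¹ * b) * x⁻¹ = (a : X)⁻¹ * b := by
      have e2 : x * (a : X) * x⁻¹ = x * b * x⁻¹ * ((b : X)⁻¹ * a) := by
        calc x * (a : X) * x⁻¹ = (x * a * x⁻¹ * (a : X)⁻¹) * a := by group
          _ = _ := by rw [e]; group
      calc x * ((a : X)⁻¹ * b) * x⁻¹ = (x * a * x⁻¹)⁻¹ * (x * b * x⁻¹) := by group
        _ = (b : X)⁻¹ * a * 1 * 1⁻¹ * ((a : X)⁻¹ * b) * ((a : X)⁻¹ * b) := by rw [e2]; group
        _ = _ := by group
    have h2 : (a : X)⁻¹ * b = 1 := hfp _ (Z.mul_mem (Z.inv_mem a.2) b.2) (by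
      calc x * ((a : X)⁻¹ * b) = x * ((a : X)⁻¹ * b) * x⁻¹ * x := by group
        _ = _ := by rw [h1])
    exact Subtype.ext (inv_mul_eq_one.1 h2)
  refine MonoidHom.ext fun z => ?_
  obtain ⟨y, rfl⟩ := (Finite.injective_iff_surjective.1 hinj) z
  simp [s, hfix y]

variable (hG : Cfsg.IsMinSimpleOddOrder G)
include hG

theorem exists_sylow_core (h : CoreSide T W V W') {q : ℕ} [hq : Fact q.Prime]
    (hp : ∃ n : ℕ, Nat.card ↥⁅T, T⁆ = q ^ n) : ∃ P : Sylow q G, (P : Subgroup G) = ⁅T, T⁆ := by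
  have hco := (Cfsg.Agent.S1389.result hG T h.coatom).2.2
  rw [OddOrder.typeCore_eq_sigmaCore hG h.coatom, h.core_eq] at hco
  obtain ⟨n, hn⟩ := hp
  have hR1 : ⁅T, T⁆ ≠ ⊥ := by
    intro hb
    obtain ⟨-, -, hle, hne⟩ : W' ≤ _ ∧ W' ≤ _ ∧ W' ≤ ⁅T, T⁆ ∧ W' ≠ ⊥ :=
      ⟨le_rfl, le_rfl, by
        have h2 : W' ≤ ⁅⁅T, T⁆, ⁅T, T⁆⁆ := (le_inf_iff.1 h.typeP.W₂_le).2
        exact h2.trans (commutator_le_of_subgroup _),
        fun e => by
          have := h.q_prime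
          rw [e, card_bot] at this
          exact Nat.not_prime_one this⟩
    exact hne (le_bot_iff.1 (hle.trans hb.le))
  have hn0 : n ≠ 0 := fun e => hR1 (Subgroup.card_eq_one.1 (by rw [hn, e, pow_zero]))
  have hqR : q ∣ Nat.card ↥⁅T, T⁆ := hn ▸ dvd_pow_self q hn0
  have hpG : IsPGroup q ↥⁅T, T⁆ := IsPGroup.of_card hn
  obtain ⟨P, hP⟩ := hpG.exists_le_sylow
  refine ⟨P, (eq_of_le_of_card_ge hP ?_).symm⟩
  obtain ⟨j, hj⟩ := IsPGroup.iff_card.1 P.isPGroup'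
  have hd : Nat.card (P : Subgroup G) ∣ Nat.card ↥⁅T, T⁆ * (⁅T, T⁆).index := by
    rw [card_mul_index]; exact card_subgroup_dvd_card _
  refine Nat.le_of_dvd Nat.card_pos (Nat.Coprime.dvd_of_dvd_mul_right ?_ hd)
  rw [hj]
  exact (Nat.Coprime.coprime_dvd_left hqR hco).pow_left j

/-- A constant value on `Z^#` makes `⟨Ind_Z λ, ψ⟩` a multiple of `|R : Z|`. -/
theorem dvd_of_const [Fintype T] (h : CoreSide T W V W')
    (hTI : Cfsg.IsTISubset ((⁅T, T⁆ : Subgroup G) : Set G))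
    (hN : normalizer ((⁅T, T⁆ : Subgroup G) : Set G) = T)
    {q : ℕ} [Fact q.Prime] (hp : ∃ n : ℕ, Nat.card ↥⁅T, T⁆ = q ^ n)
    (Zs : Subgroup T) [hZn : Zs.Normal] (hZK : Zs ≤ ⁅T, T⁆.subgroupOf T) (hZ1 : Zs ≠ ⊥)
    (hcent : ∀ z ∈ Zs, ∀ y ∈ ⁅T, T⁆.subgroupOf T, z * y = y * z)
    (lam : ↥Zs →* ℂˣ) (hlam : lam ≠ 1) {ψ : G → ℂ} (hψ : Cfsg.IsGeneralizedCharacter G ψ)
    (hψn : Cfsg.classInner ψ ψ = 1)
    (hconst : ∀ z ∈ Zs, z ≠ 1 → ∀ z' ∈ Zs, z' ≠ 1 → ψ (z : G) = ψ (z' : G)) :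
    ∃ k : ℤ, Cfsg.classInner (Cfsg.indFun Zs fun z => (lam z : ℂ)) (fun x : T => ψ x) =
      (Zs.relIndex (⁅T, T⁆.subgroupOf T) : ℂ) * k := by
  classical
  haveI : Fintype Zs := Fintype.ofFinite _
  have hψc := Char.IsGeneralizedCharacter.isClassFunction hψ
  obtain ⟨z₀, hz₀1⟩ := Zs.ne_bot_iff_exists_ne_one.1 hZ1
  have hz₀ : (z₀ : T) ≠ 1 := fun e => hz₀1 (Subtype.ext e)
  obtain ⟨s, χ, hs, hχ, hsχ⟩ : ∃ (s : ℤ) (χ : G → ℂ),
      (s = 1 ∨ s = -1) ∧ Cfsg.IsIrrCharacter G χ ∧ ψ = (s : ℂ) • χ := by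
    rcases OddChar.irr_or_neg_of_norm_one hψ hψn with h1 | h1
    · exact ⟨1, ψ, Or.inl rfl, h1, by simp⟩
    · exact ⟨-1, -ψ, Or.inr rfl, h1, by simp⟩
  have hs0 : (s : ℂ) ≠ 0 := by rcases hs with rfl | rfl <;> norm_num
  obtain ⟨P, hP⟩ := exists_sylow_core hG h hp
  have hTP : normalizer ((P : Subgroup G) : Set G) = T := by rw [hP, hN]
  obtain ⟨n₁, d, hn₁, hd, k, hk⟩ := OddChar.PairCount.congruence q P (by rw [hP]; exact hTI)
    (by rw [hTP]; exact hG.1.of_dvd_nat T.card_subgroup_dvd_card)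
    (Zs.map T.subtype) (by rw [hP]; rintro _ ⟨z, hz, rfl⟩; exact hZK hz)
    (fun x hx z hz => by
      rw [hTP] at hx
      obtain ⟨z, hz, rfl⟩ := hz
      exact ⟨⟨x, hx⟩ * z * ⟨x, hx⟩⁻¹, hZn.conj_mem z hz _, rfl⟩)
    (fun z hz y hy => by
      rw [hP] at hy
      obtain ⟨z, hz, rfl⟩ := hz
      exact congrArg Subtype.val (hcent z hz ⟨y, commutator_le_of_subgroup T hy⟩ hy))
    hχ (z := ((z₀ : T) : G)) ⟨z₀, z₀.2, rfl⟩ (fun e => hz₀ (Subtype.ext e))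
    (by
      rintro _ ⟨z, hz, rfl⟩ hz1
      have := hconst z hz (fun e => hz1 (by simp [e])) z₀ z₀.2 hz₀
      rw [hsχ] at this
      exact mul_left_cancel₀ hs0 this)
  rw [hP] at hk
  refine ⟨s * k, ?_⟩
  rw [Char.classInner_indFun Zs _ _ (fun x y => hψc (x : G) (y : G))]
  have hsum : ∑ z : Zs, ((lam z : ℂˣ) : ℂ) = 0 := by
    obtain ⟨y, hy⟩ : ∃ y, lam y ≠ 1 := by
      by_contra hc
      push_neg at hc
      exact hlam (MonoidHom.ext hc)
    have h1 : ((lam y : ℂˣ) : ℂ) * ∑ z : Zs, ((lam z : ℂˣ) : ℂ) = ∑ z : Zs, ((lam z : ℂˣ) : ℂ) := by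
      rw [Finset.mul_sum]
      exact Fintype.sum_equiv (Equiv.mulLeft y) _ _ fun z => by simp
    have h2 : ((lam y : ℂˣ) : ℂ) - 1 ≠ 0 := sub_ne_zero.2 fun e => hy (Units.ext e)
    exact (mul_eq_zero.1 (show (((lam y : ℂˣ) : ℂ) - 1) * _ = 0 by
      linear_combination h1)).resolve_left h2
  have hterm : ∀ z : Zs, ((lam z : ℂˣ) : ℂ) * conj (ψ ((z : T) : G)) =
      ((s : ℂ) * n₁) * ((lam z : ℂˣ) : ℂ) + if z = 1 then (s : ℂ) * (d - n₁) else 0 := by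
    intro z
    split_ifs with hz
    · subst hz
      simp [hsχ, hd]; ring
    · rw [hconst z z.2 (fun e => hz (Subtype.ext e)) z₀ z₀.2 hz₀, hsχ, add_zero]
      simp [hn₁]; ring
  unfold Cfsg.classInner
  rw [Finset.sum_congr rfl fun z _ => hterm z, Finset.sum_add_distrib, ← Finset.mul_sum, hsum,
    mul_zero, zero_add, Finset.sum_ite_eq' Finset.univ (1 : Zs), if_pos (Finset.mem_univ _)]
  have hRcard : Nat.card ↥⁅T, T⁆ = Nat.card Zs * Zs.relIndex (⁅T, T⁆.subgroupOf T) := by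
    rw [← Nat.card_congr (subgroupOfEquivOfLe (commutator_le_of_subgroup T)).toEquiv,
      ← OddChar.CentralPart.relIndex_mul_card hZK, mul_comm]
  have hk' : (d : ℂ) - n₁ = (Nat.card ↥⁅T, T⁆ : ℂ) * k := by exact_mod_cast hk
  rw [hk', hRcard, inv_mul_eq_iff_eq_mul₀ (Nat.cast_ne_zero.2 Nat.card_pos.ne')]
  push_cast; ring

end CfsgLib.FT
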