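import Cfsg.Agent.Lib.FT.CoreAdjoin
import Cfsg.Agent.Lib.FT.TypeFiveCases
import Cfsg.Agent.Lib.FT.LinkedLayer
import Cfsg.Agent.Lib.FT.Congr
import Cfsg.Agent.Lib.FT.Parity
import Cfsg.Agent.S1503

/-!
FT module LinkedCube: `|T'| = q³`, `w ∣ q + 1`.

`m = (q² - 1)/w` exceeds `2q = 2θ` unless `q = 2w - 1`, and then `a ≤ 1`. In that case the coefficient `b` of
`τ (Ind 1 - ζ)` is `0`, and `⟨τ (Ind_Z 1 - Ind_Z λ), f ζ⟩ = b + w - q a` is `0` modulo each prime of `w`
because `f ζ (z) ≡ f ζ (z v) = 0`; so `a = 0`.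
-/

set_option autoImplicit false
set_option linter.style.haveILetI false

namespace CfsgLib.FT

open Subgroup
open scoped ComplexConjugate

universe u

variable {G : Type u} [Group G] [Fintype G] {T W V W' : Subgroup G} [Fintype T]
variable (hG : Cfsg.IsMinSimpleOddOrder G)
include hG

/-- Frobenius reciprocity where the centralisers lie in `T`. -/
theorem CoreSide.tauCore_inner_of_centralizer (h : CoreSide T W V W') {α : ↥T → ℂ}
    (hα : Cfsg.IsClassFunction T α) (hsupp : ∀ x : T, (x : G) ∉ coreSet T → α x = 0)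
    (hC : ∀ x : T, α x ≠ 0 → centralizer ({(x : G)} : Set G) ≤ T) {ψ : G → ℂ}
    (hψ : Cfsg.IsClassFunction G ψ) :
    Cfsg.classInner (tauCore T α) ψ = Cfsg.classInner α (fun x : T => ψ x) := by
  classical
  have hD := dade_core hG h.coatom
  have hval : ∀ g x : G, tauCore T α (x * g * x⁻¹) * conj (ψ (x * g * x⁻¹)) =
      tauCore T α g * conj (ψ g) := fun g x => by
    rw [show tauCore T α (x * g * x⁻¹) = tauCore T α g from
      OddChar.dadeIsometry_isClassFunction hD hα g x, hψ g x]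
  have h1 := OddChar.dade_sum_classFun (K := ℂ) hD (fun g => tauCore T α g * conj (ψ g)) hval
  unfold Cfsg.classInner
  rw [← Finset.sum_subset (s₁ := Finset.univ.filter
    fun g => g ∈ OddChar.dadeSupport (coreSet T) (Cfsg.supportR T)) (Finset.subset_univ _)
    (fun g _ hg => by
      rw [Finset.mem_filter, not_and] at hg
      simp [tauCore, OddChar.dadeIsometry_eq_zero (hg (Finset.mem_univ _))]), h1]
  congr 1
  refine Finset.sum_congr rfl fun a _ => ?_
  split_ifs with ha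
  · have happ : ∀ u : ↥(Cfsg.supportR T (a : G)), tauCore T α ((a : G) * u) = α a := fun u =>
      OddChar.dadeIsometry_apply hD hα a ha u.2 (x := 1) (by simp)
    by_cases h0 : α a = 0
    · simp [happ, h0]
    have hone : ∀ u : ↥(Cfsg.supportR T (a : G)), (u : G) = 1 := fun u =>
      mem_bot.1 (OddChar.MaxTypes.supportR_of_le (hC a h0) ▸ u.2 : (u : G) ∈ (⊥ : Subgroup G))
    rw [Finset.sum_congr rfl fun u _ => by rw [happ u, hone u, mul_one], Finset.sum_const,
      Finset.card_univ, ← Nat.card_eq_fintype_card, nsmul_eq_mul, ← mul_assoc,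
      inv_mul_cancel₀ (Nat.cast_ne_zero.2 Nat.card_pos.ne'), one_mul]
  · rw [hsupp a ha, zero_mul]

omit [Fintype G] hG in
/-- The members over `K` avoid `Ind_K 1`. -/
theorem inner_one_above (K : Subgroup ↥T) [K.Normal] {φ : ↥T → ℂ}
    (hφ : φ ∈ Cfsg.inducedIrrAbove K ⊥) :
    Cfsg.classInner (Cfsg.indFun K fun _ => (1 : ℂ)) φ = 0 := by
  classical
  haveI : Fintype K := Fintype.ofFinite _
  obtain ⟨η, hη, hne, -, rfl⟩ := hφ
  have h1 := CharTwist.card_mul_classInner_indFun K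
    (show Cfsg.IsIrrCharacter K (fun _ => (1 : ℂ)) from Char.principalIrr.2) hη
  have he : IsEmpty {g : T // CharTwist.conjFun K η g = fun _ => 1} := ⟨fun g => hne (by
    funext k
    have h2 := congrFun g.2 ⟨g.1⁻¹ * (k : T) * g.1, by
      simpa using (inferInstance : K.Normal).conj_mem _ k.2 g.1⁻¹⟩
    simp only [CharTwist.conjFun] at h2
    rw [← h2]
    exact congrArg η (Subtype.ext (by simp [mul_assoc])))⟩
  rw [Nat.card_eq_zero.2 (Or.inl he), Nat.cast_zero, mul_eq_zero] at h1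
  exact h1.resolve_left (Nat.cast_ne_zero.2 Nat.card_pos.ne')

set_option maxHeartbeats 1000000 in
theorem linked_cube (h : CoreSide T W V W') (h3 : Nat.card ↥⁅T, T⁆ = Nat.card W' ^ 3)
    (hdvd : Nat.card W ∣ Nat.card W' + 1) : Linked T W := by
  classical
  haveI hqf : Fact (Nat.card W').Prime := ⟨h.q_prime⟩
  haveI := derived_normal T
  haveI := derived_two_normal T
  obtain ⟨hirr, hcard, hW'le, hm2, -⟩ := linChars_facts hG h
  obtain ⟨hW2, hrel⟩ := typeFive_cube h h3
  rw [hrel] at hcard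
  set q := Nat.card W' with hqdef
  set w := Nat.card W with hwdef
  set m := Nat.card ↥(linChars T) with hmdef
  set K := ⁅T, T⁆.subgroupOf T with hKdef
  haveI : Fintype K := Fintype.ofFinite _
  have hW'T : W' ≤ T := h.le_T.2.2
  have hKcard : Nat.card K = q ^ 3 := by
    rw [← h3]; exact Nat.card_congr (subgroupOfEquivOfLe (commutator_le_of_subgroup T)).toEquiv
  haveI : Group.IsNilpotent K := (IsPGroup.of_card hKcard).isNilpotent
  -- the centre
  set Zs := ⁅⁅T, T⁆, ⁅T, T⁆⁆.subgroupOf T with hZdef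
  have hZK : Zs ≤ K := fun z hz => commutator_le_of_subgroup ⁅T, T⁆ hz
  have hmemZ : ∀ z : T, z ∈ Zs ↔ (z : G) ∈ W' := fun z => by
    rw [hZdef, mem_subgroupOf, hW2]
  have hZcard : Nat.card Zs = q := by
    rw [hZdef, hW2]; exact Nat.card_congr (subgroupOfEquivOfLe hW'T).toEquiv
  have hW'1 : ∀ z : G, z ∈ W' → z ≠ 1 → zpowers z = W' := fun z hz hz1 => by
    refine eq_of_le_of_card_ge (zpowers_le.2 hz) ?_
    rw [Nat.card_zpowers]
    have h1 : orderOf (⟨z, hz⟩ : W') ∣ q := orderOf_dvd_natCard _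
    rw [Subgroup.orderOf_mk] at h1
    exact le_of_eq ((h.q_prime.eq_one_or_self_of_dvd _ h1).resolve_left
      fun e => hz1 (orderOf_eq_one_iff.1 e)).symm
  have hne : Zs.subgroupOf K ≠ ⊥ := fun e => by
    obtain ⟨z, hz⟩ := W'.ne_bot_iff_exists_ne_one.1
      fun e => h.q_prime.ne_one (by rw [e, card_bot])
    have hzZ : (⟨z, hW'T z.2⟩ : T) ∈ Zs := (hmemZ _).2 z.2
    have h1 : (⟨⟨z, hW'T z.2⟩, hZK hzZ⟩ : K) ∈ Zs.subgroupOf K := hzZ
    rw [e, mem_bot] at h1
    exact hz (Subtype.ext (congrArg (fun a : K => ((a : T) : G)) h1))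
  obtain ⟨z₀, hz₀, hz₀1, hz₀c⟩ := OddChar.NilQuot.exists_central (Zs.subgroupOf K) hne
  have hcK : ∀ z : G, z ∈ W' → ∀ r ∈ ⁅T, T⁆, Commute z r := by
    intro z hz r hr
    rw [← hW'1 ((z₀ : T) : G) ((hmemZ _).1 hz₀)
      (fun e => hz₀1 (Subtype.ext (Subtype.ext e)))] at hz
    obtain ⟨j, rfl⟩ := mem_zpowers_iff.1 hz
    exact (show Commute ((z₀ : T) : G) r from (congrArg (fun a : K => ((a : T) : G))
      (mem_center_iff.1 hz₀c ⟨⟨r, commutator_le_of_subgroup T hr⟩, hr⟩)).symm).zpow_left j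
  have hzc : ∀ z ∈ Zs, ∀ x : T, x * z = z * x := by
    intro z hz x
    obtain ⟨r, hr, v, hv, e⟩ := h.typeP.W₁_compl.2.2.2 _ x.2
    have h1 : r * (z : G) = z * r := (hcK _ ((hmemZ z).1 hz) r hr).eq.symm
    have h2 : v * (z : G) = z * v := by
      rcases eq_or_ne v 1 with rfl | hv1
      · simp
      · have hmem : (z : G) ∈ ⁅T, T⁆ ⊓ centralizer ({v} : Set G) := by
          rw [h.typeP.W₂_centralizer v hv hv1]; exact (hmemZ z).1 hz
        exact (mem_centralizer_singleton_iff.1 hmem.2).symm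
    refine Subtype.ext ?_
    show (x : G) * z = z * x
    rw [e, mul_assoc, h2, ← mul_assoc, h1, mul_assoc]
  have hkc : Zs.subgroupOf K ≤ center K := fun a ha =>
    mem_center_iff.2 fun b => Subtype.ext (hzc a ha b)
  have hCT : ∀ z : T, z ∈ Zs → z ≠ 1 → centralizer ({(z : G)} : Set G) ≤ T := by
    intro z hz hz1
    have hTC : T ≤ centralizer ({(z : G)} : Set G) := fun x hx =>
      mem_centralizer_singleton_iff.2 (congrArg Subtype.val (hzc z hz ⟨x, hx⟩))
    rcases h.coatom.le_iff.1 hTC with e | e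
    · exact absurd e (OddOrder.centralizer_singleton_ne_top hG fun e1 => hz1 (Subtype.ext e1))
    · exact e.le
  have hidxK : K.index = w := h.index_derived
  have hMq : Zs.relIndex K = q ^ 2 := by
    rw [← hrel, hZdef, hKdef, relIndex_subgroupOf (commutator_le_of_subgroup T)]
  have hidx : Zs.index = q ^ 2 * w := by rw [← relIndex_mul_index hZK, hMq, hidxK]
  -- the degree
  obtain ⟨μ, θ, hμ⟩ := exists_fixedInd hG h
  obtain ⟨θ₀, hθ₀, hne₀, hθ1, hinv, hμdef, hμres⟩ := fixedInd_data h hμ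
  obtain ⟨hθw, -⟩ := fixedInd_degree hG h hμ
  have hw2 : 2 ≤ w := (Subgroup.one_lt_card_iff_ne_bot W).2 h.typeP.W₁_ne
  have hq2 : 2 ≤ q := h.q_prime.two_le
  have hθq : θ = q := by
    have hle : θ ^ 2 ≤ q ^ 2 := hMq ▸ degree_sq_le hθ₀ _ hkc hθ1
    have hle' : θ ≤ q := (Nat.pow_le_pow_iff_left two_ne_zero).1 hle
    have hd : θ ∣ q ^ 3 := by
      have := CharTools.degree_dvd_card (⟨θ₀, hθ₀⟩ : Cfsg.IrrCharacter K)
      rw [hKcard] at this
      simpa [Cfsg.charDegree, hθ1] using this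
    obtain ⟨i, -, hi⟩ := (Nat.dvd_prime_pow h.q_prime).1 hd
    rcases i with _ | _ | i
    · simp at hi; omega
    · rw [hi]; exact pow_one q
    · exfalso
      rw [hi, pow_succ' q (i + 1), pow_succ' q i] at hle'
      nlinarith [Nat.one_le_pow i q (by omega)]
  obtain ⟨f, hf⟩ := exists_linMap hG h
  obtain ⟨ζ, hζ⟩ := linChars_nonempty hG h
  obtain ⟨a, ha, hle, -⟩ := adjoin hG h hf hμ hζ
  rw [← hmdef, hθq] at hle
  suffices ha0 : a = 0 by
    exact ⟨f, μ, ζ, θ, hf, hμ, hζ, fun ξ hξ => by rw [ha ξ hξ, ha0]; split_ifs <;> simp⟩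
  by_contra ha0
  -- the numbers
  have hwodd : Odd w := hG.1.of_dvd_nat W.card_subgroup_dvd_card
  have hqodd : Odd q := hG.1.of_dvd_nat W'.card_subgroup_dvd_card
  have hw3 : 3 ≤ w := by obtain ⟨i, hi⟩ := hwodd; omega
  have hq3 : 3 ≤ q := by obtain ⟨i, hi⟩ := hqodd; omega
  obtain ⟨k, hk⟩ := hdvd
  have hkeven : Even k := by
    have h1 : Even (w * k) := hk ▸ hqodd.add_odd odd_one
    exact (Nat.even_mul.1 h1).resolve_left (Nat.not_even_iff_odd.2 hwodd)
  have hmk : (m : ℤ) = ((q : ℤ) - 1) * k := by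
    have h1 : ((q : ℤ) + 1) = w * k := by exact_mod_cast hk
    have h2 : (m : ℤ) * w + 1 = (q : ℤ) ^ 2 := by exact_mod_cast hcard
    have hw0 : (w : ℤ) ≠ 0 := by omega
    refine mul_right_cancel₀ hw0 ?_
    linear_combination h2 + ((q : ℤ) - 1) * h1
  have hq3' : (3 : ℤ) ≤ q := by exact_mod_cast hq3
  have hk2' : (2 : ℤ) ≤ k := by
    obtain ⟨i, hi⟩ := hkeven
    have : k ≠ 0 := fun e => by rw [e, mul_zero] at hk; omega
    omega
  have hapos : 0 < a := by
    by_contra hc
    have h1 : a ≤ -1 := by omega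
    have h2 : a * m - 2 * q < 0 := by
      have : a * (m : ℤ) ≤ 0 := mul_nonpos_of_nonpos_of_nonneg (by omega) (Int.natCast_nonneg m)
      linarith
    exact absurd hle (not_le.2 (mul_pos_of_neg_of_neg (by omega) h2))
  have ham : a * m ≤ 2 * q := by
    by_contra hc
    exact absurd hle (not_le.2 (mul_pos hapos (by linarith)))
  have hkq : (q : ℤ) = 2 * w - 1 ∧ a = 1 := by
    have h1 : a * ((q : ℤ) - 1) * k ≤ 2 * q := by rw [mul_assoc, ← hmk]; exact ham
    have h4 : (k : ℤ) = 2 := by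
      by_contra hne
      have h5 : (4 : ℤ) ≤ k := by
        obtain ⟨i, hi⟩ := hkeven
        omega
      have h6 : ((q : ℤ) - 1) * 4 ≤ a * ((q : ℤ) - 1) * k :=
        mul_le_mul (le_mul_of_one_le_left (by linarith) (by omega)) h5 (by norm_num)
          (mul_nonneg hapos.le (by linarith))
      linarith
    refine ⟨?_, ?_⟩
    · have h5 : ((q : ℤ) + 1) = w * k := by exact_mod_cast hk
      rw [h4] at h5; linarith
    · rw [h4] at h1
      by_contra hne
      have : (2 : ℤ) * ((q : ℤ) - 1) ≤ a * ((q : ℤ) - 1) :=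
        mul_le_mul_of_nonneg_right (by omega) (by linarith)
      linarith
  obtain ⟨hq2w, ha1⟩ := hkq
  -- the functions
  set P := Cfsg.indFun K (fun _ => (1 : ℂ)) with hPdef
  have hfin : (linChars T).Finite := linChars_finite hG
  set Y := hfin.toFinset with hYdef
  have hYmem : ∀ {ξ}, ξ ∈ Y ↔ ξ ∈ linChars T := fun {ξ} => Set.Finite.mem_toFinset hfin
  have hYcard : Y.card = m := by
    rw [hmdef, Nat.card_coe_set_eq, Set.ncard_eq_toFinset_card _ hfin]
  have hone : ∀ ξ ∈ linChars T, ∀ ξ' ∈ linChars T,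
      Cfsg.classInner ξ ξ' = if ξ = ξ' then 1 else 0 := fun ξ hξ ξ' hξ' => by
    split_ifs with e
    · rw [e]; exact Char.classInner_irr_self (hirr ξ' hξ').1
    · exact Char.classInner_irr_of_ne (hirr ξ hξ).1 (hirr ξ' hξ').1 e
  have hPξ : ∀ ξ ∈ linChars T, Cfsg.classInner P ξ = 0 := fun ξ hξ =>
    inner_one_above K (linChars_above hG hξ)
  have hPμ : Cfsg.classInner P μ = 0 := inner_one_above K hμ.1
  have hPP : Cfsg.classInner P P = (w : ℂ) := by
    rw [hPdef, CharDeep.Cliff.classInner_indFun_self K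
      (show Cfsg.IsIrrCharacter K (fun _ => (1 : ℂ)) from Char.principalIrr.2) (fun _ => rfl),
      hidxK]
  have hPK : ∀ x : K, P (x : T) = (w : ℂ) := fun x => by
    rw [hPdef, CharDeep.Cliff.indFun_res_invariant K (θ := fun _ => (1 : ℂ)) (fun _ => rfl) x,
      hidxK, mul_one]
  have hμξ : ∀ ξ ∈ linChars T, Cfsg.classInner μ ξ = 0 := (adjoin_data hG h hμ hζ).2.2.2.1
  have hPc : Cfsg.IsClassFunction T P := Char.isClassFunction_indFun _ _
  have hμc : Cfsg.IsClassFunction T μ := hμdef ▸ Char.isClassFunction_indFun _ _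
  have hξc : ∀ ξ ∈ linChars T, Cfsg.IsClassFunction T ξ := fun ξ hξ =>
    Char.IsIrrCharacter.isClassFunction (hirr ξ hξ).1
  haveI : Fintype Zs := Fintype.ofFinite _
  -- induced characters of the centre
  obtain ⟨lamK, hlamK⟩ := exists_central_linear hθ₀ (Zs.subgroupOf K) hkc
  set lam : ↥Zs →* ℂˣ := lamK.comp (subgroupOfEquivOfLe hZK).symm.toMonoidHom
  have hμZ : ∀ z : Zs, μ (z : T) = ((w * q : ℕ) : ℂ) * (lam z : ℂ) := fun z => by
    rw [show μ (z : T) = μ ((⟨(z : T), hZK z.2⟩ : K) : T) from rfl, hμres,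
      show θ₀ ⟨(z : T), hZK z.2⟩ = θ₀ 1 * (lam z : ℂ) from
        hlamK ((subgroupOfEquivOfLe hZK).symm z), hθ1, hθq]
    push_cast; ring
  set Φ : (↥Zs →* ℂˣ) → ↥T → ℂ := fun l => Cfsg.indFun Zs fun z => (l z : ℂ) with hΦdef
  have hΦc : ∀ l, Cfsg.IsClassFunction T (Φ l) := fun l => Char.isClassFunction_indFun _ _
  have hΦn : ∀ l, Cfsg.classInner (Φ l) (Φ l) = ((q : ℂ) ^ 2 * w) := fun l => by
    rw [hΦdef, CharDeep.Cliff.classInner_indFun_self Zs (Char.isIrrCharacter_linear l) fun g => by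
      funext z
      simp only [CharTwist.conjFun]
      exact congrArg (fun z => ((l z : ℂˣ) : ℂ)) (Subtype.ext (by simp [hzc z z.2 g])), hidx]
    push_cast; ring
  have hΦμ : ∀ l, Cfsg.classInner (Φ l) μ = ((w * q : ℕ) : ℂ) *
      Cfsg.classInner (fun z : Zs => (l z : ℂ)) (fun z : Zs => (lam z : ℂ)) := fun l => by
    rw [hΦdef, Char.classInner_indFun Zs _ _ hμc,
      show (fun z : Zs => μ z) = ((w * q : ℕ) : ℂ) • fun z : Zs => ((lam z : ℂˣ) : ℂ) from
        funext hμZ, Char.classInner_smul_right, map_natCast]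
  have hΦP : Cfsg.classInner (Φ 1) P = (w : ℂ) := by
    rw [hΦdef, Char.classInner_indFun Zs _ _ hPc,
      show (fun z : Zs => P z) = (w : ℂ) • fun z : Zs => (((1 : ↥Zs →* ℂˣ) z : ℂˣ) : ℂ) from
        funext fun z => by simp [hPK ⟨(z : T), hZK z.2⟩],
      Char.classInner_smul_right, map_natCast, Char.classInner_irr_self (Char.isIrrCharacter_linear 1),
      mul_one]
  have hΦξ : ∀ ξ ∈ linChars T, Cfsg.classInner (Φ 1) ξ = (w : ℂ) := fun ξ hξ => by
    rw [hΦdef, Char.classInner_indFun Zs _ _ (hξc ξ hξ),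
      show (fun z : Zs => ξ z) = (w : ℂ) • fun z : Zs => (((1 : ↥Zs →* ℂˣ) z : ℂˣ) : ℂ) from
        funext fun z => by simp [linChars_apply_of_mem hξ z.2, (hirr ξ hξ).2],
      Char.classInner_smul_right, map_natCast, Char.classInner_irr_self (Char.isIrrCharacter_linear 1),
      mul_one]
  have hsymm : ∀ {x y : ↥T → ℂ} {n : ℂ}, Cfsg.classInner x y = n → conj n = n →
      Cfsg.classInner y x = n := fun hxy hn => by
    rw [← Char.classInner_conj_symm, hxy, hn]
  have hsumξ : ∀ ξ ∈ linChars T, Cfsg.classInner (∑ i ∈ Y, i) ξ = 1 := fun ξ hξ => by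
    rw [Char.classInner_sum_left, Finset.sum_eq_single ξ
      (fun i hi hne => by rw [hone i (hYmem.1 hi) ξ hξ, if_neg hne])
      (fun h' => absurd (hYmem.2 hξ) h'), hone ξ hξ ξ hξ, if_pos rfl]
  -- `Ind_Z 1 = Ind_K 1 + w Σ ξ`
  have hI1 : Φ 1 = P + (w : ℂ) • ∑ i ∈ Y, i := by
    refine sub_eq_zero.1 (OddChar.Coh.classInner_self_eq_zero ?_)
    have e1 : Cfsg.classInner (Φ 1) (∑ i ∈ Y, i) = (m : ℂ) * w := by
      rw [Char.classInner_sum_right, Finset.sum_congr rfl fun i hi => hΦξ i (hYmem.1 hi),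
        Finset.sum_const, hYcard, nsmul_eq_mul]
    have e2 : Cfsg.classInner P (∑ i ∈ Y, i) = 0 := by
      rw [Char.classInner_sum_right, Finset.sum_eq_zero fun i hi => hPξ i (hYmem.1 hi)]
    have e3 : Cfsg.classInner (∑ i ∈ Y, i) (∑ i ∈ Y, i) = (m : ℂ) := by
      rw [Char.classInner_sum_right, Finset.sum_congr rfl fun i hi => hsumξ i (hYmem.1 hi),
        Finset.sum_const, hYcard, nsmul_eq_mul, mul_one]
    simp only [Char.classInner_sub_left, Char.classInner_sub_right, Char.classInner_add_left,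
      Char.classInner_add_right, Char.classInner_smul_left, Char.classInner_smul_right, map_natCast,
      hΦn, hΦP, hsymm hΦP (by simp), e1, hsymm e1 (by simp), hPP, e2, hsymm e2 (by simp), e3]
    have h2 : (m : ℂ) * w + 1 = (q : ℂ) ^ 2 := by exact_mod_cast hcard
    linear_combination (-(w : ℂ)) * h2
  have hlam : lam ≠ 1 := by
    intro hl
    have h1 := hΦμ 1
    rw [hl, Char.classInner_irr_self (Char.isIrrCharacter_linear 1), mul_one, hI1,
      Char.classInner_add_left, hPμ, Char.classInner_smul_left, Char.classInner_sum_left,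
      Finset.sum_eq_zero fun i hi => hsymm (hμξ i (hYmem.1 hi)) (map_zero _), mul_zero, zero_add]
      at h1
    have h0 : w * q = 0 := by exact_mod_cast h1.symm
    rcases mul_eq_zero.1 h0 with h0 | h0 <;> omega
  have hIl : Φ lam = (q : ℂ) • μ := by
    refine sub_eq_zero.1 (OddChar.Coh.classInner_self_eq_zero ?_)
    have e1 := hΦμ lam
    rw [Char.classInner_irr_self (Char.isIrrCharacter_linear lam), mul_one] at e1
    simp only [Char.classInner_sub_left, Char.classInner_sub_right, Char.classInner_smul_left,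
      Char.classInner_smul_right, map_natCast, hΦn, e1, hsymm e1 (by simp), hμ.2.1]
    push_cast; ring
  -- `β` and its coefficient
  set β : ↥T → ℂ := P - ζ with hβdef
  have hout : ∀ x : T, (x : G) ∉ coreSet T → x ∉ K ∨ x = 1 := fun x hx => by
    by_cases hxK : x ∈ K
    · exact Or.inr (Subtype.ext (by_contra fun h1 => hx (h.mem_coreSet.2 ⟨hxK, h1⟩)))
    · exact Or.inl hxK
  have hP1 : P 1 = (w : ℂ) := hPK 1
  have hβs : ∀ x : T, (x : G) ∉ coreSet T → β x = 0 := fun x hx => by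
    rcases hout x hx with hx' | rfl
    · simp [hβdef, hPdef, Char.indFun_eq_zero_of_normal K _ (g := x) hx',
        linChars_apply_of_notMem hζ hx']
    · simp [hβdef, hP1, (hirr ζ hζ).2, w]
  have hβc : Cfsg.IsClassFunction T β := fun x y => by
    simp [hβdef, hPc x y, hξc ζ hζ x y]
  have hD := dade_core hG h.coatom
  have hiso := fun (δ : ↥T → ℂ) hδc hδs =>
    (Cfsg.Agent.S1500.result (coreSet T) T (Cfsg.supportR T) hD β hβc hβs).1 δ hδc hδs
  have hgenβ : Cfsg.IsGeneralizedCharacter G (tauCore T β) :=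
    Cfsg.Agent.S1501.result (coreSet T) T (Cfsg.supportR T) hD β
      (Char.IsGeneralizedCharacter.sub (Char.IsCharacter.isGeneralizedCharacter
        (Char.IsCharacter.indFun K (Char.IsIrrCharacter.isCharacter
          (show Cfsg.IsIrrCharacter K (fun _ => (1 : ℂ)) from Char.principalIrr.2))))
        (Char.IsIrrCharacter.isGeneralizedCharacter (hirr ζ hζ).1)) hβs
  have hfgen : ∀ ξ ∈ linChars T, Cfsg.IsGeneralizedCharacter G (f ξ) := fun ξ hξ =>
    hf.1.2.2.2 ξ (OddChar.mem_zspan_self hξ)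
  have hdiff : ∀ ξ ∈ linChars T, tauCore T (ξ - ζ) = f ξ - f ζ := fun ξ hξ => by
    have hm : ξ - ζ ∈ Cfsg.zspanOn (linChars T) {1}ᶜ := OddChar.Coh.mem_zspanOn_iff.2
      ⟨Submodule.sub_mem _ (OddChar.mem_zspan_self hξ) (OddChar.mem_zspan_self hζ), by
        simp [(hirr ξ hξ).2, (hirr ζ hζ).2]⟩
    rw [← hf.2 _ hm, linMap_sub hG hf hξ hζ]
  obtain ⟨b', hb'⟩ := OddChar.Coh.exists_int_inner hgenβ (hfgen ζ hζ)
  have hbξ : ∀ ξ ∈ linChars T, Cfsg.classInner (tauCore T β) (f ξ) =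
      (((b' + 1) - if ξ = ζ then 1 else 0 : ℤ) : ℂ) := fun ξ hξ => by
    have h1 : Cfsg.classInner (tauCore T β) (tauCore T (ξ - ζ)) = Cfsg.classInner β (ξ - ζ) :=
      hiso (ξ - ζ) (fun x y => by simp [hξc ξ hξ x y, hξc ζ hζ x y]) fun x hx => by
        rcases hout x hx with hx' | rfl
        · simp [linChars_apply_of_notMem hξ hx', linChars_apply_of_notMem hζ hx']
        · simp [(hirr ξ hξ).2, (hirr ζ hζ).2]
    rw [hdiff ξ hξ, Char.classInner_sub_right, hb'] at h1
    simp only [hβdef, Char.classInner_sub_left, Char.classInner_sub_right, hPξ ξ hξ, hPξ ζ hζ,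
      hone ζ hζ ξ hξ, hone ζ hζ ζ hζ, ↓reduceIte] at h1
    rcases eq_or_ne ξ ζ with rfl | hne
    · simpa [hβdef] using hb'
    · rw [if_neg hne.symm] at h1
      rw [if_neg hne, sub_zero]
      push_cast
      linear_combination h1
  have hb0 : b' + 1 = 0 := by
    set b := b' + 1
    have hn : Cfsg.classInner (tauCore T β) (tauCore T β) = ((w + 1 : ℕ) : ℂ) := by
      rw [show Cfsg.classInner (tauCore T β) (tauCore T β) = Cfsg.classInner β β from hiso β hβc hβs,
        hβdef]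
      simp only [Char.classInner_sub_left, Char.classInner_sub_right, hPP, hPξ ζ hζ,
        hsymm (hPξ ζ hζ) (map_zero _), hone ζ hζ ζ hζ, if_pos rfl]
      push_cast; ring
    have hB := (OddChar.Coh.bessel Y f (tauCore T β)
      (fun i hi j hj hij => by
        rw [linMap_orthonormal hG h hf (hYmem.1 hi) (hYmem.1 hj), if_neg hij])
      (fun _ => (1 : ℝ)) (fun ξ => ((b - if ξ = ζ then 1 else 0 : ℤ) : ℝ))
      (fun i hi => by
        rw [linMap_orthonormal hG h hf (hYmem.1 hi) (hYmem.1 hi), if_pos rfl]; simp)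
      (fun _ _ => one_pos)
      (fun i hi => by rw [hbξ i (hYmem.1 hi)]; split_ifs <;> simp)).1
    rw [hn, Complex.natCast_re] at hB
    simp only [div_one] at hB
    have hS : ∑ ξ ∈ Y, (b - if ξ = ζ then 1 else 0) ^ 2 = (m : ℤ) * b ^ 2 - 2 * b + 1 := by
      have : ∀ ξ ∈ Y, (b - if ξ = ζ then 1 else 0) ^ 2 =
          b ^ 2 + if ξ = ζ then -2 * b + 1 else 0 := fun ξ _ => by split_ifs <;> ring
      rw [Finset.sum_congr rfl this, Finset.sum_add_distrib, Finset.sum_const, hYcard,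
        Finset.sum_ite_eq', if_pos (hYmem.2 hζ), nsmul_eq_mul]
      ring
    have hB' : (m : ℤ) * b ^ 2 - 2 * b + 1 ≤ ((w + 1 : ℕ) : ℤ) := by
      have : (((m : ℤ) * b ^ 2 - 2 * b + 1 : ℤ) : ℝ) ≤ (((w + 1 : ℕ) : ℤ) : ℝ) := by
        rw [← hS]; push_cast at hB ⊢; exact hB
      exact_mod_cast this
    push_cast at hB'
    by_contra hne
    have hm4 : (4 * w : ℤ) - 4 ≤ m := by
      have : ((q : ℤ) - 1) * 2 ≤ ((q : ℤ) - 1) * k := mul_le_mul_of_nonneg_left hk2' (by linarith)
      linarith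
    have hb2 : 1 ≤ b ^ 2 := by
      rcases lt_or_gt_of_ne hne with h' | h' <;> nlinarith
    have hbb : b ≤ b ^ 2 := by
      rcases le_or_gt b 0 with h' | h' <;> nlinarith
    have hw3' : (3 : ℤ) ≤ w := by exact_mod_cast hw3
    nlinarith [mul_le_mul_of_nonneg_right (show (4 * (w : ℤ) - 6) ≤ m - 2 by linarith) (sq_nonneg b),
      mul_le_mul_of_nonneg_left hb2 (show (0 : ℤ) ≤ 4 * (w : ℤ) - 6 by linarith)]
  -- the vector on the centre
  set ψ := f ζ with hψdef
  have hψc : Cfsg.IsClassFunction G ψ :=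
    Char.IsGeneralizedCharacter.isClassFunction (hfgen ζ hζ)
  set γ : ↥T → ℂ := Φ 1 - Φ lam with hγdef
  have hγc : Cfsg.IsClassFunction T γ := fun x y => by
    simp only [hγdef, Pi.sub_apply, hΦc _ x y]
  have hγ0 : ∀ x : T, x ∉ Zs ∨ x = 1 → γ x = 0 := fun x hx => by
    rcases hx with hx | rfl
    · simp [hγdef, hΦdef, Char.indFun_eq_zero_of_normal Zs _ (g := x) hx]
    · simp [hγdef, hΦdef, Char.indFun_apply_one]
  have hγin : Cfsg.classInner (tauCore T γ) ψ = Cfsg.classInner γ (fun x : T => ψ x) :=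
    h.tauCore_inner_of_centralizer hG hγc (fun x hx => hγ0 x (by
      rcases hout x hx with hx' | rfl
      · exact Or.inl fun hz => hx' (hZK hz)
      · exact Or.inr rfl))
      (fun x hx => hCT x (by_contra fun hz => hx (hγ0 x (Or.inl hz)))
        fun e => hx (hγ0 x (Or.inr e))) hψc
  have hψT : Cfsg.IsClassFunction T (fun x : T => ψ x) := fun x y => hψc (x : G) (y : G)
  rw [hγdef, Char.classInner_sub_left, hΦdef, Char.classInner_indFun Zs _ _ hψT,
    Char.classInner_indFun Zs _ _ hψT] at hγin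
  -- the same from the family
  have hγeq : γ = β + (w : ℤ) • ∑ i ∈ Y, (i - ζ) - (q : ℤ) • (μ - (θ : ℂ) • ζ) := by
    rw [hγdef, hI1, hIl, hβdef]
    funext x
    have h2 : (m : ℂ) * w + 1 = (q : ℂ) ^ 2 := by exact_mod_cast hcard
    simp [Finset.sum_apply, Finset.sum_sub_distrib, hYcard, hθq]
    linear_combination (ζ x) * h2
  have hτ : Cfsg.classInner (tauCore T γ) ψ =
      (((b' : ℤ) + w * (1 - m) - q * (a - q) : ℤ) : ℂ) := by
    rw [hγeq, tauCore, dade_map_sub, dade_map_add, dade_map_zsmul, dade_map_zsmul, dade_map_sum,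
      Char.classInner_sub_left, Char.classInner_add_left, OddChar.Coh.classInner_zsmul_left,
      OddChar.Coh.classInner_zsmul_left, Char.classInner_sum_left,
      Finset.sum_congr rfl fun i hi => by
        show Cfsg.classInner (tauCore T (i - ζ)) ψ = (if i = ζ then 1 else 0) - 1
        rw [hdiff i (hYmem.1 hi), Char.classInner_sub_left, hψdef,
          linMap_orthonormal hG h hf (hYmem.1 hi) hζ, linMap_orthonormal hG h hf hζ hζ, if_pos rfl],
      Finset.sum_sub_distrib, Finset.sum_ite_eq', if_pos (hYmem.2 hζ), Finset.sum_const, hYcard]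
    rw [show Cfsg.classInner (Cfsg.dadeIsometry (coreSet T) T (Cfsg.supportR T) β) ψ = (b' : ℂ)
        from hb',
      show Cfsg.classInner (Cfsg.dadeIsometry (coreSet T) T (Cfsg.supportR T)
          (μ - (θ : ℂ) • ζ)) ψ = (a : ℂ) - (θ : ℂ) by
        have h1 := ha ζ hζ
        rw [if_pos rfl] at h1
        exact h1, hθq]
    push_cast; ring
  -- congruences
  obtain ⟨r, hr, hrw⟩ := Nat.exists_prime_and_dvd (show w ≠ 1 by omega)
  haveI := Fact.mk hr
  obtain ⟨v, hv⟩ := exists_prime_orderOf_dvd_card' (G := W) r hrw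
  have hv1 : (v : G) ≠ 1 := fun e1 => by
    rw [show v = 1 from Subtype.ext e1, orderOf_one] at hv
    exact hr.ne_one hv.symm
  have hvr : (v : G) ^ r = 1 := by
    rw [← Subgroup.coe_pow, ← hv, pow_orderOf_eq_one, OneMemClass.coe_one]
  obtain ⟨χ, hχ⟩ := Cfsg.Agent.S1502.result W W' h.typeP.selfNormalizing
    (hG.1.of_dvd_nat (card_subgroup_dvd_card _))
  have horth : ∀ ω, Cfsg.classInner ψ (χ ω) = 0 := linMap_grid_orth hG h hχ hf hζ
  have hsigned : OddChar.CyclicUnique.Signed ψ :=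
    OddChar.irr_or_neg_of_norm_one (hfgen ζ hζ) (by
      rw [hψdef, linMap_orthonormal hG h hf hζ hζ, if_pos rfl])
  have hvan : ∀ u : ↥(W ⊔ W'), (u : G) ∉ W → (u : G) ∉ W' → ψ u = 0 := fun u h1 h2 => by
    rcases hsigned with hi | hi
    · exact Cfsg.Agent.S1503.result W W' h.typeP.selfNormalizing χ hχ ψ hi horth u h1 h2
    · have := Cfsg.Agent.S1503.result W W' h.typeP.selfNormalizing χ hχ (-ψ) hi
        (fun ω => by rw [Char.classInner_neg_left, horth, neg_zero]) u h1 h2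
      simpa using this
  have hcgen : Cfsg.IsGeneralizedCharacter G (Cfsg.conjFun ψ) := by
    rcases hsigned with hi | hi
    · exact Char.IsIrrCharacter.isGeneralizedCharacter (OddChar.isIrrCharacter_conjFun hi)
    · have h1 := Char.IsGeneralizedCharacter.neg
        (Char.IsIrrCharacter.isGeneralizedCharacter (OddChar.isIrrCharacter_conjFun hi))
      convert h1 using 1
      funext g
      simp [Cfsg.conjFun]
  have hω := Complex.isPrimitiveRoot_exp r hr.ne_zero
  set ω := Complex.exp (2 * Real.pi * Complex.I / r)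
  have hlint : ∀ z : Zs, IsIntegral ℤ ((lam z : ℂˣ) : ℂ) := fun z =>
    IsIntegral.of_pow Nat.card_pos (by
      rw [← Units.val_pow_eq_pow_val, ← map_pow, pow_card_eq_one', map_one, Units.val_one]
      exact isIntegral_one)
  have hterm : ∀ z : Zs, CongOne ω ((1 - (lam z : ℂ)) * conj (ψ ((z : T) : G))) 0 := by
    intro z
    rcases eq_or_ne z 1 with rfl | hz1
    · simpa using CongOne.refl ω 0
    have hzW : ((z : T) : G) ∈ W' := (hmemZ _).1 z.2
    have hzne : ((z : T) : G) ≠ 1 := fun e => hz1 (Subtype.ext (Subtype.ext e))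
    have hcomm : (v : G) * (z : T) = (z : T) * (v : G) :=
      congrArg Subtype.val (hzc z z.2 ⟨v, h.W_le v.2⟩)
    have h0 : ψ ((v : G) * (z : T)) = 0 := by
      refine hvan ⟨_, mul_mem (mem_sup_left v.2) (mem_sup_right hzW)⟩ (fun hm => ?_) fun hm => ?_
      · have h1 : ((z : T) : G) ∈ W ⊓ W' := ⟨(mul_mem_cancel_left v.2).1 hm, hzW⟩
        rw [h.typeP.selfNormalizing.2.2.1, mem_bot] at h1
        exact hzne h1
      · have h1 : (v : G) ∈ W ⊓ W' := ⟨v.2, (mul_mem_cancel_right hzW).1 hm⟩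
        rw [h.typeP.selfNormalizing.2.2.1, mem_bot] at h1
        exact hv1 h1
    have h1 := congOne_mul_of_order hcgen hr hω hvr hcomm
    simp only [Cfsg.conjFun, h0, map_zero] at h1
    simpa using CongOne.mul_left (isIntegral_one.sub (hlint z)) h1.symm
  obtain ⟨ρ, hρ, heq⟩ := CongOne.sum Finset.univ fun z _ => hterm z
  rw [Finset.sum_const_zero, sub_zero] at heq
  set S := ∑ z : Zs, (1 - (lam z : ℂ)) * conj (ψ ((z : T) : G)) with hSdef
  have hSn : (((q : ℤ) * ((b' : ℤ) + w * (1 - m) - q * (a - q)) : ℤ) : ℂ) = S := by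
    rw [Int.cast_mul, ← hτ, hγin, hSdef]
    unfold Cfsg.classInner
    rw [← mul_sub, ← mul_assoc, hZcard]
    rw [show ((q : ℤ) : ℂ) * (q : ℂ)⁻¹ = 1 by
      rw [Int.cast_natCast]; exact mul_inv_cancel₀ (by exact_mod_cast h.q_prime.ne_zero), one_mul,
      ← Finset.sum_sub_distrib]
    exact Finset.sum_congr rfl fun z _ => by simp; ring
  have hdvd' := int_dvd_of_one_sub hr hω hρ (hSn.trans heq)
  have hrwZ : (r : ℤ) ∣ w := Int.natCast_dvd_natCast.2 hrw
  have hone' : (r : ℤ) ∣ 1 := by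
    have h2 : (m : ℤ) * w + 1 = (q : ℤ) ^ 2 := by exact_mod_cast hcard
    have hb'' : b' = -1 := by omega
    have e : (q : ℤ) * ((b' : ℤ) + w * (1 - m) - q * (a - q)) =
        (w : ℤ) * (-2 * (w : ℤ) + 3) + (-1) := by
      rw [hb'', ha1, hq2w] at *
      linear_combination (-(2 * (w : ℤ) - 1)) * h2
    rw [e] at hdvd'
    have := dvd_sub (dvd_mul_of_dvd_left hrwZ (-2 * (w : ℤ) + 3)) hdvd'
    simpa using this
  exact hr.ne_one (by exact_mod_cast Int.eq_one_of_dvd_one (Int.natCast_nonneg r) hone')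

end CfsgLib.FT
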