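import Cfsg.Agent.Lib.FT.SidePinAux
import Cfsg.Agent.Lib.FT.PairInduce

/-!
FT module SidePinChars: `Φ ν = Ind_{F(M)}^M ν`, `μ η = Ind_{F(M) W}^M η` for an extension `η` of `ν`,
their inner products and the values of `μ η` outside `F(M)`.
-/

set_option autoImplicit false
set_option linter.style.haveILetI false
set_option linter.unusedSectionVars false

namespace CfsgLib.FT.SidePin

open Subgroup
open scoped ComplexConjugate commutatorElement

universe u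

variable {G : Type u} [Group G] [Fintype G] {M W U W' : Subgroup G}
  [Fintype ↥M] [Fintype ↥(Cfsg.fittingOf M)]

/-- `Ind_{F(M)}^M ν`. -/
noncomputable def Phi (ν : LX M) : ↥M → ℂ :=
  Cfsg.indFun ((Cfsg.fittingOf M).subgroupOf M) (fun x => (ν ⟨x.1.1, x.2⟩ : ℂ))

/-- `Ind_{F(M) W}^M η`. -/
noncomputable def mu {Y : Subgroup G} (η : ↥Y →* ℂˣ) : ↥M → ℂ :=
  Cfsg.indFun (Y.subgroupOf M) (fun y => (η ⟨y.1.1, y.2⟩ : ℂ))

omit [Fintype G] [Fintype ↥(Cfsg.fittingOf M)] in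
/-- Change of variable from `Y.subgroupOf M` to `Y`. -/
theorem classInner_subgroupOf {Y : Subgroup G} [Fintype ↥Y] [Fintype ↥(Y.subgroupOf M)] (hle : Y ≤ M)
    (a : ↥Y → ℂ) (f : ↥M → ℂ) :
    Cfsg.classInner (fun y : ↥(Y.subgroupOf M) => a ⟨y.1.1, y.2⟩)
        (fun y : ↥(Y.subgroupOf M) => f y) =
      Cfsg.classInner a (fun y : ↥Y => f ⟨y, hle y.2⟩) := by
  unfold Cfsg.classInner
  rw [Nat.card_congr (subgroupOfEquivOfLe hle).toEquiv]
  congr 1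
  exact Fintype.sum_equiv (subgroupOfEquivOfLe hle).toEquiv _ _ fun y => rfl

variable (h : Side M W U W')
include h

theorem Phi_gen (ν : LX M) : Cfsg.IsGeneralizedCharacter ↥M (Phi ν) := by
  classical
  exact CfsgLib.Char.IsGeneralizedCharacter.indFun _
    (CfsgLib.Char.IsIrrCharacter.isGeneralizedCharacter (CfsgLib.Char.isIrrCharacter_monoidHom
      (ν.comp (subgroupOfEquivOfLe (X_le_M h)).toMonoidHom)))

theorem Phi_inner (ν : LX M) {f : ↥M → ℂ} (hf : Cfsg.IsClassFunction ↥M f) :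
    Cfsg.classInner (Phi ν) f = Cfsg.classInner (fun x : ↥(Cfsg.fittingOf M) => (ν x : ℂ))
      (fun x => f ⟨x, X_le_M h x.2⟩) := by
  classical
  rw [Phi, CfsgLib.Char.classInner_indFun _ _ _ hf]
  exact classInner_subgroupOf (X_le_M h) (fun x : ↥(Cfsg.fittingOf M) => (ν x : ℂ)) f

theorem Phi_apply (ν : LX M) (x : ↥(Cfsg.fittingOf M)) :
    Phi ν ⟨x, X_le_M h x.2⟩ =
      (Nat.card ↥(Cfsg.fittingOf M) : ℂ)⁻¹ * ∑ m : ↥M, (tw (m : G) ν x : ℂ) := by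
  classical
  rw [Phi, CfsgLib.Char.indFun_apply, Nat.card_congr (subgroupOfEquivOfLe (X_le_M h)).toEquiv]
  congr 1
  refine Fintype.sum_equiv (Equiv.inv ↥M) _ _ fun m => ?_
  have hmem : (m⁻¹ : ↥M) * ⟨x, X_le_M h x.2⟩ * m ∈ (Cfsg.fittingOf M).subgroupOf M := by
    show (m : G)⁻¹ * x * m ∈ Cfsg.fittingOf M
    simpa using (mem_normalizer_iff.1 (norm h (inv_mem m.2)) (x : G)).1 x.2
  rw [CfsgLib.Char.extendByZero_apply_mem _ _ hmem, Equiv.inv_apply,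
    tw_val (norm h (m⁻¹).2) ν (y := ⟨_, hmem⟩) (by simp)]
  rfl

theorem Phi_eq_zero (ν : LX M) {g : ↥M} (hg : (g : G) ∉ Cfsg.fittingOf M) : Phi ν g = 0 := by
  classical
  rw [Phi, CfsgLib.Char.indFun_apply]
  refine mul_eq_zero_of_right _ (Finset.sum_eq_zero fun m _ =>
    CfsgLib.Char.extendByZero_of_notMem _ _ fun hmem => hg ?_)
  have := (mem_normalizer_iff.1 (norm h m.2) _).1 (mem_subgroupOf.1 hmem)
  simpa [mul_assoc] using this

theorem Phi_one (ν : LX M) : Phi ν 1 = (((Cfsg.fittingOf M).subgroupOf M).index : ℂ) := by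
  rw [Phi, CfsgLib.Char.indFun_apply_one]
  show _ * ((ν 1 : ℂˣ) : ℂ) = _
  simp

theorem Phi_tw (ν : LX M) {g : G} (hg : g ∈ M) : Phi (tw g ν) = Phi ν := by
  funext m
  by_cases hm : (m : G) ∈ Cfsg.fittingOf M
  · rw [show m = ⟨((⟨m, hm⟩ : ↥(Cfsg.fittingOf M)) : G), X_le_M h hm⟩ from rfl, Phi_apply h,
      Phi_apply h]
    congr 1
    refine Fintype.sum_equiv (Equiv.mulLeft (⟨g, hg⟩ : ↥M)) _ _ fun n => ?_
    rw [tw_tw (norm h hg) (norm h n.2), Equiv.coe_mulLeft]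
    rfl
  · rw [Phi_eq_zero h _ hm, Phi_eq_zero h _ hm]

omit h [Fintype ↥M] in
open Classical in
theorem classInner_lin {H : Subgroup G} [Fintype ↥H] (ν ν' : ↥H →* ℂˣ) :
    Cfsg.classInner (fun x => (ν x : ℂ)) (fun x => (ν' x : ℂ)) = if ν = ν' then 1 else 0 := by
  split_ifs with e
  · subst e
    exact CfsgLib.Char.classInner_irr_self (CfsgLib.Char.isIrrCharacter_monoidHom ν)
  · exact CfsgLib.Char.classInner_irr_of_ne (CfsgLib.Char.isIrrCharacter_monoidHom ν)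
      (CfsgLib.Char.isIrrCharacter_monoidHom ν')
      fun e' => e (MonoidHom.ext fun x => Units.ext (congrFun e' x))

open Classical in
theorem Phi_Phi (ν ν' : LX M) : Cfsg.classInner (Phi ν) (Phi ν') =
    (Nat.card ↥(Cfsg.fittingOf M) : ℂ)⁻¹ *
      ((Finset.univ.filter fun m : ↥M => tw (m : G) ν' = ν).card : ℂ) := by
  rw [Phi_inner h ν (f := Phi ν') (CfsgLib.Char.isClassFunction_indFun _ _),
    show (fun x : ↥(Cfsg.fittingOf M) => Phi ν' ⟨x, X_le_M h x.2⟩) =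
      (Nat.card ↥(Cfsg.fittingOf M) : ℂ)⁻¹ •
        ∑ m : ↥M, (fun x : ↥(Cfsg.fittingOf M) => (tw (m : G) ν' x : ℂ)) by
      funext x; simp [Phi_apply h, Finset.sum_apply],
    CfsgLib.Char.classInner_smul_right, CfsgLib.Char.classInner_sum_right, map_inv₀, map_natCast]
  simp only [classInner_lin, eq_comm (a := ν), Finset.sum_boole]

omit [Fintype ↥(Cfsg.fittingOf M)] h in
open Classical in
theorem card_filter_mem {S : Subgroup G} (hle : S ≤ M) :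
    (Finset.univ.filter fun m : ↥M => (m : G) ∈ S).card = Nat.card ↥S := by
  rw [← Fintype.card_subtype, ← Nat.card_eq_fintype_card]
  exact Nat.card_congr (subgroupOfEquivOfLe hle).toEquiv

theorem mul_mem_XW {g : G} (hg : g ∈ Cfsg.fittingOf M ⊔ W) :
    ∃ x ∈ Cfsg.fittingOf M, ∃ a ∈ W, g = x * a := by
  have hle : W ≤ normalizer (Cfsg.fittingOf M : Set G) := fun a ha => norm h (W_le_M h ha)
  have hcoe : g ∈ (↑(Cfsg.fittingOf M ⊔ W) : Set G) := hg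
  rw [coe_mul_of_right_le_normalizer_left _ _ hle] at hcoe
  obtain ⟨x, hx, a, ha, rfl⟩ := hcoe
  exact ⟨x, hx, a, ha, rfl⟩

theorem XW_le_M : Cfsg.fittingOf M ⊔ W ≤ M := sup_le (X_le_M h) (W_le_M h)

/-- `F(M) × W → F(M) W` is bijective. -/
theorem XW_bijective : Function.Bijective (fun p : ↥(Cfsg.fittingOf M) × ↥W =>
    (⟨p.1.1 * p.2.1, mul_mem (mem_sup_left p.1.2) (mem_sup_right p.2.2)⟩ :
      ↥(Cfsg.fittingOf M ⊔ W))) := by
  refine ⟨fun p p' e => ?_, fun g => ?_⟩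
  · have e' : (p.1 : G) * p.2 = p'.1 * p'.2 := congrArg Subtype.val e
    have hsplit : (p'.1 : G)⁻¹ * p.1 = p'.2 * (p.2 : G)⁻¹ := by
      calc (p'.1 : G)⁻¹ * p.1 = (p'.1 : G)⁻¹ * (p.1 * p.2) * (p.2 : G)⁻¹ := by group
        _ = _ := by rw [e']; group
    have h1 : (p'.1 : G)⁻¹ * p.1 = 1 := eq_one_of_derived h
      (X_le_derived h (mul_mem (inv_mem p'.1.2) p.1.2))
      (by rw [hsplit]; exact mul_mem p'.2.2 (inv_mem p.2.2))
    have h2 : (p.1 : G) = p'.1 := (inv_mul_eq_one.1 h1).symm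
    exact Prod.ext (Subtype.ext h2) (Subtype.ext (mul_left_cancel (h2 ▸ e')))
  · obtain ⟨x, hx, a, ha, e⟩ := mul_mem_XW h g.2
    exact ⟨(⟨x, hx⟩, ⟨a, ha⟩), Subtype.ext e.symm⟩

theorem card_XW :
    Nat.card ↥(Cfsg.fittingOf M ⊔ W) = Nat.card ↥(Cfsg.fittingOf M) * Nat.card W := by
  rw [← Nat.card_prod]
  exact (Nat.card_congr (Equiv.ofBijective _ (XW_bijective h))).symm

theorem Phi_Phi_of_not_conj {ν ν' : LX M} (hne : ∀ m ∈ M, tw m ν' ≠ ν) :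
    Cfsg.classInner (Phi ν) (Phi ν') = 0 := by
  classical
  rw [Phi_Phi h, Finset.filter_false_of_mem fun (m : ↥M) _ => hne m m.2]
  simp

theorem Phi_Phi_free {ν : LX M} (hν : FullChar M U ν) (hfree : ∀ g ∈ M, ¬ Fixed W (tw g ν)) :
    Cfsg.classInner (Phi ν) (Phi ν) = 1 := by
  classical
  rw [Phi_Phi h, Finset.filter_congr fun (m : ↥M) _ => stab_free h hν hfree m.2,
    card_filter_mem (X_le_M h)]
  exact inv_mul_cancel₀ (Nat.cast_ne_zero.2 Nat.card_pos.ne')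

theorem Phi_Phi_fixed {ν : LX M} (hν : FullChar M U ν) (hf : Fixed W ν) :
    Cfsg.classInner (Phi ν) (Phi ν) = (Nat.card W : ℂ) := by
  classical
  rw [Phi_Phi h, Finset.filter_congr fun (m : ↥M) _ => stab_fixed h hν hf m.2,
    card_filter_mem (XW_le_M h), card_XW h, Nat.cast_mul, ← mul_assoc,
    inv_mul_cancel₀ (Nat.cast_ne_zero.2 Nat.card_pos.ne'), one_mul]

/-- An extension of a fixed character to `F(M) W`. -/
theorem exists_extend {ν : LX M} (hf : Fixed W ν) (φ : ↥W →* ℂˣ) :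
    ∃ η : ↥(Cfsg.fittingOf M ⊔ W) →* ℂˣ,
      (∀ x : ↥(Cfsg.fittingOf M), η ⟨x, mem_sup_left x.2⟩ = ν x) ∧
        ∀ a : ↥W, η ⟨a, mem_sup_right a.2⟩ = φ a := by
  let e := Equiv.ofBijective _ (XW_bijective h)
  let g : ↥(Cfsg.fittingOf M ⊔ W) → ℂˣ := fun y => ν (e.symm y).1 * φ (e.symm y).2
  have hg : ∀ p, g (e p) = ν p.1 * φ p.2 := fun p => by
    simp only [g, Equiv.symm_apply_apply]
  refine ⟨MonoidHom.mk' g fun y y' => ?_, fun x => ?_, fun a => ?_⟩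
  · obtain ⟨p, rfl⟩ := e.surjective y
    obtain ⟨p', rfl⟩ := e.surjective y'
    have hN := norm h (W_le_M h p.2.2)
    let x'' : ↥(Cfsg.fittingOf M) := ⟨p.2 * p'.1 * (p.2 : G)⁻¹,
      (mem_normalizer_iff.1 hN (p'.1 : G)).1 p'.1.2⟩
    have hmul : e p * e p' = e (p.1 * x'', p.2 * p'.2) := Subtype.ext (by
      show (p.1 : G) * p.2 * (p'.1 * p'.2) = p.1 * (p.2 * p'.1 * (p.2 : G)⁻¹) * (p.2 * p'.2)
      group)
    have hx'' : ν x'' = ν p'.1 := by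
      rw [← tw_val hN ν (x := p'.1) (y := x'') rfl, hf p.2 p.2.2]
    rw [hmul, hg, hg, hg, map_mul, map_mul, hx'']
    exact mul_mul_mul_comm _ _ _ _
  · rw [show (⟨x, mem_sup_left x.2⟩ : ↥(Cfsg.fittingOf M ⊔ W)) = e (x, 1) from
      Subtype.ext (mul_one _).symm, MonoidHom.mk'_apply, hg, map_one, mul_one]
  · rw [show (⟨a, mem_sup_right a.2⟩ : ↥(Cfsg.fittingOf M ⊔ W)) = e (1, a) from
      Subtype.ext (one_mul _).symm, MonoidHom.mk'_apply, hg, map_one, one_mul]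

theorem mu_gen (η : ↥(Cfsg.fittingOf M ⊔ W) →* ℂˣ) :
    Cfsg.IsGeneralizedCharacter ↥M (mu (M := M) η) := by
  classical
  exact CfsgLib.Char.IsGeneralizedCharacter.indFun _
    (CfsgLib.Char.IsIrrCharacter.isGeneralizedCharacter (CfsgLib.Char.isIrrCharacter_monoidHom
      (η.comp (subgroupOfEquivOfLe (XW_le_M h)).toMonoidHom)))

theorem mu_apply_X {ν : LX M} {η : ↥(Cfsg.fittingOf M ⊔ W) →* ℂˣ}
    (hη : ∀ x : ↥(Cfsg.fittingOf M), η ⟨x, mem_sup_left x.2⟩ = ν x)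
    (x : ↥(Cfsg.fittingOf M)) :
    mu η ⟨x, X_le_M h x.2⟩ = (Nat.card W : ℂ)⁻¹ * Phi ν ⟨x, X_le_M h x.2⟩ := by
  classical
  rw [Phi_apply h, mu, CfsgLib.Char.indFun_apply,
    Nat.card_congr (subgroupOfEquivOfLe (XW_le_M h)).toEquiv, card_XW h, Nat.cast_mul, mul_inv,
    mul_comm (Nat.card ↥(Cfsg.fittingOf M) : ℂ)⁻¹, mul_assoc]
  congr 2
  refine Fintype.sum_equiv (Equiv.inv ↥M) _ _ fun m => ?_
  have hmX : (m : G)⁻¹ * x * m ∈ Cfsg.fittingOf M := by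
    simpa using (mem_normalizer_iff.1 (norm h (inv_mem m.2)) (x : G)).1 x.2
  have hmem : (m⁻¹ : ↥M) * ⟨x, X_le_M h x.2⟩ * m ∈ (Cfsg.fittingOf M ⊔ W).subgroupOf M :=
    mem_subgroupOf.2 (mem_sup_left hmX)
  rw [CfsgLib.Char.extendByZero_apply_mem _ _ hmem, Equiv.inv_apply,
    tw_val (norm h (m⁻¹).2) ν (x := x) (y := ⟨_, hmX⟩) (by simp), ← hη ⟨_, hmX⟩]
  rfl

/-- Outside `F(M)`, elements of `F(M) W` conjugate in `M` are conjugate in `F(M) W`, with the same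
`W`-part. -/
theorem mem_of_conj {y m : G} (hy : y ∈ Cfsg.fittingOf M ⊔ W) (hyX : y ∉ Cfsg.fittingOf M)
    (hm : m ∈ M) (hmy : m⁻¹ * y * m ∈ Cfsg.fittingOf M ⊔ W) : m ∈ Cfsg.fittingOf M ⊔ W := by
  obtain ⟨x, hx, a, ha, rfl⟩ := mul_mem_XW h hy
  have ha1 : a ≠ 1 := fun e => hyX (by rw [e, mul_one]; exact hx)
  obtain ⟨x', hx', a', ha', e'⟩ := mul_mem_XW h hmy
  have ha1' : a' ≠ 1 := fun e => hyX (by
    rw [e, mul_one] at e'
    have h' := (mem_normalizer_iff.1 (norm h hm) _).1 hx'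
    rwa [← e', show m * (m⁻¹ * (x * a) * m) * m⁻¹ = x * a by group] at h')
  obtain ⟨z, hz, c, hc, ec⟩ := conj_to_cent h ha ha1 hx
  obtain ⟨z', hz', c', hc', ec'⟩ := conj_to_cent h ha' ha1' hx'
  set n := z * m * z'⁻¹ with hn
  have hnM : n ∈ M := mul_mem (mul_mem (X_le_M h hz) hm) (inv_mem (X_le_M h hz'))
  have hconj : n⁻¹ * (c * a) * n = c' * a' := by
    rw [← ec, ← ec', ← e', hn]; group
  obtain ⟨t, ht0, ht1⟩ := Nat.chineseRemainder (coprime_X h) 0 1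
  have hpow : ∀ d ∈ W', ∀ b ∈ W, (d * b) ^ t = b := fun d hd b hb => by
    rw [(show Commute d b from (W_comm h hb hd).symm).mul_pow]
    have h1 : d ^ t = 1 := by
      obtain ⟨k, hk⟩ := Nat.modEq_zero_iff_dvd.1 ht0
      rw [hk, pow_mul, show d ^ Nat.card ↥(Cfsg.fittingOf M) = 1 from congrArg Subtype.val
        (pow_card_eq_one' (x := (⟨d, W'_le_X h hd⟩ : ↥(Cfsg.fittingOf M)))), one_pow]
    have h2 : b ^ t = b := by
      have : b ^ t = b ^ 1 := pow_eq_pow_iff_modEq.2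
        (ht1.of_dvd (by simpa using orderOf_dvd_natCard (⟨b, hb⟩ : W)))
      simpa using this
    rw [h1, h2, one_mul]
  have hna : n⁻¹ * a * n = a' := by
    rw [← hpow c hc a ha, ← hpow c' hc' a' ha', ← hconj]
    simpa using (map_pow (MulAut.conj n⁻¹) (c * a) t)
  have haa : a' = a := by
    have hmem : a' * a⁻¹ ∈ ⁅M, M⁆ := by
      have : ⁅n⁻¹, a⁆ ∈ ⁅M, M⁆ := commutator_mem_commutator (inv_mem hnM) (W_le_M h ha)
      rwa [commutatorElement_def, inv_inv, hna] at this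
    exact mul_inv_eq_one.1 (eq_one_of_derived h hmem (mul_mem ha' (inv_mem ha)))
  rw [haa] at hna
  have hnc : a * n = n * a := by
    calc a * n = n * (n⁻¹ * a * n) := by group
      _ = n * a := by rw [hna]
  obtain ⟨k, hk, b, hb, hkb⟩ := h.typeP.W₁_compl.2.2.2 n hnM
  haveI := h.typeP.W₁_cyclic
  letI : CommGroup ↥W := IsCyclic.commGroup
  have hab : a * b = b * a := congrArg Subtype.val (mul_comm (⟨a, ha⟩ : W) ⟨b, hb⟩)
  have hka : k * a = a * k := by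
    have : k * (a * b) = a * k * b := by
      rw [mul_assoc a k b, ← hkb, hnc, hkb, hab, mul_assoc k b a]
    rwa [← mul_assoc, mul_left_inj] at this
  have hnY : n ∈ Cfsg.fittingOf M ⊔ W := by
    rw [hkb]
    exact mul_mem (mem_sup_left (W'_le_X h (cent h ha ha1 hk hka))) (mem_sup_right hb)
  have : m = z⁻¹ * n * z' := by rw [hn]; group
  rw [this]
  exact mul_mem (mul_mem (mem_sup_left (inv_mem hz)) hnY) (mem_sup_left hz')

theorem mu_apply_out (η : ↥(Cfsg.fittingOf M ⊔ W) →* ℂˣ) (y : ↥(Cfsg.fittingOf M ⊔ W))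
    (hy : (y : G) ∉ Cfsg.fittingOf M) :
    mu η ⟨y, XW_le_M h y.2⟩ = (η y : ℂ) := by
  classical
  have hterm : ∀ m : ↥M, Cfsg.extendByZero ((Cfsg.fittingOf M ⊔ W).subgroupOf M)
      (fun z => (η ⟨z.1.1, z.2⟩ : ℂ)) (m⁻¹ * ⟨y, XW_le_M h y.2⟩ * m) =
      if (m : G) ∈ Cfsg.fittingOf M ⊔ W then (η y : ℂ) else 0 := by
    intro m
    split_ifs with hm
    · have hmem : (m⁻¹ : ↥M) * ⟨y, XW_le_M h y.2⟩ * m ∈
          (Cfsg.fittingOf M ⊔ W).subgroupOf M := mul_mem (mul_mem (inv_mem hm) y.2) hm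
      rw [CfsgLib.Char.extendByZero_apply_mem _ _ hmem]
      show (η ((⟨m, hm⟩ : ↥(Cfsg.fittingOf M ⊔ W))⁻¹ * y * ⟨m, hm⟩) : ℂ) = η y
      rw [map_mul, map_mul, map_inv, mul_right_comm, inv_mul_cancel, one_mul]
    · exact CfsgLib.Char.extendByZero_of_notMem _ _ fun hmem =>
        hm (mem_of_conj h y.2 hy m.2 (mem_subgroupOf.1 hmem))
  rw [mu, CfsgLib.Char.indFun_apply, Finset.sum_congr rfl fun m _ => hterm m, Finset.sum_ite,
    Finset.sum_const_zero, add_zero, Finset.sum_const, card_filter_mem (XW_le_M h),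
    Nat.card_congr (subgroupOfEquivOfLe (XW_le_M h)).toEquiv, nsmul_eq_mul, ← mul_assoc,
    inv_mul_cancel₀ (Nat.cast_ne_zero.2 Nat.card_pos.ne'), one_mul]

theorem Phi_mu {ν' : LX M} {η : ↥(Cfsg.fittingOf M ⊔ W) →* ℂˣ}
    (hη : ∀ x : ↥(Cfsg.fittingOf M), η ⟨x, mem_sup_left x.2⟩ = ν' x) (ν : LX M) :
    Cfsg.classInner (Phi ν) (mu η) =
      (Nat.card W : ℂ)⁻¹ * Cfsg.classInner (Phi ν) (Phi ν') := by
  rw [Phi_inner h ν (f := mu η) (CfsgLib.Char.isClassFunction_indFun _ _),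
    Phi_inner h ν (f := Phi ν') (CfsgLib.Char.isClassFunction_indFun _ _),
    show (fun x : ↥(Cfsg.fittingOf M) => mu η ⟨x, X_le_M h x.2⟩) =
      (Nat.card W : ℂ)⁻¹ • fun x : ↥(Cfsg.fittingOf M) => Phi ν' ⟨x, X_le_M h x.2⟩ by
      funext x; simp [mu_apply_X h hη],
    CfsgLib.Char.classInner_smul_right, map_inv₀, map_natCast]

open Classical in
theorem mu_mu {ν ν' : LX M} {η η' : ↥(Cfsg.fittingOf M ⊔ W) →* ℂˣ}
    (hη : ∀ x : ↥(Cfsg.fittingOf M), η ⟨x, mem_sup_left x.2⟩ = ν x)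
    (hη' : ∀ x : ↥(Cfsg.fittingOf M), η' ⟨x, mem_sup_left x.2⟩ = ν' x) :
    Cfsg.classInner (mu (M := M) η) (mu η') = (if η = η' then 1 else 0) +
      (Nat.card W : ℂ)⁻¹ * ((Nat.card W : ℂ)⁻¹ * Cfsg.classInner (Phi ν) (Phi ν') -
        (if ν = ν' then 1 else 0)) := by
  rw [← Phi_mu h hη' ν, Phi_inner h ν (f := mu η') (CfsgLib.Char.isClassFunction_indFun _ _),
    ← classInner_lin η η', ← classInner_lin ν ν']
  refine ((CfsgLib.Char.classInner_indFun _ _ (mu η')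
    (CfsgLib.Char.isClassFunction_indFun _ _)).trans
      (classInner_subgroupOf (XW_le_M h) (fun y => (η y : ℂ)) (mu η'))).trans ?_
  have hcard : (Nat.card ↥(Cfsg.fittingOf M ⊔ W) : ℂ) =
      Nat.card ↥(Cfsg.fittingOf M) * Nat.card W := by rw [card_XW h, Nat.cast_mul]
  have key : ∑ y : ↥(Cfsg.fittingOf M ⊔ W),
      (η y : ℂ) * conj (mu η' ⟨y, XW_le_M h y.2⟩) =
      (∑ y : ↥(Cfsg.fittingOf M ⊔ W), (η y : ℂ) * conj (η' y : ℂ)) +
      ((∑ x : ↥(Cfsg.fittingOf M), (ν x : ℂ) * conj (mu η' ⟨x, X_le_M h x.2⟩)) -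
        ∑ x : ↥(Cfsg.fittingOf M), (ν x : ℂ) * conj (ν' x : ℂ)) := by
    rw [← Finset.sum_sub_distrib, ← sub_eq_iff_eq_add', ← Finset.sum_sub_distrib]
    let ι : ↥(Cfsg.fittingOf M) ↪ ↥(Cfsg.fittingOf M ⊔ W) :=
      ⟨fun x => ⟨x, mem_sup_left x.2⟩, fun x x' e => Subtype.ext (congrArg (fun y => (y.1 : G)) e)⟩
    rw [← Finset.sum_subset (Finset.subset_univ (Finset.univ.map ι)) fun y _ hy => by
      have hyX : (y : G) ∉ Cfsg.fittingOf M := fun hmem =>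
        hy (Finset.mem_map.2 ⟨⟨y, hmem⟩, Finset.mem_univ _, Subtype.ext rfl⟩)
      rw [mu_apply_out h η' y hyX, sub_self], Finset.sum_map]
    exact Finset.sum_congr rfl fun x _ => by
      show (η ⟨x, _⟩ : ℂ) * _ - (η ⟨x, _⟩ : ℂ) * conj (η' ⟨x, _⟩ : ℂ) = _
      rw [hη, hη']
      rfl
  unfold Cfsg.classInner
  rw [key, hcard, mul_inv]
  ring

theorem mu_one {ν : LX M} {η : ↥(Cfsg.fittingOf M ⊔ W) →* ℂˣ}
    (hη : ∀ x : ↥(Cfsg.fittingOf M), η ⟨x, mem_sup_left x.2⟩ = ν x) :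
    mu η (1 : ↥M) = (Nat.card W : ℂ)⁻¹ * (((Cfsg.fittingOf M).subgroupOf M).index : ℂ) := by
  rw [← Phi_one h ν]
  exact mu_apply_X h hη 1

end CfsgLib.FT.SidePin
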