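import Cfsg.Agent.Lib.FT.CoreFam
import Cfsg.Agent.Lib.FT.FixQuotient
import Cfsg.Agent.Lib.FT.SidePinChars
import Cfsg.Agent.Lib.Char.FrobeniusInd

/-!
FT helper for `Linked.linked_of_fix`: a full `W`-fixed linear character of `F(T) = R` induces to a fixed
character of degree `|U|`, and `|T'/T''| ≥ (2w + 1) |U|` leaves only `a = 0` in `CoreAdjoin.adjoin`.
-/

set_option autoImplicit false
set_option linter.style.haveILetI false

namespace CfsgLib.FT

open Subgroup CfsgLib.OddOrder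

universe u

variable {G : Type u} [Group G] [Fintype G] (hG : Cfsg.IsMinSimpleOddOrder G)
  {T W V W' : Subgroup G} [Fintype T]
include hG

/-- A fixed character of degree `|V|`. -/
theorem exists_fixedInd_card (h : CoreSide T W V W') (hS : Side T W V W')
    (hk : kerU T V = ⊥) :
    ∃ μ : ↥T → ℂ, IsFixedInd T W μ (Nat.card V) := by
  classical
  haveI : Fintype ↥(Cfsg.fittingOf T) := Fintype.ofFinite _
  haveI : Fintype ↥(derIn T) := Fintype.ofFinite _
  haveI hWc : IsCyclic W' := by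
    haveI := Fact.mk hS.p_prime
    exact isCyclic_of_prime_card (p := Nat.card W') rfl
  letI : CommGroup W' := IsCyclic.commGroup
  obtain ⟨b, hb⟩ := ne_bot_iff_exists_ne_one.1 hS.typeP.selfNormalizing.2.1
  obtain ⟨ψ, hψ⟩ := CommGroup.exists_apply_ne_one_of_hasEnoughRootsOfUnity (↥W') ℂ hb
  obtain ⟨ν, hνt, hνf, hνr⟩ := SidePin.exists_fixed hS ψ
  have hν : FullChar T V ν := SidePin.fixed_full hS hνt hνf
    ⟨⟨b, SidePin.W'_le_X hS b.2⟩, b.2, by rw [hνr]; exact hψ⟩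
  have hXD : Cfsg.fittingOf T ≤ ⁅T, T⁆ := SidePin.X_le_derived hS
  have hXT : Cfsg.fittingOf T ≤ T := SidePin.X_le_M hS
  set X := (Cfsg.fittingOf T).subgroupOf T with hXdef
  haveI : X.Normal := normal_subgroupOf_of_le_normalizer (fun m hm => SidePin.norm hS hm)
  haveI : (X.subgroupOf (derIn T)).Normal := inferInstance
  have hle : X ≤ derIn T := fun x hx => mem_subgroupOf.2 (hXD (mem_subgroupOf.1 hx))
  set τ₀ : ↥(X.subgroupOf (derIn T)) → ℂ :=
    fun x => (ν ⟨x.1.1.1, mem_subgroupOf.1 (mem_subgroupOf.1 x.2)⟩ : ℂ) with hτ₀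
  have hτirr : Cfsg.IsIrrCharacter (X.subgroupOf (derIn T)) τ₀ :=
    CfsgLib.Char.isIrrCharacter_monoidHom
      { toFun := fun x : ↥(X.subgroupOf (derIn T)) => ν ⟨x.1.1.1, mem_subgroupOf.1 (mem_subgroupOf.1 x.2)⟩
        map_one' := map_one ν
        map_mul' := fun x y => (map_mul ν ⟨x.1.1.1, mem_subgroupOf.1 (mem_subgroupOf.1 x.2)⟩
          ⟨y.1.1.1, mem_subgroupOf.1 (mem_subgroupOf.1 y.2)⟩) }
  have hind : Cfsg.IsIrrCharacter (derIn T) (Cfsg.indFun (X.subgroupOf (derIn T)) τ₀) := by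
    refine CfsgLib.Char.isIrrCharacter_indFun_of_inertia _ τ₀ hτirr fun g hg => ?_
    have hgD : ((g : T) : G) ∈ ⁅T, T⁆ := mem_subgroupOf.1 g.2
    have hgX : ((g : T) : G) ∈ Cfsg.fittingOf T := by
      refine SidePin.stab_derived hS hν hgD (MonoidHom.ext fun x => Units.ext ?_)
      have hx : (⟨⟨x, hXT x.2⟩, hle (mem_subgroupOf.2 x.2)⟩ : ↥(derIn T)) ∈
          X.subgroupOf (derIn T) := mem_subgroupOf.2 (mem_subgroupOf.2 x.2)
      have h1 := congrFun hg ⟨_, hx⟩
      rw [SidePin.tw_apply (SidePin.norm hS (commutator_le_self T hgD))]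
      exact h1
    exact mem_subgroupOf.2 (mem_subgroupOf.2 hgX)
  have hidx : X.index = Nat.card W * Nat.card V := by
    have hR : Cfsg.fittingOf T = Cfsg.fittingHallOf T := by rw [hS.fitting_eq, hk, sup_bot_eq]
    have h1 : (Cfsg.fittingHallOf T).relIndex ⁅T, T⁆ = Nat.card V := by
      obtain ⟨hRD, hUD, hdis, hmul⟩ := hS.typeP.U_compl
      exact (card_eq_relIndex_of_isComplIn (B := Cfsg.fittingHallOf T)
        ⟨hUD, hRD, by rw [inf_comm]; exact hdis, fun z hz => by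
          obtain ⟨a, ha, b, hb, e⟩ := hmul z⁻¹ (inv_mem hz)
          exact ⟨b⁻¹, inv_mem hb, a⁻¹, inv_mem ha, by rw [← mul_inv_rev, ← e, inv_inv]⟩⟩).symm
    show (Cfsg.fittingOf T).relIndex T = _
    rw [hR, ← relIndex_mul_relIndex _ ⁅T, T⁆ T (hR ▸ hXD) (commutator_le_self T), h1, mul_comm,
      show (⁅T, T⁆).relIndex T = (derIn T).index from rfl, h.index_derIn hG]
  have hPhi : Cfsg.indFun (derIn T) (Cfsg.indFun (X.subgroupOf (derIn T)) τ₀) = SidePin.Phi ν :=
    CfsgLib.Char.indFun_indFun (H := X) (derIn T) hle (fun x : ↥X => (ν ⟨x.1.1, mem_subgroupOf.1 x.2⟩ : ℂ))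
  refine ⟨SidePin.Phi ν, ⟨_, hind, fun e => ?_,
    fun a ha => by rw [show a = 1 from Subtype.ext (mem_bot.1 ha)], hPhi.symm⟩,
    SidePin.Phi_Phi_fixed hS hν hνf, ?_⟩
  · -- a principal `θ` would make the induced character constant off the kernel
    have h2 := congrFun e 1
    rw [Char.indFun_apply_one] at h2
    have h3 : (X.subgroupOf (derIn T)).index = 1 := by
      have h4 : τ₀ 1 = 1 := by
        show ((ν 1 : ℂˣ) : ℂ) = 1
        simp
      rw [h4, mul_one] at h2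
      exact_mod_cast h2
    have h5 : X.relIndex (derIn T) = 1 := h3
    rw [relIndex_eq_one] at h5
    have h6 : ⁅T, T⁆ ≤ Cfsg.fittingHallOf T := fun x hx => by
      have h8 : (⟨x, commutator_le_self T hx⟩ : T) ∈ derIn T := mem_subgroupOf.2 hx
      have h7 := mem_subgroupOf.1 (h5 h8)
      rw [hS.fitting_eq, hk, sup_bot_eq] at h7
      exact h7
    obtain ⟨hRD, hUD, hdis, -⟩ := hS.typeP.U_compl
    exact hS.U_ne (le_bot_iff.1 (hdis ▸ le_inf (hUD.trans h6) le_rfl))
  · rw [SidePin.Phi_one hS]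
    show ((X.index : ℕ) : ℂ) = _
    rw [hidx]; push_cast; rfl

/-- `Linked.linked_of_fix`, from the two equations of `SideModule.split` and `CoreAdjoin.adjoin`. -/
theorem linked_of_fix_aux (h : CoreSide T W V W') (hS : Side T W V W') (hF : SideFull T W V W')
    (hne : fixCore T V ≠ ⊥)
    (hinf : ⁅Cfsg.fittingHallOf T, V⁆ ⊓ fixCore T V = ⊥)
    (hsup : ⁅Cfsg.fittingHallOf T, V⁆ ⊔ fixCore T V = Cfsg.fittingHallOf T)
    (hadj : ∀ {f : (↥T → ℂ) → (G → ℂ)}, IsLinMap T f → ∀ {μ ζ : ↥T → ℂ} {θ : ℕ},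
      IsFixedInd T W μ θ → ζ ∈ linChars T →
      ∃ a : ℤ, (∀ ξ ∈ linChars T, Cfsg.classInner (tauCore T (μ - (θ : ℂ) • ζ)) (f ξ) =
        (a : ℂ) - if ξ = ζ then (θ : ℂ) else 0) ∧
        a * (a * Nat.card ↥(linChars T) - 2 * θ) ≤ 0) :
    Linked T W := by
  classical
  obtain ⟨hlc, hcard, -, hm2, -⟩ := linChars_facts hG h
  obtain ⟨f, hf⟩ := exists_linMap hG h
  obtain ⟨μ, hμ⟩ := exists_fixedInd_card hG h hS hF.ker_bot
  haveI hVc := hF.cyclic
  have hge := relIndex_derived_two_ge hG.1 hS inferInstance hne hinf hsup (by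
    rw [← hcard, Nat.add_mod, Nat.mul_mod_left, Nat.zero_add, Nat.mod_mod,
      Nat.mod_eq_of_lt hS.q_prime.one_lt])
  rw [← hcard] at hge
  have hV : 1 < Nat.card V := (V.one_lt_card_iff_ne_bot).2 hS.U_ne
  have hm : 2 * Nat.card V < Nat.card ↥(linChars T) := by
    by_contra hc
    push Not at hc
    have := Nat.mul_le_mul_right (Nat.card W) hc
    nlinarith
  obtain ⟨ζ, hζ⟩ : (linChars T).Nonempty := linChars_nonempty hG h
  obtain ⟨a, ha, hle⟩ := hadj hf hμ hζ
  have ha0 : a = 0 := by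
    have hm' : (2 * Nat.card V : ℤ) < Nat.card ↥(linChars T) := by exact_mod_cast hm
    have hpos : (0 : ℤ) ≤ Nat.card ↥(linChars T) := by positivity
    rcases lt_trichotomy a 0 with ha | ha | ha
    · have h1 : a * Nat.card ↥(linChars T) ≤ -1 * Nat.card ↥(linChars T) :=
        mul_le_mul_of_nonneg_right (by omega) hpos
      exact absurd hle (not_le.2 (mul_pos_of_neg_of_neg ha (by linarith)))
    · exact ha
    · have h1 : 1 * (Nat.card ↥(linChars T) : ℤ) ≤ a * Nat.card ↥(linChars T) :=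
        mul_le_mul_of_nonneg_right (by omega) hpos
      exact absurd hle (not_le.2 (mul_pos ha (by linarith)))
  refine ⟨f, μ, ζ, _, hf, hμ, hζ, fun ξ hξ => ?_⟩
  rw [ha ξ hξ, ha0]
  split_ifs <;> simp

end CfsgLib.FT
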