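import Cfsg.Agent.Lib.FT.Pair
import Cfsg.Agent.Lib.OddChar.Sibley
import Cfsg.Agent.Lib.OddChar.CentralGen
import Cfsg.Agent.Lib.Char.CentralOver
import Mathlib.GroupTheory.Nilpotent

/-!
Tools for `LinkedFree`: induction from a TI normal subgroup, the function `Ind_Z (ρ - 1)`, and
characters nontrivial on a central subgroup with a free action.
-/

set_option autoImplicit false

open ComplexConjugate

namespace CfsgLib.FT.LinkedTI

open Subgroup

section Generic

variable {L : Type*} [Group L] [Fintype L]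

open Classical in
/-- `Ind_Z (ρ_Z - 1)`, as a function. -/
noncomputable def phi (Z : Subgroup L) (x : L) : ℂ :=
  (if x = 1 then (Nat.card L : ℂ) else 0) - (if x ∈ Z then (Z.index : ℂ) else 0)

theorem phi_class (Z : Subgroup L) [hZ : Z.Normal] : Cfsg.IsClassFunction L (phi Z) := by
  intro x y
  have h1 : y * x * y⁻¹ = 1 ↔ x = 1 := conj_eq_one_iff
  have h2 : y * x * y⁻¹ ∈ Z ↔ x ∈ Z := by
    refine ⟨fun h => ?_, fun h => hZ.conj_mem x h y⟩
    have h' := hZ.conj_mem _ h y⁻¹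
    simpa [mul_assoc] using h'
  simp only [phi]
  classical
  rw [if_congr h1 rfl rfl, if_congr h2 rfl rfl]

theorem phi_one (Z : Subgroup L) :
    phi Z 1 = (Z.index : ℂ) * ((Nat.card Z : ℂ) - 1) := by
  rw [phi, if_pos rfl, if_pos Z.one_mem, ← Z.card_mul_index]
  push_cast
  ring

theorem phi_off (Z : Subgroup L) {x : L} (hx : x ∉ Z) : phi Z x = 0 := by
  rw [phi, if_neg (fun h => hx (by rw [h]; exact Z.one_mem)), if_neg hx, sub_zero]

theorem inner_phi (Z : Subgroup L) [Fintype Z] (g : L → ℂ) :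
    Cfsg.classInner g (phi Z) = g 1 - (Nat.card Z : ℂ)⁻¹ * ∑ z : Z, g z := by
  classical
  have hconj : ∀ x, conj (phi Z x) = phi Z x := fun x => by
    unfold phi
    split_ifs <;> simp
  have h1 : ∑ z : Z, g z = ∑ x : L, if x ∈ Z then g x else 0 := by
    rw [← Finset.sum_filter]
    exact (Finset.sum_subtype _ (fun x => by simp) g).symm
  unfold Cfsg.classInner
  have h2 : ∑ x : L, g x * conj (phi Z x) =
      (Nat.card L : ℂ) * g 1 - (Z.index : ℂ) * ∑ z : Z, g z := by
    rw [h1, Finset.mul_sum, Finset.sum_congr rfl fun x _ =>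
      (show g x * conj (phi Z x) = (if x = 1 then (Nat.card L : ℂ) * g x else 0) -
          (Z.index : ℂ) * (if x ∈ Z then g x else 0) by
        rw [hconj, phi]; split_ifs <;> ring),
      Finset.sum_sub_distrib, Finset.sum_ite_eq' Finset.univ (1 : L), if_pos (Finset.mem_univ _)]
  rw [h2, mul_sub, ← mul_assoc, ← mul_assoc]
  have hL : (Nat.card L : ℂ) = (Nat.card Z : ℂ) * (Z.index : ℂ) := by
    exact_mod_cast Z.card_mul_index.symm
  have hz : (Nat.card Z : ℂ) ≠ 0 := Nat.cast_ne_zero.2 Nat.card_pos.ne'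
  have hi : (Z.index : ℂ) ≠ 0 := Nat.cast_ne_zero.2 index_ne_zero_of_finite
  rw [hL]
  field_simp

theorem phi_norm (Z : Subgroup L) :
    Cfsg.classInner (phi Z) (phi Z) = (Z.index : ℂ) * ((Nat.card Z : ℂ) - 1) := by
  classical
  haveI : Fintype Z := Fintype.ofFinite Z
  have h : ∑ z : Z, phi Z (z : L) = 0 := by
    simp only [phi, Finset.sum_sub_distrib, SetLike.coe_mem, if_true]
    simp only [OneMemClass.coe_eq_one]
    rw [Finset.sum_ite_eq' Finset.univ (1 : Z), if_pos (Finset.mem_univ _),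
      Finset.sum_const, Finset.card_univ, ← Nat.card_eq_fintype_card, nsmul_eq_mul, ← Nat.cast_mul,
      Z.card_mul_index]
    simp
  rw [inner_phi, h, mul_zero, sub_zero, phi_one]

theorem inner_phi_const (Z : Subgroup L) {g : L → ℂ} (h : ∀ z ∈ Z, g z = g 1) :
    Cfsg.classInner g (phi Z) = 0 := by
  classical
  haveI : Fintype Z := Fintype.ofFinite Z
  rw [inner_phi, Finset.sum_congr rfl (fun (z : Z) _ => h z z.2), Finset.sum_const, Finset.card_univ,
    ← Nat.card_eq_fintype_card, nsmul_eq_mul, inv_mul_cancel_left₀, sub_self]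
  exact Nat.cast_ne_zero.2 Nat.card_pos.ne'

/-- A character induced from one constant on a normal `Z` is constant on `Z`. -/
theorem indFun_const (H Z : Subgroup L) [hZ : Z.Normal] (hZH : Z ≤ H) {θ : H → ℂ}
    (h : ∀ a : H, (a : L) ∈ Z → θ a = θ 1) {z : L} (hz : z ∈ Z) :
    Cfsg.indFun H θ z = Cfsg.indFun H θ 1 := by
  classical
  rw [Char.indFun_apply, Char.indFun_apply]
  congr 1
  refine Finset.sum_congr rfl fun x _ => ?_
  have hm : x⁻¹ * z * x ∈ Z := by
    simpa using hZ.conj_mem z hz x⁻¹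
  rw [Char.extendByZero_apply_mem H θ (hZH hm),
    Char.extendByZero_apply_mem H θ (x := x⁻¹ * 1 * x) (by simp), h _ hm]
  exact congrArg θ (Subtype.ext (by simp))

/-- A free action on a central subgroup makes the characters nontrivial on it induce irreducibly. -/
theorem indFun_irr (H Z : Subgroup L) [H.Normal] [hZn : Z.Normal] [Fintype H] (hZH : Z ≤ H)
    (hc : ∀ z ∈ Z, ∀ y ∈ H, z * y = y * z)
    (hfree : ∀ t : L, t ∉ H → ∀ z ∈ Z, t * z = z * t → z = 1)
    {θ : H → ℂ} (hθ : Cfsg.IsIrrCharacter H θ) (hne : ∃ a : H, (a : L) ∈ Z ∧ θ a ≠ θ 1) :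
    Cfsg.IsIrrCharacter L (Cfsg.indFun H θ) := by
  classical
  have hin : ∀ t : L, CharTwist.conjFun H θ t = θ → t ∈ H := by
    intro t ht
    by_contra htH
    let d : Z → Z := fun z => ⟨t * (z : L) * t⁻¹ * (z : L)⁻¹,
      Z.mul_mem (hZn.conj_mem _ z.2 t) (Z.inv_mem z.2)⟩
    have hinj : Function.Injective d := by
      intro a b hab
      have h : t * (a : L) * t⁻¹ * (a : L)⁻¹ = t * (b : L) * t⁻¹ * (b : L)⁻¹ :=
        congrArg Subtype.val hab
      have hca : (a : L)⁻¹ * (b : L) = (b : L) * (a : L)⁻¹ :=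
        hc _ (Z.inv_mem a.2) _ (hZH b.2)
      have h1 : t * ((b : L)⁻¹ * (a : L)) * t⁻¹ = (b : L)⁻¹ * (a : L) := by
        have e : t * (a : L) * t⁻¹ = t * (b : L) * t⁻¹ * ((b : L)⁻¹ * (a : L)) := by
          calc t * (a : L) * t⁻¹ = t * (a : L) * t⁻¹ * (a : L)⁻¹ * (a : L) := by group
            _ = _ := by rw [h]; group
        calc t * ((b : L)⁻¹ * (a : L)) * t⁻¹ = (t * (b : L) * t⁻¹)⁻¹ * (t * (a : L) * t⁻¹) := by
              group
          _ = _ := by rw [e]; group
      have h2 := hfree t htH _ (Z.mul_mem (Z.inv_mem b.2) a.2) (mul_inv_eq_iff_eq_mul.1 h1)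
      exact Subtype.ext (inv_mul_eq_one.1 h2).symm
    obtain ⟨a, haZ, hane⟩ := hne
    obtain ⟨z, hz⟩ := (Finite.injective_iff_surjective.1 hinj) ⟨a, haZ⟩
    have hz' : t * (z : L) * t⁻¹ * (z : L)⁻¹ = a := congrArg Subtype.val hz
    have hzH : (z : L) ∈ H := hZH z.2
    have hcz : ∀ y : H, (⟨z, hzH⟩ : H) * y = y * ⟨z, hzH⟩ := fun y =>
      Subtype.ext (hc _ z.2 _ y.2)
    have key := CharOver.apply_mul_central hθ (z := (⟨z, hzH⟩ : H)⁻¹)
    have h3 : θ (⟨t * z * t⁻¹, hZH (hZn.conj_mem _ z.2 t)⟩ : H) = θ ⟨z, hzH⟩ := by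
      conv_rhs => rw [← ht]
      rfl
    have hzc : (⟨z, hzH⟩ : H)⁻¹ ∈ Subgroup.center H := (Subgroup.center H).inv_mem
      (Subgroup.mem_center_iff.2 fun y => (hcz y).symm)
    have k1 := key hzc ⟨t * z * t⁻¹, hZH (hZn.conj_mem _ z.2 t)⟩
    have k2 := key hzc ⟨z, hzH⟩
    rw [mul_inv_cancel] at k2
    rw [h3, ← k2, show (⟨t * z * t⁻¹, hZH (hZn.conj_mem _ z.2 t)⟩ : H) * (⟨z, hzH⟩ : H)⁻¹ = a from
      Subtype.ext hz'] at k1
    exact hane (mul_right_cancel₀ (Char.IsIrrCharacter.apply_one_ne_zero hθ) k1)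
  have hI : CharTwist.inertia H θ = H := le_antisymm hin
    (CharTwist.le_inertia H (Char.IsIrrCharacter.isClassFunction hθ))
  have hn := OddChar.Above.norm_indFun H hθ
  rw [Clifford.card_orbit, hI, mul_assoc, ← Nat.cast_mul, H.card_mul_index] at hn
  have h1 : Cfsg.classInner (Cfsg.indFun H θ) (Cfsg.indFun H θ) = 1 :=
    mul_right_cancel₀ (Nat.cast_ne_zero.2 Nat.card_pos.ne') (hn.trans (one_mul _).symm)
  have hch := Char.IsCharacter.indFun H (Char.IsIrrCharacter.isCharacter hθ)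
  rcases OddChar.irr_or_neg_of_norm_one (Char.IsCharacter.isGeneralizedCharacter hch) h1 with h | h
  · exact h
  · exfalso
    obtain ⟨d, hd⟩ := Char.IsCharacter.exists_degree hch
    obtain ⟨e, he⟩ := Char.IsCharacter.exists_degree (Char.IsIrrCharacter.isCharacter h)
    rw [Pi.neg_apply, hd] at he
    have h0 : d = 0 := by
      have : ((d + e : ℕ) : ℂ) = 0 := by push_cast; linear_combination -he
      have : d + e = 0 := by exact_mod_cast this
      omega
    apply Char.IsIrrCharacter.apply_one_ne_zero h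
    rw [Pi.neg_apply, hd, h0, Nat.cast_zero, neg_zero]

end Generic

section TI

variable {G : Type*} [Group G] [Fintype G] {R T : Subgroup G} [Fintype T]

/-- The functions supported on `R ∖ 1`. -/
structure OnCore (R : Subgroup G) (α : ↥T → ℂ) : Prop where
  cls : Cfsg.IsClassFunction T α
  off : ∀ x : T, (x : G) ∉ R → α x = 0
  one : α 1 = 0

variable (hTI : Cfsg.IsTISubset (R : Set G)) (hN : normalizer (R : Set G) = T)
include hTI hN

theorem inner_ind {α β : ↥T → ℂ} (hα : OnCore R α) (hβ : OnCore R β) :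
    Cfsg.classInner (Cfsg.indFun T α) (Cfsg.indFun T β) = Cfsg.classInner α β := by
  subst hN
  exact Char.classInner_indFun_ti (R : Set G) hTI α β hβ.cls hα.off hβ.off hα.one

theorem centralizer_le {a : G} (ha : a ∈ R) (ha1 : a ≠ 1) :
    centralizer ({a} : Set G) ≤ T := by
  intro g hg
  by_contra hgT
  rw [← hN] at hgT
  refine ha1 (hTI g hgT a ha ?_)
  rw [mem_centralizer_singleton_iff] at hg
  rwa [hg, mul_inv_cancel_right]

theorem supportR_bot {a : G} (ha : a ∈ R) (ha1 : a ≠ 1) : Cfsg.supportR T a = ⊥ := by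
  unfold Cfsg.supportR
  exact dif_neg fun h => h.1 (centralizer_le hTI hN ha ha1)

theorem tauCore_eq (hcore : Cfsg.sigmaCore T = R) {α : ↥T → ℂ} (hα : OnCore R α) :
    tauCore T α = Cfsg.indFun T α := by
  classical
  subst hN
  funext g
  unfold tauCore Cfsg.dadeIsometry coreSet
  simp only [hcore]
  split_ifs with h
  · obtain ⟨⟨haR, ha1⟩, x, u, hu, e⟩ := Classical.choose_spec h
    set a := Classical.choose h
    rw [supportR_bot hTI rfl haR ha1, mem_bot] at hu
    rw [hu, mul_one] at e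
    rw [← Char.isClassFunction_indFun _ α g x, e]
    exact (Char.indFun_ti_apply (R : Set G) hTI α hα.cls hα.off a haR
      fun h => ha1 (by simp [h])).symm
  · rw [Char.indFun_apply, Finset.sum_eq_zero, mul_zero]
    intro x _
    by_cases hm : x⁻¹ * g * x ∈ normalizer (R : Set G)
    · rw [Char.extendByZero_apply_mem _ α hm]
      by_cases hR : x⁻¹ * g * x ∈ R
      · by_cases h1 : x⁻¹ * g * x = 1
        · rw [show (⟨_, hm⟩ : normalizer (R : Set G)) = 1 from Subtype.ext h1]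
          exact hα.one
        · exact absurd ⟨⟨_, hm⟩, ⟨hR, h1⟩, x⁻¹, 1, one_mem _, by simp⟩ h
      · exact hα.off _ hR
    · exact Char.extendByZero_of_notMem _ α hm

omit hTI hN

theorem OnCore.of_span {H A : Subgroup T} [H.Normal] (hH : H = R.subgroupOf T)
    {α : ↥T → ℂ} (hα : α ∈ Cfsg.zspanOn (Cfsg.inducedIrrAbove H A) {1}ᶜ) : OnCore R α := by
  obtain ⟨hspan, h1⟩ := OddChar.Coh.mem_zspanOn_iff.1 hα
  have key : Cfsg.IsClassFunction T α ∧ ∀ x : T, (x : G) ∉ R → α x = 0 := by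
    clear h1 hα
    induction hspan using Submodule.span_induction with
    | mem φ hφ =>
      obtain ⟨θ, -, -, -, rfl⟩ := hφ
      exact ⟨Char.isClassFunction_indFun _ _, fun x hx =>
        Char.indFun_eq_zero_of_normal _ _ fun h => hx (by rw [hH] at h; exact mem_subgroupOf.1 h)⟩
    | zero => exact ⟨fun _ _ => rfl, fun _ _ => rfl⟩
    | add a b _ _ ha hb =>
      exact ⟨fun x y => by simp only [Pi.add_apply]; rw [ha.1 x y, hb.1 x y],
        fun x hx => by simp [ha.2 x hx, hb.2 x hx]⟩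
    | smul n a _ ha =>
      exact ⟨fun x y => by simp only [Pi.smul_apply]; rw [ha.1 x y],
        fun x hx => by simp [ha.2 x hx]⟩
  exact ⟨key.1, key.2, h1⟩

omit [Fintype T]

/-- A TI `q`-group is Sylow if its normalizer has index prime to `q` over it. -/
theorem exists_sylow {q : ℕ} [hq : Fact q.Prime] (hR : IsPGroup q R)
    (hN : normalizer (R : Set G) = T) (hcop : q.Coprime (R.relIndex T)) :
    ∃ P : Sylow q G, (P : Subgroup G) = R := by
  obtain ⟨P, hP⟩ := hR.exists_le_sylow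
  refine ⟨P, le_antisymm ?_ hP⟩
  have hRT : R ≤ T := hN ▸ le_normalizer
  have hTP : (P : Subgroup G) ⊓ T ≤ R := by
    obtain ⟨k, hk⟩ := IsPGroup.iff_card.1
      (P.isPGroup'.to_le (inf_le_left : (P : Subgroup G) ⊓ T ≤ P))
    have hd : R.relIndex ((P : Subgroup G) ⊓ T) ∣ q ^ k :=
      hk ▸ relIndex_dvd_card R ((P : Subgroup G) ⊓ T)
    haveI : (R.subgroupOf T).Normal := by subst hN; exact normal_in_normalizer
    have hd' : R.relIndex ((P : Subgroup G) ⊓ T) ∣ R.relIndex T := by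
      have h := relIndex_dvd_index_of_normal (R.subgroupOf T) (((P : Subgroup G) ⊓ T).subgroupOf T)
      rwa [relIndex_subgroupOf inf_le_right] at h
    exact relIndex_eq_one.1 (Nat.eq_one_of_dvd_coprimes (hcop.pow_left k) hd hd')
  by_contra hne
  haveI : Group.IsNilpotent (P : Subgroup G) := P.isPGroup'.isNilpotent
  have hlt : R.subgroupOf (P : Subgroup G) < ⊤ :=
    lt_top_iff_ne_top.2 fun h => hne (subgroupOf_eq_top.1 h)
  have hgrow := Group.normalizerCondition_of_isNilpotent _ hlt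
  obtain ⟨y, hyN, hyR⟩ := SetLike.exists_of_lt hgrow
  refine hyR (mem_subgroupOf.2 (hTP (mem_inf.2 ⟨y.2, ?_⟩)))
  rw [← hN, mem_normalizer_iff]
  rw [mem_normalizer_iff] at hyN
  intro r
  constructor
  · intro hr
    exact mem_subgroupOf.1 ((hyN ⟨r, hP hr⟩).1 (mem_subgroupOf.2 hr))
  · intro hr
    have hrP : r ∈ (P : Subgroup G) := by
      have h := (P : Subgroup G).mul_mem ((P : Subgroup G).mul_mem
        ((P : Subgroup G).inv_mem y.2) (hP hr)) y.2
      simpa [mul_assoc] using h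
    exact mem_subgroupOf.1 ((hyN ⟨r, hrP⟩).2 (mem_subgroupOf.2 hr))

omit [Fintype G]

end TI

section Arith

/-- The norm bound on the projection of `τ (Φ - M ζ)`. -/
theorem projection_cases {M w : ℕ} {m b : ℤ} (hM : 0 < M) (hwM : w < M) (hm : 2 ≤ m)
    (h : (M : ℤ) ^ 2 * (m * b ^ 2 - 2 * b) ≤ w * M) : b = 0 ∨ b = 1 ∧ m = 2 := by
  have h0 : m * b ^ 2 - 2 * b ≤ 0 := by
    by_contra hc
    push_neg at hc
    have : (M : ℤ) ^ 2 * 1 ≤ (M : ℤ) ^ 2 * (m * b ^ 2 - 2 * b) :=
      mul_le_mul_of_nonneg_left (by omega) (sq_nonneg _)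
    have : (M : ℤ) * M ≤ w * M := by nlinarith
    have := Int.le_of_mul_le_mul_right this (by exact_mod_cast hM)
    omega
  rcases le_or_gt b 0 with hb | hb
  · left
    by_contra hne
    have : 0 < b ^ 2 := by positivity
    nlinarith
  · right
    have hb1 : b = 1 := by
      by_contra hne
      have h2 : 2 ≤ b := by omega
      nlinarith
    subst hb1
    exact ⟨rfl, by omega⟩

/-- The final inequality forces `a = 0`. -/
theorem coefficient_zero {a : ℤ} {m θ w N : ℝ} (hN : θ ^ 2 ≤ N) (hw2 : 2 ≤ w)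
    (hθ : 2 * w - 1 ≤ θ) (hm : 0 ≤ m) (h : (a : ℝ) ^ 2 * (N + m) ≤ w + 2 * a * θ) : a = 0 := by
  by_contra hne
  have h1 : (a : ℝ) ^ 2 * θ ^ 2 ≤ w + 2 * a * θ := by
    nlinarith [mul_le_mul_of_nonneg_left hN (sq_nonneg (a : ℝ)), mul_nonneg (sq_nonneg (a : ℝ)) hm]
  have hθ3 : 3 ≤ θ := by linarith
  rcases lt_or_gt_of_ne hne with ha | ha
  · have ha' : (a : ℝ) ≤ -1 := by exact_mod_cast (show a ≤ -1 by omega)
    nlinarith [mul_nonneg (mul_nonneg (show (0 : ℝ) ≤ -a by linarith)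
      (show (0 : ℝ) ≤ θ by linarith)) (show (0 : ℝ) ≤ θ by linarith)]
  · have ha' : (1 : ℝ) ≤ a := by exact_mod_cast (show 1 ≤ a by omega)
    nlinarith [mul_le_mul_of_nonneg_left (show 3 * θ ≤ θ ^ 2 by nlinarith) (sq_nonneg (a : ℝ)),
      mul_le_mul_of_nonneg_left ha' (show (0 : ℝ) ≤ (a : ℝ) * θ by positivity),
      mul_le_mul_of_nonneg_right ha' (show (0 : ℝ) ≤ θ by linarith)]

end Arith

end CfsgLib.FT.LinkedTI
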