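import Cfsg.Agent.Lib.FT.CoreFam
import Cfsg.Agent.Lib.FT.LinkedFreeAux

/-!
FT module LinkedFree: `T' = R` a TI `q`-group, `W'` not in `Z(R)`.

`Z = Z(R) ∩ R'` is normal with `W` free on it, so the members of `S` nontrivial on `Z` are irreducible
and coherent; hence each `f ξ` is constant on `Z ∖ 1`, with `f ξ 1 - f ξ z` divisible by `|R|`.
So `v = τ (Φ - M ζ)`, `Φ = Ind_Z (ρ - 1)`, has all coefficients on the family divisible by `M`, and
Bessel for `τ (μ - θ ζ)` on the family and the rest of `v` gives `a = 0`.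
-/

set_option autoImplicit false

open ComplexConjugate

namespace CfsgLib.FT

open Subgroup
open CfsgLib.OddChar (mem_zspan_self)

universe u

variable {G : Type u} [Group G] [Fintype G] (hG : Cfsg.IsMinSimpleOddOrder G)
  {T W V W' : Subgroup G} [Fintype T]

namespace LinkedTI

/-- The free central subgroup. -/
theorem exists_centre (h : CoreSide T W V W') (hnil : Group.IsNilpotent ↥⁅T, T⁆)
    (hRn : (⁅T, T⁆.subgroupOf T).Normal)
    (hZ : ¬ W' ≤ centralizer ((⁅T, T⁆ : Subgroup G) : Set G)) :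
    ∃ Z : Subgroup T, Z.Normal ∧ Z ≠ ⊥ ∧ Z ≤ ⁅⁅T, T⁆, ⁅T, T⁆⁆.subgroupOf T ∧
      Z ≤ ⁅T, T⁆.subgroupOf T ∧
      (∀ z ∈ Z, ∀ y ∈ ⁅T, T⁆.subgroupOf T, z * y = y * z) ∧
      ∀ t : T, t ∉ ⁅T, T⁆.subgroupOf T → ∀ z ∈ Z, t * z = z * t → z = 1 := by
  classical
  set R := ⁅T, T⁆ with hR
  have hRT : R ≤ T := commutator_le.2 fun a ha b hb => by
    rw [commutatorElement_def]
    exact T.mul_mem (T.mul_mem (T.mul_mem ha hb) (T.inv_mem ha)) (T.inv_mem hb)
  have hR'R : ⁅R, R⁆ ≤ R := commutator_le.2 fun a ha b hb => by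
    rw [commutatorElement_def]
    exact R.mul_mem (R.mul_mem (R.mul_mem ha hb) (R.inv_mem ha)) (R.inv_mem hb)
  have hW'R : W' ≤ R := h.typeP.W₂_le.trans (inf_le_right.trans hR'R)
  set Z := (R.subgroupOf T ⊓ centralizer ((R.subgroupOf T : Subgroup T) : Set T)) ⊓
    (⁅R, R⁆).subgroupOf T with hZdef
  have hcent : ∀ z ∈ Z, ∀ y ∈ R.subgroupOf T, z * y = y * z := fun z hz y hy =>
    ((mem_centralizer_iff.1 hz.1.2) y hy).symm
  have hn1 : ((⁅R, R⁆).subgroupOf T).Normal := by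
    refine ⟨fun x hx g => mem_subgroupOf.2 ?_⟩
    have hg : ∀ r ∈ R, (g : G) * r * (g : G)⁻¹ ∈ R := fun r hr =>
      mem_subgroupOf.1 (hRn.conj_mem ⟨r, hRT hr⟩ (mem_subgroupOf.2 hr) g)
    have : (⁅R, R⁆).map (MulAut.conj (g : G)).toMonoidHom ≤ ⁅R, R⁆ := by
      rw [map_commutator]
      have h' : R.map (MulAut.conj (g : G)).toMonoidHom ≤ R := by
        rintro _ ⟨r, hr, rfl⟩
        exact hg r hr
      exact commutator_mono h' h'
    exact this ⟨_, mem_subgroupOf.1 hx, rfl⟩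
  refine ⟨Z, ?_, ?_, inf_le_right, inf_le_left.trans inf_le_left, hcent, ?_⟩
  · haveI := hRn
    haveI := hn1
    infer_instance
  · have hne : commutator R ≠ ⊥ := fun h0 => hZ fun x hx => mem_centralizer_iff.2 fun y hy => by
      rw [commutator_def, commutator_eq_bot_iff_le_centralizer] at h0
      exact congrArg Subtype.val
        ((h0 (mem_top (⟨x, hW'R hx⟩ : R))) ⟨y, hy⟩ (mem_top _))
    obtain ⟨z, hz, hz1, hzc⟩ := OddChar.NilQuot.exists_central (H := R) (commutator R) hne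
    intro hbot
    refine hz1 (Subtype.ext ?_)
    have hmem : (⟨z, hRT z.2⟩ : T) ∈ Z := by
      refine ⟨⟨mem_subgroupOf.2 z.2, mem_centralizer_iff.2 fun y hy => ?_⟩, mem_subgroupOf.2 ?_⟩
      · exact Subtype.ext (congrArg Subtype.val
          (mem_center_iff.1 hzc ⟨(y : G), mem_subgroupOf.1 hy⟩) :)
      · exact map_subtype_commutator R ▸ mem_map_of_mem _ hz
    rw [hbot, mem_bot] at hmem
    show (z : G) = 1
    exact congrArg (fun x : T => (x : G)) hmem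
  · intro t ht z hz htz
    obtain ⟨a, ha, b, hb, e⟩ := h.typeP.W₁_compl.2.2.2 (t : G) t.2
    have hb1 : b ≠ 1 := fun h1 => ht (mem_subgroupOf.2 (by rw [e, h1, mul_one]; exact ha))
    have hzR : (z : G) ∈ R := mem_subgroupOf.1 hz.1.1
    have hza : a * (z : G) = (z : G) * a :=
      (congrArg Subtype.val (hcent z hz ⟨a, hRT ha⟩ (mem_subgroupOf.2 ha))).symm
    have htz' : a * b * (z : G) = (z : G) * (a * b) := e ▸ congrArg Subtype.val htz
    have hzb : b * (z : G) = (z : G) * b := by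
      apply mul_left_cancel (a := a)
      rw [← mul_assoc, htz', ← mul_assoc, ← hza, mul_assoc]
    have hzW' : (z : G) ∈ W' := h.typeP.W₂_centralizer b hb hb1 ▸
      ⟨hzR, mem_centralizer_singleton_iff.2 hzb.symm⟩
    have hzC : (z : G) ∈ centralizer (R : Set G) := mem_centralizer_iff.2 fun y hy =>
      (congrArg Subtype.val (hcent z hz ⟨y, hRT hy⟩ (mem_subgroupOf.2 hy))).symm
    by_contra hne
    refine hZ ?_
    have hle : Subgroup.zpowers (z : G) ≤ W' := by rwa [zpowers_le]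
    have hcard : Nat.card (zpowers (z : G)) = Nat.card W' := by
      refine ((Nat.dvd_prime h.q_prime).1 (card_dvd_of_le hle)).resolve_left fun h1 => ?_
      exact hne (Subtype.ext (zpowers_eq_bot.1 (card_eq_one.1 h1)))
    rw [← eq_of_le_of_card_ge hle hcard.ge, zpowers_le]
    exact hzC

/-- A free action on `Z ∖ 1` gives `w ≤ |Z| - 1`. -/
theorem card_le_centre (h : CoreSide T W V W') (Z : Subgroup T) [hZn : Z.Normal] (hZ1 : Z ≠ ⊥)
    (hfree : ∀ t : T, t ∉ ⁅T, T⁆.subgroupOf T → ∀ z ∈ Z, t * z = z * t → z = 1) :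
    Nat.card W + 1 ≤ Nat.card Z := by
  classical
  haveI : Fintype Z := Fintype.ofFinite Z
  obtain ⟨z₀, hz₀⟩ := Z.ne_bot_iff_exists_ne_one.1 hZ1
  have hWT : W ≤ T := h.typeP.W₁_compl.2.1
  let d : Option W → Z := fun o => o.elim 1 fun b =>
    ⟨⟨b, hWT b.2⟩ * (z₀ : T) * (⟨b, hWT b.2⟩ : T)⁻¹, hZn.conj_mem _ z₀.2 _⟩
  have hd : Function.Injective d := by
    rintro (_ | a) (_ | b) hab
    · rfl
    · exfalso
      exact hz₀ (Subtype.ext (conj_eq_one_iff.1 (congrArg Subtype.val hab).symm))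
    · exfalso
      exact hz₀ (Subtype.ext (conj_eq_one_iff.1 (congrArg Subtype.val hab)))
    · refine congrArg some ?_
      by_contra hne
      set x : T := ⟨a, hWT a.2⟩
      set y : T := ⟨b, hWT b.2⟩
      have e : x * (z₀ : T) * x⁻¹ = y * (z₀ : T) * y⁻¹ := congrArg Subtype.val hab
      refine hz₀ (Subtype.ext (hfree (y⁻¹ * x) (fun hm => hne ?_) z₀ z₀.2 ?_))
      · have hm' : (b : G)⁻¹ * (a : G) ∈ (⁅T, T⁆ ⊓ W : Subgroup G) :=
          ⟨mem_subgroupOf.1 hm, W.mul_mem (W.inv_mem b.2) a.2⟩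
        rw [h.typeP.W₁_compl.2.2.1, mem_bot] at hm'
        exact Subtype.ext (inv_mul_eq_one.1 hm').symm
      · calc y⁻¹ * x * (z₀ : T) = y⁻¹ * (x * z₀ * x⁻¹) * x := by group
          _ = _ := by rw [e]; group
  have := Nat.card_le_card_of_injective d hd
  rwa [Finite.card_option] at this

/-- A character `ψ` whose multiplicities on the characters nontrivial on `Z` are proportional to their
degrees has `⟨ψ|T, Φ⟩` divisible by `|R : Z| (|Z| - 1)`. -/
theorem exists_value (hTI : Cfsg.IsTISubset ((⁅T, T⁆ : Subgroup G) : Set G))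
    (hN : normalizer ((⁅T, T⁆ : Subgroup G) : Set G) = T) {q : ℕ} [Fact q.Prime] (P : Sylow q G)
    (hP : (P : Subgroup G) = ⁅T, T⁆) (hodd : Odd (Nat.card T)) (Z : Subgroup T) [hZn : Z.Normal]
    [Fintype Z] (hZR : Z ≤ ⁅T, T⁆.subgroupOf T) (hZ1 : Z ≠ ⊥)
    (hc : ∀ z ∈ Z, ∀ y ∈ ⁅T, T⁆.subgroupOf T, z * y = y * z)
    (Y : Finset (↥T → ℂ)) (hY : ∀ χ, χ ∈ Y ↔ Cfsg.IsIrrCharacter T χ ∧ ∃ z ∈ Z, χ z ≠ χ 1)
    (hYne : Y.Nonempty) {ψ : G → ℂ} (hψ : Cfsg.IsIrrCharacter G ψ)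
    (horth : ∀ χ ∈ Y, ∀ η ∈ Y, Cfsg.classInner (Cfsg.indFun T (η 1 • χ - χ 1 • η)) ψ = 0) :
    ∃ k : ℤ, Cfsg.classInner (fun t : T => ψ t) (phi Z) =
      (Z.relIndex (⁅T, T⁆.subgroupOf T) : ℂ) * ((Nat.card Z : ℂ) - 1) * k := by
  classical
  set R := ⁅T, T⁆ with hR
  set ρ : ↥T → ℂ := fun t => ψ t
  obtain ⟨χ₀, hχ₀⟩ := hYne
  have hψc := Char.IsIrrCharacter.isClassFunction hψ
  have hρc : Cfsg.IsClassFunction T ρ := fun x y => hψc x y
  have hD : χ₀ 1 ≠ 0 := Char.IsIrrCharacter.apply_one_ne_zero ((hY χ₀).1 hχ₀).1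
  have hrel : ∀ χ ∈ Y,
      Cfsg.classInner ρ χ * χ₀ 1 = χ 1 * Cfsg.classInner ρ χ₀ := by
    intro χ hχ
    have h0 := horth χ hχ χ₀ hχ₀
    rw [Char.classInner_indFun T _ ψ hψc, Char.classInner_sub_left, Char.classInner_smul_left,
      Char.classInner_smul_left] at h0
    have h1 : conj (χ₀ 1 * Cfsg.classInner χ ρ - χ 1 * Cfsg.classInner χ₀ ρ) = 0 := by
      rw [h0, map_zero]
    simp only [map_sub, map_mul, Char.classInner_conj_symm,
      OddChar.conj_apply_one (Char.IsIrrCharacter.isCharacter ((hY χ).1 hχ).1),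
      OddChar.conj_apply_one (Char.IsIrrCharacter.isCharacter ((hY χ₀).1 hχ₀).1)] at h1
    linear_combination h1
  set ZG := Z.map T.subtype
  have hval : ∀ x ∈ ZG, x ≠ 1 →
      (ψ 1 - ψ x) * χ₀ 1 = Cfsg.classInner ρ χ₀ * (Nat.card T : ℂ) := by
    rintro _ ⟨z, hz, rfl⟩ hz1
    exact OddChar.Sibley.value_on_Z Z Y hY hρc _ _ hD hrel hz
      fun e => hz1 (by rw [e]; rfl)
  obtain ⟨z₁, hz₁, hz₁1⟩ : ∃ x ∈ ZG, x ≠ 1 := by
    obtain ⟨⟨z, hz⟩, hz1⟩ := Z.ne_bot_iff_exists_ne_one.1 hZ1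
    exact ⟨(z : G), ⟨z, hz, rfl⟩, fun h => hz1 (Subtype.ext (Subtype.ext h))⟩
  have hconst : ∀ x ∈ ZG, x ≠ 1 → ψ x = ψ z₁ := fun x hx hx1 => by
    have e := mul_right_cancel₀ hD ((hval x hx hx1).trans (hval z₁ hz₁ hz₁1).symm)
    linear_combination -e
  obtain ⟨n, d, hn, hd, k, hk⟩ := OddChar.PairCount.congruence q P (by rw [hP]; exact hTI)
    (by rw [hP, hN]; exact hodd) ZG
    (by rw [hP]; rintro _ ⟨z, hz, rfl⟩; exact mem_subgroupOf.1 (hZR hz))
    (by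
      rw [hP, hN]
      rintro x hx _ ⟨z, hz, rfl⟩
      exact ⟨⟨x, hx⟩ * z * (⟨x, hx⟩ : T)⁻¹, hZn.conj_mem z hz _, rfl⟩)
    (by
      rw [hP]
      rintro _ ⟨z, hz, rfl⟩ y hy
      have hyT : y ∈ T := hN.le (le_normalizer hy)
      exact congrArg Subtype.val (hc z hz ⟨y, hyT⟩ (mem_subgroupOf.2 hy)))
    hψ hz₁ hz₁1 hconst
  refine ⟨k, ?_⟩
  have hsum : ∑ z : Z, ρ z = (ψ 1 - ψ z₁) + (Nat.card Z : ℂ) * ψ z₁ := by
    have hterm : ∀ z : Z, ρ z = (if z = 1 then ψ 1 - ψ z₁ else 0) + ψ z₁ := by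
      intro z
      split_ifs with hz
      · subst hz; simp [ρ]
      · rw [zero_add]
        exact hconst _ ⟨_, z.2, rfl⟩ fun e => hz (Subtype.ext (Subtype.ext e))
    rw [Finset.sum_congr rfl (fun z _ => hterm z), Finset.sum_add_distrib,
      Finset.sum_ite_eq' Finset.univ (1 : Z), if_pos (Finset.mem_univ _), Finset.sum_const,
      Finset.card_univ, ← Nat.card_eq_fintype_card, nsmul_eq_mul]
  have hcardR : Nat.card (P : Subgroup G) = Nat.card Z * Z.relIndex (R.subgroupOf T) := by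
    have hRT : R ≤ T := le_normalizer.trans hN.le
    rw [hP, ← Nat.card_congr (subgroupOfEquivOfLe hRT).toEquiv,
      ← OddChar.CentralPart.relIndex_mul_card hZR, mul_comm]
  have hk' : (d : ℂ) - n = (Nat.card Z : ℂ) * (Z.relIndex (R.subgroupOf T) : ℂ) * k := by
    have hkc : ((d - n : ℤ) : ℂ) = (((Nat.card (P : Subgroup G) : ℤ) * k : ℤ) : ℂ) := by rw [hk]
    rw [hcardR] at hkc
    push_cast at hkc
    exact hkc
  rw [inner_phi, hsum, show ρ 1 = ψ 1 from rfl, hn, hd]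
  have hz : (Nat.card Z : ℂ) ≠ 0 := Nat.cast_ne_zero.2 Nat.card_pos.ne'
  field_simp
  linear_combination ((Nat.card Z : ℂ) - 1) * hk'

end LinkedTI

include hG

open LinkedTI in
theorem linked_free (h : CoreSide T W V W') (hnil : Group.IsNilpotent ↥⁅T, T⁆)
    (hp : ∃ n : ℕ, Nat.card ↥⁅T, T⁆ = Nat.card W' ^ n)
    (hTI : Cfsg.IsTISubset ((⁅T, T⁆ : Subgroup G) : Set G)) (hN : normalizer ((⁅T, T⁆ : Subgroup G) : Set G) = T)
    (hZ : ¬ W' ≤ centralizer ((⁅T, T⁆ : Subgroup G) : Set G)) : Linked T W := by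
  classical
  have hRT : ⁅T, T⁆ ≤ T := le_normalizer.trans hN.le
  haveI hHn : (⁅T, T⁆.subgroupOf T).Normal :=
    (normal_subgroupOf_iff_le_normalizer hRT).2 hN.ge
  set H := ⁅T, T⁆.subgroupOf T with hH
  obtain ⟨Z, hZn, hZ1, hZR', hZH, hcent, hfree⟩ := exists_centre h hnil hHn hZ
  haveI := hZn
  haveI : Fintype H := Fintype.ofFinite H
  haveI : Fintype Z := Fintype.ofFinite Z
  haveI : Fact (Nat.card W').Prime := ⟨h.q_prime⟩
  -- the orders
  have hidx : H.index = Nat.card W := by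
    have hc : IsComplement' H (W.subgroupOf T) := by
      obtain ⟨-, hWT, hdis, hmul⟩ := h.typeP.W₁_compl
      refine isComplement'_of_disjoint_and_mul_eq_univ ?_ ?_
      · rw [disjoint_iff, eq_bot_iff]
        rintro x ⟨hx1, hx2⟩
        have : (x : G) ∈ ⁅T, T⁆ ⊓ W := ⟨mem_subgroupOf.1 hx1, mem_subgroupOf.1 hx2⟩
        rw [hdis, mem_bot] at this
        exact mem_bot.2 (Subtype.ext this)
      · refine Set.eq_univ_of_forall fun x => ?_
        obtain ⟨a, ha, b, hb, e⟩ := hmul (x : G) x.2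
        exact ⟨⟨a, hRT ha⟩, mem_subgroupOf.2 ha, ⟨b, hWT hb⟩, mem_subgroupOf.2 hb,
          Subtype.ext e.symm⟩
    rw [hc.symm.index_eq_card, Nat.card_congr (subgroupOfEquivOfLe h.typeP.W₁_compl.2.1).toEquiv]
  have hGodd : Odd (Nat.card G) := hG.1
  have hTodd : Odd (Nat.card T) := hGodd.of_dvd_nat T.card_subgroup_dvd_card
  have hpH : ∃ k, Nat.card H = Nat.card W' ^ k := by
    rw [Nat.card_congr (subgroupOfEquivOfLe hRT).toEquiv]; exact hp
  have hqW : (Nat.card W').Coprime (Nat.card W) := by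
    refine h.coprime.coprime_dvd_left (card_dvd_of_le (h.typeP.W₂_le.trans ?_))
    exact inf_le_right.trans (commutator_le.2 fun a ha b hb => by
      rw [commutatorElement_def]
      exact mul_mem (mul_mem (mul_mem ha hb) (inv_mem ha)) (inv_mem hb))
  obtain ⟨P, hP⟩ := exists_sylow (T := T) (q := Nat.card W') (IsPGroup.iff_card.2 hp) hN
    (show (Nat.card W').Coprime H.index by rw [hidx]; exact hqW)
  -- the family
  obtain ⟨hXfacts, -, -, hm2, -⟩ := linChars_facts hG h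
  obtain ⟨f₀, hf₀⟩ := exists_linMap hG h
  obtain ⟨μ, θ, hμ⟩ := exists_fixedInd hG h
  obtain ⟨hθw, -⟩ := fixedInd_degree hG h hμ
  have hXfin : (linChars T).Finite := (Set.finite_range fun χ : Cfsg.IrrCharacter T =>
    (χ : ↥T → ℂ)).subset fun φ hφ => ⟨⟨φ, (hXfacts φ hφ).1⟩, rfl⟩
  obtain ⟨X, hXset⟩ := hXfin.exists_finset_coe
  have hXmem : ∀ ξ, ξ ∈ X ↔ ξ ∈ linChars T := fun ξ => by rw [← hXset]; rfl
  have hXcard : 2 ≤ X.card := by
    rwa [← hXset, Nat.card_coe_set_eq, Set.ncard_coe_finset] at hm2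
  have hXS : linChars T ⊆ Cfsg.inducedIrrAbove H ⊥ := OddChar.Above.above_mono H bot_le
  have hXconst : ∀ ξ ∈ linChars T, ∀ z ∈ Z, ξ z = ξ 1 := by
    rintro _ ⟨lam, -, -, hlam, rfl⟩ z hz
    exact indFun_const H Z hZH (fun a ha => hlam a (hZR' ha)) hz
  -- the characters nontrivial on `Z`
  have hSirr : ∀ φ ∈ Cfsg.inducedIrrAbove H ⊥ \ Cfsg.inducedIrrAbove H Z,
      Cfsg.IsIrrCharacter T φ := by
    rintro _ ⟨⟨φ, hφ, hφ1, -, rfl⟩, hn⟩
    refine indFun_irr H Z hZH hcent hfree hφ ?_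
    by_contra hcon
    push Not at hcon
    exact hn ⟨φ, hφ, hφ1, fun a ha => hcon a ha, rfl⟩
  obtain ⟨hiso, hiso1⟩ := OddChar.Sibley.ind_isometry ⁅T, T⁆ T hN.symm hTI
  set τ : (↥T → ℂ) → (G → ℂ) := fun α => Cfsg.indFun T α with hτ
  have hsubS : Cfsg.inducedIrrAbove H ⊥ \ Cfsg.inducedIrrAbove H Z ⊆
      Cfsg.inducedIrrAbove H ⊥ := Set.sdiff_subset
  obtain ⟨hYset, hYcoh⟩ := OddChar.CentralGen.central_part_coherent' H h.q_prime
    (fun h2 => by
      have := card_dvd_of_le (le_top : W' ≤ ⊤)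
      rw [h2, card_top] at this
      exact Nat.not_even_iff_odd.2 hGodd (even_iff_two_dvd.2 this))
    hpH (hTodd.of_dvd_nat H.index_dvd_card) (by rw [hidx]; exact hqW) Z hZ1 hZH hcent hSirr
    (OddChar.Irr.isometry_mono hiso hsubS)
    (fun α hα => hiso1 α (OddChar.Coh.zspanOn_mono hsubS hα))
  obtain ⟨Y, hY, hYeq, -⟩ := OddChar.CentralGen.exists_central_data' H Z hZH hSirr
  rw [← hYeq] at hYcoh
  have hYS : (↑Y : Set (↥T → ℂ)) ⊆ Cfsg.inducedIrrAbove H ⊥ := hYeq ▸ hsubS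
  have hYirr : ∀ φ ∈ (↑Y : Set (↥T → ℂ)), Cfsg.IsIrrCharacter T φ := fun φ hφ => ((hY φ).1 hφ).1
  have hY2 := OddChar.Sibley.exists_two_of_coherent hYirr hYcoh
  obtain ⟨-, g, hg, hgτ⟩ := hYcoh
  have hXY : Disjoint (linChars T) (↑Y : Set (↥T → ℂ)) :=
    Set.disjoint_left.2 fun ξ hξ hξY => by
      obtain ⟨-, z, hz, hne⟩ := (hY ξ).1 hξY
      exact hne (hXconst ξ hξ z hz)
  have hX2 : ∃ a ∈ linChars T, ∃ b ∈ linChars T, a ≠ b := by
    obtain ⟨a, ha, b, hb, hab⟩ := Finset.one_lt_card.1 hXcard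
    exact ⟨a, (hXmem a).1 ha, b, (hXmem b).1 hb, hab⟩
  obtain ⟨ζ, hζ⟩ : ∃ ζ, ζ ∈ linChars T := let ⟨a, ha, _⟩ := hX2; ⟨a, ha⟩
  have hone : ∀ x ∈ linChars T, ∀ y ∈ linChars T,
      Cfsg.classInner x y = if x = y then 1 else 0 := by
    intro x hx y hy
    split_ifs with e
    · rw [e]; exact Char.classInner_irr_self (hXfacts y hy).1
    · exact Char.classInner_irr_of_ne (hXfacts x hx).1 (hXfacts y hy).1 e
  have hXcore : ∀ ξ ∈ linChars T, ∀ ξ' ∈ linChars T,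
      ξ - ξ' ∈ Cfsg.zspanOn (linChars T) {1}ᶜ := fun ξ hξ ξ' hξ' =>
    OddChar.Coh.mem_zspanOn_iff.2 ⟨Submodule.sub_mem _ (mem_zspan_self hξ) (mem_zspan_self hξ'),
      by simp [(hXfacts ξ hξ).2, (hXfacts ξ' hξ').2]⟩
  -- integral data
  set w := Nat.card W with hw
  set N := Z.relIndex H with hNdef
  set M := N * (Nat.card Z - 1) with hMdef
  have hzw : w + 1 ≤ Nat.card Z := card_le_centre h Z hZ1 hfree
  have hN0 : 0 < N := Nat.pos_of_ne_zero (index_ne_zero_of_finite (H := Z.subgroupOf H))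
  have hw2 : 2 ≤ w := by
    have h1 : 1 < w := one_lt_card_iff_ne_bot W |>.2 h.typeP.W₁_ne
    omega
  have hzR : (Nat.card Z : ℂ) - 1 = ((Nat.card Z - 1 : ℕ) : ℂ) := by
    rw [Nat.cast_sub Nat.card_pos]; simp
  have hMc : (M : ℂ) = (N : ℂ) * ((Nat.card Z : ℂ) - 1) := by rw [hzR, hMdef, Nat.cast_mul]
  have hZi : (Z.index : ℂ) = (N : ℂ) * (w : ℂ) := by
    rw [← relIndex_mul_index hZH, hidx, Nat.cast_mul]
  have hθN : θ ^ 2 ≤ N := by
    obtain ⟨⟨φ, hφ, -, -, e⟩, -, h1⟩ := hμ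
    rw [e, Char.indFun_apply_one, hidx] at h1
    have hφ1 : φ 1 = (θ : ℂ) := mul_left_cancel₀ (Nat.cast_ne_zero.2 (by omega)) h1
    have hdeg : Cfsg.charDegree φ = θ := by
      have := CharTools.degree_cast (Char.IsIrrCharacter.isCharacter hφ)
      rw [hφ1] at this
      exact_mod_cast this
    rw [← hdeg]
    exact OddChar.CentralPart.sq_le_relIndex H Z hZH hcent hφ
  have hMw : w < M := by
    have h1 : 9 ≤ θ ^ 2 := by
      have : 3 ≤ θ := by omega
      nlinarith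
    calc w < 2 * w := by omega
      _ ≤ N * (Nat.card Z - 1) := Nat.mul_le_mul (by omega) (by omega)
  have hμch : Cfsg.IsCharacter T μ := by
    obtain ⟨⟨φ, hφ, -, -, rfl⟩, -, -⟩ := hμ
    exact Char.IsCharacter.indFun _ (Char.IsIrrCharacter.isCharacter hφ)
  have hμconst : ∀ z ∈ Z, μ z = μ 1 := by
    obtain ⟨⟨φ, hφ, -, -, rfl⟩, hnorm, -⟩ := hμ
    intro z hz
    refine indFun_const H Z hZH (fun a ha => ?_) hz
    by_contra hne
    have h1 := Char.classInner_irr_self (indFun_irr H Z hZH hcent hfree hφ ⟨a, ha, hne⟩)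
    rw [hnorm] at h1
    have : w = 1 := by exact_mod_cast h1
    omega
  have hμX : ∀ ξ ∈ linChars T, Cfsg.classInner μ ξ = 0 := by
    intro ξ hξ
    obtain ⟨⟨φ, hφ, -, -, rfl⟩, hnorm, -⟩ := hμ
    obtain ⟨lam, hlam, -, -, rfl⟩ := id hξ
    have h1 := CharTwist.card_mul_classInner_indFun H hφ hlam
    have h2 : IsEmpty {x : T // CharTwist.conjFun H lam x = φ} := ⟨fun ⟨x, hx⟩ => by
      have he : Cfsg.indFun H φ = Cfsg.indFun H lam := by
        rw [← hx, OddChar.Above.indFun_conjFun H hlam]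
      rw [he, Char.classInner_irr_self (hXfacts _ hξ).1] at hnorm
      have : w = 1 := by exact_mod_cast hnorm.symm
      omega⟩
    rw [@Nat.card_of_isEmpty _ h2, Nat.cast_zero] at h1
    exact (mul_eq_zero.1 h1).resolve_left (Nat.cast_ne_zero.2 Nat.card_pos.ne')
  -- the two functions on `T`
  set α : ↥T → ℂ := μ - (θ : ℂ) • ζ with hα
  set β : ↥T → ℂ := phi Z - (M : ℂ) • ζ with hβ
  have hind_off : ∀ φ ∈ Cfsg.inducedIrrAbove H ⊥, Cfsg.IsClassFunction T φ ∧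
      ∀ x : T, (x : G) ∉ ⁅T, T⁆ → φ x = 0 := by
    rintro _ ⟨lam, -, -, -, rfl⟩
    exact ⟨Char.isClassFunction_indFun _ _, fun x hx =>
      Char.indFun_eq_zero_of_normal _ _ fun hh => hx (mem_subgroupOf.1 hh)⟩
  obtain ⟨hζc, hζoff⟩ := hind_off ζ (hXS hζ)
  have hαc : OnCore ⁅T, T⁆ α := by
    obtain ⟨hc, hoff⟩ := hind_off μ hμ.1
    refine ⟨fun x y => ?_, fun x hx => ?_, ?_⟩
    · simp only [hα, Pi.sub_apply, Pi.smul_apply]; rw [hc x y, hζc x y]
    · simp [hα, hoff x hx, hζoff x hx]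
    · simp only [hα, Pi.sub_apply, Pi.smul_apply, smul_eq_mul, hμ.2.2, (hXfacts ζ hζ).2]
      rw [← hw]; ring
  have hβc : OnCore ⁅T, T⁆ β := by
    refine ⟨fun x y => ?_, fun x hx => ?_, ?_⟩
    · simp only [hβ, Pi.sub_apply, Pi.smul_apply]; rw [phi_class Z x y, hζc x y]
    · simp [hβ, phi_off Z (fun hh => hx (mem_subgroupOf.1 (hZH hh))), hζoff x hx]
    · simp only [hβ, Pi.sub_apply, Pi.smul_apply, smul_eq_mul, phi_one, hZi,
        (hXfacts ζ hζ).2, hMc]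
      ring
  have hdc : ∀ ξ ∈ linChars T, OnCore ⁅T, T⁆ (ξ - ζ) := fun ξ hξ =>
    OnCore.of_span (H := H) rfl (hXcore ξ hξ ζ hζ)
  have hconjnat : ∀ n : ℕ, conj (n : ℂ) = (n : ℂ) := fun n => map_natCast _ n
  have hphi_left : ∀ x : ↥T → ℂ, (∀ z ∈ Z, x z = x 1) → Cfsg.classInner (phi Z) x = 0 :=
    fun x hx => by rw [← Char.classInner_conj_symm, inner_phi_const Z hx, map_zero]
  have hζμ : Cfsg.classInner ζ μ = 0 := by
    rw [← Char.classInner_conj_symm, hμX ζ hζ, map_zero]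
  have hαα : Cfsg.classInner α α = (w : ℂ) + (θ : ℂ) ^ 2 := by
    simp only [hα, Char.classInner_sub_left, Char.classInner_sub_right,
      Char.classInner_smul_left, Char.classInner_smul_right, hμ.2.1, hμX ζ hζ, hζμ,
      hone ζ hζ ζ hζ, if_true, hconjnat]
    rw [← hw]; ring
  have hββ : Cfsg.classInner β β = (w : ℂ) * M + (M : ℂ) ^ 2 := by
    simp only [hβ, Char.classInner_sub_left, Char.classInner_sub_right,
      Char.classInner_smul_left, Char.classInner_smul_right, phi_norm,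
      inner_phi_const Z (hXconst ζ hζ), hphi_left ζ (hXconst ζ hζ),
      hone ζ hζ ζ hζ, if_true, hconjnat, hZi]
    rw [hMc]; ring
  have hαβ : Cfsg.classInner α β = (θ : ℂ) * M := by
    simp only [hα, hβ, Char.classInner_sub_left, Char.classInner_sub_right,
      Char.classInner_smul_left, Char.classInner_smul_right, inner_phi_const Z hμconst,
      inner_phi_const Z (hXconst ζ hζ), hμX ζ hζ, hone ζ hζ ζ hζ, if_true, hconjnat]
    ring
  have hαd : ∀ ξ ∈ linChars T, ξ ≠ ζ → Cfsg.classInner α (ξ - ζ) = (θ : ℂ) := by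
    intro ξ hξ hne
    simp only [hα, Char.classInner_sub_left, Char.classInner_sub_right,
      Char.classInner_smul_left, hμX ξ hξ, hμX ζ hζ, hone ζ hζ ζ hζ, hone ζ hζ ξ hξ, if_true,
      if_neg (Ne.symm hne)]
    ring
  have hβd : ∀ ξ ∈ linChars T, ξ ≠ ζ → Cfsg.classInner β (ξ - ζ) = (M : ℂ) := by
    intro ξ hξ hne
    simp only [hβ, Char.classInner_sub_left, Char.classInner_sub_right,
      Char.classInner_smul_left, hphi_left ξ (hXconst ξ hξ), hphi_left ζ (hXconst ζ hζ),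
      hone ζ hζ ζ hζ, hone ζ hζ ξ hξ, if_true, if_neg (Ne.symm hne)]
    ring
  -- coefficients on a family
  have hIlin : Cfsg.IsLinearIsometryOn
      (Cfsg.zspanOn (linChars T ∪ ↑Y) {1}ᶜ) τ :=
    OddChar.Irr.isometry_mono hiso (Set.union_subset hXS hYS)
  have hcoef : ∀ f, IsLinMap T f → ∃ a b : ℤ, ∀ ξ ∈ linChars T,
      Cfsg.classInner (τ α) (f ξ) = ((a - if ξ = ζ then (θ : ℤ) else 0 : ℤ) : ℂ) ∧
      Cfsg.classInner (τ β) (f ξ) =
        (((M : ℤ) * (b - if ξ = ζ then 1 else 0) : ℤ) : ℂ) := by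
    intro f hf
    have hfτ : ∀ γ ∈ Cfsg.zspanOn (linChars T) {1}ᶜ, f γ = τ γ := fun γ hγ => by
      rw [hf.2 γ hγ]
      exact tauCore_eq hTI hN h.core_eq (OnCore.of_span (H := H) rfl hγ)
    have horth := OddChar.Coh.union_orth (linChars T ∪ ↑Y) (linChars T) ↑Y
      (fun φ hφ => hφ.elim (fun hh => (hXfacts φ hh).1) (hYirr φ))
      Set.subset_union_left Set.subset_union_right hXY hX2 hY2 hIlin
      (fun γ hγ => hiso1 γ (OddChar.Coh.zspanOn_mono (Set.union_subset hXS hYS) hγ))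
      hf.1 hfτ hg hgτ
    have hfζ := hf.1.2.2.2 ζ (mem_zspan_self hζ)
    have hnζ : Cfsg.classInner (f ζ) (f ζ) = 1 := by
      rw [hf.1.2.2.1 _ (mem_zspan_self hζ) _ (mem_zspan_self hζ), hone ζ hζ ζ hζ, if_pos rfl]
    obtain ⟨ψ, s, hψ, hs, hfs⟩ : ∃ (ψ : G → ℂ) (s : ℤ), Cfsg.IsIrrCharacter G ψ ∧
        (s = 1 ∨ s = -1) ∧ f ζ = (s : ℂ) • ψ := by
      rcases OddChar.irr_or_neg_of_norm_one hfζ hnζ with hh | hh
      · exact ⟨_, 1, hh, Or.inl rfl, by simp⟩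
      · exact ⟨_, -1, hh, Or.inr rfl, by simp⟩
    have hs0 : (s : ℂ) ≠ 0 := by rcases hs with rfl | rfl <;> norm_num
    have hψo : ∀ η ∈ Y, Cfsg.classInner (g η) ψ = 0 := fun η hη => by
      have h1 : Cfsg.classInner (g η) (f ζ) = 0 := by
        rw [← Char.classInner_conj_symm, horth ζ hζ η hη, map_zero]
      rw [hfs, Char.classInner_smul_right, map_intCast] at h1
      exact (mul_eq_zero.1 h1).resolve_left hs0
    have hval : ∃ k : ℤ, Cfsg.classInner (fun t : T => ψ t) (phi Z) =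
        (M : ℂ) * k := by
      obtain ⟨a, ha, -⟩ := hY2
      rw [hMc]
      refine exists_value hTI hN P hP hTodd Z hZH hZ1 hcent Y hY ⟨a, ha⟩ hψ
        fun χ hχ η hη => ?_
      obtain ⟨d, hd⟩ := Char.IsCharacter.exists_degree
        (Char.IsIrrCharacter.isCharacter (hYirr χ hχ))
      obtain ⟨e, he⟩ := Char.IsCharacter.exists_degree
        (Char.IsIrrCharacter.isCharacter (hYirr η hη))
      have hcomb : (η 1 • χ - χ 1 • η : ↥T → ℂ) = (e : ℤ) • χ - (d : ℤ) • η := by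
        rw [hd, he, ← OddChar.Coh.natCast_smul_eq, ← OddChar.Coh.natCast_smul_eq]
      have hmem : (e : ℤ) • χ - (d : ℤ) • η ∈ Cfsg.zspanOn (↑Y : Set (↥T → ℂ)) {1}ᶜ :=
        OddChar.Coh.mem_zspanOn_iff.2 ⟨Submodule.sub_mem _
          (Submodule.smul_mem _ _ (mem_zspan_self hχ)) (Submodule.smul_mem _ _ (mem_zspan_self hη)),
          by simp [hd, he]; ring⟩
      rw [hcomb]
      show Cfsg.classInner (τ _) ψ = 0
      rw [← hgτ _ hmem, OddChar.Coh.zspan_isometry_sub hg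
        (Submodule.smul_mem _ _ (mem_zspan_self hχ)) (Submodule.smul_mem _ _ (mem_zspan_self hη)),
        hg.2.1 χ (mem_zspan_self hχ), hg.2.1 η (mem_zspan_self hη), Char.classInner_sub_left,
        OddChar.Coh.classInner_zsmul_left, OddChar.Coh.classInner_zsmul_left, hψo χ hχ, hψo η hη,
        mul_zero, mul_zero, sub_zero]
    obtain ⟨k, hk⟩ := hval
    have hψc := Char.IsIrrCharacter.isClassFunction hψ
    have hres : Cfsg.IsCharacter T (fun t : T => ψ t) :=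
      Char.IsCharacter.restrict (Char.IsIrrCharacter.isCharacter hψ) T
    obtain ⟨iμ, hiμ⟩ := Char.IsCharacter.exists_nat_classInner' hμch hres
    obtain ⟨iζ, hiζ⟩ := Char.IsCharacter.exists_nat_classInner'
      (Char.IsIrrCharacter.isCharacter (hXfacts ζ hζ).1) hres
    have hk' : Cfsg.classInner (phi Z) (fun t : T => ψ t) = (M : ℂ) * k := by
      rw [← Char.classInner_conj_symm, hk]; simp
    have eα : Cfsg.classInner (τ α) (f ζ) =
        ((s * ((iμ : ℤ) - θ * iζ) : ℤ) : ℂ) := by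
      rw [hfs, Char.classInner_smul_right, map_intCast]
      show (s : ℂ) * Cfsg.classInner (Cfsg.indFun T α) ψ = _
      rw [Char.classInner_indFun T α ψ hψc, hα, Char.classInner_sub_left,
        Char.classInner_smul_left, hiμ, hiζ]
      push_cast; ring
    have eβ : Cfsg.classInner (τ β) (f ζ) =
        (((M : ℤ) * (s * (k - iζ)) : ℤ) : ℂ) := by
      rw [hfs, Char.classInner_smul_right, map_intCast]
      show (s : ℂ) * Cfsg.classInner (Cfsg.indFun T β) ψ = _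
      rw [Char.classInner_indFun T β ψ hψc, hβ, Char.classInner_sub_left,
        Char.classInner_smul_left, hk', hiζ]
      push_cast; ring
    have hdiff : ∀ γ, OnCore ⁅T, T⁆ γ → ∀ ξ ∈ linChars T, Cfsg.classInner (τ γ) (f ξ) =
        Cfsg.classInner γ (ξ - ζ) + Cfsg.classInner (τ γ) (f ζ) := by
      intro γ hγ ξ hξ
      rw [← inner_ind hTI hN hγ (hdc ξ hξ)]
      show _ = Cfsg.classInner (τ γ) (τ (ξ - ζ)) + _
      rw [← hfτ _ (hXcore ξ hξ ζ hζ),
        OddChar.Coh.zspan_isometry_sub hf.1 (mem_zspan_self hξ) (mem_zspan_self hζ),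
        Char.classInner_sub_right, sub_add_cancel]
    refine ⟨s * ((iμ : ℤ) - θ * iζ) + θ, s * (k - iζ) + 1, fun ξ hξ => ?_⟩
    by_cases e : ξ = ζ
    · subst e
      simp only [if_true, add_sub_cancel_right]
      exact ⟨eα, eβ⟩
    · rw [if_neg e, if_neg e, hdiff α hαc ξ hξ, hdiff β hβc ξ hξ, hαd ξ hξ e, hβd ξ hξ e, eα, eβ]
      constructor <;> (push_cast; ring)
  -- normalise the coefficient of `τ β`
  have hnorm : ∀ f, IsLinMap T f → ∀ b : ℤ,
      (∀ ξ ∈ linChars T, Cfsg.classInner (τ β) (f ξ) =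
        (((M : ℤ) * (b - if ξ = ζ then 1 else 0) : ℤ) : ℂ)) →
      b = 0 ∨ b = 1 ∧ X.card = 2 := by
    intro f hf b hb
    obtain ⟨hbes, -⟩ := OddChar.Coh.bessel X f (τ β)
      (fun i hi j hj hij => by
        rw [hf.1.2.2.1 _ (mem_zspan_self ((hXmem i).1 hi)) _ (mem_zspan_self ((hXmem j).1 hj)),
          hone i ((hXmem i).1 hi) j ((hXmem j).1 hj), if_neg hij])
      (fun _ => 1) (fun ξ => (((M : ℤ) * (b - if ξ = ζ then 1 else 0) : ℤ) : ℝ))
      (fun i hi => by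
        rw [hf.1.2.2.1 _ (mem_zspan_self ((hXmem i).1 hi)) _ (mem_zspan_self ((hXmem i).1 hi)),
          hone i ((hXmem i).1 hi) i ((hXmem i).1 hi), if_pos rfl, Complex.ofReal_one])
      (fun _ _ => one_pos)
      (fun i hi => by rw [hb i ((hXmem i).1 hi), Complex.ofReal_intCast])
    have hre : (Cfsg.classInner (τ β) (τ β)).re = (((w : ℤ) * M + (M : ℤ) ^ 2 : ℤ) : ℝ) := by
      show (Cfsg.classInner (Cfsg.indFun T β) (Cfsg.indFun T β)).re = _
      rw [inner_ind hTI hN hβc hβc, hββ]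
      simp [pow_two]
    simp only [div_one] at hbes
    rw [hre] at hbes
    have hle : ∑ ξ ∈ X, ((M : ℤ) * (b - if ξ = ζ then 1 else 0)) ^ 2 ≤
        (w : ℤ) * M + (M : ℤ) ^ 2 := by exact_mod_cast hbes
    have hsum : ∑ ξ ∈ X, ((M : ℤ) * (b - if ξ = ζ then 1 else 0)) ^ 2 =
        (M : ℤ) ^ 2 * ((X.card : ℤ) * b ^ 2 - 2 * b + 1) := by
      have hh : ∀ ξ ∈ X, ((M : ℤ) * (b - if ξ = ζ then 1 else 0)) ^ 2 =
          (M : ℤ) ^ 2 * b ^ 2 + if ξ = ζ then (M : ℤ) ^ 2 * (1 - 2 * b) else 0 := by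
        intro ξ _
        split_ifs <;> ring
      rw [Finset.sum_congr rfl hh, Finset.sum_add_distrib, Finset.sum_const, nsmul_eq_mul,
        Finset.sum_ite_eq', if_pos ((hXmem ζ).2 hζ)]
      ring
    rw [hsum] at hle
    rcases projection_cases (m := (X.card : ℤ)) (b := b) (by omega) hMw
      (by exact_mod_cast hXcard) (by linarith) with hh | ⟨h1, h2⟩
    · exact Or.inl hh
    · exact Or.inr ⟨h1, by exact_mod_cast h2⟩
  obtain ⟨f, hf, a, hfa, hfb⟩ : ∃ f, IsLinMap T f ∧ ∃ a : ℤ,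
      (∀ ξ ∈ linChars T, Cfsg.classInner (τ α) (f ξ) =
        ((a - if ξ = ζ then (θ : ℤ) else 0 : ℤ) : ℂ)) ∧
      (∀ ξ ∈ linChars T, Cfsg.classInner (τ β) (f ξ) =
        (((M : ℤ) * (0 - if ξ = ζ then 1 else 0) : ℤ) : ℂ)) := by
    obtain ⟨a, b, hab⟩ := hcoef f₀ hf₀
    rcases hnorm f₀ hf₀ b (fun ξ hξ => (hab ξ hξ).2) with hb | ⟨hb, hcard⟩
    · exact ⟨f₀, hf₀, a, fun ξ hξ => (hab ξ hξ).1, fun ξ hξ => by simpa [hb] using (hab ξ hξ).2⟩
    obtain ⟨ζ', hζ', hne⟩ := Finset.exists_mem_ne (by omega : 1 < X.card) ζ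
    have hXeq : X = {ζ, ζ'} := (Finset.eq_of_subset_of_card_le
      (Finset.insert_subset ((hXmem ζ).2 hζ) (Finset.singleton_subset_iff.2 hζ'))
      (by rw [hcard, Finset.card_pair hne.symm])).symm
    have hpair : linChars T = {ζ, ζ'} := by rw [← hXset, hXeq]; simp
    have hζ'' := (hXmem ζ').1 hζ'
    obtain ⟨f₁, h1, h2, h3⟩ := OddChar.Sibley.swap_two (hXfacts ζ hζ).1 (hXfacts ζ' hζ'').1
      hne.symm (by rw [(hXfacts ζ hζ).2, (hXfacts ζ' hζ'').2]) (hpair ▸ hf₀.1) (hpair ▸ hf₀.2)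
    have hf₁ : IsLinMap T f₁ := ⟨hpair ▸ h1, hpair ▸ h2⟩
    obtain ⟨a₁, b₁, hab₁⟩ := hcoef f₁ hf₁
    refine ⟨f₁, hf₁, a₁, fun ξ hξ => (hab₁ ξ hξ).1, ?_⟩
    have hb₁ : b₁ = 0 := by
      have e1 := (hab₁ ζ hζ).2
      rw [h3, Char.classInner_neg_right, (hab ζ' hζ'').2, if_pos rfl, if_neg hne, hb] at e1
      have e2 : -((M : ℤ) * (1 - 0)) = (M : ℤ) * (b₁ - 1) := by exact_mod_cast e1
      have : (M : ℤ) * b₁ = 0 := by linarith
      exact (mul_eq_zero.1 this).resolve_left (by omega)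
    exact fun ξ hξ => by simpa [hb₁] using (hab₁ ξ hξ).2
  -- Bessel with the rest of `τ β`
  set v₀ : G → ℂ := τ β + (M : ℂ) • f ζ with hv₀
  have hfo : ∀ x ∈ linChars T, ∀ y ∈ linChars T,
      Cfsg.classInner (f x) (f y) = if x = y then 1 else 0 := fun x hx y hy => by
    rw [hf.1.2.2.1 _ (mem_zspan_self hx) _ (mem_zspan_self hy), hone x hx y hy]
  have hv₀f : ∀ ξ ∈ linChars T, Cfsg.classInner v₀ (f ξ) = 0 := by
    intro ξ hξ
    rw [hv₀, Char.classInner_add_left, Char.classInner_smul_left, hfb ξ hξ, hfo ζ hζ ξ hξ]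
    by_cases e : ξ = ζ
    · subst e; simp
    · rw [if_neg e, if_neg (Ne.symm e)]; simp
  have hv₀v : Cfsg.classInner v₀ v₀ = (w : ℂ) * M := by
    have e1 : Cfsg.classInner (τ β) (f ζ) = -(M : ℂ) := by rw [hfb ζ hζ, if_pos rfl]; simp
    have e2 : Cfsg.classInner (f ζ) (τ β) = -(M : ℂ) := by
      rw [← Char.classInner_conj_symm, e1]; simp
    have e3 : Cfsg.classInner (τ β) (τ β) = (w : ℂ) * M + (M : ℂ) ^ 2 :=
      (inner_ind hTI hN hβc hβc).trans hββ
    simp only [hv₀, Char.classInner_add_left, Char.classInner_add_right,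
      Char.classInner_smul_left, Char.classInner_smul_right, e1, e2, e3, hfo ζ hζ ζ hζ, if_true,
      hconjnat]
    ring
  have hαv : Cfsg.classInner (τ α) v₀ = ((((M : ℤ) * a : ℤ) : ℝ) : ℂ) := by
    rw [hv₀, Char.classInner_add_right, Char.classInner_smul_right, hfa ζ hζ, if_pos rfl, hconjnat,
      show Cfsg.classInner (τ α) (τ β) = (θ : ℂ) * M from
        (inner_ind hTI hN hαc hβc).trans hαβ]
    push_cast; ring
  let F : Option (↥T → ℂ) → G → ℂ := fun o => o.elim v₀ f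
  obtain ⟨hbes, -⟩ := OddChar.Coh.bessel (Finset.insertNone X) F (τ α)
    (by
      rintro (_ | i) hi (_ | j) hj hij <;>
        simp only [Finset.some_mem_insertNone, Finset.none_mem_insertNone] at hi hj
      · exact absurd rfl hij
      · exact hv₀f j ((hXmem j).1 hj)
      · show Cfsg.classInner (f i) v₀ = 0
        rw [← Char.classInner_conj_symm, hv₀f i ((hXmem i).1 hi), map_zero]
      · show Cfsg.classInner (f i) (f j) = 0
        rw [hfo i ((hXmem i).1 hi) j ((hXmem j).1 hj), if_neg fun e => hij (congrArg some e)])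
    (fun o => o.elim ((w : ℝ) * M) fun _ => 1)
    (fun o => o.elim (((M : ℤ) * a : ℤ) : ℝ)
      fun ξ => ((a - if ξ = ζ then (θ : ℤ) else 0 : ℤ) : ℝ))
    (by
      rintro (_ | i) hi
      · exact hv₀v.trans (by simp)
      · simp only [Finset.some_mem_insertNone] at hi
        exact (hfo i ((hXmem i).1 hi) i ((hXmem i).1 hi)).trans (by simp))
    (by
      rintro (_ | i) -
      · exact mul_pos (Nat.cast_pos.2 (by omega)) (Nat.cast_pos.2 (by omega))
      · exact one_pos)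
    (by
      rintro (_ | i) hi
      · exact hαv
      · simp only [Finset.some_mem_insertNone] at hi
        exact (hfa i ((hXmem i).1 hi)).trans (Complex.ofReal_intCast _).symm)
  rw [Finset.sum_insertNone] at hbes
  simp only [Option.elim_none, Option.elim_some, div_one] at hbes
  have hαre : (Cfsg.classInner (τ α) (τ α)).re = (w : ℝ) + (θ : ℝ) ^ 2 := by
    rw [show Cfsg.classInner (τ α) (τ α) = (w : ℂ) + (θ : ℂ) ^ 2 from
      (inner_ind hTI hN hαc hαc).trans hαα]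
    simp [pow_two]
  rw [hαre] at hbes
  have hsum : ∑ ξ ∈ X, ((a - if ξ = ζ then (θ : ℤ) else 0 : ℤ) : ℝ) ^ 2 =
      (X.card : ℝ) * a ^ 2 - 2 * a * θ + (θ : ℝ) ^ 2 := by
    have hh : ∀ ξ ∈ X, ((a - if ξ = ζ then (θ : ℤ) else 0 : ℤ) : ℝ) ^ 2 =
        (a : ℝ) ^ 2 + if ξ = ζ then (θ : ℝ) ^ 2 - 2 * a * θ else 0 := by
      intro ξ _
      split_ifs <;> (push_cast; ring)
    rw [Finset.sum_congr rfl hh, Finset.sum_add_distrib, Finset.sum_const, nsmul_eq_mul,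
      Finset.sum_ite_eq', if_pos ((hXmem ζ).2 hζ)]
    ring
  rw [hsum] at hbes
  have hNle : (N : ℝ) ≤ (M : ℝ) / w := by
    rw [le_div_iff₀ (by exact_mod_cast (by omega : 0 < w))]
    exact_mod_cast Nat.mul_le_mul (le_refl N) (by omega : w ≤ Nat.card Z - 1)
  have hMR : ((((M : ℤ) * a : ℤ) : ℝ)) ^ 2 / ((w : ℝ) * M) = (a : ℝ) ^ 2 * ((M : ℝ) / w) := by
    have : (M : ℝ) ≠ 0 := Nat.cast_ne_zero.2 (by omega)
    have : (w : ℝ) ≠ 0 := Nat.cast_ne_zero.2 (by omega)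
    push_cast; field_simp
  rw [hMR] at hbes
  have ha0 : a = 0 := coefficient_zero (N := (N : ℝ)) (m := (X.card : ℝ)) (θ := (θ : ℝ))
    (w := (w : ℝ)) (by exact_mod_cast hθN) (by exact_mod_cast hw2)
    (by
      have : (2 * w : ℕ) ≤ θ + 1 := by omega
      have : ((2 * w : ℕ) : ℝ) ≤ ((θ + 1 : ℕ) : ℝ) := by exact_mod_cast this
      push_cast at this; linarith)
    (Nat.cast_nonneg _)
    (by
      have := mul_le_mul_of_nonneg_left hNle (sq_nonneg (a : ℝ))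
      nlinarith)
  refine ⟨f, μ, ζ, θ, hf, hμ, hζ, fun ξ hξ => ?_⟩
  rw [tauCore_eq hTI hN h.core_eq hαc]
  show Cfsg.classInner (τ α) (f ξ) = _
  rw [hfa ξ hξ, ha0]
  split_ifs <;> simp

end CfsgLib.FT
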