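import Cfsg.Agent.Lib.FT.SideModule

/-!
FT module SideModule, last part: `R = [R, U] × C_R(U)` in the full case.

`[[R, U], C_R(U)] = 1` (three subgroups).  In the full case every class outside `C_R(U)` is `(x^u)^k` with
`0 < k < p` for a unique pair `(k, u)`; the `u` with `[x, x^u] ≡ 1` form an inverse-closed, so odd, set, and a
hyperplane has `(p-1) ×` (an even number) of nonzero classes, so no alternating form is invariant.  The norm
map over `U` separates `[R, U]` from `C_R(U)`.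
-/

set_option autoImplicit false
set_option linter.style.haveILetI false

namespace CfsgLib.FT

open Subgroup
open scoped commutatorElement Pointwise

universe u

/-- An inverse-closed set containing `1` in a group of odd order has odd cardinality. -/
theorem odd_card_of_inv {A : Type u} [Group A] [Finite A] (hA : Odd (Nat.card A)) (S : Finset A)
    (h1 : (1 : A) ∈ S) (hinv : ∀ a ∈ S, a⁻¹ ∈ S) : Odd S.card := by
  classical
  have h2 : ∀ a : A, a⁻¹ = a → a = 1 := fun a ha => by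
    have h : a ^ 2 = 1 := by rw [pow_two]; nth_rewrite 1 [← ha]; exact inv_mul_cancel a
    exact orderOf_eq_one_iff.1 (Nat.eq_one_of_dvd_coprimes (Nat.coprime_two_left.2 hA)
      (orderOf_dvd_of_pow_eq_one h) (orderOf_dvd_natCard a))
  have hz : ∑ _a ∈ S.erase 1, (1 : ZMod 2) = 0 :=
    Finset.sum_involution (fun a _ => a⁻¹) (fun a _ => by decide)
      (fun a ha _ he => (Finset.mem_erase.1 ha).1 (h2 a he))
      (fun a ha => Finset.mem_erase.2 ⟨fun he => (Finset.mem_erase.1 ha).1 (inv_eq_one.1 he),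
        hinv a (Finset.mem_erase.1 ha).2⟩) (fun a _ => inv_inv a)
  rw [Finset.sum_const, nsmul_one, ZMod.natCast_eq_zero_iff_even] at hz
  rw [← Finset.card_erase_add_one h1]
  exact hz.add_one

/-- A hyperplane of odd dimension plus one: `1 + p + ... + p^(k-1)` is even for even `k`. -/
theorem even_of_geom {p k s : ℕ} (hp : Odd p) (hp1 : 1 < p) (hk : Even k)
    (h : p ^ k = 1 + (p - 1) * s) : Even s := by
  obtain ⟨j, rfl⟩ := hk
  have h2 : (p + 1) * (p - 1) ∣ p ^ (j + j) - 1 := by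
    have h1 : p ^ 2 - 1 ^ 2 ∣ (p ^ 2) ^ j - (1 ^ 2) ^ j := Nat.sub_dvd_pow_sub_pow _ _ j
    rwa [Nat.sq_sub_sq p 1, one_pow, one_pow, ← pow_mul, two_mul] at h1
  rw [h, Nat.add_sub_cancel_left, mul_comm (p + 1)] at h2
  have h3 := Nat.dvd_of_mul_dvd_mul_left (by omega) h2
  obtain ⟨r, rfl⟩ := hp
  exact even_iff_two_dvd.2 ((Dvd.intro (r + 1) (by ring)).trans h3)

variable {G : Type u} [Group G] [Finite G] {M W U W' : Subgroup G}

omit [Finite G] in
theorem fix_comm {u c : G} (hu : u ∈ U) (hc : c ∈ fixCore M U) : u * c = c * u :=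
  mem_centralizer_iff.1 hc.2 u hu

omit [Finite G] in
/-- `[[R, U], C_R(U)] = 1`. -/
theorem Side.commute_fix (h : Side M W U W') {d c : G}
    (hd : d ∈ ⁅Cfsg.fittingHallOf M, U⁆) (hc : c ∈ fixCore M U) : d * c = c * d := by
  set R := Cfsg.fittingHallOf M
  set C := fixCore M U
  have hUC : ⁅U, C⁆ = ⊥ := commutator_eq_bot_iff_le_centralizer.2 fun u hu =>
    mem_centralizer_iff.2 fun c hc => (fix_comm (M := M) hu hc).symm
  have h1 : ⁅⁅U, C⁆, R⁆ = ⊥ := by rw [hUC, commutator_bot_left]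
  have h2 : ⁅⁅C, R⁆, U⁆ = ⊥ := by
    refine le_bot_iff.1 ((commutator_mono (le_normalizer_iff_commutator_le_left.1
      (h.core_le.trans h.fix_normal)) le_rfl).trans ?_)
    rw [commutator_comm, hUC]
  exact (mem_centralizer_iff.1
    (commutator_eq_bot_iff_le_centralizer.1 (commutator_commutator_eq_bot_of_rotate h1 h2) hd) c hc).symm

theorem split (hodd : Odd (Nat.card G)) (h : Side M W U W') (hf : SideFull M W U W') :
    ⁅Cfsg.fittingHallOf M, U⁆ ⊓ fixCore M U = ⊥ ∧
      ⁅Cfsg.fittingHallOf M, U⁆ ⊔ fixCore M U = Cfsg.fittingHallOf M ∧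
      IsMulCommutative ↥⁅Cfsg.fittingHallOf M, U⁆ ∧
      (∀ x ∈ ⁅Cfsg.fittingHallOf M, U⁆, x ^ Nat.card W' = 1) := by
  classical
  haveI hpf : Fact (Nat.card W').Prime := ⟨h.p_prime⟩
  haveI : Fintype U := Fintype.ofFinite _
  set R := Cfsg.fittingHallOf M with hR
  set C := fixCore M U with hC
  set D := ⁅R, U⁆ with hD
  set p := Nat.card W' with hp
  have hRn : M ≤ normalizer (R : Set G) := CfsgLib.OddOrder.le_normalizer_fittingHallOf M
  have hCR : C ≤ R := inf_le_left
  have hDR : D ≤ R := le_normalizer_iff_commutator_le_left.1 (h.U_le.trans hRn)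
  have hUD : U ≤ normalizer (D : Set G) := normalizer_commutator_ge_right R U
  have hWD : W ≤ normalizer (D : Set G) := by
    intro w hw
    have hmapR : R.map (MulAut.conj w).toMonoidHom = R := by
      refine le_antisymm ?_ fun x hx => ⟨w⁻¹ * x * w, ?_, by simp [mul_assoc]⟩
      · rintro _ ⟨x, hx, rfl⟩; exact (mem_normalizer_iff.1 (hRn (h.W_le hw)) x).1 hx
      · have := (mem_normalizer_iff.1 (hRn (h.W_le (inv_mem hw))) x).1 hx; rwa [inv_inv] at this
    have hmapU : U.map (MulAut.conj w).toMonoidHom = U := by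
      refine le_antisymm ?_ fun x hx => ⟨w⁻¹ * x * w, ?_, by simp [mul_assoc]⟩
      · rintro _ ⟨x, hx, rfl⟩; exact (mem_normalizer_iff.1 (h.typeP.U_normal hw) x).1 hx
      · have := (mem_normalizer_iff.1 (h.typeP.U_normal (inv_mem hw)) x).1 hx; rwa [inv_inv] at this
    have hmap : D.map (MulAut.conj w).toMonoidHom = D := by rw [hD, map_commutator, hmapR, hmapU]
    refine mem_normalizer_iff.2 fun x => ⟨fun hx => hmap ▸ ⟨x, hx, rfl⟩, fun hx => ?_⟩
    rw [← hmap] at hx
    obtain ⟨y, hy, hyx⟩ := hx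
    exact (MulAut.conj w).injective hyx ▸ hy
  -- `R = D C`
  have hsup : D ⊔ C = R := by
    refine (h.chief (D ⊔ C) le_sup_right (sup_le hDR hCR) (sup_le
      ((le_inf hUD (h.U_le.trans h.fix_normal)).trans (normalizer_inf_normalizer_le_normalizer_sup D C))
      ((le_inf hWD (h.W_le.trans h.fix_normal)).trans
        (normalizer_inf_normalizer_le_normalizer_sup D C)))).resolve_left fun e => h.U_ne ?_
    rw [eq_bot_iff]
    intro u hu
    refine hf.ker_bot ▸ h.ker_eq u hu fun x hx => (le_sup_left.trans e.le : D ≤ C) ?_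
    have := D.inv_mem (commutator_mem_commutator hx hu : ⁅x, u⁆ ∈ D)
    rwa [commutatorElement_inv, commutatorElement_def] at this
  have hdecomp : ∀ x ∈ R, ∃ d ∈ D, ∃ c ∈ C, x = d * c := fun x hx => by
    rw [← hsup] at hx
    have hCD : (D : Set G) * (C : Set G) = (D ⊔ C : Subgroup G) :=
      (Subgroup.coe_mul_of_left_le_normalizer_right _ _ fun d hd =>
        h.fix_normal (h.core_le (hDR hd))).symm
    rw [← SetLike.mem_coe, ← hCD, Set.mem_mul] at hx
    obtain ⟨d, hd, c, hc, e⟩ := hx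
    exact ⟨d, hd, c, hc, e.symm⟩
  set Z := D ⊓ C with hZ
  -- the index of `Z` in `D`
  have hidx : Z.relIndex D = p ^ Nat.card W := by
    rw [hZ, inf_relIndex_left, ← h.quot_card, ← hC, ← hR]
    haveI : (C.subgroupOf R).Normal :=
      (normal_subgroupOf_iff_le_normalizer hCR).2 (h.core_le.trans h.fix_normal)
    have h1 := relIndex_sup_right (H := D.subgroupOf R) (K := C.subgroupOf R)
    rw [← subgroupOf_sup hDR hCR, hsup, subgroupOf_self, relIndex_top_right] at h1
    change (C.comap R.subtype).index = (C.comap R.subtype).relIndex (D.subgroupOf R) at h1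
    rw [relIndex_comap, map_subgroupOf_eq_of_le hDR] at h1
    exact h1.symm
  have hcardD : Nat.card D = Nat.card Z * p ^ Nat.card W := by
    rw [← hidx, relIndex, ← Nat.card_congr (subgroupOfEquivOfLe (inf_le_left : Z ≤ D)).toEquiv,
      Subgroup.card_mul_index]
  have hcent : ∀ d ∈ D, ∀ c ∈ C, d * c = c * d := fun d hd c hc => h.commute_fix hd hc
  have hmemC : ∀ x ∈ D, ∀ y ∈ D, ⁅x, y⁆ ∈ Z := fun x hx y hy =>
    ⟨D.mul_mem (D.mul_mem (D.mul_mem hx hy) (D.inv_mem hx)) (D.inv_mem hy),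
      h.quot_comm (commutator_mem_commutator (hDR hx) (hDR hy))⟩
  have hmul : ∀ x ∈ D, ∀ y ∈ D, ∀ z ∈ D, ⁅x, y * z⁆ = ⁅x, y⁆ * ⁅x, z⁆ := fun x hx y hy z hz => by
    rw [commutatorElement_mul_right_eq_mul_conj, mul_assoc ⁅x, y⁆ y, hcent y hy _ (hmemC x hx z hz).2,
      ← mul_assoc, mul_inv_cancel_right]
  have hcpow : ∀ x ∈ D, ∀ y ∈ D, ∀ k : ℕ, ⁅x, y ^ k⁆ = ⁅x, y⁆ ^ k := fun x hx y hy k => by
    induction k with
    | zero => rw [pow_zero, pow_zero, commutatorElement_one_right]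
    | succ k ih => rw [pow_succ, pow_succ, hmul x hx _ (D.pow_mem hy k) y hy, ih]
  have hzc : ∀ x ∈ D, ∀ z ∈ C, ⁅x, z⁆ = 1 := fun x hx z hz =>
    commutatorElement_eq_one_iff_mul_comm.2 (hcent x hx z hz)
  have hexp : ∀ y ∈ D, y ^ p ∈ Z := fun y hy => ⟨D.pow_mem hy p, h.quot_pow y (hDR hy)⟩
  -- the form vanishes
  have hform : ∀ x ∈ D, ∀ y ∈ D, ⁅x, y⁆ = 1 := by
    intro x hx y₀ hy₀
    by_contra hne
    have hxC : x ∉ C := fun hxc => hne (by
      rw [← inv_inj, commutatorElement_inv, inv_one]; exact hzc y₀ hy₀ x hxc)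
    -- a maximal subgroup of `Z` avoiding `⁅x, y₀⁆`
    obtain ⟨K, ⟨hKZ, hKv⟩, hKmax⟩ := (Set.toFinite {K : Subgroup G | K ≤ Z ∧ ⁅x, y₀⁆ ∉ K}).exists_maximal
      ⟨⊥, bot_le, fun e => hne (mem_bot.1 e)⟩
    let T : Subgroup G :=
      { carrier := {y | y ∈ D ∧ ⁅x, y⁆ ∈ K}
        one_mem' := ⟨D.one_mem, by rw [commutatorElement_one_right]; exact K.one_mem⟩
        mul_mem' := fun {a b} ha hb => ⟨D.mul_mem ha.1 hb.1, by
          rw [hmul x hx a ha.1 b hb.1]; exact K.mul_mem ha.2 hb.2⟩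
        inv_mem' := fun {a} ha => ⟨D.inv_mem ha.1, by
          have h0 := hmul x hx a ha.1 a⁻¹ (D.inv_mem ha.1)
          rw [mul_inv_cancel, commutatorElement_one_right] at h0
          rw [(eq_inv_of_mul_eq_one_right h0.symm : ⁅x, a⁻¹⁆ = ⁅x, a⁆⁻¹)]
          exact K.inv_mem ha.2⟩ }
    have hTD : T ≤ D := fun y hy => hy.1
    have hZT : Z ≤ T := fun z hz => ⟨hz.1, by rw [hzc x hx z hz.2]; exact K.one_mem⟩
    -- the index of `T` is `p`
    have hlin : ∀ y ∈ D, ∃ i : ℕ, i < p ∧ (y₀ ^ i)⁻¹ * y ∈ T := by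
      intro y hy
      by_cases hyK : ⁅x, y⁆ ∈ K
      · exact ⟨0, hpf.out.pos, by rw [pow_zero, inv_one, one_mul]; exact ⟨hy, hyK⟩⟩
      · have hv : ⁅x, y₀⁆ ∈ K ⊔ zpowers ⁅x, y⁆ := by
          by_contra hv
          exact hyK (hKmax ⟨sup_le hKZ (zpowers_le.2 (hmemC x hx y hy)), hv⟩ le_sup_left
            (le_sup_right (a := K) (mem_zpowers _)))
        have hvp : ⁅x, y⁆ ^ p = 1 := by rw [← hcpow x hx y hy, hzc x hx _ (hexp y hy).2]
        have hKn : zpowers ⁅x, y⁆ ≤ normalizer (K : Set G) := zpowers_le.2 (mem_normalizer_iff.2 fun k =>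
          ⟨fun hk => by rwa [← hcent _ (hKZ hk).1 _ (hmemC x hx y hy).2, mul_inv_cancel_right],
            fun hk => by
              have h1 := hcent _ (hKZ hk).1 _ (hmemC x hx y hy).2
              have h2 : k = ⁅x, y⁆ * k * ⁅x, y⁆⁻¹ := mul_left_cancel (a := ⁅x, y⁆) (by
                rw [← h1, inv_mul_cancel_right])
              rwa [h2]⟩)
        rw [← SetLike.mem_coe, Subgroup.coe_mul_of_right_le_normalizer_left _ _ hKn, Set.mem_mul] at hv
        obtain ⟨k, hk, e, he, hke⟩ := hv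
        obtain ⟨j, rfl⟩ := Submonoid.mem_powers_iff _ _ |>.1
          ((isOfFinOrder_of_finite _).mem_powers_iff_mem_zpowers.2 he)
        have hjp : ¬ p ∣ j := fun hd => hKv (by
          obtain ⟨l, rfl⟩ := hd
          rw [← hke]; show k * _ ∈ K
          simp only [pow_mul, hvp, one_pow, mul_one]; exact hk)
        obtain ⟨l, -, hl⟩ := Nat.exists_mul_mod_eq_one_of_coprime (hpf.out.coprime_iff_not_dvd.2 hjp).symm
          hpf.out.one_lt
        refine ⟨l % p, Nat.mod_lt _ hpf.out.pos, D.mul_mem (D.inv_mem (D.pow_mem hy₀ _)) hy, ?_⟩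
        have hvp' : ⁅x, y₀⁆ ^ p = 1 := by rw [← hcpow x hx y₀ hy₀, hzc x hx _ (hexp y₀ hy₀).2]
        have h0 := hmul x hx (y₀ ^ (l % p))⁻¹ (D.inv_mem (D.pow_mem hy₀ _)) (y₀ ^ (l % p)) (D.pow_mem hy₀ _)
        rw [inv_mul_cancel, commutatorElement_one_right] at h0
        rw [hmul x hx _ (D.inv_mem (D.pow_mem hy₀ _)) y hy, eq_inv_of_mul_eq_one_left h0.symm,
          hcpow x hx y₀ hy₀, ← pow_eq_pow_mod l hvp']
        have hcomm : Commute k (⁅x, y⁆ ^ j) :=
          hcent _ (hKZ hk).1 _ (C.pow_mem (hmemC x hx y hy).2 j)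
        have hy' : ⁅x, y₀⁆ ^ l = k ^ l * ⁅x, y⁆ := by
          rw [← hke]; show (k * ⁅x, y⁆ ^ j) ^ l = _
          rw [hcomm.mul_pow, ← pow_mul, pow_eq_pow_mod _ hvp, hl, pow_one]
        rw [hy', mul_inv_rev, mul_assoc,
          hcent _ (D.inv_mem (D.pow_mem (hKZ hk).1 l)) _ (hmemC x hx y hy).2, ← mul_assoc,
          inv_mul_cancel, one_mul]
        exact K.inv_mem (K.pow_mem hk l)
    have hTidx : T.relIndex D = p := by
      have hle : T.relIndex D ≤ p := by
        rw [relIndex, ← Nat.card_fin p]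
        refine Nat.card_le_card_of_surjective
          (fun i : Fin p => ((⟨y₀ ^ (i : ℕ), D.pow_mem hy₀ _⟩ : D) : D ⧸ T.subgroupOf D)) fun z => ?_
        obtain ⟨y, rfl⟩ := QuotientGroup.mk_surjective z
        obtain ⟨i, hi, hiT⟩ := hlin y y.2
        exact ⟨⟨i, hi⟩, QuotientGroup.eq.2 hiT⟩
      have hdvd : T.relIndex D ∣ p ^ Nat.card W := hidx ▸ Dvd.intro_left _ (relIndex_mul_relIndex Z T D hZT hTD)
      obtain ⟨e, -, he⟩ := (Nat.dvd_prime_pow hpf.out).1 hdvd
      have h1 : T.relIndex D ≠ 1 := fun h1 => hKv (relIndex_eq_one.1 h1 hy₀).2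
      have he0 : e ≠ 0 := fun e0 => h1 (by rw [he, e0, pow_zero])
      exact le_antisymm hle (he ▸ Nat.le_self_pow he0 p)
    -- every class outside `Z` is `(x^u)^k` for exactly one pair
    have hxu : ∀ u ∈ U, u * x * u⁻¹ ∈ D := fun u hu => (mem_normalizer_iff.1 (hUD hu) x).1 hx
    have huz : ∀ u ∈ U, ∀ z ∈ C, u * z * u⁻¹ = z := fun u hu z hz => by
      rw [fix_comm (M := M) hu hz, mul_inv_cancel_right]
    let φ : Fin (p - 1) × U × Z → G := fun t =>
      ((t.2.1 : G) * x * (t.2.1 : G)⁻¹) ^ ((t.1 : ℕ) + 1) * (t.2.2 : G)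
    have hφD : ∀ t, φ t ∈ D ∧ φ t ∉ Z := by
      rintro ⟨k, u, z⟩
      refine ⟨D.mul_mem (D.pow_mem (hxu u u.2) _) z.2.1, fun hz => ?_⟩
      have h1 : ((u : G) * x * (u : G)⁻¹) ^ ((k : ℕ) + 1) ∈ Z := (Z.mul_mem_cancel_right z.2).1 hz
      rw [conj_pow] at h1
      have h2 : x ^ ((k : ℕ) + 1) ∈ C := by
        have h3 := huz _ (U.inv_mem u.2) _ h1.2
        rw [inv_inv] at h3
        have h4 : (u : G)⁻¹ * ((u : G) * x ^ ((k : ℕ) + 1) * (u : G)⁻¹) * u ∈ C := by rw [h3]; exact h1.2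
        simpa [mul_assoc] using h4
      have hcop : Nat.Coprime ((k : ℕ) + 1) p := (hpf.out.coprime_iff_not_dvd.2 fun hd => by
        have := Nat.le_of_dvd (by omega) hd; omega).symm
      obtain ⟨l, -, hl⟩ := Nat.exists_mul_mod_eq_one_of_coprime hcop hpf.out.one_lt
      refine hxC ?_
      rw [show x = (x ^ ((k : ℕ) + 1)) ^ l * ((x ^ p) ^ (((k : ℕ) + 1) * l / p))⁻¹ from ?_]
      · exact C.mul_mem (C.pow_mem h2 l) (C.inv_mem (C.pow_mem (hexp x hx).2 _))
      · rw [eq_mul_inv_iff_mul_eq, ← pow_mul, ← pow_mul, ← pow_succ']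
        congr 1
        have := Nat.mod_add_div (((k : ℕ) + 1) * l) p
        rw [hl] at this
        omega
    have hinj : Function.Injective φ := by
      rintro ⟨k, u, z⟩ ⟨k', u', z'⟩ he
      have he' : ((u : G) * x * (u : G)⁻¹) ^ ((k : ℕ) + 1) * (z : G) =
          ((u' : G) * x * (u' : G)⁻¹) ^ ((k' : ℕ) + 1) * (z' : G) := he
      rw [conj_pow, conj_pow] at he'
      set a : G := (u' : G)⁻¹ * u with ha
      have haU : a ∈ U := U.mul_mem (U.inv_mem u'.2) u.2
      have hz1 : (z' : G) * (z : G)⁻¹ ∈ Z := Z.mul_mem z'.2 (Z.inv_mem z.2)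
      have h1 : a * x ^ ((k : ℕ) + 1) * a⁻¹ = x ^ ((k' : ℕ) + 1) * ((z' : G) * (z : G)⁻¹) := by
        have h5 : (u : G) * x ^ ((k : ℕ) + 1) * (u : G)⁻¹ =
            (u' : G) * x ^ ((k' : ℕ) + 1) * (u' : G)⁻¹ * ((z' : G) * (z : G)⁻¹) := by
          rw [← mul_assoc _ (z' : G), ← he', mul_inv_cancel_right]
        calc a * x ^ ((k : ℕ) + 1) * a⁻¹
            = (u' : G)⁻¹ * ((u : G) * x ^ ((k : ℕ) + 1) * (u : G)⁻¹) * u' := by rw [ha]; group
          _ = x ^ ((k' : ℕ) + 1) * ((u' : G)⁻¹ * ((z' : G) * (z : G)⁻¹) * ((u' : G)⁻¹)⁻¹) := by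
              rw [h5]; group
          _ = _ := by rw [huz _ (U.inv_mem u'.2) _ hz1.2]
      -- `a` fixes a class
      have hcop : Nat.Coprime ((k : ℕ) + 1) p := (hpf.out.coprime_iff_not_dvd.2 fun hd => by
        have := Nat.le_of_dvd (by omega) hd; omega).symm
      obtain ⟨l, -, hl⟩ := Nat.exists_mul_mod_eq_one_of_coprime hcop hpf.out.one_lt
      have hcD : ∀ m : ℕ, Commute (x ^ m) ((z' : G) * (z : G)⁻¹) := fun m =>
        hcent _ (D.pow_mem hx m) _ hz1.2
      obtain ⟨m, hm⟩ : ∃ m : ℕ, (x ^ m)⁻¹ * (a * x * a⁻¹) ∈ C := by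
        refine ⟨((k' : ℕ) + 1) * l, ?_⟩
        have h6 := congrArg (fun g : G => g ^ l) h1
        simp only [conj_pow, (hcD _).mul_pow, ← pow_mul] at h6
        set n₀ := ((k : ℕ) + 1) * l / p
        have hkl : ((k : ℕ) + 1) * l = 1 + p * n₀ := by
          have := Nat.mod_add_div (((k : ℕ) + 1) * l) p
          rw [hl] at this
          exact this.symm
        rw [hkl, pow_add, pow_one, pow_mul] at h6
        have h7 : a * x * a⁻¹ = x ^ (((k' : ℕ) + 1) * l) *
            (((z' : G) * (z : G)⁻¹) ^ l * ((x ^ p) ^ n₀)⁻¹) := by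
          rw [← mul_assoc, ← h6]
          have hz2 := C.pow_mem (hexp x hx).2 n₀
          calc a * x * a⁻¹ = a * x * a⁻¹ * ((x ^ p) ^ n₀) * ((x ^ p) ^ n₀)⁻¹ := by group
            _ = a * x * (a⁻¹ * (x ^ p) ^ n₀) * ((x ^ p) ^ n₀)⁻¹ := by group
            _ = a * (x * (x ^ p) ^ n₀) * a⁻¹ * ((x ^ p) ^ n₀)⁻¹ := by
              rw [fix_comm (M := M) (U.inv_mem haU) hz2]; group
        rw [h7, inv_mul_cancel_left]
        exact C.mul_mem (C.pow_mem hz1.2 l) (C.inv_mem (C.pow_mem (hexp x hx).2 _))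
      have hiter : ∀ i : ℕ, (x ^ (m ^ i))⁻¹ * (a ^ i * x * (a ^ i)⁻¹) ∈ C := by
        intro i
        induction i with
        | zero => simp
        | succ i ih =>
          have hc0 : (x ^ m)⁻¹ * (a * x * a⁻¹) ∈ C := hm
          set c₁ := (x ^ m)⁻¹ * (a * x * a⁻¹) with hc₁
          set c₂ := (x ^ (m ^ i))⁻¹ * (a ^ i * x * (a ^ i)⁻¹) with hc₂
          have e1 : a * x * a⁻¹ = x ^ m * c₁ := by rw [hc₁, mul_inv_cancel_left]
          have e2 : a ^ i * x * (a ^ i)⁻¹ = x ^ (m ^ i) * c₂ := by rw [hc₂, mul_inv_cancel_left]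
          have e3 : a ^ (i + 1) * x * (a ^ (i + 1))⁻¹ = x ^ (m ^ (i + 1)) * (c₁ ^ (m ^ i) * c₂) := by
            calc a ^ (i + 1) * x * (a ^ (i + 1))⁻¹ = a * (a ^ i * x * (a ^ i)⁻¹) * a⁻¹ := by
                  rw [pow_succ']; group
              _ = (a * x ^ (m ^ i) * a⁻¹) * (a * c₂ * a⁻¹) := by rw [e2]; group
              _ = (x ^ m * c₁) ^ (m ^ i) * c₂ := by rw [← conj_pow, e1, huz a haU c₂ ih]
              _ = _ := by
                rw [(show Commute (x ^ m) c₁ from hcent _ (D.pow_mem hx m) _ hc0).mul_pow, ← pow_mul,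
                  pow_succ' m, mul_assoc]
          rw [e3, inv_mul_cancel_left]
          exact C.mul_mem (C.pow_mem hc0 _) ih
      have hmp : ¬ p ∣ m := fun hd => by
        obtain ⟨l', rfl⟩ := hd
        have h8 : a * x * a⁻¹ ∈ C := by
          rw [← mul_inv_cancel_left (x ^ (p * l')) (a * x * a⁻¹)]
          exact C.mul_mem (by rw [pow_mul]; exact C.pow_mem (hexp x hx).2 l') hm
        have h9 := huz _ (U.inv_mem haU) _ h8
        rw [inv_inv] at h9
        exact hxC (by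
          have h10 : a⁻¹ * (a * x * a⁻¹) * a ∈ C := by rw [h9]; exact h8
          simpa [mul_assoc] using h10)
      have ha1 : a ^ (p - 1) = 1 := by
        by_contra hne1
        have h8 := hiter (p - 1)
        have hfer : m ^ (p - 1) % p = 1 := by
          have := Nat.ModEq.pow_totient (Nat.Coprime.symm ((hpf.out.coprime_iff_not_dvd).2 hmp))
          rwa [Nat.totient_prime hpf.out, Nat.ModEq, Nat.one_mod_eq_one.2 hpf.out.ne_one] at this
        refine hxC (hf.fpf _ (U.pow_mem haU _) hne1 x (hDR hx) ?_)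
        set c₃ := (x ^ (m ^ (p - 1)))⁻¹ * (a ^ (p - 1) * x * (a ^ (p - 1))⁻¹) with hc₃
        have e4 : a ^ (p - 1) * x * (a ^ (p - 1))⁻¹ * x⁻¹ = c₃ * (x ^ p) ^ (m ^ (p - 1) / p) := by
          have e5 : a ^ (p - 1) * x * (a ^ (p - 1))⁻¹ = x ^ (m ^ (p - 1)) * c₃ := by
            rw [hc₃, mul_inv_cancel_left]
          rw [e5, ← pow_mul, hcent _ (D.pow_mem hx _) _ h8, mul_assoc, mul_right_inj,
            mul_inv_eq_iff_eq_mul, ← pow_succ]
          congr 1
          have := Nat.mod_add_div (m ^ (p - 1)) p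
          omega
        rw [e4]
        exact C.mul_mem h8 (C.pow_mem (hexp x hx).2 _)
      have ha0 : a = 1 := by
        have hcard : Nat.card U * (p - 1) = p ^ Nat.card W - 1 := hf.card
        have hdiv : Nat.card U = (p ^ Nat.card W - 1) / (p - 1) :=
          (Nat.div_eq_of_eq_mul_left (by have := hpf.out.two_le; omega) hcard.symm).symm
        have h9 : orderOf a ∣ Nat.card U := by
          rw [← Subgroup.orderOf_mk a haU]; exact orderOf_dvd_natCard _
        exact orderOf_eq_one_iff.1 (Nat.eq_one_of_dvd_coprimes hf.coprime (hdiv ▸ h9)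
          (orderOf_dvd_of_pow_eq_one ha1))
      have huu : u = u' := Subtype.ext (inv_mul_eq_one.1 ha0).symm
      subst huu
      rw [ha0] at h1
      simp only [one_mul, inv_one, mul_one] at h1
      have hkk : k = k' := by
        by_contra hkk
        rcases Nat.lt_or_gt_of_ne (fun e => hkk (Fin.ext e)) with hlt | hlt
        · have h10 : x ^ ((k' : ℕ) - k) ∈ C := by
            have : x ^ ((k : ℕ) + 1) = x ^ ((k : ℕ) + 1) * (x ^ ((k' : ℕ) - k) * ((z' : G) * (z : G)⁻¹)) := by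
              rw [← mul_assoc, ← pow_add, show (k : ℕ) + 1 + ((k' : ℕ) - k) = (k' : ℕ) + 1 by omega]
              exact h1
            rw [eq_comm, mul_eq_left] at this
            rw [eq_inv_of_mul_eq_one_left this]
            exact C.inv_mem hz1.2
          have := (hφD (⟨(k' : ℕ) - k - 1, by omega⟩, ⟨1, U.one_mem⟩, ⟨1, Z.one_mem⟩)).2
          exact this ⟨(hφD _).1, by simp [φ, show (k' : ℕ) - k - 1 + 1 = (k' : ℕ) - k by omega, h10]⟩
        · have h10 : x ^ ((k : ℕ) - k') ∈ C := by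
            have : x ^ ((k' : ℕ) + 1) * x ^ ((k : ℕ) - k') = x ^ ((k' : ℕ) + 1) * ((z' : G) * (z : G)⁻¹) := by
              rw [← pow_add, show (k' : ℕ) + 1 + ((k : ℕ) - k') = (k : ℕ) + 1 by omega]
              exact h1
            rw [mul_left_cancel this]
            exact hz1.2
          have := (hφD (⟨(k : ℕ) - k' - 1, by omega⟩, ⟨1, U.one_mem⟩, ⟨1, Z.one_mem⟩)).2
          exact this ⟨(hφD _).1, by simp [φ, show (k : ℕ) - k' - 1 + 1 = (k : ℕ) - k' by omega, h10]⟩
      subst hkk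
      rw [left_eq_mul, mul_inv_eq_one] at h1
      obtain rfl : z = z' := Subtype.ext h1.symm
      rfl
    haveI : Fintype G := Fintype.ofFinite G
    let Φ : Fin (p - 1) × U × Z → {y : G // y ∈ D ∧ y ∉ Z} := fun t => ⟨φ t, hφD t⟩
    have hcardDZ : Nat.card {y : G // y ∈ D ∧ y ∉ Z} = Nat.card D - Nat.card Z := by
      rw [Nat.card_eq_fintype_card, Fintype.card_subtype,
        show (Finset.univ.filter fun y : G => y ∈ D ∧ y ∉ Z) =
          (Finset.univ.filter fun y : G => y ∈ D) \ (Finset.univ.filter fun y : G => y ∈ Z) by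
          ext y; simp, Finset.card_sdiff_of_subset (fun y hy => by simp at hy ⊢; exact hy.1),
        ← Fintype.card_subtype, ← Fintype.card_subtype, ← Nat.card_eq_fintype_card, ← Nat.card_eq_fintype_card]
    have hΦ : Function.Bijective Φ := by
      have hi : Function.Injective Φ := fun a b e => hinj (congrArg Subtype.val e)
      refine (Nat.bijective_iff_injective_and_card Φ).2 ⟨hi, ?_⟩
      rw [Nat.card_prod, Nat.card_prod, Nat.card_fin, hcardDZ, hcardD, ← mul_assoc, mul_comm (p - 1), hf.card,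
        Nat.sub_mul, one_mul, mul_comm (Nat.card Z)]
    let S : Finset U := Finset.univ.filter fun u => ⁅x, (u : G) * x * (u : G)⁻¹⁆ ∈ K
    have hmemT : ∀ t, φ t ∈ T ↔ t.2.1 ∈ S := by
      rintro ⟨k, u, z⟩
      have hval : ⁅x, φ (k, u, z)⁆ = ⁅x, (u : G) * x * (u : G)⁻¹⁆ ^ ((k : ℕ) + 1) := by
        rw [hmul x hx _ (D.pow_mem (hxu u u.2) _) _ z.2.1, hzc x hx _ z.2.2, mul_one, hcpow x hx _ (hxu u u.2)]
      constructor
      · intro ht
        have ht' : ⁅x, (u : G) * x * (u : G)⁻¹⁆ ^ ((k : ℕ) + 1) ∈ K := hval ▸ ht.2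
        refine Finset.mem_filter.2 ⟨Finset.mem_univ _, ?_⟩
        have hvp : ⁅x, (u : G) * x * (u : G)⁻¹⁆ ^ p = 1 := by
          rw [← hcpow x hx _ (hxu u u.2), hzc x hx _ (hexp _ (hxu u u.2)).2]
        have hcop : Nat.Coprime ((k : ℕ) + 1) p := (hpf.out.coprime_iff_not_dvd.2 fun hd => by
          have := Nat.le_of_dvd (by omega) hd; omega).symm
        obtain ⟨l, -, hl⟩ := Nat.exists_mul_mod_eq_one_of_coprime hcop hpf.out.one_lt
        rw [← pow_one ⁅x, (u : G) * x * (u : G)⁻¹⁆, ← hl, ← pow_eq_pow_mod _ hvp, pow_mul]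
        exact K.pow_mem ht' l
      · intro hu
        exact ⟨(hφD _).1, by rw [hval]; exact K.pow_mem (Finset.mem_filter.1 hu).2 _⟩
    have hcT : Nat.card T = Nat.card Z * (1 + (p - 1) * S.card) := by
      have h1 : Nat.card {y : G // y ∈ T ∧ y ∉ Z} = (p - 1) * S.card * Nat.card Z := by
        have e : {y : G // y ∈ T ∧ y ∉ Z} ≃ {t : Fin (p - 1) × U × Z // t.2.1 ∈ S} :=
          (Equiv.ofBijective (fun t : {t : Fin (p - 1) × U × Z // t.2.1 ∈ S} =>
            (⟨φ t.1, (hmemT t.1).2 t.2, (hφD t.1).2⟩ : {y : G // y ∈ T ∧ y ∉ Z}))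
            ⟨fun a b e => Subtype.ext (hinj (congrArg Subtype.val e)), fun y => by
              obtain ⟨t, ht⟩ := hΦ.2 ⟨y.1, hTD y.2.1, y.2.2⟩
              have ht' : φ t = y.1 := congrArg Subtype.val ht
              exact ⟨⟨t, (hmemT t).1 (ht' ▸ y.2.1)⟩, Subtype.ext ht'⟩⟩).symm
        have e' : {t : Fin (p - 1) × U × Z // t.2.1 ∈ S} ≃ Fin (p - 1) × {u : U // u ∈ S} × Z :=
          { toFun := fun t => (t.1.1, ⟨t.1.2.1, t.2⟩, t.1.2.2)
            invFun := fun t => ⟨(t.1, t.2.1.1, t.2.2), t.2.1.2⟩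
            left_inv := fun t => rfl
            right_inv := fun t => rfl }
        rw [Nat.card_congr (e.trans e'), Nat.card_prod, Nat.card_prod, Nat.card_fin, ← mul_assoc,
          Nat.card_eq_finsetCard]
      have h2 : Nat.card {y : G // y ∈ T ∧ y ∉ Z} = Nat.card T - Nat.card Z := by
        rw [Nat.card_eq_fintype_card, Fintype.card_subtype,
          show (Finset.univ.filter fun y : G => y ∈ T ∧ y ∉ Z) =
            (Finset.univ.filter fun y : G => y ∈ T) \ (Finset.univ.filter fun y : G => y ∈ Z) by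
            ext y; simp, Finset.card_sdiff_of_subset (fun y hy => by simp at hy ⊢; exact hZT hy),
          ← Fintype.card_subtype, ← Fintype.card_subtype, ← Nat.card_eq_fintype_card, ← Nat.card_eq_fintype_card]
      have h3 := Subgroup.card_le_of_le hZT
      rw [mul_add, mul_one, mul_comm (Nat.card Z), ← h1, h2]
      omega
    have hS : Even S.card := by
      have h4 : Nat.card T * p = Nat.card D := by
        conv_lhs => rw [← hTidx, relIndex, ← Nat.card_congr (subgroupOfEquivOfLe hTD).toEquiv]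
        exact Subgroup.card_mul_index _
      rw [hcT, hcardD, mul_assoc] at h4
      have h5 := Nat.eq_of_mul_eq_mul_left Nat.card_pos h4
      have hWodd : Odd (Nat.card W) := hodd.of_dvd_nat W.card_subgroup_dvd_card
      obtain ⟨j, hj⟩ := hWodd
      refine even_of_geom (hodd.of_dvd_nat (hp ▸ W'.card_subgroup_dvd_card)) hpf.out.one_lt ⟨j, rfl⟩ ?_
      refine Nat.eq_of_mul_eq_mul_right hpf.out.pos ?_
      rw [h5, ← pow_succ, hj, two_mul]
    refine Nat.not_even_iff_odd.2 (odd_card_of_inv (hodd.of_dvd_nat U.card_subgroup_dvd_card) S ?_ ?_) hS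
    · exact Finset.mem_filter.2 ⟨Finset.mem_univ _, by simp [commutatorElement_self]⟩
    · intro u hu
      have hu' := (Finset.mem_filter.1 hu).2
      refine Finset.mem_filter.2 ⟨Finset.mem_univ _, ?_⟩
      have hc := hmemC x hx _ (hxu u u.2)
      have h6 := huz _ (U.inv_mem u.2) _ hc.2
      rw [inv_inv] at h6
      have h8 : (u : G)⁻¹ * ⁅x, (u : G) * x * (u : G)⁻¹⁆ * ((u : G)⁻¹)⁻¹ =
          ⁅(u : G)⁻¹ * x * ((u : G)⁻¹)⁻¹, x⁆ := by
        rw [conjugate_commutatorElement]; congr 1; group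
      rw [inv_inv] at h8
      rw [h6] at h8
      rw [InvMemClass.coe_inv, ← commutatorElement_inv]
      refine K.inv_mem ?_
      rw [inv_inv, ← h8]
      exact hu'
  have hcomm : IsMulCommutative D :=
    ⟨⟨fun a b => Subtype.ext (commutatorElement_eq_one_iff_mul_comm.1 (hform a a.2 b b.2))⟩⟩
  -- the norm map
  have hinf : Z = ⊥ := by
    letI : CommGroup D := { (inferInstance : Group D) with mul_comm := fun a b => mul_comm' a b }
    let cj : U → D →* D := fun u =>
      { toFun := fun a => ⟨(u : G) * a * (u : G)⁻¹, (mem_normalizer_iff.1 (hUD u.2) a).1 a.2⟩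
        map_one' := Subtype.ext (by simp)
        map_mul' := fun a b => Subtype.ext (by simp [mul_assoc]) }
    have hcj : ∀ (u : U) (a : D), (cj u a : G) = (u : G) * a * (u : G)⁻¹ := fun u a => rfl
    let N : D →* D := ∏ u, cj u
    have hgen : D ≤ N.ker.map D.subtype := by
      refine commutator_le.2 fun r hr u hu => ?_
      obtain ⟨d, hd, c, hc, rfl⟩ := hdecomp r hr
      have e : ⁅d * c, u⁆ = d * (u * d * u⁻¹)⁻¹ := by
        rw [commutatorElement_mul_left_eq_conj_mul, commutatorElement_eq_one_iff_mul_comm.2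
          (fix_comm (M := M) hu hc).symm, mul_one, mul_inv_cancel, one_mul, commutatorElement_def]
        group
      rw [e]
      refine ⟨⟨d, hd⟩ * (cj ⟨u, hu⟩ ⟨d, hd⟩)⁻¹, MonoidHom.mem_ker.2 ?_, rfl⟩
      rw [map_mul, map_inv, mul_inv_eq_one]
      simp only [N, MonoidHom.finsetProd_apply]
      refine (Fintype.prod_equiv (Equiv.mulRight (⟨u, hu⟩ : U)) _ _ fun v => ?_).symm
      exact Subtype.ext (by simp [hcj, mul_assoc])
    rw [eq_bot_iff]
    intro z hz
    obtain ⟨w, hw, hwz⟩ := hgen hz.1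
    obtain rfl : w = ⟨z, hz.1⟩ := Subtype.ext hwz
    rw [mem_bot]
    have h1 : z ^ Nat.card U = 1 := by
      have h2 := congrArg Subtype.val (MonoidHom.mem_ker.1 hw)
      simp only [N, MonoidHom.finsetProd_apply] at h2
      rw [show (∏ v, cj v ⟨z, hz.1⟩) = ∏ _v : U, (⟨z, hz.1⟩ : D) from Finset.prod_congr rfl fun v _ =>
        Subtype.ext (by rw [hcj, fix_comm (M := M) v.2 hz.2, mul_inv_cancel_right])] at h2
      rw [Finset.prod_const, Finset.card_univ, ← Nat.card_eq_fintype_card, SubmonoidClass.coe_pow] at h2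
      exact h2
    exact orderOf_eq_one_iff.1 (Nat.eq_one_of_dvd_coprimes h.coprime
      (by rw [← Subgroup.orderOf_mk z (hCR hz.2)]; exact orderOf_dvd_natCard _) (orderOf_dvd_of_pow_eq_one h1))
  exact ⟨hinf, hsup, hcomm, fun x hx => mem_bot.1 (hinf ▸ hexp x hx)⟩

end CfsgLib.FT
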