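import Cfsg.Agent.Lib.FT.CoreAdjoin
import Cfsg.Agent.Lib.FT.LinkedCentral
import Cfsg.Agent.Lib.FT.LinkedCoherent
import Cfsg.Agent.Lib.FT.LinkedCube
import Cfsg.Agent.Lib.FT.LinkedFix
import Cfsg.Agent.Lib.FT.LinkedFree
import Cfsg.Agent.Lib.FT.SideFacts
import Cfsg.Agent.Lib.FT.SideModuleSplit
import Cfsg.Agent.Lib.OddOrder.TypeExclusive

/-!
FT module Linked: `a = 0` in `CoreAdjoin.adjoin`.
-/

set_option autoImplicit false

namespace CfsgLib.FT

open Subgroup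

universe u

variable {G : Type u} [Group G] [Fintype G] (hG : Cfsg.IsMinSimpleOddOrder G)
  {S T W₁ W₂ U V : Subgroup G} [Fintype T]
include hG

theorem linked_five (hpd : PairData S T W₁ W₂ U V) (h5 : Cfsg.IsOfTypeV T) : Linked T W₂ := by
  have h := coreSide_T hG hpd fun h2 => OddOrder.TypeP.not_two_and_five h2 h5
  obtain ⟨hnil, c | c | c | ⟨hp, ⟨hTI, hN⟩ | ⟨h3, hd⟩⟩⟩ := typeFive_cases hG h h5
  · exact linked_of_good hG h hnil (Or.inl c)
  · exact linked_of_good hG h hnil (Or.inr (Or.inl c))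
  · exact linked_of_good hG h hnil (Or.inr (Or.inr c))
  · by_cases hZ : W₁ ≤ centralizer ((⁅T, T⁆ : Subgroup G) : Set G)
    · exact linked_central hG h hnil hp hTI hN hZ
    · exact linked_free hG h hnil hp hTI hN hZ
  · exact linked_cube hG h h3 hd

theorem linked_of_fix (hpd : PairData S T W₁ W₂ U V) (hcs : CoreSide T W₂ V W₁)
    (hT : Side T W₂ V W₁) (hfull : SideFull T W₂ V W₁) (hne : fixCore T V ≠ ⊥) :
    Linked T W₂ := by
  have _ := hpd
  obtain ⟨h1, h2, -⟩ := split hG.1 hT hfull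
  refine linked_of_fix_aux hG hcs hT hfull hne h1 h2 fun hf μ ζ θ hμ hζ => ?_
  obtain ⟨a, ha, ha', -⟩ := adjoin hG hcs hf hμ hζ
  exact ⟨a, ha, ha'⟩

end CfsgLib.FT
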