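import Cfsg.Agent.Lib.FT.CoreAdjoin
import Cfsg.Agent.Lib.FT.Probe
import Cfsg.Agent.Lib.FT.LinearPairs
import Cfsg.Agent.Lib.Char.InertiaNorm
import Cfsg.Agent.Lib.CharDeep.Clifford
import Cfsg.Agent.Lib.OddChar.PairCount
import Cfsg.Agent.Lib.OddOrder.Section16TypeCore
import Cfsg.Agent.S1389

/-!
FT module LinkedTI: `T' = R` a TI set, `Z ≤ R'` a normal subgroup, `λ` a character of `Z`.

If every `⟨Ind_Z λ, f ξ⟩` is divisible by `M = |R : Z|` then the vector `τ(Ind_Z λ - M ζ)` is known on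
the linear family up to a vector `ε` orthogonal to it, and Bessel for `τ(μ - θ ζ)` on the family together
with `ε` leaves `a = 0` (or `a = θ`, `m = 2`): `Linked`.
-/

set_option autoImplicit false
set_option linter.style.haveILetI false

namespace CfsgLib.FT

open Subgroup
open scoped ComplexConjugate

universe u

variable {G : Type u} [Group G] [Fintype G] {T W V W' : Subgroup G}

omit [Fintype G] in
theorem commutator_le_of_subgroup (T : Subgroup G) : ⁅T, T⁆ ≤ T :=
  commutator_le.2 fun a ha b hb => by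
    rw [commutatorElement_def]
    exact mul_mem (mul_mem (mul_mem ha hb) (inv_mem ha)) (inv_mem hb)

omit [Fintype G] in
theorem derived_normal (T : Subgroup G) : (⁅T, T⁆.subgroupOf T).Normal :=
  normal_subgroupOf_of_le_normalizer fun g hg => by
    rw [mem_normalizer_iff_map_conj_eq, map_commutator,
      mem_normalizer_iff_map_conj_eq.1 (le_normalizer hg)]

omit [Fintype G] in
theorem derived_two_normal (T : Subgroup G) : (⁅⁅T, T⁆, ⁅T, T⁆⁆.subgroupOf T).Normal :=
  normal_subgroupOf_of_le_normalizer fun g hg => by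
    rw [mem_normalizer_iff_map_conj_eq, map_commutator, map_commutator,
      mem_normalizer_iff_map_conj_eq.1 (le_normalizer hg)]

theorem tauCore_add (T : Subgroup G) (α β : ↥T → ℂ) :
    tauCore T (α + β) = tauCore T α + tauCore T β := dade_map_add _ _ _ _ _

theorem tauCore_sub (T : Subgroup G) (α β : ↥T → ℂ) :
    tauCore T (α - β) = tauCore T α - tauCore T β := dade_map_sub _ _ _ _ _

namespace CoreSide

variable (h : CoreSide T W V W')
include h

omit [Fintype G] in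
theorem mem_coreSet {a : G} : a ∈ coreSet T ↔ a ∈ ⁅T, T⁆ ∧ a ≠ 1 := by
  simp [coreSet, h.core_eq]

omit [Fintype G] in
theorem W_le : W ≤ T := h.typeP.W₁_compl.2.1

omit [Fintype G] in
theorem isComplement' : Subgroup.IsComplement' (⁅T, T⁆.subgroupOf T) (W.subgroupOf T) := by
  haveI := derived_normal T
  obtain ⟨-, -, hinf, hgen⟩ := h.typeP.W₁_compl
  refine isComplement'_of_disjoint_and_mul_eq_univ ?_ (Set.eq_univ_of_forall fun x => ?_)
  · rw [disjoint_iff, eq_bot_iff]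
    intro x hx
    have : (x : G) ∈ ⁅T, T⁆ ⊓ W := ⟨hx.1, hx.2⟩
    rw [hinf, mem_bot] at this
    exact mem_bot.2 (Subtype.ext this)
  · obtain ⟨a, ha, b, hb, e⟩ := hgen _ x.2
    exact ⟨⟨a, commutator_le_of_subgroup T ha⟩, ha, ⟨b, h.W_le hb⟩, hb, Subtype.ext e.symm⟩

theorem index_derived : (⁅T, T⁆.subgroupOf T).index = Nat.card W := by
  rw [h.isComplement'.symm.index_eq_card, Nat.card_congr (subgroupOfEquivOfLe h.W_le).toEquiv]

variable (hTI : Cfsg.IsTISubset ((⁅T, T⁆ : Subgroup G) : Set G)) (hN : normalizer ((⁅T, T⁆ : Subgroup G) : Set G) = T)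
include hTI hN

omit [Fintype G] h in
theorem centralizer_le_of_TI {a : G} (ha : a ∈ ⁅T, T⁆) (ha1 : a ≠ 1) :
    centralizer ({a} : Set G) ≤ T := by
  intro g hg
  by_contra hgT
  refine ha1 (hTI g (by rw [hN]; exact hgT) a ha ?_)
  rw [mem_centralizer_singleton_iff.1 hg, mul_inv_cancel_right]
  exact ha

theorem supportR_eq_bot {a : G} (ha : a ∈ coreSet T) : Cfsg.supportR T a = ⊥ :=
  OddChar.MaxTypes.supportR_of_le (centralizer_le_of_TI hTI hN (h.mem_coreSet.1 ha).1 ha.2)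

variable (hG : Cfsg.IsMinSimpleOddOrder G) [Fintype T]
include hG

/-- Frobenius reciprocity for the Dade map of a TI core. -/
theorem tauCore_inner {α : ↥T → ℂ} (hα : Cfsg.IsClassFunction T α)
    (hsupp : ∀ x : T, (x : G) ∉ coreSet T → α x = 0) {ψ : G → ℂ}
    (hψ : Cfsg.IsClassFunction G ψ) :
    Cfsg.classInner (tauCore T α) ψ = Cfsg.classInner α (fun x : T => ψ x) := by
  classical
  have hD := dade_core hG h.coatom
  have hval : ∀ g x : G, tauCore T α (x * g * x⁻¹) * conj (ψ (x * g * x⁻¹)) =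
      tauCore T α g * conj (ψ g) := fun g x => by
    rw [show tauCore T α (x * g * x⁻¹) = tauCore T α g from
      OddChar.dadeIsometry_isClassFunction hD hα g x, hψ g x]
  have h1 := OddChar.dade_sum_classFun (K := ℂ) hD (fun g => tauCore T α g * conj (ψ g)) hval
  unfold Cfsg.classInner
  rw [← Finset.sum_subset (s₁ := Finset.univ.filter
    fun g => g ∈ OddChar.dadeSupport (coreSet T) (Cfsg.supportR T)) (Finset.subset_univ _)
    (fun g _ hg => by
      rw [Finset.mem_filter, not_and] at hg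
      simp [tauCore, OddChar.dadeIsometry_eq_zero (hg (Finset.mem_univ _))]), h1]
  congr 1
  refine Finset.sum_congr rfl fun a _ => ?_
  split_ifs with ha
  · have hR := h.supportR_eq_bot hTI hN ha
    have hone : ∀ u : ↥(Cfsg.supportR T (a : G)), (u : G) = 1 := fun u =>
      mem_bot.1 (hR ▸ u.2 : (u : G) ∈ (⊥ : Subgroup G))
    rw [Finset.sum_congr rfl fun u _ => by rw [hone u, mul_one], Finset.sum_const, Finset.card_univ,
      ← Nat.card_eq_fintype_card, nsmul_eq_mul, ← mul_assoc,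
      inv_mul_cancel₀ (Nat.cast_ne_zero.2 Nat.card_pos.ne'), one_mul]
    rw [tauCore, OddChar.dadeIsometry_apply hD hα a ha (x := 1) (u := 1) (one_mem _) (by simp)]
  · rw [hsupp a ha, zero_mul]

theorem tauCore_isometry_of_TI {α β : ↥T → ℂ} (hα : Cfsg.IsClassFunction T α)
    (hsupp : ∀ x : T, (x : G) ∉ coreSet T → α x = 0) (hβ : Cfsg.IsClassFunction T β) :
    Cfsg.classInner (tauCore T α) (tauCore T β) = Cfsg.classInner α β := by
  have hD := dade_core hG h.coatom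
  rw [h.tauCore_inner hTI hN hG hα hsupp (ψ := tauCore T β)
    (OddChar.dadeIsometry_isClassFunction hD hβ)]
  refine classInner_congr_supp (A := {x : T | (x : G) ∈ coreSet T}) hsupp fun x hx => ?_
  exact OddChar.dadeIsometry_apply hD hβ x hx (x := 1) (u := 1) (one_mem _) (by simp)

end CoreSide

section Family

variable [Fintype T]

theorem linChars_apply_of_notMem {ξ : ↥T → ℂ} (hξ : ξ ∈ linChars T) {x : T}
    (hx : (x : G) ∉ ⁅T, T⁆) : ξ x = 0 := by
  haveI := derived_normal T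
  obtain ⟨θ, -, -, -, rfl⟩ := hξ
  exact Char.indFun_eq_zero_of_normal _ θ hx

theorem linChars_apply_of_mem {ξ : ↥T → ℂ} (hξ : ξ ∈ linChars T) {z : T}
    (hz : (z : G) ∈ ⁅⁅T, T⁆, ⁅T, T⁆⁆) : ξ z = ξ 1 := by
  haveI := derived_normal T
  haveI := derived_two_normal T
  set K := ⁅T, T⁆.subgroupOf T
  haveI : Fintype K := Fintype.ofFinite _
  have hzK : z ∈ K := commutator_le_of_subgroup ⁅T, T⁆ hz
  obtain ⟨θ, -, -, hker, rfl⟩ := hξ
  rw [show (z : T) = ((⟨z, hzK⟩ : K) : T) from rfl,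
    show (1 : T) = ((1 : K) : T) from rfl, CharTwist.indFun_normal_apply,
    CharTwist.indFun_normal_apply]
  congr 1
  refine Finset.sum_congr rfl fun x _ => ?_
  simp only [CharTwist.conjFun]
  rw [hker _ ((derived_two_normal T).conj_mem z hz x)]
  exact congrArg θ (Subtype.ext (by simp))

theorem classInner_conj_real {a b : ↥T → ℂ} {n : ℤ} (h : Cfsg.classInner a b = n) :
    Cfsg.classInner b a = n := by
  rw [← Char.classInner_conj_symm, h]; simp

variable (hG : Cfsg.IsMinSimpleOddOrder G)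
include hG

theorem linked_of_layer (h : CoreSide T W V W')
    (hTI : Cfsg.IsTISubset ((⁅T, T⁆ : Subgroup G) : Set G)) (hN : normalizer ((⁅T, T⁆ : Subgroup G) : Set G) = T)
    (Zs : Subgroup T) [Zs.Normal] (hZ : Zs ≤ ⁅⁅T, T⁆, ⁅T, T⁆⁆.subgroupOf T)
    (lam : ↥Zs →* ℂˣ) (hlam : lam ≠ 1) {f : (↥T → ℂ) → (G → ℂ)} (hf : IsLinMap T f)
    {μ ζ : ↥T → ℂ} {θ : ℕ} (hμ : IsFixedInd T W μ θ) (hζ : ζ ∈ linChars T)
    {n X : ℕ} (hΦn : Cfsg.classInner (Cfsg.indFun Zs fun z => (lam z : ℂ))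
      (Cfsg.indFun Zs fun z => (lam z : ℂ)) = n) (hn0 : 0 < n)
    (hnM : n < Zs.relIndex (⁅T, T⁆.subgroupOf T) ^ 2)
    (hΦμ : Cfsg.classInner μ (Cfsg.indFun Zs fun z => (lam z : ℂ)) = X)
    (hdvd : ∀ ξ ∈ linChars T, ∃ k : ℤ,
      Cfsg.classInner (Cfsg.indFun Zs fun z => (lam z : ℂ)) (fun x : T => f ξ x) =
        (Zs.relIndex (⁅T, T⁆.subgroupOf T) : ℂ) * k)
    (hkey : ∀ A : ℤ, 1 ≤ A → (Nat.card W : ℤ) * n <
      (Nat.card ↥(linChars T) * A ^ 2 - 2 * θ * A) * n +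
        (X + Zs.relIndex (⁅T, T⁆.subgroupOf T) * A) ^ 2) : Linked T W := by
  classical
  haveI := derived_normal T
  set K := ⁅T, T⁆.subgroupOf T
  haveI : Fintype K := Fintype.ofFinite _
  haveI : Fintype Zs := Fintype.ofFinite _
  set w := Nat.card W
  set M := Zs.relIndex K
  set Φ := Cfsg.indFun Zs fun z => (lam z : ℂ) with hΦdef
  obtain ⟨hirr, -, -, hm2, -⟩ := linChars_facts hG h
  obtain ⟨hθw, -⟩ := fixedInd_degree hG h hμ
  obtain ⟨a, ha, -, hswap⟩ := adjoin hG h hf hμ hζ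
  have hZK : Zs ≤ K := hZ.trans fun x hx => commutator_le_of_subgroup ⁅T, T⁆ hx
  -- shape of the functions
  obtain ⟨⟨θ₀, hθ₀, hθ₁, hker₀, hμdef⟩, hμn, hμ1⟩ := hμ
  have hΦ1 : Φ 1 = (w : ℂ) * M := by
    rw [hΦdef, Char.indFun_apply_one, map_one, Units.val_one, mul_one, ← relIndex_mul_index hZK,
      h.index_derived, Nat.cast_mul, mul_comm]
  have hΦc : Cfsg.IsClassFunction T Φ := Char.isClassFunction_indFun _ _
  have hμc : Cfsg.IsClassFunction T μ := hμdef ▸ Char.isClassFunction_indFun _ _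
  have hζc : Cfsg.IsClassFunction T ζ := Char.IsIrrCharacter.isClassFunction (hirr ζ hζ).1
  have hout : ∀ x : T, (x : G) ∉ coreSet T → (x : G) ∉ ⁅T, T⁆ ∨ x = 1 := fun x hx => by
    by_cases hxK : (x : G) ∈ ⁅T, T⁆
    · exact Or.inr (Subtype.ext (by_contra fun h1 => hx (h.mem_coreSet.2 ⟨hxK, h1⟩)))
    · exact Or.inl hxK
  set α : ↥T → ℂ := μ - (θ : ℂ) • ζ with hαdef
  set α' : ↥T → ℂ := Φ - (M : ℂ) • ζ with hα'def
  have hαc : Cfsg.IsClassFunction T α := fun x y => by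
    simp only [hαdef, Pi.sub_apply, Pi.smul_apply, hμc x y, hζc x y]
  have hα'c : Cfsg.IsClassFunction T α' := fun x y => by
    simp only [hα'def, Pi.sub_apply, Pi.smul_apply, hΦc x y, hζc x y]
  have hαs : ∀ x : T, (x : G) ∉ coreSet T → α x = 0 := fun x hx => by
    rcases hout x hx with hx' | rfl
    · simp only [hαdef, Pi.sub_apply, Pi.smul_apply, linChars_apply_of_notMem hζ hx', hμdef,
        smul_zero, sub_zero]
      exact Char.indFun_eq_zero_of_normal K θ₀ (g := x) hx' 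
    · simp [hαdef, hμ1, (hirr ζ hζ).2, mul_comm]
  have hα's : ∀ x : T, (x : G) ∉ coreSet T → α' x = 0 := fun x hx => by
    rcases hout x hx with hx' | rfl
    · simp [hα'def, linChars_apply_of_notMem hζ hx', hΦdef,
        Char.indFun_eq_zero_of_normal Zs _ (g := x) fun hm => hx' (hZK hm)]
    · simp [hα'def, hΦ1, (hirr ζ hζ).2, mul_comm, w]
  -- inner products on `T`
  have hone : ∀ ξ ∈ linChars T, ∀ ξ' ∈ linChars T,
      Cfsg.classInner ξ ξ' = if ξ = ξ' then 1 else 0 := fun ξ hξ ξ' hξ' => by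
    split_ifs with e
    · rw [e]; exact Char.classInner_irr_self (hirr ξ' hξ').1
    · exact Char.classInner_irr_of_ne (hirr ξ hξ).1 (hirr ξ' hξ').1 e
  have hsum : ∑ z : Zs, ((lam z : ℂˣ) : ℂ) = 0 := by
    obtain ⟨z₀, hz₀⟩ : ∃ z₀, lam z₀ ≠ 1 := by
      by_contra hc
      push_neg at hc
      exact hlam (MonoidHom.ext hc)
    have h1 : ((lam z₀ : ℂˣ) : ℂ) * ∑ z : Zs, ((lam z : ℂˣ) : ℂ) = ∑ z : Zs, ((lam z : ℂˣ) : ℂ) := by
      rw [Finset.mul_sum]
      refine Fintype.sum_equiv (Equiv.mulLeft z₀) _ _ fun z => ?_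
      simp
    have h2 : ((lam z₀ : ℂˣ) : ℂ) - 1 ≠ 0 := sub_ne_zero.2 fun e => hz₀ (Units.ext e)
    exact (mul_eq_zero.1 (show (((lam z₀ : ℂˣ) : ℂ) - 1) * _ = 0 by
      linear_combination h1)).resolve_left h2
  have hΦξ : ∀ ξ ∈ linChars T, Cfsg.classInner Φ ξ = 0 := fun ξ hξ => by
    rw [hΦdef, Char.classInner_indFun Zs _ _ (Char.IsIrrCharacter.isClassFunction (hirr ξ hξ).1)]
    unfold Cfsg.classInner
    rw [Finset.sum_congr rfl (g := fun z : Zs => ((lam z : ℂˣ) : ℂ) * conj (ξ 1))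
      fun z _ => by show _ * conj (ξ (z : T)) = _; rw [linChars_apply_of_mem hξ (hZ z.2)],
      ← Finset.sum_mul, hsum, zero_mul, mul_zero]
  have hμξ : ∀ ξ ∈ linChars T, Cfsg.classInner α ξ = Cfsg.classInner μ ξ -
      (θ : ℂ) * if ζ = ξ then 1 else 0 := fun ξ hξ => by
    rw [hαdef, Char.classInner_sub_left, Char.classInner_smul_left, hone ζ hζ ξ hξ]
  -- the family
  have hfin : (linChars T).Finite :=
    (Set.finite_range (fun χ : Cfsg.IrrCharacter T => (χ : T → ℂ))).subset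
      fun φ hφ => ⟨⟨φ, (hirr φ hφ).1⟩, rfl⟩
  set Y := hfin.toFinset with hYdef
  have hYmem : ∀ {ξ}, ξ ∈ Y ↔ ξ ∈ linChars T := fun {ξ} => Set.Finite.mem_toFinset hfin
  set m := Y.card
  have hm : m = Nat.card ↥(linChars T) := by
    rw [Nat.card_coe_set_eq, Set.ncard_eq_toFinset_card _ hfin]
  rw [← hm] at hm2 hkey
  have hfone : ∀ ξ ∈ linChars T, ∀ ξ' ∈ linChars T,
      Cfsg.classInner (f ξ) (f ξ') = if ξ = ξ' then 1 else 0 := fun ξ hξ ξ' hξ' => by
    rw [hf.1.2.2.1 _ (OddChar.mem_zspan_self hξ) _ (OddChar.mem_zspan_self hξ'),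
      hone ξ hξ ξ' hξ']
  -- the coefficients of `τ α'`
  choose! k hk using hdvd
  choose! v hv using fun ξ (hξ : ξ ∈ linChars T) => OddChar.Coh.exists_int_inner
    (Char.IsIrrCharacter.isGeneralizedCharacter (hirr ζ hζ).1)
    (Char.IsGeneralizedCharacter.restrict (hf.1.2.2.2 ξ (OddChar.mem_zspan_self hξ)) T)
  have hfc : ∀ ξ ∈ linChars T, Cfsg.IsClassFunction G (f ξ) := fun ξ hξ =>
    Char.IsGeneralizedCharacter.isClassFunction (hf.1.2.2.2 ξ (OddChar.mem_zspan_self hξ))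
  have hc' : ∀ ξ ∈ linChars T,
      Cfsg.classInner (tauCore T α') (f ξ) = (M : ℂ) * ((k ξ - v ξ : ℤ) : ℂ) := fun ξ hξ => by
    rw [h.tauCore_inner hTI hN hG hα'c hα's (hfc ξ hξ), hα'def, Char.classInner_sub_left,
      Char.classInner_smul_left, hk ξ hξ, hv ξ hξ]
    push_cast; ring
  have hM0 : (M : ℂ) ≠ 0 := by
    intro h0
    rw [Nat.cast_eq_zero] at h0
    rw [h0] at hnM
    simp at hnM
  set K₀ : ℤ := k ζ - v ζ + 1 with hK₀
  have hcoef : ∀ ξ ∈ linChars T,
      Cfsg.classInner (tauCore T α') (f ξ) = (M : ℂ) * ((K₀ - if ξ = ζ then 1 else 0 : ℤ) : ℂ) := by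
    intro ξ hξ
    have hd : ξ - ζ ∈ Cfsg.zspanOn (linChars T) {1}ᶜ := OddChar.Coh.mem_zspanOn_iff.2
      ⟨Submodule.sub_mem _ (OddChar.mem_zspan_self hξ) (OddChar.mem_zspan_self hζ), by
        simp [(hirr ξ hξ).2, (hirr ζ hζ).2]⟩
    have e1 := hf.2 _ hd
    rw [OddChar.Coh.zspan_isometry_sub hf.1 (OddChar.mem_zspan_self hξ)
      (OddChar.mem_zspan_self hζ)] at e1
    have e2 : Cfsg.classInner (tauCore T α') (f ξ - f ζ) = Cfsg.classInner α' (ξ - ζ) := by
      rw [e1]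
      exact h.tauCore_isometry_of_TI hTI hN hG hα'c hα's fun x y => by
        simp [Char.IsIrrCharacter.isClassFunction (hirr ξ hξ).1 x y, hζc x y]
    rw [Char.classInner_sub_right, hc' ζ hζ, hα'def, Char.classInner_sub_left,
      Char.classInner_sub_right, Char.classInner_sub_right, Char.classInner_smul_left,
      Char.classInner_smul_left, hΦξ ξ hξ, hΦξ ζ hζ, hone ζ hζ ξ hξ, hone ζ hζ ζ hζ, if_pos rfl]
      at e2
    rcases eq_or_ne ξ ζ with rfl | hne
    · rw [hc' ξ hξ, if_pos rfl, hK₀, add_sub_cancel_right]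
    · rw [if_neg hne.symm] at e2
      rw [if_neg hne, sub_zero, hK₀, Int.cast_add, Int.cast_one, mul_add, mul_one]
      linear_combination e2
  -- the vector orthogonal to the family
  set c : (↥T → ℂ) → ℂ := fun ξ => (M : ℂ) * ((K₀ - if ξ = ζ then 1 else 0 : ℤ) : ℂ) with hcdef
  set ε := tauCore T α' - ∑ ξ ∈ Y, c ξ • f ξ with hεdef
  have hεξ : ∀ ξ ∈ linChars T, Cfsg.classInner ε (f ξ) = 0 := fun ξ hξ => by
    rw [hεdef, Char.classInner_sub_left, hcoef ξ hξ,
      OddChar.Coh.inner_sum_orth Y f c (fun i hi j hj hij => by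
        rw [hfone i (hYmem.1 hi) j (hYmem.1 hj), if_neg hij]) (hYmem.2 hξ),
      hfone ξ hξ ξ hξ, if_pos rfl, mul_one, sub_self]
  have hS1 : ∀ g : (↥T → ℂ) → ℤ, (∑ ξ ∈ Y, g ξ * if ξ = ζ then 1 else 0) = g ζ := fun g => by
    rw [Finset.sum_eq_single ζ (fun b _ hb => by simp [hb])
      (fun h' => absurd (hYmem.2 hζ) h'), if_pos rfl, mul_one]
  have hsq : ∑ ξ ∈ Y, (K₀ - if ξ = ζ then 1 else 0) ^ 2 = (m : ℤ) * K₀ ^ 2 - 2 * K₀ + 1 := by
    have : ∀ ξ ∈ Y, (K₀ - if ξ = ζ then 1 else 0) ^ 2 =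
        K₀ ^ 2 + (-2 * K₀ + 1) * if ξ = ζ then 1 else 0 := fun ξ _ => by split_ifs <;> ring
    rw [Finset.sum_congr rfl this, Finset.sum_add_distrib, Finset.sum_const, hS1, nsmul_eq_mul]
    ring
  have hα'n : Cfsg.classInner (tauCore T α') (tauCore T α') = (n : ℂ) + (M : ℂ) ^ 2 := by
    rw [h.tauCore_isometry_of_TI hTI hN hG hα'c hα's hα'c, hα'def, Char.classInner_sub_left,
      Char.classInner_sub_right, Char.classInner_sub_right, Char.classInner_smul_left,
      Char.classInner_smul_left, Char.classInner_smul_right, Char.classInner_smul_right,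
      hΦn, hΦξ ζ hζ, hone ζ hζ ζ hζ, if_pos rfl, ← Char.classInner_conj_symm, hΦξ ζ hζ]
    simp; ring
  have hεn : Cfsg.classInner ε ε =
      (((n : ℤ) + M ^ 2 - M ^ 2 * ((m : ℤ) * K₀ ^ 2 - 2 * K₀ + 1) : ℤ) : ℂ) := by
    have e1 : Cfsg.classInner ε ε = Cfsg.classInner ε (tauCore T α') := by
      nth_rewrite 2 [hεdef]
      rw [Char.classInner_sub_right, Char.classInner_sum_right, Finset.sum_eq_zero, sub_zero]
      intro ξ hξ
      rw [Char.classInner_smul_right, hεξ ξ (hYmem.1 hξ), mul_zero]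
    rw [e1, hεdef, Char.classInner_sub_left, Char.classInner_sum_left, hα'n, ← hsq]
    push_cast
    rw [Finset.mul_sum]
    refine congrArg _ (Finset.sum_congr rfl fun ξ hξ => ?_)
    rw [Char.classInner_smul_left, ← Char.classInner_conj_symm, hcoef ξ (hYmem.1 hξ), hcdef]
    simp
    ring
  have hK₀b : (m : ℤ) * K₀ ^ 2 - 2 * K₀ ≤ 0 := by
    have h0 := OddChar.Coh.classInner_self_nonneg ε
    rw [hεn, Complex.intCast_re] at h0
    have h0' : (0 : ℤ) ≤ (n : ℤ) + M ^ 2 - M ^ 2 * ((m : ℤ) * K₀ ^ 2 - 2 * K₀ + 1) := by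
      exact_mod_cast h0
    have hn' : (n : ℤ) < (M : ℤ) ^ 2 := by exact_mod_cast hnM
    by_contra hc
    have : (M : ℤ) ^ 2 ≤ M ^ 2 * ((m : ℤ) * K₀ ^ 2 - 2 * K₀) :=
      le_mul_of_one_le_right (sq_nonneg _) (by omega)
    linarith
  have hm2' : (2 : ℤ) ≤ m := by exact_mod_cast hm2
  have hK₀cases : K₀ = 0 ∨ K₀ = 1 ∧ (m : ℤ) = 2 := by
    rcases lt_trichotomy K₀ 0 with h0 | h0 | h0
    · nlinarith
    · exact Or.inl h0
    · have h1 : K₀ * ((m : ℤ) * K₀ - 2) ≤ 0 := by linarith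
      have h2 : (m : ℤ) * K₀ - 2 ≤ 0 := by
        by_contra hc; nlinarith
      exact Or.inr ⟨by nlinarith, by nlinarith⟩
  have hquad : (m : ℤ) * K₀ ^ 2 - 2 * K₀ = 0 := by
    rcases hK₀cases with h0 | ⟨h1, h2⟩
    · rw [h0]; ring
    · rw [h1, h2]; ring
  have hεn' : Cfsg.classInner ε ε = (n : ℂ) := by
    rw [hεn, show (m : ℤ) * K₀ ^ 2 - 2 * K₀ + 1 = 1 by omega]
    push_cast; ring
  -- the inner product with `τ α`
  set A : ℤ := a + K₀ * θ - m * K₀ * a with hAdef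
  have haξ : ∀ ξ ∈ linChars T, Cfsg.classInner (f ξ) (tauCore T α) =
      ((a - if ξ = ζ then (θ : ℤ) else 0 : ℤ) : ℂ) := fun ξ hξ => by
    rw [← Char.classInner_conj_symm, ha ξ hξ]
    split_ifs <;> simp
  have hμζ : ∀ ξ ∈ linChars T, Cfsg.classInner μ ξ = 0 := fun ξ hξ => by
    have hξc := Char.IsIrrCharacter.isClassFunction (hirr ξ hξ).1
    have hξ1 := (hirr ξ hξ).2
    obtain ⟨φ, hφ, -, -, e⟩ := hξ
    rw [hμdef, Char.classInner_indFun K θ₀ _ hξc]
    subst e
    rw [Char.indFun_restrict_normal, Char.classInner_smul_right, Char.classInner_sum_right,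
      Finset.sum_eq_zero, mul_zero]
    intro x _
    refine Char.classInner_irr_of_ne hθ₀ (CharTwist.isIrrCharacter_conjFun K hφ x) fun e' => ?_
    have hw0 : (w : ℂ) ≠ 0 := Nat.cast_ne_zero.2 Nat.card_pos.ne'
    rw [Char.indFun_apply_one, h.index_derived, mul_eq_left₀ hw0] at hξ1
    rw [hμdef, Char.indFun_apply_one, h.index_derived] at hμ1
    have h0 : θ₀ 1 = (θ : ℂ) := mul_left_cancel₀ hw0 hμ1
    have h1 : θ₀ 1 = φ 1 := by
      rw [e']; simp only [CharTwist.conjFun]; exact congrArg φ (Subtype.ext (by simp))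
    rw [h0, hξ1] at h1
    have : θ = 1 := by exact_mod_cast h1
    have := (Subgroup.one_lt_card_iff_ne_bot W).2 h.typeP.W₁_ne
    omega
  have hεα : Cfsg.classInner ε (tauCore T α) = (((X : ℤ) + M * A : ℤ) : ℂ) := by
    rw [hεdef, Char.classInner_sub_left, Char.classInner_sum_left,
      h.tauCore_isometry_of_TI hTI hN hG hα'c hα's hαc, Finset.sum_congr rfl fun ξ hξ => by
        rw [Char.classInner_smul_left, haξ ξ (hYmem.1 hξ)]]
    have e1 : Cfsg.classInner α' α = (((X : ℤ) + θ * M : ℤ) : ℂ) := by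
      rw [hα'def, hαdef, Char.classInner_sub_left, Char.classInner_sub_right,
        Char.classInner_sub_right, Char.classInner_smul_left, Char.classInner_smul_left,
        Char.classInner_smul_right, Char.classInner_smul_right, hΦξ ζ hζ,
        ← Char.classInner_conj_symm, hΦμ, hone ζ hζ ζ hζ, if_pos rfl,
        ← Char.classInner_conj_symm (φ := μ), hμζ ζ hζ]
      simp; ring
    have e2 : ∑ ξ ∈ Y, (K₀ - if ξ = ζ then 1 else 0) * (a - if ξ = ζ then (θ : ℤ) else 0) =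
        (m : ℤ) * (K₀ * a) - K₀ * θ - a + θ := by
      have : ∀ ξ ∈ Y, (K₀ - if ξ = ζ then 1 else 0) * (a - if ξ = ζ then (θ : ℤ) else 0) =
          K₀ * a + (-(K₀ * θ) - a + θ) * if ξ = ζ then 1 else 0 := fun ξ _ => by
        split_ifs <;> ring
      rw [Finset.sum_congr rfl this, Finset.sum_add_distrib, Finset.sum_const, hS1, nsmul_eq_mul]
      ring
    have e3 : ∑ ξ ∈ Y, c ξ * ((a - if ξ = ζ then (θ : ℤ) else 0 : ℤ) : ℂ) =
        (M : ℂ) * (((m : ℤ) * (K₀ * a) - K₀ * θ - a + θ : ℤ) : ℂ) := by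
      rw [← e2, Int.cast_sum, Finset.mul_sum]
      exact Finset.sum_congr rfl fun ξ _ => by simp [hcdef]; ring
    rw [e1, e3, hAdef]
    push_cast; ring
  -- Bessel
  have hαn : (Cfsg.classInner (tauCore T α) (tauCore T α)).re = (w : ℝ) + θ ^ 2 := by
    rw [h.tauCore_isometry_of_TI hTI hN hG hαc hαs hαc, hαdef, Char.classInner_sub_left,
      Char.classInner_sub_right, Char.classInner_sub_right, Char.classInner_smul_left,
      Char.classInner_smul_left, Char.classInner_smul_right, Char.classInner_smul_right,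
      hμn, hμζ ζ hζ, ← Char.classInner_conj_symm, hμζ ζ hζ, hone ζ hζ ζ hζ, if_pos rfl]
    simp [pow_two, w]
  have hB := (OddChar.Coh.bessel (insert none (Y.image some))
    (fun o : Option (↥T → ℂ) => o.elim ε f) (tauCore T α)
    (by
      rintro (_ | i) hi (_ | j) hj hij
      · exact absurd rfl hij
      · exact hεξ j (hYmem.1 (by simpa using hj))
      · show Cfsg.classInner (f i) ε = 0
        rw [← Char.classInner_conj_symm, hεξ i (hYmem.1 (by simpa using hi)), map_zero]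
      · show Cfsg.classInner (f i) (f j) = 0
        rw [hfone i (hYmem.1 (by simpa using hi)) j (hYmem.1 (by simpa using hj)),
          if_neg (fun e => hij (congrArg some e))])
    (fun o => o.elim (n : ℝ) fun _ => 1)
    (fun o => o.elim (((X : ℤ) + M * A : ℤ) : ℝ) fun ξ => ((a - if ξ = ζ then (θ : ℤ) else 0 : ℤ) : ℝ))
    (by
      rintro (_ | i) hi
      · simpa using hεn'
      · simp [hfone i (hYmem.1 (by simpa using hi)) i (hYmem.1 (by simpa using hi))])
    (by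
      rintro (_ | i) _
      · simpa using hn0
      · simp)
    (by
      rintro (_ | i) hi
      · show Cfsg.classInner (tauCore T α) ε = _
        rw [← Char.classInner_conj_symm, hεα]; simp
      · show Cfsg.classInner (tauCore T α) (f i) = _
        rw [ha i (hYmem.1 (by simpa using hi))]
        simp only [Option.elim_some]
        split_ifs <;> simp)).1
  rw [Finset.sum_insert (by simp), Finset.sum_image (fun _ _ _ _ e => Option.some_injective _ e),
    hαn] at hB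
  simp only [Option.elim_none, Option.elim_some, div_one] at hB
  have hsum2 : ∑ ξ ∈ Y, (a - if ξ = ζ then (θ : ℤ) else 0) ^ 2 =
      (m : ℤ) * A ^ 2 - 2 * θ * A + θ ^ 2 := by
    have : ∀ ξ ∈ Y, (a - if ξ = ζ then (θ : ℤ) else 0) ^ 2 =
        a ^ 2 + (-2 * θ * a + θ ^ 2) * if ξ = ζ then 1 else 0 := fun ξ _ => by split_ifs <;> ring
    rw [Finset.sum_congr rfl this, Finset.sum_add_distrib, Finset.sum_const, hS1, nsmul_eq_mul,
      hAdef]
    rcases hK₀cases with h0 | ⟨h1, h2⟩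
    · rw [h0]; ring
    · rw [h1, h2]; ring
  have hsumR : ∑ ξ ∈ Y, ((a - if ξ = ζ then (θ : ℤ) else 0 : ℤ) : ℝ) ^ 2 =
      (((m : ℤ) * A ^ 2 - 2 * θ * A + θ ^ 2 : ℤ) : ℝ) := by
    rw [← hsum2]; push_cast; rfl
  rw [hsumR, add_comm, ← le_sub_iff_add_le, le_sub_iff_add_le] at hB
  have hnR : (0 : ℝ) < n := by exact_mod_cast hn0
  have hB' : ((X : ℤ) + M * A) ^ 2 + ((m : ℤ) * A ^ 2 - 2 * θ * A) * n ≤ (w : ℤ) * n := by
    have h3 := mul_le_mul_of_nonneg_right hB hnR.le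
    rw [add_mul, div_mul_cancel₀ _ hnR.ne'] at h3
    push_cast at h3
    exact_mod_cast (show (((X : ℤ) + M * A : ℤ) : ℝ) ^ 2 +
      (((m : ℤ) : ℝ) * (A : ℝ) ^ 2 - 2 * θ * A) * n ≤ (w : ℝ) * n by push_cast; linarith)
  have hA0 : A = 0 := by
    rcases lt_trichotomy A 0 with h0 | h0 | h0
    · exfalso
      have h1 : (w : ℤ) + 1 ≤ (m : ℤ) * A ^ 2 - 2 * θ * A := by
        have : (2 * (w : ℤ) - 1) ≤ θ := by omega
        nlinarith
      have hn' : (0 : ℤ) < n := by exact_mod_cast hn0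
      nlinarith [sq_nonneg ((X : ℤ) + M * A), mul_le_mul_of_nonneg_right h1 hn'.le]
    · exact h0
    · exact absurd hB' (not_le.2 (by have := hkey A (by omega); linarith))
  rcases hK₀cases with h0 | ⟨h1, h2⟩
  · have ha0 : a = 0 := by simpa [hAdef, h0] using hA0
    exact ⟨f, μ, ζ, θ, hf, ⟨⟨θ₀, hθ₀, hθ₁, hker₀, hμdef⟩, hμn, hμ1⟩, hζ,
      fun ξ hξ => by rw [ha ξ hξ, ha0]; split_ifs <;> simp⟩
  · refine hswap ?_ (by rw [← hm]; exact_mod_cast h2)
    have : a + θ - 2 * a = 0 := by simpa [hAdef, h1, h2] using hA0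
    omega

end Family

end CfsgLib.FT
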