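import Cfsg.Agent.Lib.FT.Defs

/-!
PROJECT FT, stage B/C: vocabulary for the pair `S`, `T` of maximal subgroups with `κ ≠ ∅`.

The finish replacing Peterfalvi 9-14 (notes/ft_project.md):
* Fullness: for `η = η_{ij}` summed over the Galois orbit, `|η|² + Re η` sums to `≥ 0` at every element, to
  `|G|` in all, and is large on the conjugates of `F(S) ∖ N₀`, `F(T) ∖ N₀` and of `W ∖ (W₁ ∪ W₂)`;
  hence `U`, `V` are cyclic of full order and act faithfully.
* CoreKill: if `T' = T_σ` and the linear family is linked to a fixed character, or `w < q`, then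
  `τ(Ind 1 - ζ) = 1 + Σ η - ψ` exactly, so `ψ` is odd outside the pair: too much norm.
* L: the maximal subgroup over `N(U)` has kernel `U` and complement `W₁ × W₂^y`; S1472 finishes.
-/

set_option autoImplicit false

namespace CfsgLib.FT

open Subgroup

universe u

variable {G : Type u} [Group G]

/-- `ω` is trivial on `X`. -/
def TrivialOn {W : Subgroup G} (ω : ↥W →* ℂˣ) (X : Subgroup G) : Prop :=
  ∀ a : W, (a : G) ∈ X → ω a = 1

/-- `M₂` is not conjugate to `M₁`. -/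
def NotConj (M₁ M₂ : Subgroup G) : Prop := ∀ g : G, M₂ ≠ M₁.map (MulAut.conj g).toMonoidHom

/-- The pair; `S` is always the member of type II. -/
structure PairData (S T W₁ W₂ U V : Subgroup G) : Prop where
  maxS : IsCoatom S
  maxT : IsCoatom T
  typeS : Cfsg.IsTypePWith S W₁ U W₂
  typeT : Cfsg.IsTypePWith T W₂ V W₁
  inter : S ⊓ T = W₁ ⊔ W₂
  typeII : Cfsg.IsOfTypeII S
  typeT25 : Cfsg.IsOfTypeII T ∨ Cfsg.IsOfTypeIII T ∨ Cfsg.IsOfTypeIV T ∨ Cfsg.IsOfTypeV T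
  notConj : NotConj S T
  cover : ∀ H : Subgroup G, IsCoatom H → (Cfsg.kappa H).Nonempty → ¬ NotConj S H ∨ ¬ NotConj T H

/-- `C_R(U)`, `R = M_F`. -/
def fixCore (M U : Subgroup G) : Subgroup G :=
  Cfsg.fittingHallOf M ⊓ centralizer (U : Set G)

/-- `C_U(R)`. -/
def kerU (M U : Subgroup G) : Subgroup G :=
  U ⊓ centralizer (Cfsg.fittingHallOf M : Set G)

/-- The part of `F(M)` left out of the count: `C_R(U) C_U(R)'`. -/
def outCore (M U : Subgroup G) : Subgroup G := fixCore M U ⊔ ⁅kerU M U, kerU M U⁆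

/-- `u` acts trivially on `R / C_R(U)`. -/
def TrivModFix (M U : Subgroup G) (u : G) : Prop :=
  ∀ x ∈ Cfsg.fittingHallOf M, u * x * u⁻¹ * x⁻¹ ∈ fixCore M U

/-- What the count needs of one side: `M` of type II, III or IV, complement `W`, fixed subgroup `W'`. -/
structure Side (M W U W' : Subgroup G) : Prop where
  coatom : IsCoatom M
  typeP : Cfsg.IsTypePWith M W U W'
  q_prime : (Nat.card W).Prime
  p_prime : (Nat.card W').Prime
  U_ne : U ≠ ⊥
  fitting_TI : Cfsg.IsTISubset (Cfsg.fittingOf M : Set G)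
  fitting_normalizer : normalizer (Cfsg.fittingOf M : Set G) = M
  fitting_eq : Cfsg.fittingOf M = Cfsg.fittingHallOf M ⊔ kerU M U
  U_commutator : ⁅U, U⁆ ≤ kerU M U
  U_frob : ∀ w ∈ W, w ≠ 1 → U ⊓ centralizer ({w} : Set G) = ⊥
  coprime : (Nat.card (Cfsg.fittingHallOf M)).Coprime (Nat.card U)
  coprime_W : (Nat.card ↥⁅M, M⁆).Coprime (Nat.card W)
  fix_normal : M ≤ normalizer (fixCore M U : Set G)
  out_normal : M ≤ normalizer (outCore M U : Set G)
  fix_meet : W' ⊓ fixCore M U = ⊥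
  quot_card : (fixCore M U).relIndex (Cfsg.fittingHallOf M) = Nat.card W' ^ Nat.card W
  quot_comm : ⁅Cfsg.fittingHallOf M, Cfsg.fittingHallOf M⁆ ≤ fixCore M U
  quot_pow : ∀ x ∈ Cfsg.fittingHallOf M, x ^ Nat.card W' ∈ fixCore M U
  chief : ∀ N : Subgroup G, fixCore M U ≤ N → N ≤ Cfsg.fittingHallOf M →
    U ⊔ W ≤ normalizer (N : Set G) → N = fixCore M U ∨ N = Cfsg.fittingHallOf M
  ker_eq : ∀ u ∈ U, TrivModFix M U u → u ∈ kerU M U

/-- The outcome of the count. -/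
structure SideFull (M W U W' : Subgroup G) : Prop where
  ker_bot : kerU M U = ⊥
  cyclic : IsCyclic U
  card : Nat.card U * (Nat.card W' - 1) = Nat.card W' ^ Nat.card W - 1
  coprime : ((Nat.card W' ^ Nat.card W - 1) / (Nat.card W' - 1)).Coprime (Nat.card W' - 1)
  fpf : ∀ u ∈ U, u ≠ 1 → ∀ x ∈ Cfsg.fittingHallOf M,
    u * x * u⁻¹ * x⁻¹ ∈ fixCore M U → x ∈ fixCore M U

/-- `(ū + 1) / (p^q c̄ q)`: what one side loses in the count. -/
noncomputable def slack (M W U W' : Subgroup G) : ℝ :=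
  (((kerU M U).relIndex U : ℝ) + 1) /
    ((Nat.card W' : ℝ) ^ Nat.card W * (⁅kerU M U, kerU M U⁆.relIndex (kerU M U) : ℝ) *
      (Nat.card W : ℝ))

/-- The conjugates of `F(M) ∖ N₀`. -/
def region (M U : Subgroup G) : Set G :=
  {g | ∃ y : G, y * g * y⁻¹ ∈ Cfsg.fittingOf M ∧ y * g * y⁻¹ ∉ outCore M U}

/-- The conjugates of `W ∖ (W₁ ∪ W₂)`. -/
def wRegion (W₁ W₂ : Subgroup G) : Set G :=
  {g | ∃ y : G, y * g * y⁻¹ ∈ W₁ ⊔ W₂ ∧ y * g * y⁻¹ ∉ W₁ ∧ y * g * y⁻¹ ∉ W₂}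

/-- A linear character of `F(M)` trivial on `N₀` whose stabiliser in `U` on `R` is `C_U(R)`. -/
def FullChar (M U : Subgroup G) (ν : ↥(Cfsg.fittingOf M) →* ℂˣ) : Prop :=
  TrivialOn ν (outCore M U) ∧
    ∀ u ∈ U, (∀ x y : ↥(Cfsg.fittingOf M), (x : G) ∈ Cfsg.fittingHallOf M →
      (y : G) = u * x * u⁻¹ → ν y = ν x) → u ∈ kerU M U

/-- The weight `(|M_σ| - 1) / |M|`. -/
noncomputable def coreWeight (M : Subgroup G) : ℝ :=
  ((Nat.card (Cfsg.sigmaCore M) : ℝ) - 1) / (Nat.card M : ℝ)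

/-- The cosets of the cores of the maximal subgroups not conjugate to a member of `E`. -/
def restSet (E : Set (Subgroup G)) : Set G :=
  {g | ∃ N : Subgroup G, IsCoatom N ∧ (∀ M ∈ E, NotConj M N) ∧ g ∈ Cfsg.tildeOf N (coreSet N)}

/-! ### A member with `M' = M_σ` -/

/-- `T` with `T' = T_σ`, complement `W`, fixed subgroup `W'` of prime order. -/
structure CoreSide (T W V W' : Subgroup G) : Prop where
  coatom : IsCoatom T
  typeP : Cfsg.IsTypePWith T W V W'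
  core_eq : Cfsg.sigmaCore T = ⁅T, T⁆
  q_prime : (Nat.card W').Prime
  coprime : (Nat.card ↥⁅T, T⁆).Coprime (Nat.card W)

/-- The Dade map of `T_σ ∖ 1`. -/
noncomputable def tauCore (T : Subgroup G) (α : ↥T → ℂ) : G → ℂ :=
  Cfsg.dadeIsometry (coreSet T) T (Cfsg.supportR T) α

/-- The characters induced from the nontrivial linear characters of `T'`. -/
noncomputable def linChars (T : Subgroup G) [Fintype T] : Set (↥T → ℂ) :=
  Cfsg.inducedIrrAbove (⁅T, T⁆.subgroupOf T) (⁅⁅T, T⁆, ⁅T, T⁆⁆.subgroupOf T)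

/-- `f` realises the coherence of `linChars T`. -/
def IsLinMap [Fintype G] (T : Subgroup G) [Fintype T] (f : (↥T → ℂ) → (G → ℂ)) : Prop :=
  Cfsg.IsLinearIsometryOn (Cfsg.zspan (linChars T)) f ∧
    ∀ α ∈ Cfsg.zspanOn (linChars T) {1}ᶜ, f α = tauCore T α

/-- A character induced from a nontrivial `W`-fixed character of `T'`, of degree `|W| θ`. -/
def IsFixedInd (T W : Subgroup G) [Fintype T] (μ : ↥T → ℂ) (θ : ℕ) : Prop :=
  μ ∈ Cfsg.inducedIrrAbove (⁅T, T⁆.subgroupOf T) ⊥ ∧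
    Cfsg.classInner μ μ = (Nat.card W : ℂ) ∧ μ 1 = (Nat.card W : ℂ) * θ

open Classical in
/-- `τ (μ - θ ζ) = Y - θ f ζ` with `Y` orthogonal to the linear family. -/
def Linked [Fintype G] (T W : Subgroup G) [Fintype T] : Prop :=
  ∃ (f : (↥T → ℂ) → (G → ℂ)) (μ ζ : ↥T → ℂ) (θ : ℕ), IsLinMap T f ∧ IsFixedInd T W μ θ ∧
    ζ ∈ linChars T ∧ ∀ ξ ∈ linChars T,
      Cfsg.classInner (tauCore T (μ - (θ : ℂ) • ζ)) (f ξ) = if ξ = ζ then -(θ : ℂ) else 0

/-! ### The subgroup over `N(U)` -/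

/-- The maximal subgroup containing `N(U)`. -/
structure LData (S T W₁ W₂ U L : Subgroup G) : Prop where
  isF : IsFType L
  frob : IsFrob L
  notConjS : NotConj S L
  notConjT : NotConj T L
  norm_le : normalizer (U : Set G) ≤ L
  U_le : U ≤ Cfsg.sigmaCore L
  coprime : (Nat.card (Cfsg.sigmaCore L)).Coprime (Nat.card W₁ * Nat.card W₂)
  index : (Cfsg.sigmaCore L).relIndex L = Nat.card W₁ ∨
    (Cfsg.sigmaCore L).relIndex L = Nat.card W₁ * Nat.card W₂
  small_index : (Cfsg.sigmaCore L).relIndex L = Nat.card W₁ → Cfsg.sigmaCore L ≠ U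
  large_index : (Cfsg.sigmaCore L).relIndex L = Nat.card W₁ * Nat.card W₂ →
    ∃ y ∈ Cfsg.fittingHallOf T, W₂.map (MulAut.conj y).toMonoidHom ≤ L
  proper : Cfsg.sigmaCore L ≠ U →
    (2 * (Cfsg.sigmaCore L).relIndex L + 1) * Nat.card U ≤ Nat.card (Cfsg.sigmaCore L)

end CfsgLib.FT
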