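import Cfsg.Agent.Lib.OddChar.Coprime
import Cfsg.Agent.S1511
import Cfsg.Agent.S1513

/-!
PROJECT FT module PairChars: the characters `μ ω` over one irreducible character of `K` fixed by `W₁`,
for `L = K W₁` (Peterfalvi 4.3-4.5 in the form needed for the pair `S, T`).
-/

set_option autoImplicit false
set_option linter.style.haveILetI false

namespace CfsgLib.FT.PairChars

variable {L : Type*} [Group L] [Fintype L]

/-- The standing hypotheses of Peterfalvi section 4. -/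
structure Hyp (K W₁ W₂ : Subgroup L) : Prop where
  inf : K ⊓ W₁ = ⊥
  sup : K ⊔ W₁ = ⊤
  ne₁ : W₁ ≠ ⊥
  cyclic₁ : IsCyclic W₁
  hall : Nat.Coprime (Nat.card W₁) W₁.index
  ne₂ : W₂ ≠ ⊥
  cyclic₂ : IsCyclic W₂
  le : W₂ ≤ K
  cent : ∀ x ∈ W₁, x ≠ 1 → K ⊓ Subgroup.centralizer ({x} : Set L) = W₂
  odd : Odd (Nat.card ↥(W₁ ⊔ W₂))

variable {K W₁ W₂ : Subgroup L} [K.Normal]

/-- An element outside `K` is conjugate to an element of `W` outside `W₂`. -/
theorem Hyp.exists_conj (h : Hyp K W₁ W₂) {g : L} (hg : g ∉ K) :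
    ∃ x : L, ∃ w : ↥(W₁ ⊔ W₂), (w : L) ∉ W₂ ∧ x * g * x⁻¹ = w := by
  have hcompl : Subgroup.IsComplement' K W₁ :=
    Subgroup.isComplement'_of_disjoint_and_mul_eq_univ (disjoint_iff.2 h.inf) (by
      rw [← Subgroup.normal_mul, h.sup, Subgroup.coe_top])
  obtain ⟨⟨⟨k, hk⟩, ⟨a, ha⟩⟩, hka⟩ := hcompl.2 g
  simp only at hka
  have ha1 : a ≠ 1 := fun e => hg (by rw [← hka, e, mul_one]; exact hk)
  have hcop : Nat.Coprime (orderOf a) (Nat.card K) := by
    have hd := orderOf_dvd_natCard (⟨a, ha⟩ : W₁)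
    rw [Subgroup.orderOf_mk] at hd
    have := h.hall
    rw [hcompl.index_eq_card] at this
    exact this.coprime_dvd_left hd
  obtain ⟨x, -, c, hc, hca, e⟩ := CfsgLib.OddChar.exists_conj_centralizer_coset K a
    (by rw [Subgroup.normalizer_eq_top]; exact Subgroup.mem_top a) hcop k hk
  have hc2 : c ∈ W₂ := by
    rw [← h.cent a ha ha1]
    exact ⟨hc, Subgroup.mem_centralizer_singleton_iff.2 hca⟩
  refine ⟨x, ⟨c * a, mul_mem (Subgroup.mem_sup_right hc2) (Subgroup.mem_sup_left ha)⟩, fun hmem => ?_,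
    by rw [← hka]; exact e⟩
  have haK : a ∈ K ⊓ W₁ := ⟨h.le ((Subgroup.mul_mem_cancel_left _ hc2).1 hmem), ha⟩
  rw [h.inf, Subgroup.mem_bot] at haK
  exact ha1 haK

/-- Two `μ`'s of one column agree on `K`. -/
theorem Hyp.eq_on (h : Hyp K W₁ W₂) {μ : (↥(W₁ ⊔ W₂) →* ℂˣ) → (L → ℂ)}
    {δ : (↥(W₁ ⊔ W₂) →* ℂˣ) → ℂ} (hδ : ∀ ω, δ ω = 1 ∨ δ ω = -1)
    (hpair : ∀ ω ω' : ↥(W₁ ⊔ W₂) →* ℂˣ, (∀ w : ↥(W₁ ⊔ W₂), (w : L) ∈ W₂ → ω w = ω' w) →
      δ ω = δ ω' ∧ Cfsg.indFun (W₁ ⊔ W₂) (fun w => (ω w : ℂ) - (ω' w : ℂ)) = δ ω • (μ ω - μ ω'))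
    {η ω₀ : ↥(W₁ ⊔ W₂) →* ℂˣ} (hη : ∀ w : ↥(W₁ ⊔ W₂), (w : L) ∈ W₂ → η w = ω₀ w) (k : K) :
    μ η k = μ ω₀ k := by
  obtain ⟨hδe, hind⟩ := hpair η ω₀ hη
  have hz : Cfsg.indFun (W₁ ⊔ W₂) (fun w => (η w : ℂ) - (ω₀ w : ℂ)) (k : L) = 0 := by
    rw [CfsgLib.Char.indFun_apply]
    refine mul_eq_zero_of_right _ (Finset.sum_eq_zero fun x _ => ?_)
    by_cases hx : x⁻¹ * (k : L) * x ∈ W₁ ⊔ W₂
    · rw [CfsgLib.Char.extendByZero_apply_mem _ _ hx]
      have hK' : x⁻¹ * (k : L) * x ∈ K := by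
        simpa using Subgroup.Normal.conj_mem ‹K.Normal› (k : L) k.2 x⁻¹
      have hW2 : x⁻¹ * (k : L) * x ∈ W₂ := by
        obtain ⟨a, ha⟩ : ∃ a, a ∈ W₁ ∧ a ≠ 1 := by
          by_contra hh
          push Not at hh
          exact h.ne₁ ((Subgroup.eq_bot_iff_forall _).2 hh)
        rw [← h.cent a ha.1 ha.2]
        refine ⟨hK', Subgroup.mem_centralizer_singleton_iff.2 ?_⟩
        have hWc : IsCyclic ↥(W₁ ⊔ W₂) := (Cfsg.Agent.S1510.result K W₁ W₂ h.inf h.sup h.ne₁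
          h.cyclic₁ h.hall h.ne₂ h.cyclic₂ h.le h.cent h.odd).2.2.2.2.1
        letI : CommGroup ↥(W₁ ⊔ W₂) := IsCyclic.commGroup
        exact congrArg Subtype.val
          (mul_comm (⟨_, hx⟩ : ↥(W₁ ⊔ W₂)) ⟨a, Subgroup.mem_sup_left ha.1⟩)
      rw [hη ⟨_, hx⟩ hW2, sub_self]
    · simp [Cfsg.extendByZero, hx]
  rw [congrFun hind (k : L), Pi.smul_apply, smul_eq_mul, Pi.sub_apply] at hz
  rcases mul_eq_zero.1 hz with h0 | h0
  · rcases hδ η with e | e <;> simp [e] at h0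
  · exact sub_eq_zero.1 h0

open Classical in
/-- The characters of `L` over a `W₁`-fixed irreducible character `θ` of `K` of degree `≡ 1` modulo
`|W₁|` are the `μ η`, `η` in one column, all of sign `1` and all restricting to `θ`. -/
theorem Hyp.column (h : Hyp K W₁ W₂) [Fintype K] [Fintype (↥(W₁ ⊔ W₂) →* ℂˣ)]
    {μ : (↥(W₁ ⊔ W₂) →* ℂˣ) → (L → ℂ)} {δ : (↥(W₁ ⊔ W₂) →* ℂˣ) → ℂ}
    (hinj : Function.Injective μ) (hirr : ∀ ω, Cfsg.IsIrrCharacter L (μ ω))
    (hδ : ∀ ω, δ ω = 1 ∨ δ ω = -1)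
    (hpair : ∀ ω ω' : ↥(W₁ ⊔ W₂) →* ℂˣ, (∀ w : ↥(W₁ ⊔ W₂), (w : L) ∈ W₂ → ω w = ω' w) →
      δ ω = δ ω' ∧ Cfsg.indFun (W₁ ⊔ W₂) (fun w => (ω w : ℂ) - (ω' w : ℂ)) = δ ω • (μ ω - μ ω'))
    (hvan : ∀ θ : L → ℂ, Cfsg.IsIrrCharacter L θ → (∀ ω, θ ≠ μ ω) →
      ∀ w : ↥(W₁ ⊔ W₂), (w : L) ∉ W₂ → θ w = 0)
    (hdeg : ∀ ω, ∃ n : ℤ, μ ω 1 - δ ω = n * (Nat.card W₁ : ℂ))
    {θ : K → ℂ} (hθ : Cfsg.IsIrrCharacter K θ)
    (hfix : ∀ x ∈ W₁, (fun k : K => θ ⟨x * k * x⁻¹, Subgroup.Normal.conj_mem ‹K.Normal› k k.2 x⟩) = θ)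
    {d : ℕ} (hd : θ 1 = d) (hd1 : d ≡ 1 [MOD Nat.card W₁]) :
    ∃ ω₀ : ↥(W₁ ⊔ W₂) →* ℂˣ,
      Cfsg.indFun K θ = ∑ η ∈ Finset.univ.filter (fun η : ↥(W₁ ⊔ W₂) →* ℂˣ =>
        ∀ w : ↥(W₁ ⊔ W₂), (w : L) ∈ W₂ → η w = ω₀ w), μ η ∧
      ∀ η : ↥(W₁ ⊔ W₂) →* ℂˣ, (∀ w : ↥(W₁ ⊔ W₂), (w : L) ∈ W₂ → η w = ω₀ w) →
        δ η = 1 ∧ (fun k : K => μ η k) = θ := by
  classical
  obtain ⟨C, hCcard, hCirr, hCsum⟩ := (Cfsg.Agent.S1513.result K W₁ W₂ h.inf h.sup h.ne₁ h.cyclic₁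
    h.hall h.ne₂ h.cyclic₂ h.le h.cent h.odd).2.2 θ hθ hfix
  set q := Nat.card W₁ with hq
  have hq3 : 3 ≤ q := CfsgLib.OddChar.CyclicUnique.three_le_card h.ne₁ le_sup_left h.odd
  -- each member of `C` restricts to `θ`
  have hcompl : Subgroup.IsComplement' K W₁ :=
    Subgroup.isComplement'_of_disjoint_and_mul_eq_univ (disjoint_iff.2 h.inf) (by
      rw [← Subgroup.normal_mul, h.sup, Subgroup.coe_top])
  have hKi : K.index = q := hcompl.symm.index_eq_card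
  have hθcl := CfsgLib.Char.IsIrrCharacter.isClassFunction hθ
  have hone : ∀ c ∈ C, Cfsg.classInner θ (fun k : K => c k) = 1 := by
    intro c hc
    rw [← CfsgLib.Char.classInner_indFun K θ c (CfsgLib.Char.IsIrrCharacter.isClassFunction (hCirr c hc)),
      hCsum, CfsgLib.Char.classInner_sum_left, Finset.sum_eq_single c
        (fun e he hne => CfsgLib.Char.classInner_irr_of_ne (hCirr e he) (hCirr c hc) hne)
        (fun hn => absurd hc hn)]
    exact CfsgLib.Char.classInner_irr_self (hCirr c hc)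
  have hge : ∀ c ∈ C, d ≤ CfsgLib.Char.degree c ∧
      (CfsgLib.Char.degree c = d → (fun k : K => c k) = θ) := by
    intro c hc
    have hcK : Cfsg.IsCharacter K (fun k : K => c k) :=
      CfsgLib.Char.IsCharacter.restrict (CfsgLib.Char.IsIrrCharacter.isCharacter (hCirr c hc)) K
    obtain ⟨m, hm⟩ := CfsgLib.Char.IsCharacter.exists_degree hcK
    have hc1 : (CfsgLib.Char.degree c : ℂ) = m := by
      rw [CfsgLib.Char.IsCharacter.degree_cast (CfsgLib.Char.IsIrrCharacter.isCharacter (hCirr c hc)), ← hm]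
      rfl
    obtain ⟨z, e, hz, -⟩ := CfsgLib.OddChar.exists_int_coeff
      (CfsgLib.Char.IsCharacter.isGeneralizedCharacter hcK)
    set t : Cfsg.IrrCharacter K := ⟨θ, hθ⟩
    have hnn : ∀ x, 0 ≤ z x := fun x => by
      obtain ⟨n, hn⟩ := CfsgLib.Char.IsCharacter.exists_nat_classInner' hcK
        (CfsgLib.Char.IsIrrCharacter.isCharacter x.2)
      have := (hz x).symm.trans hn
      rw [show (n : ℂ) = ((n : ℤ) : ℂ) by simp, Int.cast_inj] at this
      rw [this]; positivity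
    have hzt : z t = 1 := by
      have := hz t
      rw [← CfsgLib.Char.classInner_conj_symm, hone c hc, map_one] at this
      exact_mod_cast this.symm
    have hval : (m : ℤ) = ∑ x, z x * (CfsgLib.Char.degree (x : K → ℂ) : ℤ) := by
      have := congrFun e 1
      rw [hm, Finset.sum_apply] at this
      have h' : ((m : ℤ) : ℂ) = ((∑ x, z x * (CfsgLib.Char.degree (x : K → ℂ) : ℤ) : ℤ) : ℂ) := by
        push_cast
        rw [this]
        refine Finset.sum_congr rfl fun x _ => ?_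
        rw [Pi.smul_apply, smul_eq_mul,
          CfsgLib.Char.IsCharacter.degree_cast (CfsgLib.Char.IsIrrCharacter.isCharacter x.2)]
      exact_mod_cast h'
    have hdt : CfsgLib.Char.degree (t : K → ℂ) = d := by
      have := CfsgLib.Char.IsCharacter.degree_cast (CfsgLib.Char.IsIrrCharacter.isCharacter hθ)
      rw [hd] at this
      exact_mod_cast this
    rw [← Finset.add_sum_erase _ _ (Finset.mem_univ t), hzt, hdt, one_mul] at hval
    have hrest : 0 ≤ ∑ x ∈ Finset.univ.erase t, z x * (CfsgLib.Char.degree (x : K → ℂ) : ℤ) :=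
      Finset.sum_nonneg fun x _ => mul_nonneg (hnn x) (by positivity)
    have hdm : CfsgLib.Char.degree c = m := by exact_mod_cast hc1
    refine ⟨by omega, fun heq => ?_⟩
    have h0 : ∑ x ∈ Finset.univ.erase t, z x * (CfsgLib.Char.degree (x : K → ℂ) : ℤ) = 0 := by omega
    have hz0 : ∀ x, x ≠ t → z x = 0 := fun x hx => by
      have := (Finset.sum_eq_zero_iff_of_nonneg
        (fun x _ => mul_nonneg (hnn x) (by positivity))).1 h0 x (Finset.mem_erase.2 ⟨hx, Finset.mem_univ _⟩)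
      exact (mul_eq_zero.1 this).resolve_right
        (by exact_mod_cast (CfsgLib.Char.IsIrrCharacter.degree_pos x.2).ne')
    rw [e, Finset.sum_eq_single t (fun x _ hx => by simp [hz0 x hx]) (by simp), hzt]
    simp [t]
  have hdegC : ∀ c ∈ C, CfsgLib.Char.degree c = d := by
    have hsum : (∑ c ∈ C, CfsgLib.Char.degree c) = q * d := by
      have := congrFun hCsum 1
      rw [CfsgLib.Char.indFun_apply_one, hKi, hd, Finset.sum_apply] at this
      have h' : (((∑ c ∈ C, CfsgLib.Char.degree c) : ℕ) : ℂ) = ((q * d : ℕ) : ℂ) := by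
        push_cast
        rw [this]
        exact Finset.sum_congr rfl fun c hc =>
          CfsgLib.Char.IsCharacter.degree_cast (CfsgLib.Char.IsIrrCharacter.isCharacter (hCirr c hc))
      exact_mod_cast h'
    intro c hc
    have hsum2 : ∑ e ∈ C, (CfsgLib.Char.degree e : ℤ) = ∑ e ∈ C, (d : ℤ) := by
      rw [Finset.sum_const, hCcard, nsmul_eq_mul]
      exact_mod_cast hsum
    have := ((Finset.sum_eq_sum_iff_of_le fun e he => by exact_mod_cast (hge e he).1).1 hsum2.symm c hc)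
    exact_mod_cast this.symm
  -- a member of `C` is a `μ`
  obtain ⟨c₀, hc₀⟩ : C.Nonempty := Finset.card_pos.1 (by omega)
  obtain ⟨ω₀, rfl⟩ : ∃ ω₀, c₀ = μ ω₀ := by
    by_contra hno
    push Not at hno
    have hv := hvan c₀ (hCirr c₀ hc₀) hno
    haveI : Fintype W₁ := Fintype.ofFinite _
    obtain ⟨n, hn⟩ := CfsgLib.Char.IsCharacter.exists_nat_classInner'
      (CfsgLib.Char.IsCharacter.restrict
        (CfsgLib.Char.IsIrrCharacter.isCharacter (hCirr c₀ hc₀)) W₁)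
      (CfsgLib.Char.isCharacter_one (G := W₁))
    rw [Cfsg.classInner, Finset.sum_eq_single (1 : W₁) (fun a _ ha => by
      have hne : (a : L) ∉ W₂ := fun h2 => by
        have : (a : L) ∈ K ⊓ W₁ := ⟨h.le h2, a.2⟩
        rw [h.inf, Subgroup.mem_bot] at this
        exact ha (Subtype.ext this)
      rw [hv ⟨a, Subgroup.mem_sup_left a.2⟩ hne, zero_mul]) (by simp)] at hn
    simp only [OneMemClass.coe_one, Pi.one_apply, map_one, mul_one] at hn
    rw [← CfsgLib.Char.IsCharacter.degree_cast (CfsgLib.Char.IsIrrCharacter.isCharacter (hCirr c₀ hc₀)),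
      hdegC c₀ hc₀, inv_mul_eq_iff_eq_mul₀ (Nat.cast_ne_zero.2 Nat.card_pos.ne')] at hn
    have hn' : d = q * n := by exact_mod_cast hn
    rw [hn', Nat.ModEq, Nat.mul_mod_right, Nat.mod_eq_of_lt (show 1 < q by omega)] at hd1
    omega
  refine ⟨ω₀, ?_, fun η hη => ?_⟩
  swap
  · -- the column restricts to `θ` and has sign one
    have hres : (fun k : K => μ η k) = θ := by
      rw [← (hge _ hc₀).2 (hdegC _ hc₀)]
      funext k
      exact h.eq_on hδ hpair hη k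
    refine ⟨?_, hres⟩
    obtain ⟨n, hn⟩ := hdeg η
    have h1 : μ η 1 = d := by rw [← hd, ← hres]; rfl
    rw [h1] at hn
    obtain ⟨t, ht⟩ : ∃ t : ℤ, (d : ℤ) = 1 + q * t := by
      obtain ⟨t, ht⟩ := (Nat.modEq_iff_dvd.1 hd1.symm)
      exact ⟨t, by push_cast at ht; omega⟩
    rcases hδ η with e | e
    · exact e
    · exfalso
      rw [e, show (d : ℂ) = ((d : ℤ) : ℂ) by simp, ht] at hn
      have h2 : (2 : ℤ) = q * (n - t) := by
        have : ((2 : ℤ) : ℂ) = ((q * (n - t) : ℤ) : ℂ) := by push_cast at hn ⊢; linear_combination hn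
        exact_mod_cast this
      have := Int.le_of_dvd (by norm_num) (Dvd.intro _ h2.symm)
      omega
  -- the column is `C`
  set col := Finset.univ.filter fun η : ↥(W₁ ⊔ W₂) →* ℂˣ =>
    ∀ w : ↥(W₁ ⊔ W₂), (w : L) ∈ W₂ → η w = ω₀ w with hcol
  have hW := Cfsg.Agent.S1510.result K W₁ W₂ h.inf h.sup h.ne₁ h.cyclic₁ h.hall h.ne₂ h.cyclic₂
    h.le h.cent h.odd
  have hcolcard : col.card = q := by
    haveI := h.cyclic₁
    haveI := h.cyclic₂
    haveI : Finite (W₁ →* ℂˣ) := CfsgLib.OddChar.finite_linearChar _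
    haveI : Finite (W₂ →* ℂˣ) := CfsgLib.OddChar.finite_linearChar _
    letI := Fintype.ofFinite (W₁ →* ℂˣ)
    obtain ⟨i, j, hi, hj, hbij⟩ := CfsgLib.OddChar.exists_dual hW.2.2.1 hW.2.2.2.1
    obtain ⟨⟨f₀, g₀⟩, e0⟩ := hbij.2 ω₀
    simp only at e0
    rw [hq, ← CfsgLib.OddChar.card_dual (H := ↥W₁), Nat.card_eq_fintype_card, ← Finset.card_univ]
    refine (Finset.card_bij (fun f _ => i f * j g₀) (fun f _ => ?_) (fun f _ f' _ hf => ?_) fun η hη => ?_).symm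
    · simp only [hcol, Finset.mem_filter, Finset.mem_univ, true_and, ← e0]
      intro w hw
      simp [hi _ w hw]
    · exact congrArg Prod.fst (hbij.1 (a₁ := (f, g₀)) (a₂ := (f', g₀)) hf)
    · obtain ⟨⟨f, g⟩, rfl⟩ := hbij.2 η
      refine ⟨f, Finset.mem_univ _, congrArg (fun g => i f * j g) ?_⟩
      simp only [hcol, Finset.mem_filter, Finset.mem_univ, true_and, ← e0] at hη
      refine congrArg Prod.snd (hbij.1 (a₁ := (f, g₀)) (a₂ := (f, g))
        (CfsgLib.OddChar.sup_hom_ext (fun w hw => ?_) fun w hw => ?_))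
      · simp [hj _ w hw]
      · have := hη w hw
        simp only [MonoidHom.mul_apply, hi _ w hw, one_mul] at this ⊢
        exact this.symm
  rw [hCsum]
  have hsub : col.image μ ⊆ C := by
    intro c hc
    obtain ⟨η, hη, rfl⟩ := Finset.mem_image.1 hc
    by_contra hn
    have hres : (fun k : K => μ η k) = θ := by
      rw [← (hge _ hc₀).2 (hdegC _ hc₀)]
      funext k
      exact h.eq_on hδ hpair (Finset.mem_filter.1 hη).2 k
    have h1 := CfsgLib.Char.classInner_indFun K θ (μ η)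
      (CfsgLib.Char.IsIrrCharacter.isClassFunction (hirr η))
    rw [hCsum, CfsgLib.Char.classInner_sum_left, hres, CfsgLib.Char.classInner_irr_self hθ] at h1
    rw [Finset.sum_eq_zero fun e he => CfsgLib.Char.classInner_irr_of_ne (hCirr e he) (hirr η)
      (fun e' => hn (e' ▸ he))] at h1
    exact zero_ne_one h1
  rw [← Finset.sum_image (s := col) (g := μ) (f := fun c : L → ℂ => c) hinj.injOn,
    Finset.eq_of_subset_of_card_le hsub (by rw [Finset.card_image_of_injective _ hinj, hcolcard, hCcard])]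

end CfsgLib.FT.PairChars
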