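import Cfsg.Agent.Lib.FT.Fullness
import Cfsg.Agent.Lib.FT.Linked
import Cfsg.Agent.Lib.FT.CoreKill
import Cfsg.Agent.Lib.OddOrder.TypeExclusive

/-!
FT module PairStructure: no type V; the sides are full; `C_R(V) = 1`; in type III `|W₁| < |W₂|`.
-/

set_option autoImplicit false
set_option linter.style.haveILetI false

namespace CfsgLib.FT

open Subgroup CfsgLib.OddOrder

universe u

/-- `2 p q < (q ^ p - 1) / (q - 1)` for odd primes `p < q`. -/
theorem two_mul_lt_of_full {p q v : ℕ} (hp : 3 ≤ p) (hpq : p < q) (hq5 : 5 ≤ q)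
    (hv : v * (q - 1) = q ^ p - 1) : 2 * q * p < v := by
  obtain ⟨m, rfl⟩ : ∃ m, q = m + 1 := ⟨q - 1, by omega⟩
  simp only [Nat.add_sub_cancel] at hv
  have h1 : 1 ≤ (m + 1) ^ p := Nat.one_le_pow _ _ (by omega)
  refine Nat.lt_of_mul_lt_mul_right (a := m) ?_
  rw [hv]
  suffices h : 2 * (m + 1) * p * m + 1 < (m + 1) ^ p by omega
  by_cases h5 : 5 ≤ p
  · calc 2 * (m + 1) * p * m + 1 ≤ 2 * (m + 1) * (m + 1) * (m + 1) + (m + 1) := by
          refine add_le_add ?_ (by omega)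
          exact Nat.mul_le_mul (Nat.mul_le_mul le_rfl hpq.le) (by omega)
      _ < (m + 1) ^ 5 := by nlinarith [pow_le_pow_left₀ (by norm_num) hq5 2, pow_pos (by omega : 0 < m + 1) 3]
      _ ≤ _ := Nat.pow_le_pow_right (by omega) h5
  · have hm : 4 ≤ m := by omega
    rcases (show p = 3 ∨ p = 4 by omega) with rfl | rfl
    · nlinarith [Nat.mul_le_mul hm hm]
    · nlinarith [Nat.mul_le_mul hm hm, Nat.mul_le_mul (Nat.mul_le_mul hm hm) hm]

variable {G : Type u} [Group G] [Finite G] (hG : Cfsg.IsMinSimpleOddOrder G)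
  {S T W₁ W₂ U V : Subgroup G}
include hG

omit hG in
/-- `T''` has index at least `|V|` in `T'`. -/
theorem card_le_relIndex_derived_two (hT : Side T W₂ V W₁) (hV : IsMulCommutative V) :
    Nat.card V ≤ ⁅⁅T, T⁆, ⁅T, T⁆⁆.relIndex ⁅T, T⁆ := by
  obtain ⟨hRD, hVD, hdis, hmul⟩ := hT.typeP.U_compl
  set R := Cfsg.fittingHallOf T with hR
  have hDn : ⁅T, T⁆ ≤ normalizer (R : Set G) :=
    hT.typeP.W₁_compl.1.trans (le_normalizer_fittingHallOf T)
  haveI : (R.subgroupOf ⁅T, T⁆).Normal := normal_subgroupOf_of_le_normalizer hDn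
  have hDD : ⁅⁅T, T⁆, ⁅T, T⁆⁆ ≤ R := by
    rw [commutator_le]
    intro a ha b hb
    obtain ⟨r, hr, v, hv, rfl⟩ := hmul a ha
    obtain ⟨s, hs, w, hw, rfl⟩ := hmul b hb
    set π := QuotientGroup.mk' (R.subgroupOf ⁅T, T⁆) with hπ
    have hker : ∀ (z : G) (hz : z ∈ R), π ⟨z, hRD hz⟩ = 1 := fun z hz =>
      (QuotientGroup.eq_one_iff _).2 (mem_subgroupOf.2 hz)
    have hvw : v * w = w * v := congrArg Subtype.val (hV.1.comm (⟨v, hv⟩ : V) ⟨w, hw⟩)
    have h1 : π ⟨r * v, mul_mem (hRD hr) (hVD hv)⟩ = π ⟨v, hVD hv⟩ := by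
      rw [show (⟨r * v, mul_mem (hRD hr) (hVD hv)⟩ : ↥⁅T, T⁆) = ⟨r, hRD hr⟩ * ⟨v, hVD hv⟩ from rfl,
        map_mul, hker r hr, one_mul]
    have h2 : π ⟨s * w, mul_mem (hRD hs) (hVD hw)⟩ = π ⟨w, hVD hw⟩ := by
      rw [show (⟨s * w, mul_mem (hRD hs) (hVD hw)⟩ : ↥⁅T, T⁆) = ⟨s, hRD hs⟩ * ⟨w, hVD hw⟩ from rfl,
        map_mul, hker s hs, one_mul]
    have hcm : Commute (π ⟨v, hVD hv⟩) (π ⟨w, hVD hw⟩) :=
      (show Commute (⟨v, hVD hv⟩ : ↥⁅T, T⁆) ⟨w, hVD hw⟩ from Subtype.ext hvw).map π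
    rw [← h1, ← h2] at hcm
    have h4 := commutatorElement_eq_one_iff_commute.2 hcm
    rw [← map_commutatorElement] at h4
    exact mem_subgroupOf.1 ((QuotientGroup.eq_one_iff _).1 h4)
  have hpos : 0 < ⁅⁅T, T⁆, ⁅T, T⁆⁆.relIndex ⁅T, T⁆ :=
    Nat.pos_of_ne_zero Subgroup.index_ne_zero_of_finite
  refine Nat.le_of_dvd hpos ?_
  rw [card_eq_relIndex_of_isComplIn (B := R)
    ⟨hVD, hRD, by rw [inf_comm]; exact hdis, fun z hz => by
      obtain ⟨a, ha, b, hb, e⟩ := hmul z⁻¹ (inv_mem hz)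
      exact ⟨b⁻¹, inv_mem hb, a⁻¹, inv_mem ha, by rw [← mul_inv_rev, ← e, inv_inv]⟩⟩]
  exact relIndex_dvd_of_le_left _ hDD

theorem pair_structure (hpd : PairData S T W₁ W₂ U V) :
    Side S W₁ U W₂ ∧ Side T W₂ V W₁ ∧ SideFull S W₁ U W₂ ∧ SideFull T W₂ V W₁ ∧
      fixCore S U = ⊥ ∧ fixCore T V = ⊥ ∧
      (¬ Cfsg.IsOfTypeII T → CoreSide T W₂ V W₁ ∧ Nat.card W₁ < Nat.card W₂) := by
  letI := Fintype.ofFinite G
  letI := Fintype.ofFinite T
  -- no type V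
  have h5 : ¬ Cfsg.IsOfTypeV T := fun h =>
    no_linked hG hpd (coreSide_T hG hpd (fun h2 => TypeP.not_two_and_five h2 h))
      (linked_five hG hpd h)
  have h234 : Cfsg.IsOfTypeII T ∨ Cfsg.IsOfTypeIII T ∨ Cfsg.IsOfTypeIV T := by
    rcases hpd.typeT25 with h | h | h | h
    · exact Or.inl h
    · exact Or.inr (Or.inl h)
    · exact Or.inr (Or.inr h)
    · exact absurd h h5
  obtain ⟨hS, hS0⟩ := side_S hG hpd h234
  obtain ⟨hT, hT0⟩ := side_T hG hpd h234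
  obtain ⟨hSf, hTf⟩ := side_full hG hpd hS hT
  have hT0' : fixCore T V = ⊥ := by
    by_cases h2 : Cfsg.IsOfTypeII T
    · exact hT0 h2
    · by_contra hne
      exact no_linked hG hpd (coreSide_T hG hpd h2)
        (linked_of_fix hG hpd (coreSide_T hG hpd h2) hT hTf hne)
  refine ⟨hS, hT, hSf, hTf, hS0, hT0', fun h2 => ⟨coreSide_T hG hpd h2, ?_⟩⟩
  obtain ⟨-, hco, -⟩ := pair_basics hG hpd
  have hne : Nat.card W₁ ≠ Nat.card W₂ := fun e => hS.q_prime.one_lt.ne'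
    (by rw [← e, Nat.coprime_self] at hco; exact hco)
  by_contra hlt
  have hlt' : Nat.card W₂ < Nat.card W₁ := by omega
  have hodd : ∀ X : Subgroup G, (Nat.card X).Prime → 3 ≤ Nat.card X := fun X hX => by
    have h := odd_card_subgroup hG X
    have h2 := hX.two_le
    rcases Nat.lt_or_ge (Nat.card X) 3 with h3 | h3
    · rw [show Nat.card X = 2 by omega] at h
      exact absurd h (by decide)
    · exact h3
  have h3 := hodd W₂ hT.q_prime
  have h5' : 5 ≤ Nat.card W₁ := by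
    rcases (show Nat.card W₁ = 4 ∨ 5 ≤ Nat.card W₁ by omega) with h | h
    · exact absurd (h ▸ hT.p_prime) (by decide)
    · exact h
  haveI := hTf.cyclic
  exact no_small hG hpd (coreSide_T hG hpd h2) hlt'
    ((two_mul_lt_of_full h3 hlt' h5' hTf.card).trans_le
      (card_le_relIndex_derived_two hT inferInstance))

end CfsgLib.FT
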