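import Cfsg.Agent.Lib.OddChar.Coherence
import Mathlib.Algebra.Order.BigOperators.Ring.Finset

/-!
PROJECT FT: elementary lower bounds for `∑ ‖f‖²` and `∑ (f² + f)` on a coset or on `F \ {1}`,
from known inner products of `f` with an orthonormal family (projection bound, variance split).
-/

set_option autoImplicit false

open ComplexConjugate

namespace CfsgLib.FT.Proj

/-- Cauchy-Schwarz for complex sums. -/
theorem norm_sum_mul_conj_sq_le {α : Type*} (s : Finset α) (f v : α → ℂ) :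
    ‖∑ x ∈ s, f x * conj (v x)‖ ^ 2 ≤ (∑ x ∈ s, ‖f x‖ ^ 2) * ∑ x ∈ s, ‖v x‖ ^ 2 := by
  refine le_trans ?_ (Finset.sum_mul_sq_le_sq_mul_sq s (fun x => ‖f x‖) fun x => ‖v x‖)
  refine pow_le_pow_left₀ (norm_nonneg _) (le_trans (norm_sum_le _ _) (le_of_eq ?_)) 2
  simp

/-- Splitting `f² + f` at an integral mean: only the variance matters. -/
theorem variance_le {α : Type*} (s : Finset α) (f : α → ℝ) (b : ℤ)
    (hb : ∑ x ∈ s, f x = s.card * (b : ℝ)) :
    ∑ x ∈ s, (f x - b) ^ 2 ≤ ∑ x ∈ s, (f x ^ 2 + f x) := by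
  have hnn : (0 : ℝ) ≤ (b : ℝ) ^ 2 + b := by
    have h : (0 : ℤ) ≤ b ^ 2 + b := by nlinarith [sq_nonneg (2 * b + 1)]
    exact_mod_cast h
  have e : ∑ x ∈ s, (f x ^ 2 + f x) =
      ∑ x ∈ s, (f x - b) ^ 2 + (2 * (b : ℝ) + 1) * ∑ x ∈ s, f x - s.card * (b : ℝ) ^ 2 := by
    have h1 : ∀ x, f x ^ 2 + f x = (f x - b) ^ 2 + (2 * (b : ℝ) + 1) * f x - (b : ℝ) ^ 2 :=
      fun x => by ring
    simp only [h1, Finset.sum_sub_distrib, Finset.sum_add_distrib, ← Finset.mul_sum,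
      Finset.sum_const, nsmul_eq_mul]
  rw [e, hb]
  nlinarith [mul_nonneg (Nat.cast_nonneg (α := ℝ) s.card) hnn]

/-- With no information on the mean, `f² + f` loses at most `1/4` per point. -/
theorem shift_le {α : Type*} (s : Finset α) (f : α → ℝ) :
    ∑ x ∈ s, (f x + 1 / 2) ^ 2 - s.card / 4 ≤ ∑ x ∈ s, (f x ^ 2 + f x) := by
  have h1 : ∀ x, f x ^ 2 + f x = (f x + 1 / 2) ^ 2 - 1 / 4 := fun x => by ring
  simp only [h1, Finset.sum_sub_distrib, Finset.sum_const, nsmul_eq_mul]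
  exact le_of_eq (by ring)

variable {F : Type*} [Group F] [Fintype F] {ι : Type*} [DecidableEq ι]

open Classical in
/-- Projection bound on `F \ {1}`: an orthonormal family, a combination of it vanishing at `1`. -/
theorem sq_inner_le (I : Finset ι) (ν : ι → F → ℂ)
    (horth : ∀ i ∈ I, ∀ j ∈ I, Cfsg.classInner (ν i) (ν j) = if i = j then 1 else 0)
    (a : ι → ℂ) (h1 : ∑ i ∈ I, a i * ν i 1 = 0) (f : F → ℂ) :
    ‖∑ i ∈ I, conj (a i) * Cfsg.classInner f (ν i)‖ ^ 2 ≤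
      (∑ i ∈ I, ‖a i‖ ^ 2) *
        ((Nat.card F : ℝ)⁻¹ * ∑ x ∈ Finset.univ.erase (1 : F), ‖f x‖ ^ 2) := by
  set v : F → ℂ := ∑ i ∈ I, a i • ν i with hv
  have hv1 : v 1 = 0 := by simpa [hv, Finset.sum_apply] using h1
  have hinner : ∑ i ∈ I, conj (a i) * Cfsg.classInner f (ν i) = Cfsg.classInner f v := by
    rw [hv, Char.classInner_sum_right]
    exact Finset.sum_congr rfl fun i _ => (Char.classInner_smul_right _ _ _).symm
  have hnorm : (Cfsg.classInner v v).re = ∑ i ∈ I, ‖a i‖ ^ 2 := by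
    rw [hv, OddChar.Coh.norm_sum_orth I ν a fun i hi j hj hne => by rw [horth i hi j hj, if_neg hne],
      Complex.re_sum]
    refine Finset.sum_congr rfl fun i hi => ?_
    rw [horth i hi i hi, if_pos rfl, mul_one, Complex.mul_conj', ← Complex.ofReal_pow,
      Complex.ofReal_re]
  have herase : ∀ g : F → ℂ, g 1 * conj (v 1) = 0 := fun g => by rw [hv1]; simp
  have hE : ∀ g : F → ℂ, Cfsg.classInner g v =
      (Nat.card F : ℂ)⁻¹ * ∑ x ∈ Finset.univ.erase (1 : F), g x * conj (v x) := fun g => by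
    rw [Cfsg.classInner, ← Finset.add_sum_erase _ _ (Finset.mem_univ (1 : F)), herase g, zero_add]
  have hvv : ∑ x ∈ Finset.univ.erase (1 : F), ‖v x‖ ^ 2 = (Nat.card F : ℝ) * ∑ i ∈ I, ‖a i‖ ^ 2 := by
    rw [← hnorm, hE v]
    have hz : ∀ x, v x * conj (v x) = ((‖v x‖ ^ 2 : ℝ) : ℂ) := fun x => by
      rw [Complex.mul_conj', Complex.ofReal_pow]
    simp only [hz, ← Complex.ofReal_sum, ← Complex.ofReal_natCast, ← Complex.ofReal_inv,
      ← Complex.ofReal_mul, Complex.ofReal_re]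
    field_simp
  have hN : (0 : ℝ) < Nat.card F := Nat.cast_pos.2 Nat.card_pos
  rw [hinner, hE f, norm_mul, norm_inv, Complex.norm_natCast, mul_pow]
  refine le_trans (mul_le_mul_of_nonneg_left (norm_sum_mul_conj_sq_le _ f v) (by positivity))
    (le_of_eq ?_)
  rw [hvv]
  field_simp

end CfsgLib.FT.Proj
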