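import Cfsg.Agent.Lib.OddChar.CyclicTI
import Cfsg.Agent.Lib.Char.Induced

/-!
FT module SideBoundAux: the minimum in the count on one side.
-/

set_option autoImplicit false
set_option linter.style.haveILetI false

namespace CfsgLib.FT.Count

theorem min_pos {ι : Type*} (s : Finset ι) (y : ι → ℤ) (a u N : ℤ) (hu : 0 ≤ u)
    (hN : (s.card : ℤ) + 2 * u + 1 ≤ N) :
    (a + ∑ i ∈ s, y i) * (2 * u + (a + ∑ i ∈ s, y i) + 1) ≤
      N * (a ^ 2 + a + ∑ i ∈ s, y i ^ 2) := by
  have h1 : (∑ i ∈ s, y i) ^ 2 ≤ (s.card : ℤ) * ∑ i ∈ s, y i ^ 2 := sq_sum_le_card_mul_sum_sq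
  have h2 : 0 ≤ ∑ i ∈ s, ((y i - a) ^ 2 + a - y i) :=
    Finset.sum_nonneg fun i _ => by nlinarith [Int.le_self_sq (y i - a)]
  have h2' : ∑ i ∈ s, ((y i - a) ^ 2 + a - y i) = ∑ i ∈ s, y i ^ 2 - (2 * a + 1) * ∑ i ∈ s, y i +
      (s.card : ℤ) * (a ^ 2 + a) := by
    simp only [Finset.mul_sum, ← Finset.sum_sub_distrib]
    rw [← nsmul_eq_mul, ← Finset.sum_const, ← Finset.sum_add_distrib]
    exact Finset.sum_congr rfl fun i _ => by ring
  have h3 : 0 ≤ ∑ i ∈ s, y i ^ 2 - ∑ i ∈ s, y i :=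
    sub_nonneg.2 (Finset.sum_le_sum fun i _ => Int.le_self_sq _)
  have h4 : 0 ≤ a ^ 2 + a + ∑ i ∈ s, y i ^ 2 := by
    have := Int.le_self_sq (-a)
    have h5 : 0 ≤ ∑ i ∈ s, y i ^ 2 := Finset.sum_nonneg fun i _ => sq_nonneg _
    nlinarith
  nlinarith [mul_le_mul_of_nonneg_right hN h4, mul_nonneg hu h3, sq_nonneg a, mul_nonneg hu (sq_nonneg a)]

/-- With `S = δ u + a + Σ y`, the expression `N (u + a² + a + Σ y²) - S² - S` is at least
`N u - u² - u`. -/
theorem min_side {ι : Type*} (s : Finset ι) (y : ι → ℤ) (a u N δ : ℤ) (hδ : δ = 1 ∨ δ = -1)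
    (hu : 0 ≤ u) (hN : (s.card : ℤ) + 2 * u + 1 ≤ N) :
    N * u - u ^ 2 - u ≤ N * (u + a ^ 2 + a + ∑ i ∈ s, y i ^ 2) -
      (δ * u + a + ∑ i ∈ s, y i) ^ 2 - (δ * u + a + ∑ i ∈ s, y i) := by
  rcases hδ with rfl | rfl
  · have := min_pos s y a u N hu hN
    nlinarith
  · have := min_pos s (fun i => -y i) (-1 - a) u N hu hN
    simp only [Finset.sum_neg_distrib, neg_sq] at this
    nlinarith

section Linear

open ComplexConjugate

variable {F : Type*} [Group F] [Fintype F] (N₀ : Subgroup F) [N₀.Normal]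
  (hab : ∀ a b : F, a * b * a⁻¹ * b⁻¹ ∈ N₀)

open Classical in
/-- The linear characters trivial on `N₀`, as a finset. -/
noncomputable def dualSet [Fintype (F →* ℂˣ)] : Finset (F →* ℂˣ) :=
  Finset.univ.filter fun ν => ∀ a ∈ N₀, ν a = 1

omit [Fintype F] in
theorem sum_dual_eq_zero {Q : Type*} [CommGroup Q] [Finite Q] [Fintype (Q →* ℂˣ)] {a : Q}
    (ha : a ≠ 1) : ∑ κ : Q →* ℂˣ, (κ a : ℂ) = 0 := by
  classical
  have h := OddChar.sum_linearChar_trivialOn_eq_zero (⊥ : Subgroup Q) (a := a)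
    fun h => ha (Subgroup.mem_bot.1 h)
  rwa [Finset.filter_true_of_mem fun κ _ x hx => by rw [Subgroup.mem_bot.1 hx, map_one]] at h

include hab in
open Classical in
theorem dualSet_facts [Fintype (F →* ℂˣ)] :
    (dualSet N₀).card = N₀.index ∧
      ∀ x : F, ∑ ν ∈ dualSet N₀, (ν x : ℂ) = if x ∈ N₀ then (N₀.index : ℂ) else 0 := by
  letI : CommGroup (F ⧸ N₀) :=
    { (inferInstance : Group (F ⧸ N₀)) with
      mul_comm := fun a b => by
        induction a using QuotientGroup.induction_on with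
        | _ x =>
          induction b using QuotientGroup.induction_on with
          | _ y =>
            have h : (y * x)⁻¹ * (x * y) ∈ N₀ := by
              have := hab x⁻¹ y⁻¹
              simpa [mul_assoc] using this
            exact (QuotientGroup.eq.2 h).symm }
  haveI := OddChar.finite_linearChar (F ⧸ N₀)
  haveI : Fintype (F ⧸ N₀ →* ℂˣ) := Fintype.ofFinite _
  have hbij : ∀ (g : (F →* ℂˣ) → ℂ), ∑ ν ∈ dualSet N₀, g ν =
      ∑ κ : F ⧸ N₀ →* ℂˣ, g (κ.comp (QuotientGroup.mk' N₀)) := by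
    intro g
    refine (Finset.sum_bij (fun κ _ => κ.comp (QuotientGroup.mk' N₀)) (fun κ _ => ?_) ?_ ?_ ?_).symm
    · simp only [dualSet, Finset.mem_filter, Finset.mem_univ, true_and, MonoidHom.comp_apply]
      intro a ha
      rw [show QuotientGroup.mk' N₀ a = 1 from (QuotientGroup.eq_one_iff a).2 ha, map_one]
    · intro κ _ κ' _ e
      exact MonoidHom.cancel_right (QuotientGroup.mk'_surjective N₀) |>.1 e
    · intro ν hν
      refine ⟨QuotientGroup.lift N₀ ν fun a ha => (Finset.mem_filter.1 hν).2 a ha,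
        Finset.mem_univ _, MonoidHom.ext fun a => ?_⟩
      rfl
    · intro κ _; rfl
  have hcard : Fintype.card (F ⧸ N₀ →* ℂˣ) = N₀.index := by
    rw [← Nat.card_eq_fintype_card, CommGroup.card_monoidHom_of_hasEnoughRootsOfUnity]
    rfl
  have hc : (dualSet N₀).card = N₀.index := by
    have h := hbij fun _ => 1
    simp only [Finset.sum_const, nsmul_eq_mul, mul_one, Finset.card_univ, hcard] at h
    exact_mod_cast h
  refine ⟨hc, fun x => ?_⟩
  split_ifs with hx
  · have h1 : ∀ ν ∈ dualSet N₀, (ν x : ℂ) = 1 := fun ν hν => by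
      rw [(Finset.mem_filter.1 hν).2 x hx, Units.val_one]
    rw [Finset.sum_congr rfl h1, Finset.sum_const, nsmul_eq_mul, mul_one, hc]
  · rw [hbij]
    exact sum_dual_eq_zero (a := (x : F ⧸ N₀)) fun h => hx ((QuotientGroup.eq_one_iff x).1 h)

include hab in
open Classical in
/-- Bessel for the linear characters trivial on `N₀`, outside `N₀`. -/
theorem quot_bound [Fintype (F →* ℂˣ)] (f : F → ℂ) (n : (F →* ℂˣ) → ℤ)
    (hn : ∀ ν ∈ dualSet N₀, Cfsg.classInner f (fun x => (ν x : ℂ)) = (n ν : ℂ)) :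
    (Nat.card N₀ : ℝ) * ((N₀.index : ℝ) * (∑ ν ∈ dualSet N₀, (n ν : ℝ) ^ 2) +
        (N₀.index : ℝ) * n 1 - (∑ ν ∈ dualSet N₀, (n ν : ℝ)) ^ 2 -
        ∑ ν ∈ dualSet N₀, (n ν : ℝ)) ≤
      ∑ x ∈ Finset.univ.filter (fun x => x ∉ N₀), (‖f x‖ ^ 2 + (f x).re) := by
  set Φ := dualSet N₀ with hΦ
  obtain ⟨-, hsum⟩ := dualSet_facts N₀ hab
  set A := Finset.univ.filter (fun x => x ∉ N₀)
  set B := Finset.univ.filter (fun x => x ∈ N₀) with hB
  set S : ℝ := ∑ ν ∈ Φ, (n ν : ℝ) with hS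
  set Q : ℝ := ∑ ν ∈ Φ, (n ν : ℝ) ^ 2 with hQ
  set v : F → ℂ := fun x => ∑ ν ∈ Φ, (n ν : ℂ) * (ν x : ℂ) with hv
  have hcB : (B.card : ℝ) = Nat.card N₀ := by
    rw [hB, Nat.card_eq_fintype_card, Fintype.card_subtype]
  have hcardF : (Nat.card F : ℝ) = (Nat.card N₀ : ℝ) * N₀.index := by
    exact_mod_cast N₀.card_mul_index.symm
  have hF0 : (Nat.card F : ℂ) ≠ 0 := by exact_mod_cast Nat.card_pos.ne'
  have hip : ∀ (g : F → ℂ) (ν : F →* ℂˣ), ∑ x, g x * conj (ν x : ℂ) =
      (Nat.card F : ℂ) * Cfsg.classInner g (fun x => (ν x : ℂ)) := fun g ν => by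
    rw [Cfsg.classInner, ← mul_assoc, mul_inv_cancel₀ hF0, one_mul]
  have hsplit : ∀ g : F → ℂ, ∑ x, g x = ∑ x ∈ A, g x + ∑ x ∈ B, g x := fun g => by
    rw [add_comm]
    exact (Finset.sum_filter_add_sum_filter_not _ (fun x => x ∈ N₀) g).symm
  have h1mem : (1 : F →* ℂˣ) ∈ Φ := by simp [hΦ, dualSet]
  have hv0 : ∀ x ∈ B, v x = (S : ℂ) := by
    intro x hx
    rw [hS]; push_cast
    refine Finset.sum_congr rfl fun ν hν => ?_
    rw [(Finset.mem_filter.1 hν).2 x (Finset.mem_filter.1 hx).2, Units.val_one, mul_one]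
  have hB0 : ∑ x ∈ B, f x = (S : ℂ) * (Nat.card N₀ : ℂ) := by
    have e : ∑ ν ∈ Φ, (Nat.card F : ℂ) * (n ν : ℂ) = (N₀.index : ℂ) * ∑ x ∈ B, f x := by
      rw [Finset.sum_congr rfl fun ν hν => by rw [← hn ν hν, ← hip f ν], Finset.sum_comm,
        hB, Finset.sum_filter, Finset.mul_sum]
      refine Finset.sum_congr rfl fun x _ => ?_
      rw [← Finset.mul_sum, ← map_sum, hsum x]
      split_ifs <;> simp [mul_comm]
    rw [← Finset.mul_sum] at e
    have hi : (N₀.index : ℂ) ≠ 0 := by exact_mod_cast Subgroup.index_ne_zero_of_finite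
    refine mul_left_cancel₀ hi (e.symm.trans ?_)
    rw [show (Nat.card F : ℂ) = (Nat.card N₀ : ℂ) * N₀.index by exact_mod_cast hcardF, hS]
    push_cast; ring
  have hfv : ∑ x, f x * conj (v x) = (Nat.card F : ℂ) * (Q : ℂ) := by
    simp only [hv, map_sum, Finset.mul_sum, map_mul, map_intCast]
    rw [Finset.sum_comm, hQ]; push_cast
    rw [Finset.mul_sum]
    refine Finset.sum_congr rfl fun ν hν => ?_
    rw [Finset.sum_congr rfl fun x _ => mul_left_comm (f x) _ _, ← Finset.mul_sum, hip,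
      hn ν hν]
    ring
  have hvv : ∑ x, v x * conj (v x) = (Nat.card F : ℂ) * (Q : ℂ) := by
    simp only [hv, map_sum, Finset.mul_sum, map_mul, map_intCast]
    rw [Finset.sum_comm, hQ]; push_cast
    rw [Finset.mul_sum]
    refine Finset.sum_congr rfl fun ν hν => ?_
    rw [Finset.sum_congr rfl fun x _ => mul_left_comm (v x) _ _, ← Finset.mul_sum, hip]
    rw [show Cfsg.classInner v (fun x => (ν x : ℂ)) = (n ν : ℂ) from ?_]
    · ring
    · rw [show v = ∑ ρ ∈ Φ, (n ρ : ℂ) • fun x => (ρ x : ℂ) by funext x; simp [hv],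
        Char.classInner_sum_left]
      simp only [Char.classInner_smul_left, OddChar.classInner_linearChar, mul_ite, mul_one,
        mul_zero, Finset.sum_ite_eq', if_pos hν]
  have hre1 : (∑ x ∈ A, f x).re = (Nat.card F : ℝ) * n 1 - S * Nat.card N₀ := by
    have h := hip f 1
    rw [hn 1 h1mem] at h
    simp only [MonoidHom.one_apply, Units.val_one, map_one, mul_one] at h
    rw [hsplit, hB0] at h
    have := congrArg Complex.re h
    simp only [Complex.add_re, Complex.mul_re, Complex.ofReal_re, Complex.ofReal_im,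
      Complex.natCast_re, Complex.natCast_im, Complex.intCast_re, Complex.intCast_im,
      mul_zero, sub_zero] at this
    linarith
  have hreA : (∑ x ∈ A, f x * conj (v x)).re = (Nat.card F : ℝ) * Q - S ^ 2 * Nat.card N₀ := by
    have e : ∑ x ∈ B, f x * conj (v x) = ((S ^ 2 * Nat.card N₀ : ℝ) : ℂ) := by
      rw [Finset.sum_congr rfl fun x hx => by rw [hv0 x hx, Complex.conj_ofReal],
        ← Finset.sum_mul, hB0]
      push_cast; ring
    have := congrArg Complex.re ((hsplit _).symm.trans hfv)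
    rw [Complex.add_re, e] at this
    simp only [Complex.mul_re, Complex.ofReal_re, Complex.ofReal_im,
      Complex.natCast_re, Complex.natCast_im, mul_zero, sub_zero] at this
    linarith
  have hvA : ∑ x ∈ A, ‖v x‖ ^ 2 = (Nat.card F : ℝ) * Q - S ^ 2 * Nat.card N₀ := by
    have e : (((∑ x ∈ A, ‖v x‖ ^ 2) + ∑ x ∈ B, ‖v x‖ ^ 2 : ℝ) : ℂ) = (Nat.card F : ℂ) * (Q : ℂ) := by
      rw [← hvv, hsplit]
      push_cast
      simp only [Complex.mul_conj']
    have e' := congrArg Complex.re e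
    have eB : ∑ x ∈ B, ‖v x‖ ^ 2 = S ^ 2 * Nat.card N₀ := by
      rw [Finset.sum_congr rfl fun x hx => by rw [hv0 x hx, Complex.norm_real, Real.norm_eq_abs,
        sq_abs], Finset.sum_const, nsmul_eq_mul, hcB]
      ring
    rw [eB] at e'
    simp only [Complex.mul_re, Complex.ofReal_re, Complex.ofReal_im,
      Complex.natCast_re, Complex.natCast_im, mul_zero, sub_zero] at e'
    linarith
  have key : ∀ x, 2 * (f x * conj (v x)).re - ‖v x‖ ^ 2 ≤ ‖f x‖ ^ 2 := by
    intro x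
    rw [Complex.sq_norm, Complex.sq_norm]
    have h := Complex.normSq_nonneg (f x - v x)
    rw [Complex.normSq_sub] at h
    linarith
  have hk := Finset.sum_le_sum fun x (_ : x ∈ A) => key x
  rw [Finset.sum_sub_distrib, ← Finset.mul_sum, ← Complex.re_sum, hreA, hvA] at hk
  rw [Finset.sum_add_distrib, ← Complex.re_sum, hre1]
  rw [hcardF] at hk ⊢
  nlinarith [hk]

end Linear

end CfsgLib.FT.Count
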