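import Cfsg.Agent.Lib.FT.SidePin
import Cfsg.Agent.Lib.FT.SideBoundAux
import Cfsg.Agent.Lib.FT.PairIneq
import Cfsg.Agent.Lib.OddChar.DadeVirtual
import Cfsg.Agent.Lib.OddOrder.TypeP
import Cfsg.Agent.Lib.OddOrder.Fitting
import Cfsg.Agent.Lib.OddOrder.KappaBasic
import Cfsg.Agent.Lib.Solvable.Basic

/-!
FT module SideBound.

`F(M)` TI with normaliser `M`: the sum over the region is `[G : M]` times that over `F(M) ∖ N₀`. There,
Bessel for the linear characters of `X̄ = F(M)/N₀` (multiplicities `n ν ∈ ℤ`) gives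
`|N₀| (|X̄| Σ n² + |X̄| n₁ - S² - S)`, `S = Σ n`, invariant under a common shift of all `n ν`; after the shift
the full ones are `δ` on `O` (`ū` of them) and `0` elsewhere, the others integers, and the minimum is
`|X̄| ū - ū² - ū` (at most `|X̄| - 2ū - 1` of them are not full).
-/

set_option autoImplicit false
set_option linter.style.haveILetI false
set_option linter.unusedSectionVars false
set_option linter.deprecated false
set_option linter.unusedVariables false

namespace CfsgLib.FT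

open Subgroup
open scoped commutatorElement

universe u

variable {G : Type u} [Group G] [Fintype G] {M W U W' : Subgroup G}

omit [Fintype G] in
theorem relIndex_mul_card' {A B : Subgroup G} (h : A ≤ B) :
    A.relIndex B * Nat.card A = Nat.card B := by
  rw [Subgroup.relIndex, ← (A.subgroupOf B).index_mul_card,
    Nat.card_congr (subgroupOfEquivOfLe h).toEquiv]

omit [Fintype G] in
theorem kerU_conj (h : Side M W U W') {u k : G} (hu : u ∈ U) (hk : k ∈ kerU M U)
    (hR : ∀ x ∈ Cfsg.fittingHallOf M, u⁻¹ * x * u ∈ Cfsg.fittingHallOf M) :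
    u * k * u⁻¹ ∈ kerU M U := by
  refine ⟨U.mul_mem (U.mul_mem hu hk.1) (U.inv_mem hu), mem_centralizer_iff.2 fun x hx => ?_⟩
  have e := (mem_centralizer_iff.1 hk.2) _ (hR x hx)
  calc x * (u * k * u⁻¹) = u * ((u⁻¹ * x * u) * k) * u⁻¹ := by group
    _ = u * (k * (u⁻¹ * x * u)) * u⁻¹ := by rw [e]
    _ = u * k * u⁻¹ * x := by group

theorem side_le (h : Side M W U W') :
    Cfsg.fittingHallOf M ≤ Cfsg.fittingOf M ∧ kerU M U ≤ Cfsg.fittingOf M ∧
      outCore M U ≤ Cfsg.fittingOf M ∧ Cfsg.fittingOf M ≤ M ∧ U ≤ M := by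
  have hR : Cfsg.fittingHallOf M ≤ Cfsg.fittingOf M := h.fitting_eq ▸ le_sup_left
  have hK : kerU M U ≤ Cfsg.fittingOf M := h.fitting_eq ▸ le_sup_right
  refine ⟨hR, hK, sup_le (inf_le_left.trans hR) ?_, OddOrder.fittingOf_le M, ?_⟩
  · exact ((commutator_le_self _).trans hK)
  · exact h.typeP.U_compl.2.1.trans (commutator_le.2 fun a ha b hb =>
      by simpa [commutatorElement_def] using
        M.mul_mem (M.mul_mem (M.mul_mem ha hb) (M.inv_mem ha)) (M.inv_mem hb))

theorem fittingOf_comm (h : Side M W U W') :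
    ⁅Cfsg.fittingOf M, Cfsg.fittingOf M⁆ ≤ outCore M U := by
  obtain ⟨hR, hK, hN, hFM, -⟩ := side_le h
  set R := Cfsg.fittingHallOf M
  set K := kerU M U
  haveI hn : ((outCore M U).subgroupOf M).Normal :=
    normal_subgroupOf_of_le_normalizer h.out_normal
  have hsup : (Cfsg.fittingOf M).subgroupOf M = R.subgroupOf M ⊔ K.subgroupOf M := by
    rw [h.fitting_eq, subgroupOf_sup (hR.trans hFM) (hK.trans hFM)]
  have hc : ∀ a b : M, ((a : G) ∈ R ∨ (a : G) ∈ K) → ((b : G) ∈ R ∨ (b : G) ∈ K) →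
      (⁅a, b⁆ : M) ∈ (outCore M U).subgroupOf M := by
    intro a b ha hb
    rw [mem_subgroupOf]
    have hone : ∀ r ∈ R, ∀ k ∈ K, r * k = k * r := fun r hr k hk =>
      mem_centralizer_iff.1 hk.2 r hr
    rcases ha with ha | ha <;> rcases hb with hb | hb
    · exact mem_sup_left (h.quot_comm (commutator_mem_commutator ha hb))
    · rw [show ((⁅a, b⁆ : M) : G) = 1 by
        push_cast [commutatorElement_def]
        rw [hone _ ha _ hb]; group]
      exact one_mem _
    · rw [show ((⁅a, b⁆ : M) : G) = 1 by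
        push_cast [commutatorElement_def]
        rw [← hone _ hb _ ha]; group]
      exact one_mem _
    · exact mem_sup_right (commutator_mem_commutator ha hb)
  have hq : ∀ a b : M, (a : G) ∈ Cfsg.fittingOf M → (b : G) ∈ Cfsg.fittingOf M →
      QuotientGroup.mk' ((outCore M U).subgroupOf M) a *
        QuotientGroup.mk' ((outCore M U).subgroupOf M) b =
      QuotientGroup.mk' ((outCore M U).subgroupOf M) b *
        QuotientGroup.mk' ((outCore M U).subgroupOf M) a := by
    intro a b ha hb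
    set π := QuotientGroup.mk' ((outCore M U).subgroupOf M)
    let P : Set M := (R.subgroupOf M : Set M) ∪ K.subgroupOf M
    have hP : (Cfsg.fittingOf M).subgroupOf M = closure P := by
      rw [hsup, Subgroup.closure_union, Subgroup.closure_eq, Subgroup.closure_eq]
    have hgen : ∀ x ∈ P, ∀ y ∈ P, π x * π y = π y * π x := by
      intro x hx y hy
      rw [← commutatorElement_eq_one_iff_mul_comm, ← map_commutatorElement,
        QuotientGroup.mk'_apply, QuotientGroup.eq_one_iff]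
      exact hc x y hx hy
    have ha' : a ∈ closure P := hP ▸ mem_subgroupOf.2 ha
    have hb' : b ∈ closure P := hP ▸ mem_subgroupOf.2 hb
    clear ha hb
    induction ha', hb' using closure_induction₂ with
    | mem x y hx hy => exact hgen x hx y hy
    | one_left x _ => simp
    | one_right x _ => simp
    | mul_left x y z _ _ _ e1 e2 =>
      exact (Commute.mul_left (e1 : Commute _ _) e2 : _) |> fun e => by rw [map_mul]; exact e
    | mul_right x y z _ _ _ e1 e2 =>
      exact (Commute.mul_right (e1 : Commute _ _) e2 : _) |> fun e => by rw [map_mul]; exact e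
    | inv_left x y _ _ e => rw [map_inv]; exact (Commute.inv_left (e : Commute _ _))
    | inv_right x y _ _ e => rw [map_inv]; exact (Commute.inv_right (e : Commute _ _))
  rw [commutator_le]
  intro a ha b hb
  have e := hq ⟨a, hFM ha⟩ ⟨b, hFM hb⟩ ha hb
  rw [← commutatorElement_eq_one_iff_mul_comm, ← map_commutatorElement,
    QuotientGroup.mk'_apply, QuotientGroup.eq_one_iff, mem_subgroupOf] at e
  simpa [commutatorElement_def] using e

theorem kerU_relIndex_ne (h : Side M W U W') : ¬ U ≤ kerU M U := by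
  intro hU
  have hfix : fixCore M U = Cfsg.fittingHallOf M := le_antisymm inf_le_left fun x hx =>
    ⟨hx, mem_centralizer_iff.2 fun u hu => ((mem_centralizer_iff.1 (hU hu).2) x hx).symm⟩
  have hc := h.quot_card
  rw [hfix, relIndex_self] at hc
  exact absurd hc.symm (Nat.one_lt_pow h.q_prime.ne_zero h.p_prime.one_lt).ne'

theorem side_cards (h : Side M W U W') :
    Nat.card (Cfsg.fittingOf M) = Nat.card (Cfsg.fittingHallOf M) * Nat.card (kerU M U) ∧
      (outCore M U).relIndex (Cfsg.fittingOf M) =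
        Nat.card W' ^ Nat.card W * ⁅kerU M U, kerU M U⁆.relIndex (kerU M U) ∧
      Nat.card M = Nat.card (Cfsg.fittingHallOf M) * Nat.card U * Nat.card W := by
  obtain ⟨hR, hK, hN, hFM, hUM⟩ := side_le h
  have hcen : kerU M U ≤ centralizer (Cfsg.fittingHallOf M : Set G) := inf_le_right
  have hcop : (Nat.card (Cfsg.fittingHallOf M)).Coprime (Nat.card (kerU M U)) :=
    h.coprime.coprime_dvd_right (card_dvd_of_le inf_le_left)
  have hF : Nat.card (Cfsg.fittingOf M) =
      Nat.card (Cfsg.fittingHallOf M) * Nat.card (kerU M U) := by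
    rw [h.fitting_eq, Solvable.card_sup_of_disjoint (hcen.trans (centralizer_le_normalizer _))
      (disjoint_iff.2 (inf_eq_bot_of_coprime hcop))]
  have hN' : Nat.card (outCore M U) =
      Nat.card (fixCore M U) * Nat.card ↥⁅kerU M U, kerU M U⁆ := by
    refine Solvable.card_sup_of_disjoint ?_ (disjoint_iff.2 (inf_eq_bot_of_coprime
      ((hcop.coprime_dvd_left (card_dvd_of_le inf_le_left)).coprime_dvd_right
        (card_dvd_of_le (commutator_le_self _)))))
    exact (commutator_le_self _).trans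
      ((hcen.trans (centralizer_le inf_le_left)).trans (centralizer_le_normalizer _))
  refine ⟨hF, ?_, ?_⟩
  · rw [← h.quot_card]
    have hle : fixCore M U ≤ Cfsg.fittingHallOf M := inf_le_left
    have e1 := CfsgLib.FT.relIndex_mul_card' hle
    have e2 := CfsgLib.FT.relIndex_mul_card' (commutator_le_self (kerU M U))
    have e3 := CfsgLib.FT.relIndex_mul_card' hN
    rw [hN', hF, ← e1, ← e2] at e3
    have hpos : 0 < Nat.card (fixCore M U) * Nat.card ↥⁅kerU M U, kerU M U⁆ :=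
      Nat.mul_pos Nat.card_pos Nat.card_pos
    refine Nat.eq_of_mul_eq_mul_right hpos (e3.trans ?_)
    ring
  · have hc1 : ∀ {A B X : Subgroup G}, Cfsg.IsComplIn A B X →
        Nat.card X = Nat.card A * Nat.card B := fun {A B X} hc => by
      rw [OddOrder.card_eq_relIndex_of_isComplIn hc, CfsgLib.FT.relIndex_mul_card' hc.2.1]
    rw [hc1 h.typeP.W₁_compl, hc1 h.typeP.U_compl]

open Classical in
theorem card_full_ge (hodd : Odd (Nat.card G)) (h : Side M W U W')
    [Fintype (↥(Cfsg.fittingOf M) →* ℂˣ)] {ν : ↥(Cfsg.fittingOf M) →* ℂˣ}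
    (hν : FullChar M U ν) :
    2 * (kerU M U).relIndex U ≤ (Finset.univ.filter fun μ => FullChar M U μ).card := by
  obtain ⟨hR, hK, hN, hFM, hUM⟩ := side_le h
  have hRn : M ≤ normalizer (Cfsg.fittingHallOf M : Set G) := by
    haveI := Cfsg.fittingHall_normal M
    have := le_normalizer_map M.subtype (H := Cfsg.fittingHall M)
    rw [normalizer_eq_top, ← MonoidHom.range_eq_map, Subgroup.range_subtype] at this
    exact this
  have hRc : ∀ g ∈ M, ∀ x ∈ Cfsg.fittingHallOf M, g * x * g⁻¹ ∈ Cfsg.fittingHallOf M :=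
    fun g hg x hx => (mem_normalizer_iff.1 (hRn hg) x).1 hx
  have hFc : ∀ g : M, ∀ x : Cfsg.fittingOf M, (g : G) * x * (g : G)⁻¹ ∈ Cfsg.fittingOf M :=
    fun g x => (mem_normalizer_iff.1 (OddOrder.le_normalizer_fittingOf M g.2) x).1 x.2
  let c : M → ↥(Cfsg.fittingOf M) →* ↥(Cfsg.fittingOf M) := fun g =>
    { toFun := fun x => ⟨(g : G) * x * (g : G)⁻¹, hFc g x⟩
      map_one' := Subtype.ext (by simp)
      map_mul' := fun x y => Subtype.ext (by push_cast; group) }
  have hfull : ∀ u : U, FullChar M U (ν.comp (c ⟨u, hUM u.2⟩)) := by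
    intro u
    refine ⟨fun a ha => hν.1 _ ((mem_normalizer_iff.1 (h.out_normal (hUM u.2)) _).1 ha), ?_⟩
    intro u' hu' hs
    have hmem : (u : G) * u' * (u : G)⁻¹ ∈ kerU M U := by
      refine hν.2 _ (U.mul_mem (U.mul_mem u.2 hu') (U.inv_mem u.2)) fun x y hx hy => ?_
      have hx' : (u : G)⁻¹ * x * u ∈ Cfsg.fittingHallOf M := by
        simpa using hRc _ (M.inv_mem (hUM u.2)) _ hx
      have hy' : u' * ((u : G)⁻¹ * x * u) * u'⁻¹ ∈ Cfsg.fittingHallOf M :=
        hRc _ (hUM hu') _ hx'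
      have e := hs ⟨_, hR hx'⟩ ⟨_, hR hy'⟩ hx' rfl
      simp only [MonoidHom.comp_apply] at e
      convert e using 2 <;> refine Subtype.ext ?_
      · show (y : G) = (u : G) * (u' * ((u : G)⁻¹ * x * u) * u'⁻¹) * (u : G)⁻¹
        rw [hy]; group
      · show (x : G) = (u : G) * ((u : G)⁻¹ * x * u) * (u : G)⁻¹
        group
    have := kerU_conj h (U.inv_mem u.2) hmem fun x hx => by
      simpa using hRc _ (hUM u.2) x hx
    simpa [mul_assoc] using this
  have hfinv : ∀ μ, FullChar M U μ → FullChar M U μ⁻¹ := fun μ hμ =>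
    ⟨fun a ha => by rw [MonoidHom.inv_apply, hμ.1 a ha, inv_one],
      fun u hu hs => hμ.2 u hu fun x y hx hy => inv_inj.1 (hs x y hx hy)⟩
  -- translates agreeing on `R`
  have hagree : ∀ (u u' : U), (∀ x : ↥(Cfsg.fittingOf M), (x : G) ∈ Cfsg.fittingHallOf M →
      ν (c ⟨u, hUM u.2⟩ x) = ν (c ⟨u', hUM u'.2⟩ x)) → (u' : G) * (u : G)⁻¹ ∈ kerU M U := by
    intro u u' hs
    refine hν.2 _ (U.mul_mem u'.2 (U.inv_mem u.2)) fun x y hx hy => ?_
    have hx' : (u : G)⁻¹ * x * u ∈ Cfsg.fittingHallOf M := by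
      simpa using hRc _ (M.inv_mem (hUM u.2)) _ hx
    have e := (hs ⟨_, hR hx'⟩ hx').symm
    convert e using 2 <;> refine Subtype.ext ?_
    · show (y : G) = (u' : G) * ((u : G)⁻¹ * x * u) * (u' : G)⁻¹
      rw [hy]; group
    · show (x : G) = (u : G) * ((u : G)⁻¹ * x * u) * (u : G)⁻¹
      group
  -- the kernel inside `U`
  set K' := (kerU M U).subgroupOf U with hK'
  have hK'n : ∀ a b : U, (b : G) * (a : G)⁻¹ ∈ kerU M U → (a : U ⧸ K') = b := fun a b hab => by
    refine QuotientGroup.eq.2 (mem_subgroupOf.2 ?_)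
    have := kerU_conj h (U.inv_mem a.2) hab fun x hx => by simpa using hRc _ (hUM a.2) x hx
    simpa [mul_assoc] using this
  -- no translate is the inverse of a translate
  have hni : ∀ u u' : U, ν.comp (c ⟨u, hUM u.2⟩) ≠ (ν.comp (c ⟨u', hUM u'.2⟩))⁻¹ := by
    intro u u' e
    set w : G := (u' : G) * (u : G)⁻¹ with hw
    have hwU : w ∈ U := U.mul_mem u'.2 (U.inv_mem u.2)
    -- `ν (w x w⁻¹) = (ν x)⁻¹` on `R`
    have h1 : ∀ x y : ↥(Cfsg.fittingOf M), (x : G) ∈ Cfsg.fittingHallOf M →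
        (y : G) = w * x * w⁻¹ → ν y = (ν x)⁻¹ := by
      intro x y hx hy
      have hx' : (u : G)⁻¹ * x * u ∈ Cfsg.fittingHallOf M := by
        simpa using hRc _ (M.inv_mem (hUM u.2)) _ hx
      have e' := DFunLike.congr_fun e ⟨_, hR hx'⟩
      simp only [MonoidHom.comp_apply, MonoidHom.inv_apply] at e'
      have ex : c ⟨u, hUM u.2⟩ ⟨_, hR hx'⟩ = x := Subtype.ext (by
        show (u : G) * ((u : G)⁻¹ * x * u) * (u : G)⁻¹ = x
        group)
      have ey : c ⟨u', hUM u'.2⟩ ⟨_, hR hx'⟩ = y := Subtype.ext (by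
        show (u' : G) * ((u : G)⁻¹ * x * u) * (u' : G)⁻¹ = y
        rw [hy, hw]; group)
      rw [ex, ey] at e'
      rw [e', inv_inv]
    have h2 : w * w ∈ kerU M U := by
      refine hν.2 _ (U.mul_mem hwU hwU) fun x y hx hy => ?_
      have hz : w * (x : G) * w⁻¹ ∈ Cfsg.fittingHallOf M := hRc _ (hUM hwU) _ hx
      rw [h1 ⟨_, hR hz⟩ y hz (by rw [hy]; group), h1 x ⟨_, hR hz⟩ hx rfl, inv_inv]
    have hwk : w ∈ kerU M U := by
      obtain ⟨m, hm⟩ := hodd.of_dvd_nat (orderOf_dvd_natCard w)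
      have hp : (w * w) ^ (m + 1) = w := by
        rw [← pow_two, ← pow_mul, show 2 * (m + 1) = orderOf w + 1 by omega, pow_succ,
          pow_orderOf_eq_one, one_mul]
      exact hp ▸ pow_mem h2 _
    refine kerU_relIndex_ne h fun v hv => hν.2 v hv fun x y hx hy => ?_
    have hsq : ∀ z : ↥(Cfsg.fittingOf M), (z : G) ∈ Cfsg.fittingHallOf M → ν z = 1 := by
      intro z hz
      have e1 : ν z = (ν z)⁻¹ := h1 z z hz (by
        rw [← (mem_centralizer_iff.1 hwk.2) _ hz, mul_inv_cancel_right])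
      have h2' : (ν z) ^ 2 = 1 := by rw [sq]; nth_rw 2 [e1]; exact mul_inv_cancel _
      obtain ⟨m, hm⟩ := (hodd.of_dvd_nat
        ((Cfsg.fittingOf M).card_subgroup_dvd_card)).of_dvd_nat (orderOf_dvd_natCard z)
      have h3 : (ν z) ^ (2 * m + 1) = 1 := by rw [← map_pow, ← hm, pow_orderOf_eq_one, map_one]
      rwa [pow_succ, pow_mul, h2', one_pow, one_mul] at h3
    rw [hsq x hx, hsq y (hy ▸ hRc _ (hUM hv) _ hx)]
  let f : (U ⧸ K') ⊕ (U ⧸ K') → ↥(Cfsg.fittingOf M) →* ℂˣ := Sum.elim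
    (fun q => ν.comp (c ⟨q.out, hUM q.out.2⟩)) fun q => (ν.comp (c ⟨q.out, hUM q.out.2⟩))⁻¹
  have hinj1 : ∀ q q' : U ⧸ K', ν.comp (c ⟨q.out, hUM q.out.2⟩) =
      ν.comp (c ⟨q'.out, hUM q'.out.2⟩) → q = q' := fun q q' e => by
    rw [← q.out_eq, ← q'.out_eq]
    exact hK'n _ _ (hagree _ _ fun x _ => DFunLike.congr_fun e x)
  have hfinj : Function.Injective f := by
    rintro (q | q) (q' | q') e
    · exact congrArg Sum.inl (hinj1 q q' e)
    · exact absurd e (hni _ _)
    · exact absurd e.symm (hni _ _)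
    · exact congrArg Sum.inr (hinj1 q q' (inv_inj.1 e))
  haveI : Fintype (U ⧸ K') := Fintype.ofFinite _
  have hle := Finset.card_le_card_of_injOn f (s := Finset.univ)
    (t := Finset.univ.filter fun μ => FullChar M U μ) (fun a _ => by
      simp only [Finset.coe_filter, Finset.mem_univ, true_and, Set.mem_setOf_eq]
      rcases a with q | q
      · exact hfull _
      · exact hfinv _ (hfull _)) hfinj.injOn
  rw [Finset.card_univ, Fintype.card_sum, ← two_mul, ← Nat.card_eq_fintype_card] at hle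
  exact hle

theorem region_bound (hodd : Odd (Nat.card G)) (h : Side M W U W')
    {χ : (↥(W ⊔ W') →* ℂˣ) → (G → ℂ)}
    (hχ : Cfsg.IsCyclicTIFamily W W' χ) {ω : ↥(W ⊔ W') →* ℂˣ} (hW : ¬ TrivialOn ω W)
    (hW' : ¬ TrivialOn ω W') :
    (Nat.card G : ℝ) * ((Nat.card W : ℝ)⁻¹ - slack M W U W') ≤
      ∑ᶠ g ∈ region M U, (‖χ ω g‖ ^ 2 + (χ ω g).re) := by
  classical
  obtain ⟨hR, hK, hN, hFM, hUM⟩ := side_le h
  obtain ⟨hcF, hidx, hcM⟩ := side_cards h
  set X := Cfsg.fittingOf M with hX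
  letI : Fintype X := Fintype.ofFinite _
  haveI := OddChar.finite_linearChar X
  letI : Fintype (X →* ℂˣ) := Fintype.ofFinite _
  haveI hNn : ((outCore M U).subgroupOf X).Normal :=
    normal_subgroupOf_of_le_normalizer (hFM.trans h.out_normal)
  set η : X → ℂ := fun x => χ ω x with hη
  have hgen : Cfsg.IsGeneralizedCharacter G (χ ω) :=
    PairPins.isGeneralized_of_signed (hχ.irr_or_neg ω)
  have hηgen : Cfsg.IsGeneralizedCharacter X η := Char.IsGeneralizedCharacter.restrict hgen X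
  choose n hn using fun ν : X →* ℂˣ => OddChar.exists_int_classInner_gen hηgen
    (Char.IsIrrCharacter.isGeneralizedCharacter (Char.isIrrCharacter_linear ν))
  obtain ⟨O, δ, n0, hδ, hOc, hOfull, hpins⟩ := exists_pins hodd h hχ hW hW'
  -- Bessel
  have hab : ∀ a b : X, a * b * a⁻¹ * b⁻¹ ∈ (outCore M U).subgroupOf X := fun a b => by
    rw [mem_subgroupOf]
    simpa [commutatorElement_def] using fittingOf_comm h (commutator_mem_commutator a.2 b.2)
  obtain ⟨hΦc, -⟩ := Count.dualSet_facts ((outCore M U).subgroupOf X) hab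
  have hB := Count.quot_bound ((outCore M U).subgroupOf X) hab η n fun ν _ => hn ν
  set Φ := Count.dualSet ((outCore M U).subgroupOf X) with hΦ
  set N : ℕ := ((outCore M U).subgroupOf X).index with hNdef
  have hNeq : N = (outCore M U).relIndex X := rfl
  have hub : (kerU M U).relIndex U ≠ 0 := fun h0 => by
    have hle : kerU M U ≤ U := inf_le_left
    have := CfsgLib.FT.relIndex_mul_card' hle
    rw [h0, zero_mul] at this
    exact Nat.card_pos.ne this
  -- full characters
  set Fu := Finset.univ.filter fun μ : X →* ℂˣ => FullChar M U μ with hFu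
  have hFsub : Fu ⊆ Φ := fun μ hμ => by
    simp only [hΦ, Count.dualSet, Finset.mem_filter, Finset.mem_univ, true_and]
    intro a ha
    exact (Finset.mem_filter.1 hμ).2.1 a (mem_subgroupOf.1 ha)
  have hOsub : O ⊆ Fu := fun μ hμ => Finset.mem_filter.2 ⟨Finset.mem_univ _, hOfull μ hμ⟩
  obtain ⟨ν₀, hν₀⟩ := Finset.card_pos.1 (Nat.pos_of_ne_zero (hOc ▸ hub) : 0 < O.card)
  have hFc : 2 * (kerU M U).relIndex U ≤ Fu.card := card_full_ge hodd h (hOfull ν₀ hν₀)
  have h1Φ : (1 : X →* ℂˣ) ∈ Φ := by simp [hΦ, Count.dualSet]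
  have h1F : (1 : X →* ℂˣ) ∉ Fu := fun h1 =>
    kerU_relIndex_ne h fun v hv => (Finset.mem_filter.1 h1).2.2 v hv fun x y _ _ => by simp
  set s := (Φ \ Fu).erase 1 with hs
  have h1s : (1 : X →* ℂˣ) ∈ Φ \ Fu := Finset.mem_sdiff.2 ⟨h1Φ, h1F⟩
  have hsc : (s.card : ℤ) + 2 * ((kerU M U).relIndex U : ℤ) + 1 ≤ (N : ℤ) := by
    have e1 := Finset.card_sdiff_add_card_eq_card hFsub
    have e2 := Finset.card_erase_add_one h1s
    rw [hΦc] at e1
    rw [← hs] at e2
    omega
  have hfullval : ∀ μ ∈ Fu, n μ = n0 + if μ ∈ O then δ else 0 := fun μ hμ => by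
    have := (hn μ).symm.trans (hpins μ (Finset.mem_filter.1 hμ).2)
    exact_mod_cast this
  set y : (X →* ℂˣ) → ℤ := fun μ => n μ - n0 with hy
  set a : ℤ := y 1 with ha
  have hsumF : ∀ g : ℤ → ℤ, g 0 = 0 → ∑ μ ∈ Fu, g (y μ) = (O.card : ℤ) * g δ := fun g hg => by
    rw [← Finset.sum_sdiff hOsub, Finset.sum_eq_zero fun μ hμ => ?_, zero_add,
      Finset.sum_congr rfl fun μ hμ => ?_, Finset.sum_const, nsmul_eq_mul]
    · rw [show y μ = δ by simp [hy, hfullval μ (hOsub hμ), if_pos hμ]]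
    · rw [Finset.mem_sdiff] at hμ
      rw [show y μ = 0 by simp [hy, hfullval μ hμ.1, if_neg hμ.2], hg]
  have hsumΦ : ∀ g : ℤ → ℤ, g 0 = 0 →
      ∑ μ ∈ Φ, g (y μ) = (O.card : ℤ) * g δ + g a + ∑ μ ∈ s, g (y μ) := fun g hg => by
    rw [← Finset.sum_sdiff hFsub, hsumF g hg, ← Finset.add_sum_erase _ _ h1s, ← hs, ha]
    ring
  have hT := hsumΦ id rfl
  have hQ := hsumΦ (fun z => z ^ 2) (by norm_num)
  simp only [id, hOc] at hT hQ
  rw [show δ ^ 2 = 1 by rcases hδ with rfl | rfl <;> norm_num] at hQ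
  have hmin := Count.min_side s y a ((kerU M U).relIndex U : ℤ) (N : ℤ) δ hδ
    (Int.natCast_nonneg _) hsc
  -- the shift
  have hshift : (N : ℤ) * ((kerU M U).relIndex U : ℤ) - ((kerU M U).relIndex U : ℤ) ^ 2 -
      ((kerU M U).relIndex U : ℤ) ≤
      (N : ℤ) * (∑ μ ∈ Φ, n μ ^ 2) + (N : ℤ) * n 1 - (∑ μ ∈ Φ, n μ) ^ 2 - ∑ μ ∈ Φ, n μ := by
    have eS : ∑ μ ∈ Φ, n μ = (N : ℤ) * n0 + ∑ μ ∈ Φ, y μ := by
      simp [hy, Finset.sum_sub_distrib, hΦc]
    have eQ : ∑ μ ∈ Φ, n μ ^ 2 =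
        (N : ℤ) * n0 ^ 2 + 2 * n0 * (∑ μ ∈ Φ, y μ) + ∑ μ ∈ Φ, y μ ^ 2 := by
      rw [Finset.mul_sum, ← hΦc, ← nsmul_eq_mul, ← Finset.sum_const, ← Finset.sum_add_distrib,
        ← Finset.sum_add_distrib]
      exact Finset.sum_congr rfl fun μ _ => by simp [hy]; ring
    have e1 : n 1 = n0 + a := by simp [ha, hy]
    rw [eS, eQ, e1, hT, hQ]
    rw [mul_comm _ δ] at *
    linear_combination hmin
  have hshiftR := (Int.cast_le (R := ℝ)).2 hshift
  push_cast at hshiftR
  -- the TI count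
  set A : Set G := (X : Set G) \ (outCore M U : Set G) with hA
  have hregion : region M U = PairIneq.conjUnion A := Set.ext fun g => Iff.rfl
  have hA1 : (1 : G) ∉ A := fun h1 => h1.2 (one_mem _)
  have hMA : M ≤ normalizer A := fun g hg => by
    refine mem_set_normalizer_iff.2 fun x => ?_
    simp only [hA, Set.mem_diff, SetLike.mem_coe]
    rw [mem_normalizer_iff.1 (OddOrder.le_normalizer_fittingOf M hg) x,
      mem_normalizer_iff.1 (h.out_normal hg) x]
  have hAne : A.Nonempty := by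
    by_contra hne
    rw [Set.not_nonempty_iff_eq_empty, hA, Set.sdiff_eq_empty] at hne
    have : (outCore M U).relIndex X = 1 := relIndex_eq_one.2 hne
    rw [hidx] at this
    exact (Nat.one_lt_pow h.q_prime.ne_zero h.p_prime.one_lt).ne' (Nat.eq_one_of_mul_eq_one_right this)
  have hTI : ∀ g : G, g ∉ M → ∀ x ∈ A, g * x * g⁻¹ ∈ A → False := fun g hg x hx hgx => by
    have := h.fitting_TI g (by rw [h.fitting_normalizer]; exact hg) x hx.1 hgx.1
    exact hA1 (this ▸ hx)
  have hnA : normalizer A = M := le_antisymm (fun g hg => by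
    by_contra hgM
    obtain ⟨x, hx⟩ := hAne
    exact hTI g hgM x hx ((mem_set_normalizer_iff.1 hg x).1 hx)) hMA
  have hATI : Cfsg.IsTISubset A := fun g hg x hx hgx =>
    (hTI g (hnA ▸ hg) x hx hgx).elim
  have hcl : ∀ x g : G, ‖χ ω (x * g * x⁻¹)‖ ^ 2 + (χ ω (x * g * x⁻¹)).re =
      ‖χ ω g‖ ^ 2 + (χ ω g).re := by
    intro x g
    have hc : Cfsg.IsClassFunction G (χ ω) := Char.IsGeneralizedCharacter.isClassFunction hgen
    rw [hc]
  rw [finsum_mem_eq_toFinset_sum, Set.toFinset_congr hregion,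
    PairIneq.sum_conjUnion hATI hA1 _ hcl, hnA, nsmul_eq_mul]
  have hAsum : ∑ a ∈ A.toFinset, (‖χ ω a‖ ^ 2 + (χ ω a).re) =
      ∑ x ∈ Finset.univ.filter (fun x : X => x ∉ (outCore M U).subgroupOf X),
        (‖η x‖ ^ 2 + (η x).re) := by
    refine (Finset.sum_bij (fun (x : X) _ => (x : G)) (fun x hx => ?_) (fun _ _ _ _ e =>
      Subtype.ext e) (fun a ha => ?_) fun _ _ => rfl).symm
    · rw [Set.mem_toFinset]
      exact ⟨x.2, fun hm => (Finset.mem_filter.1 hx).2 (mem_subgroupOf.2 hm)⟩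
    · rw [Set.mem_toFinset] at ha
      exact ⟨⟨a, ha.1⟩, Finset.mem_filter.2 ⟨Finset.mem_univ _, fun hm => ha.2
        (mem_subgroupOf.1 hm)⟩, rfl⟩
  have hA2 : ∀ t : Finset G, (∀ g, g ∈ t ↔ g ∈ A) →
      ∑ a ∈ t, (‖χ ω a‖ ^ 2 + (χ ω a).re) = _ := fun t ht =>
    (Finset.sum_congr (Finset.ext fun g => (ht g).trans Set.mem_toFinset.symm)
      fun _ _ => rfl).trans hAsum
  refine le_trans ?_ (mul_le_mul_of_nonneg_left (le_trans
    (mul_le_mul_of_nonneg_left hshiftR (Nat.cast_nonneg _))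
    (hB.trans (le_of_eq (hA2 _ ?hmem).symm))) (Nat.cast_nonneg _))
  case hmem => intro g; exact @Set.mem_toFinset _ A (_) g
  -- arithmetic
  have hGM : (M.index : ℝ) * Nat.card M = Nat.card G := by
    exact_mod_cast M.index_mul_card
  have hNX : (Nat.card ((outCore M U).subgroupOf X) : ℝ) * N = Nat.card X := by
    exact_mod_cast ((outCore M U).subgroupOf X).card_mul_index
  have hKU : (Nat.card (kerU M U) : ℝ) * ((kerU M U).relIndex U : ℝ) = Nat.card U := by
    have hle : kerU M U ≤ U := inf_le_left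
    exact_mod_cast (mul_comm _ _).trans (CfsgLib.FT.relIndex_mul_card' hle)
  have hcX : (Nat.card X : ℝ) = Nat.card (Cfsg.fittingHallOf M) * Nat.card (kerU M U) := by
    exact_mod_cast hcF
  have hcM' : (Nat.card M : ℝ) =
      Nat.card (Cfsg.fittingHallOf M) * Nat.card U * Nat.card W := by exact_mod_cast hcM
  have hq0 : (Nat.card W : ℝ) ≠ 0 := by exact_mod_cast Nat.card_pos.ne'
  have hsl : slack M W U W' = (((kerU M U).relIndex U : ℝ) + 1) / ((N : ℝ) * Nat.card W) := by
    rw [slack, hNeq, hidx]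
    push_cast
    ring
  have hN0 : (N : ℝ) ≠ 0 := by exact_mod_cast Subgroup.index_ne_zero_of_finite
  rw [hsl, ← hGM, hcM', ← hKU]
  rw [show (Nat.card ((outCore M U).subgroupOf X) : ℝ) = Nat.card X / N by
    rw [eq_div_iff hN0, hNX], hcX]
  apply le_of_eq
  field_simp
  ring

end CfsgLib.FT
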