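import Cfsg.Agent.Lib.FT.Grid
import Cfsg.Agent.Lib.FT.SidePinChars
import Cfsg.Agent.Lib.FT.FixedAverage

/-!
FT module SidePin: the multiplicities of `χ ω` on `F(M)`.

For a `W`-fixed full `ν` and an extension `η` of it to `F(M) W`, `μ η` is `η` on the cosets outside
`F(M)`; `A = F(M)# ∪ conj (W^)` is TI with normaliser `M`, so `τ (μ η - μ η') = χ ω - χ ω'`.  For
`E = τ (Φ ν - Φ ν')` this fixes `⟨E, χ (f ψ)⟩` along every row up to a constant, and `|E|²` is `2q`, `q + 1`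
or `2`: the constant is `0` up to the conjugate symmetry possible for `p = 3` (`δ = -1`).
-/

set_option autoImplicit false
set_option linter.style.haveILetI false
set_option linter.unusedSectionVars false

namespace CfsgLib.FT

open Subgroup
open scoped ComplexConjugate

universe u

variable {G : Type u} [Group G] [Fintype G] {M W U W' : Subgroup G}

namespace SidePin

/-- `F(M)#` and the conjugates under `M` of `W W'` outside `W ∪ W'`. -/
def tiSet (M W W' : Subgroup G) : Set G :=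
  {g | g ≠ 1 ∧ g ∈ Cfsg.fittingOf M} ∪ {g | ∃ m ∈ M, m * g * m⁻¹ ∈ PairIneq.hat W W'}

theorem ind_inner {A : Set G} {S : Subgroup G} [Fintype S] (hA : Cfsg.IsTISubset A)
    (hA1 : (1 : G) ∉ A) (hAN : normalizer A = S) {α β : ↥S → ℂ}
    (hβ : Cfsg.IsClassFunction ↥S β) (hsa : ∀ x : S, (x : G) ∉ A → α x = 0)
    (hsb : ∀ x : S, (x : G) ∉ A → β x = 0) :
    Cfsg.classInner (Cfsg.indFun S α) (Cfsg.indFun S β) = Cfsg.classInner α β := by
  subst hAN
  exact CfsgLib.Char.classInner_indFun_ti A hA α β hβ hsa hsb (hsa 1 (by simpa using hA1))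

theorem row_le {I J : Type*} [Fintype I] [Fintype J] (d : I × J → ℤ) {n : ℕ}
    (hsq : ∑ p, d p ^ 2 ≤ (n : ℤ)) (m : ℤ) (hm : ∀ i, m ≤ ∑ j, d (i, j) ^ 2) (i₀ : I) :
    (∑ j, d (i₀, j) ^ 2) + ((Fintype.card I : ℤ) - 1) * m ≤ n := by
  classical
  rw [Fintype.sum_prod_type, ← Finset.add_sum_erase _ _ (Finset.mem_univ i₀)] at hsq
  have h2 := Finset.card_nsmul_le_sum (Finset.univ.erase i₀) (fun i => ∑ j, d (i, j) ^ 2) m
    fun i _ => hm i
  rw [Finset.card_erase_of_mem (Finset.mem_univ i₀), Finset.card_univ, nsmul_eq_mul,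
    Nat.cast_sub (Fintype.card_pos_iff.2 ⟨i₀⟩), Nat.cast_one] at h2
  omega

theorem pair_le_sum {J : Type*} [Fintype J] (f : J → ℤ) (hf : ∀ j, 0 ≤ f j) {a b : J}
    (hab : a ≠ b) : f a + f b ≤ ∑ j, f j := by
  classical
  rw [← Finset.sum_pair hab]
  exact Finset.sum_le_sum_of_subset_of_nonneg (Finset.subset_univ _) fun j _ _ => hf j

variable (h : Side M W U W')
include h

theorem exists_ab : ∃ a b : G, a ∈ W ∧ a ≠ 1 ∧ b ∈ W' ∧ b ≠ 1 := by
  obtain ⟨a, ha, ha1⟩ : ∃ a ∈ W, a ≠ 1 := by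
    by_contra hne
    push Not at hne
    exact h.typeP.W₁_ne ((Subgroup.eq_bot_iff_forall _).2 hne)
  obtain ⟨b, hb, hb1⟩ : ∃ b ∈ W', b ≠ 1 := by
    by_contra hne
    push Not at hne
    exact h.typeP.selfNormalizing.2.1 ((Subgroup.eq_bot_iff_forall _).2 hne)
  exact ⟨a, b, ha, ha1, hb, hb1⟩

theorem sup_le_M : W ⊔ W' ≤ M := sup_le (W_le_M h) ((W'_le_X h).trans (X_le_M h))

theorem sup_le_XW : W ⊔ W' ≤ Cfsg.fittingOf M ⊔ W :=
  sup_le le_sup_right ((W'_le_X h).trans le_sup_left)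

theorem mul_mem_hat {a b : G} (ha : a ∈ W) (ha1 : a ≠ 1) (hb : b ∈ W') (hb1 : b ≠ 1) :
    a * b ∈ PairIneq.hat W W' := by
  refine ⟨mul_mem (mem_sup_left ha) (mem_sup_right hb), ?_⟩
  rintro (hw | hw)
  · exact hb1 (eq_one_of_derived h (X_le_derived h (W'_le_X h hb))
      ((mul_mem_cancel_left ha).1 hw))
  · exact ha1 (eq_one_of_derived h (X_le_derived h (W'_le_X h ((mul_mem_cancel_right hb).1 hw)))
      ha)

/-- No conjugate of `W^` meets `F(M)`. -/
theorem hat_not_X {v : G} (hv : v ∈ PairIneq.hat W W') (g : G) :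
    g * v * g⁻¹ ∉ Cfsg.fittingOf M := by
  intro hg
  obtain ⟨p₁, p₂, hp, -, -⟩ := OddChar.exists_proj h.typeP.selfNormalizing.2.2.1
    h.typeP.selfNormalizing.2.2.2.1
  set a := p₁ ⟨v, hv.1⟩
  set b := p₂ ⟨v, hv.1⟩
  have hab : (a : G) * b = v := hp ⟨v, hv.1⟩
  have hgv : (g * v * g⁻¹) ^ Nat.card ↥(Cfsg.fittingOf M) = 1 :=
    congrArg Subtype.val (pow_card_eq_one' (x := (⟨_, hg⟩ : ↥(Cfsg.fittingOf M))))
  have hv1 : v ^ Nat.card ↥(Cfsg.fittingOf M) = 1 := by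
    simpa [conj_pow] using hgv
  rw [← hab, (show Commute (a : G) b from W_comm h a.2 b.2).mul_pow,
    show (b : G) ^ Nat.card ↥(Cfsg.fittingOf M) = 1 from congrArg Subtype.val
      (pow_card_eq_one' (x := (⟨b, W'_le_X h b.2⟩ : ↥(Cfsg.fittingOf M)))), mul_one] at hv1
  have ha : a = 1 := by
    rw [← orderOf_eq_one_iff]
    have h1 : orderOf a ∣ Nat.card ↥(Cfsg.fittingOf M) :=
      orderOf_dvd_of_pow_eq_one (Subtype.ext hv1)
    exact Nat.dvd_one.1 ((coprime_X h) ▸ Nat.dvd_gcd h1 (orderOf_dvd_natCard a))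
  rw [ha, OneMemClass.coe_one, one_mul] at hab
  exact hv.2 (Or.inr (hab ▸ b.2))

theorem tiSet_facts : Cfsg.IsTISubset (tiSet M W W') ∧ (1 : G) ∉ tiSet M W W' ∧
    normalizer (tiSet M W W') = M := by
  have key : ∀ g x : G, x ∈ tiSet M W W' → g * x * g⁻¹ ∈ tiSet M W W' → g ∈ M := by
    intro g x hx hgx
    rcases hx with ⟨hx1, hxX⟩ | ⟨m, hm, hv⟩ <;>
      rcases hgx with ⟨hy1, hyX⟩ | ⟨m', hm', hv'⟩
    · by_contra hg
      exact hx1 (h.fitting_TI g (by rwa [h.fitting_normalizer]) x hxX hyX)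
    · refine absurd ?_ (hat_not_X h hv' (m' * g)⁻¹)
      rw [show (m' * g)⁻¹ * (m' * (g * x * g⁻¹) * m'⁻¹) * ((m' * g)⁻¹)⁻¹ = x by group]
      exact hxX
    · refine absurd ?_ (hat_not_X h hv (g * m⁻¹))
      rw [show g * m⁻¹ * (m * x * m⁻¹) * (g * m⁻¹)⁻¹ = g * x * g⁻¹ by group]
      exact hyX
    · simp only [PairIneq.hat, Set.mem_sdiff, Set.mem_union, not_or, SetLike.mem_coe] at hv hv'
      have hc := OddChar.selfNormalizingCyclic_mem_of_conj h.typeP.selfNormalizing hv.1 hv.2.1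
        hv.2.2 (g := m' * g * m⁻¹) (by convert hv'.1 using 1; group)
        (by convert hv'.2.1 using 2; group) (by convert hv'.2.2 using 2; group)
      have := mul_mem (mul_mem (inv_mem hm') (sup_le_M h hc)) hm
      rwa [show m'⁻¹ * (m' * g * m⁻¹) * m = g by group] at this
  have hinv : ∀ g ∈ M, ∀ x, x ∈ tiSet M W W' → g * x * g⁻¹ ∈ tiSet M W W' := by
    rintro g hg x (⟨hx1, hxX⟩ | ⟨m, hm, hv⟩)
    · exact Or.inl ⟨fun e => hx1 (conj_eq_one_iff.1 e),
        (mem_normalizer_iff.1 (norm h hg) x).1 hxX⟩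
    · refine Or.inr ⟨m * g⁻¹, mul_mem hm (inv_mem hg), ?_⟩
      convert hv using 1
      group
  have hN : normalizer (tiSet M W W') = M := by
    refine le_antisymm (fun g hg => ?_) fun g hg => ?_
    · obtain ⟨a, b, -, -, hb, hb1⟩ := exists_ab h
      have hbA : b ∈ tiSet M W W' := Or.inl ⟨hb1, W'_le_X h hb⟩
      exact key g b hbA ((mem_set_normalizer_iff.1 hg b).1 hbA)
    · refine mem_set_normalizer_iff.2 fun x => ⟨hinv g hg x, fun hx => ?_⟩
      simpa [mul_assoc] using hinv g⁻¹ (inv_mem hg) _ hx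
  refine ⟨fun g hg x hx hgx => absurd (key g x hx hgx) (by rwa [hN] at hg), ?_, hN⟩
  rintro (⟨h1, -⟩ | ⟨m, -, hv⟩)
  · exact h1 rfl
  · rw [mul_one, mul_inv_cancel] at hv
    exact hv.2 (Or.inl (one_mem _))

variable [Fintype ↥M] [Fintype ↥(Cfsg.fittingOf M)]

theorem diff_supp (ν ν' : LX M) (x : ↥M) (hx : (x : G) ∉ tiSet M W W') :
    (Phi ν - Phi ν') x = 0 := by
  by_cases hX : (x : G) ∈ Cfsg.fittingOf M
  · obtain rfl : x = 1 := Subtype.ext (by
      by_contra hne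
      exact hx (Or.inl ⟨hne, hX⟩))
    simp [Phi_one h]
  · simp [Phi_eq_zero h _ hX]

/-- PIN for two fixed characters. -/
theorem pins {χ : (↥(W ⊔ W') →* ℂˣ) → (G → ℂ)} (hodd : Odd (Nat.card G))
    (hχ : Cfsg.IsCyclicTIFamily W W' χ)
    {ν ν' : LX M} (hν : FullChar M U ν) (hν' : FullChar M U ν') (hf : Fixed W ν) (hf' : Fixed W ν')
    (hne : ν ≠ ν')
    {η η' : ↥(Cfsg.fittingOf M ⊔ W) →* ℂˣ}
    (hη : ∀ x : ↥(Cfsg.fittingOf M), η ⟨x, mem_sup_left x.2⟩ = ν x)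
    (hη' : ∀ x : ↥(Cfsg.fittingOf M), η' ⟨x, mem_sup_left x.2⟩ = ν' x)
    {ω ω' : ↥(W ⊔ W') →* ℂˣ}
    (hω : ∀ w : ↥(W ⊔ W'), η ⟨w, sup_le_XW h w.2⟩ = ω w)
    (hω' : ∀ w : ↥(W ⊔ W'), η' ⟨w, sup_le_XW h w.2⟩ = ω' w)
    (h1 : ∀ w : ↥(W ⊔ W'), (w : G) ∈ W → ω w = ω' w) :
    (∀ x : ↥M, (x : G) ∉ tiSet M W W' → (mu (M := M) η - mu (M := M) η') x = 0) ∧
      Cfsg.indFun M (mu (M := M) η - mu (M := M) η') = χ ω - χ ω' := by
  classical
  obtain ⟨hA, hA1, hAN⟩ := tiSet_facts h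
  have hsupp : ∀ x : ↥M, (x : G) ∉ tiSet M W W' → (mu (M := M) η - mu (M := M) η') x = 0 := by
    intro x hx
    by_cases hc : ∃ m : ↥M, ((m * x * m⁻¹ : ↥M) : G) ∈ Cfsg.fittingOf M ⊔ W
    · obtain ⟨m, hm⟩ := hc
      have hcl : ∀ (n : ↥M) (k : ↥(Cfsg.fittingOf M ⊔ W) →* ℂˣ),
          mu k x = mu k (n * x * n⁻¹) := fun n k =>
        (CfsgLib.Char.isClassFunction_indFun _ _ x n).symm
      by_cases hX : ((m * x * m⁻¹ : ↥M) : G) ∈ Cfsg.fittingOf M
      · have h1' : ((m * x * m⁻¹ : ↥M) : G) = 1 := by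
          by_contra hne1
          refine hx (Or.inl ⟨fun e => hne1 (by simp [e]), ?_⟩)
          have := (mem_normalizer_iff.1 (norm h (inv_mem m.2)) _).1 hX
          simpa [mul_assoc] using this
        rw [Pi.sub_apply, hcl m η, hcl m η', show (m * x * m⁻¹ : ↥M) = 1 from Subtype.ext h1',
          mu_one h hη, mu_one h hη', sub_self]
      · obtain ⟨x₀, hx₀, a, ha, e⟩ := mul_mem_XW h hm
        have ha1 : a ≠ 1 := fun e' => hX (by rw [e, e', mul_one]; exact hx₀)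
        obtain ⟨z, hz, c, hc, ec⟩ := conj_to_cent h ha ha1 hx₀
        have hc1 : c = 1 := by
          by_contra hc1
          refine hx (Or.inr ⟨z * m, mul_mem (X_le_M h hz) m.2, ?_⟩)
          have hh := mul_mem_hat h ha ha1 hc hc1
          rw [W_comm h ha hc, ← ec, ← e] at hh
          convert hh using 1
          simp only [Subgroup.coe_mul, Subgroup.coe_inv]
          group
        rw [hc1, one_mul] at ec
        let n : ↥M := ⟨z, X_le_M h hz⟩ * m
        have hn : n * x * n⁻¹ = ⟨a, W_le_M h ha⟩ := Subtype.ext (by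
          refine Eq.trans ?_ ec
          rw [← e]
          simp only [n, Subgroup.coe_mul, Subgroup.coe_inv]
          group)
        have haX : a ∉ Cfsg.fittingOf M := fun hh =>
          ha1 (eq_one_of_derived h (X_le_derived h hh) ha)
        rw [Pi.sub_apply, hcl n η, hcl n η', hn, mu_apply_out h η ⟨a, mem_sup_right ha⟩ haX,
          mu_apply_out h η' ⟨a, mem_sup_right ha⟩ haX, sub_eq_zero]
        have e1 := h1 ⟨a, mem_sup_left ha⟩ ha
        rw [← hω, ← hω'] at e1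
        rw [e1]
    · push Not at hc
      have hz : ∀ k : ↥(Cfsg.fittingOf M ⊔ W) →* ℂˣ, mu k x = 0 := fun k => by
        rw [mu, CfsgLib.Char.indFun_apply]
        refine mul_eq_zero_of_right _ (Finset.sum_eq_zero fun m _ =>
          CfsgLib.Char.extendByZero_of_notMem _ _ fun hmem => hc m⁻¹ ?_)
        simpa using mem_subgroupOf.1 hmem
      rw [Pi.sub_apply, hz, hz, sub_self]
  refine ⟨hsupp, PairInduce.pin_induced h.typeP.selfNormalizing
    (hodd.of_dvd_nat (card_subgroup_dvd_card _)) hχ hA hA1 hAN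
    (fun v hv => Or.inr ⟨1, one_mem _, by simpa using hv⟩) (sup_le_M h)
    (CfsgLib.Char.IsGeneralizedCharacter.sub (mu_gen h η) (mu_gen h η')) ?_ hsupp ?_ h1 ?_⟩
  · have hnc : ∀ m ∈ M, tw m ν' ≠ ν := fun m hm e => hne
      (fixed_conj h hν hf hf' (inv_mem hm) (by
        rw [← e, tw_tw (norm h hm) (norm h (inv_mem hm)), mul_inv_cancel, tw_one]))
    have hnc' : ∀ m ∈ M, tw m ν ≠ ν' := fun m hm e => hne (fixed_conj h hν hf hf' hm e)
    have hηne : η ≠ η' := fun e => hne (MonoidHom.ext fun x => by rw [← hη, ← hη', e])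
    have hs : Cfsg.classInner (mu (M := M) η) (mu η) = 1 := by
      rw [mu_mu h hη hη, Phi_Phi_fixed h hν hf, if_pos rfl, if_pos rfl,
        inv_mul_cancel₀ (Nat.cast_ne_zero.2 Nat.card_pos.ne'), sub_self, mul_zero, add_zero]
    have hs' : Cfsg.classInner (mu (M := M) η') (mu η') = 1 := by
      rw [mu_mu h hη' hη', Phi_Phi_fixed h hν' hf', if_pos rfl, if_pos rfl,
        inv_mul_cancel₀ (Nat.cast_ne_zero.2 Nat.card_pos.ne'), sub_self, mul_zero, add_zero]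
    rw [CfsgLib.Char.classInner_sub_left, CfsgLib.Char.classInner_sub_right,
      CfsgLib.Char.classInner_sub_right, hs, hs', mu_mu h hη hη', mu_mu h hη' hη,
      Phi_Phi_of_not_conj h hnc, Phi_Phi_of_not_conj h hnc', if_neg hηne, if_neg hne,
      if_neg hηne.symm, if_neg hne.symm]
    ring
  · intro e
    subst e
    refine hne (fixed_ext h hf hf' fun x hx => ?_)
    rw [← hη x, ← hη' x]
    exact (hω ⟨x, mem_sup_right hx⟩).trans (hω' ⟨x, mem_sup_right hx⟩).symm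
  · intro w hw1 hw2
    have hwX : (w : G) ∉ Cfsg.fittingOf M := fun hh =>
      hat_not_X h (v := (w : G)) ⟨w.2, by rintro (h' | h'); exacts [hw1 h', hw2 h']⟩ 1
        (by simpa using hh)
    rw [← hω w, ← hω' w]
    show mu η _ - mu η' _ = _
    exact congrArg₂ (· - ·) (mu_apply_out h η ⟨w, sup_le_XW h w.2⟩ hwX)
      (mu_apply_out h η' ⟨w, sup_le_XW h w.2⟩ hwX)

theorem ind_diff_hat_zero (ν ν' : LX M) {v : G} (hv : v ∈ PairIneq.hat W W') :
    Cfsg.indFun M (Phi ν - Phi ν') v = 0 := by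
  classical
  rw [CfsgLib.Char.indFun_apply]
  refine mul_eq_zero_of_right _ (Finset.sum_eq_zero fun x _ => ?_)
  by_cases hx : x⁻¹ * v * x ∈ M
  · have hX : x⁻¹ * v * x ∉ Cfsg.fittingOf M := by simpa using hat_not_X h hv x⁻¹
    rw [CfsgLib.Char.extendByZero_apply_mem _ _ hx, Pi.sub_apply, Phi_eq_zero h _ hX,
      Phi_eq_zero h _ hX, sub_self]
  · exact CfsgLib.Char.extendByZero_of_notMem _ _ hx

theorem eq_one_not_full {ν : LX M} (hν : FullChar M U ν) : ν ≠ 1 := by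
  rintro rfl
  have hUK : ∀ u ∈ U, u ∈ kerU M U := fun u hu => hν.2 u hu fun x y _ _ => rfl
  have hfix : fixCore M U = Cfsg.fittingHallOf M :=
    inf_eq_left.2 fun r hr => mem_centralizer_iff.2 fun u hu =>
      ((mem_centralizer_iff.1 (hUK u hu).2) r hr).symm
  have hq := h.quot_card
  rw [hfix, relIndex_self] at hq
  exact (Nat.one_lt_pow h.q_prime.ne_zero h.p_prime.one_lt).ne hq

end SidePin

open SidePin in
theorem exists_pins [Fintype ↥(Cfsg.fittingOf M)] {χ : (↥(W ⊔ W') →* ℂˣ) → (G → ℂ)}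
    (hodd : Odd (Nat.card G)) (h : Side M W U W')
    (hχ : Cfsg.IsCyclicTIFamily W W' χ) {ω : ↥(W ⊔ W') →* ℂˣ} (hW : ¬ TrivialOn ω W)
    (hW' : ¬ TrivialOn ω W') :
    ∃ (O : Finset (↥(Cfsg.fittingOf M) →* ℂˣ)) (δ n : ℤ), (δ = 1 ∨ δ = -1) ∧
      O.card = (kerU M U).relIndex U ∧ (∀ ν ∈ O, FullChar M U ν) ∧
      ∀ ν, FullChar M U ν → Cfsg.classInner (fun x : ↥(Cfsg.fittingOf M) => χ ω x)
          (fun x => (ν x : ℂ)) =
        (n + (if ν ∈ O then δ else 0) : ℂ) := by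
  classical
  haveI : Fintype ↥M := Fintype.ofFinite _
  haveI : Fintype ↥U := Fintype.ofFinite _
  obtain ⟨hA, hA1, hAN⟩ := tiSet_facts h
  have hWc : IsCyclic ↥W := h.typeP.W₁_cyclic
  haveI := hWc
  haveI : Fact (Nat.card W').Prime := ⟨h.p_prime⟩
  haveI : IsCyclic ↥W' := isCyclic_of_prime_card (p := Nat.card W') rfl
  haveI := OddChar.finite_linearChar ↥W
  haveI := OddChar.finite_linearChar ↥W'
  letI : Fintype (↥W →* ℂˣ) := Fintype.ofFinite _
  letI : Fintype (↥W' →* ℂˣ) := Fintype.ofFinite _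
  have hoddW' : Odd (Nat.card W') := hodd.of_dvd_nat (card_subgroup_dvd_card _)
  have hp3 : 3 ≤ Nat.card W' := by
    have := h.p_prime.two_le
    obtain ⟨k, hk⟩ := hoddW'
    omega
  -- the grid
  obtain ⟨p₁, p₂, hp, hp₁, hp₂⟩ := OddChar.exists_proj h.typeP.selfNormalizing.2.2.1
    h.typeP.selfNormalizing.2.2.2.1
  let om : (↥W →* ℂˣ) → (↥W' →* ℂˣ) → (↥(W ⊔ W') →* ℂˣ) := fun f ψ => f.comp p₁ * ψ.comp p₂
  have om_left : ∀ f ψ (w : ↥(W ⊔ W')) (hw : (w : G) ∈ W), om f ψ w = f ⟨w, hw⟩ := fun f ψ w hw => by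
    simp [om, (hp₁ w hw).1, (hp₁ w hw).2]
  have om_right : ∀ f ψ (w : ↥(W ⊔ W')) (hw : (w : G) ∈ W'), om f ψ w = ψ ⟨w, hw⟩ := fun f ψ w hw => by
    simp [om, (hp₂ w hw).1, (hp₂ w hw).2]
  -- the fixed characters
  choose Nu hNut hNuf hNur using fun ψ : ↥W' →* ℂˣ => exists_fixed h ψ
  have hNuF : ∀ {ψ : ↥W' →* ℂˣ}, ψ ≠ 1 → FullChar M U (Nu ψ) := fun {ψ} hψ =>
    fixed_full h (hNut ψ) (hNuf ψ) (by
      obtain ⟨b, hb⟩ := DFunLike.ne_iff.1 hψ
      exact ⟨⟨b, W'_le_X h b.2⟩, b.2, by rw [hNur]; simpa using hb⟩)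
  have hNinj : ∀ ψ ψ', Nu ψ = Nu ψ' → ψ = ψ' := fun ψ ψ' e =>
    MonoidHom.ext fun b => by rw [← hNur, ← hNur, e]
  choose Eta hEtaX hEtaW using fun (f : ↥W →* ℂˣ) (ψ : ↥W' →* ℂˣ) => exists_extend h (hNuf ψ) f
  have hEta : ∀ f ψ (w : ↥(W ⊔ W')), Eta f ψ ⟨w, sup_le_XW h w.2⟩ = om f ψ w := fun f ψ =>
    fun w => DFunLike.congr_fun (OddChar.sup_hom_ext
      (f := (Eta f ψ).comp (inclusion (sup_le_XW h))) (g := om f ψ)
      (fun w hw => (hEtaW f ψ ⟨w, hw⟩).trans (om_left f ψ w hw).symm)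
      (fun w hw => by
        rw [om_right f ψ w hw, ← hNur ψ ⟨w, hw⟩, ← hEtaX f ψ]
        rfl)) w
  -- multiplicities
  have hzex : ∀ (ξ : ↥(W ⊔ W') →* ℂˣ) (ν : LX M), ∃ z : ℤ,
      Cfsg.classInner (fun x : ↥(Cfsg.fittingOf M) => χ ξ x) (fun x => (ν x : ℂ)) = z := fun ξ ν =>
    OddChar.Coh.exists_int_inner
      (Char.IsGeneralizedCharacter.restrict (PairPins.isGeneralized_of_signed (hχ.irr_or_neg ξ)) _)
      (Char.IsIrrCharacter.isGeneralizedCharacter (Char.isIrrCharacter_monoidHom ν))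
  choose z hz using hzex
  have hD : ∀ (ν ν' : LX M) ξ, Cfsg.classInner (Cfsg.indFun M (Phi ν - Phi ν')) (χ ξ) =
      ((z ξ ν - z ξ ν' : ℤ) : ℂ) := by
    intro ν ν' ξ
    have hcl := OddChar.CyclicUnique.Signed.isClassFunction (hχ.irr_or_neg ξ)
    have hclM : Cfsg.IsClassFunction ↥M (fun m : ↥M => χ ξ m) := fun a b => hcl a b
    rw [CfsgLib.Char.classInner_indFun _ _ _ hcl, CfsgLib.Char.classInner_sub_left,
      Phi_inner h ν hclM, Phi_inner h ν' hclM, ← CfsgLib.Char.classInner_conj_symm,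
      ← CfsgLib.Char.classInner_conj_symm (fun x : ↥(Cfsg.fittingOf M) => χ ξ x)
        (fun x => (ν' x : ℂ)), hz, hz, map_intCast, map_intCast, Int.cast_sub]
  have hclD : ∀ ν ν' : LX M, Cfsg.IsClassFunction ↥M (Phi ν - Phi ν') := fun ν ν' a b => by
    simp only [Pi.sub_apply, Phi]
    rw [CfsgLib.Char.isClassFunction_indFun _ _ a b, CfsgLib.Char.isClassFunction_indFun _ _ a b]
  have hnormD : ∀ ν ν' : LX M, Cfsg.classInner (Cfsg.indFun M (Phi ν - Phi ν'))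
      (Cfsg.indFun M (Phi ν - Phi ν')) = Cfsg.classInner (Phi ν - Phi ν') (Phi ν - Phi ν') :=
    fun ν ν' => ind_inner hA hA1 hAN (hclD ν ν') (diff_supp h ν ν') (diff_supp h ν ν')
  -- rows
  have rows : ∀ (ν ν' : LX M) (n : ℕ) (c : (↥W' →* ℂˣ) → ℤ),
      Cfsg.classInner (Phi ν - Phi ν') (Phi ν - Phi ν') = n →
      (∀ ψ, ψ ≠ 1 → Cfsg.classInner (Phi ν) (Phi (Nu ψ)) - Cfsg.classInner (Phi ν') (Phi (Nu ψ)) =
        (Nat.card W : ℂ) * c ψ) →
      ∃ d : (↥W →* ℂˣ) × {ψ : ↥W' →* ℂˣ // ψ ≠ 1} → ℤ,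
        (∀ f ψ, d (f, ψ) = z (om f ψ.1) ν - z (om f ψ.1) ν') ∧ (∑ p, d p ^ 2 ≤ (n : ℤ)) ∧
          ∀ f ψ ψ', d (f, ψ) - c ψ.1 = d (f, ψ') - c ψ'.1 := by
    intro ν ν' n c hn hc
    have he : Function.Injective
        fun p : (↥W →* ℂˣ) × {ψ : ↥W' →* ℂˣ // ψ ≠ 1} => om p.1 p.2.1 := by
      rintro ⟨f, ψ, hψ⟩ ⟨f', ψ', hψ'⟩ e
      refine Prod.ext (MonoidHom.ext fun a => ?_) (Subtype.ext (MonoidHom.ext fun b => ?_))
      · exact (om_left f ψ ⟨a, mem_sup_left a.2⟩ a.2).symm.trans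
          ((DFunLike.congr_fun e ⟨a, mem_sup_left a.2⟩).trans
            (om_left f' ψ' ⟨a, mem_sup_left a.2⟩ a.2))
      · exact (om_right f ψ ⟨b, mem_sup_right b.2⟩ b.2).symm.trans
          ((DFunLike.congr_fun e ⟨b, mem_sup_right b.2⟩).trans
            (om_right f' ψ' ⟨b, mem_sup_right b.2⟩ b.2))
    obtain ⟨d, hd, hsq⟩ := PairPins.exists_coeff hχ _ he
      (CfsgLib.Char.IsGeneralizedCharacter.indFun M
        (CfsgLib.Char.IsGeneralizedCharacter.sub (Phi_gen h ν) (Phi_gen h ν')))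
      ((hnormD ν ν').trans hn)
    have hdz : ∀ f ψ, d (f, ψ) = z (om f ψ.1) ν - z (om f ψ.1) ν' := fun f ψ => by
      have := hd (f, ψ)
      rw [hD ν ν', Int.cast_inj] at this
      exact this.symm
    refine ⟨d, hdz, hsq, fun f ψ ψ' => ?_⟩
    rcases eq_or_ne ψ ψ' with rfl | hne
    · rfl
    obtain ⟨hsupp, hpin⟩ := pins h hodd hχ (hNuF ψ.2) (hNuF ψ'.2) (hNuf ψ.1) (hNuf ψ'.1)
      (fun e => hne (Subtype.ext (hNinj _ _ e))) (hEtaX f ψ.1) (hEtaX f ψ'.1)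
      (hEta f ψ.1) (hEta f ψ'.1)
      (fun w hw => by rw [om_left f ψ.1 w hw, om_left f ψ'.1 w hw])
    have hclmu : Cfsg.IsClassFunction ↥M (mu (M := M) (Eta f ψ.1) - mu (Eta f ψ'.1)) :=
      fun a b => by
      simp only [Pi.sub_apply, mu]
      rw [CfsgLib.Char.isClassFunction_indFun _ _ a b, CfsgLib.Char.isClassFunction_indFun _ _ a b]
    have key : (((d (f, ψ) - d (f, ψ') : ℤ)) : ℂ) = ((c ψ.1 - c ψ'.1 : ℤ) : ℂ) := by
      rw [Int.cast_sub, ← hd (f, ψ), ← hd (f, ψ'), ← CfsgLib.Char.classInner_sub_right, ← hpin,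
        ind_inner hA hA1 hAN hclmu (diff_supp h ν ν') hsupp, CfsgLib.Char.classInner_sub_right,
        CfsgLib.Char.classInner_sub_left, CfsgLib.Char.classInner_sub_left,
        Phi_mu h (hEtaX f ψ.1), Phi_mu h (hEtaX f ψ.1), Phi_mu h (hEtaX f ψ'.1),
        Phi_mu h (hEtaX f ψ'.1), ← mul_sub, ← mul_sub, hc _ ψ.2, hc _ ψ'.2,
        inv_mul_cancel_left₀ (Nat.cast_ne_zero.2 Nat.card_pos.ne'),
        inv_mul_cancel_left₀ (Nat.cast_ne_zero.2 Nat.card_pos.ne'), Int.cast_sub]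
    have := Int.cast_injective key
    omega
  have hq : Fintype.card (↥W →* ℂˣ) = Nat.card W := by
    rw [← Nat.card_eq_fintype_card, OddChar.card_dual]
  have hcols : Fintype.card {ψ : ↥W' →* ℂˣ // ψ ≠ 1} = Nat.card W' - 1 := by
    rw [Fintype.card_subtype_compl, Fintype.card_subtype_eq, ← Nat.card_eq_fintype_card,
      OddChar.card_dual]
  -- `ω`
  let f₀ : ↥W →* ℂˣ := ω.comp (inclusion le_sup_left)
  let ψω : ↥W' →* ℂˣ := ω.comp (inclusion le_sup_right)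
  have hω : ω = om f₀ ψω := OddChar.sup_hom_ext
    (fun w hw => by rw [om_left _ _ w hw]; rfl) (fun w hw => by rw [om_right _ _ w hw]; rfl)
  have hψ₀ : ψω ≠ 1 := fun e => hW' fun a ha => by
    exact DFunLike.congr_fun e ⟨a, ha⟩
  -- no involutions among the characters of `W'`
  have hnoinv : ∀ {t : ℂˣ}, t ^ Nat.card W' = 1 → t ^ 2 = 1 → t = 1 := fun {t} h1 h2 => by
    have hco : (Nat.card W').Coprime 2 := Nat.coprime_two_right.2 hoddW'
    rw [← pow_one t, ← hco.gcd_eq_one]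
    exact pow_gcd_eq_one.2 ⟨h1, h2⟩
  have hψ1 : ψω⁻¹ ≠ 1 := fun e =>
    hψ₀ (MonoidHom.ext fun b => inv_eq_one.1 (DFunLike.congr_fun e b))
  have hψne : ψω ≠ ψω⁻¹ := fun e => hψ₀ (MonoidHom.ext fun b => hnoinv
    (by rw [← map_pow, pow_card_eq_one', map_one])
    (by
      have := DFunLike.congr_fun e b
      rw [MonoidHom.inv_apply, eq_inv_iff_mul_eq_one] at this
      rwa [pow_two]))
  let j₀ : {ψ : ↥W' →* ℂˣ // ψ ≠ 1} := ⟨ψω, hψ₀⟩
  let j₁ : {ψ : ↥W' →* ℂˣ // ψ ≠ 1} := ⟨ψω⁻¹, hψ1⟩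
  have hj : j₀ ≠ j₁ := fun e => hψne (congrArg Subtype.val e)
  -- inner products with fixed ones
  have hPfix : ∀ ψ ψ' : ↥W' →* ℂˣ, ψ ≠ 1 → ψ' ≠ 1 →
      Cfsg.classInner (Phi (Nu ψ)) (Phi (Nu ψ')) = (Nat.card W : ℂ) * (if ψ = ψ' then 1 else 0 : ℤ) := by
    intro ψ ψ' h1 h1'
    split_ifs with e
    · subst e
      rw [Phi_Phi_fixed h (hNuF h1) (hNuf ψ), Int.cast_one, mul_one]
    · rw [Phi_Phi_of_not_conj h fun m hm e' => e (hNinj _ _
        (fixed_conj h (hNuF h1') (hNuf ψ') (hNuf ψ) hm e').symm), Int.cast_zero, mul_zero]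
  have hPfree : ∀ ν : LX M, (∀ g ∈ M, ¬ Fixed W (tw g ν)) → ∀ ψ, ψ ≠ 1 →
      Cfsg.classInner (Phi ν) (Phi (Nu ψ)) = 0 := fun ν hfree ψ _ =>
    Phi_Phi_of_not_conj h fun m hm e => hfree m⁻¹ (inv_mem hm) (by
      rw [← e, tw_tw (norm h hm) (norm h (inv_mem hm)), mul_inv_cancel, tw_one]
      exact hNuf ψ)
  -- fixed against fixed
  set base := z ω (Nu ψω) - 1 with hbase
  have case1 : ∀ ψ, ψ ≠ 1 → ψ ≠ ψω → z ω (Nu ψ) = base := by
    intro ψ hψ hne
    obtain ⟨d, hdz, hsq, hc⟩ := rows (Nu ψω) (Nu ψ) (2 * Nat.card W)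
      (fun φ => (if ψω = φ then 1 else 0) - (if ψ = φ then 1 else 0))
      (by
        rw [CfsgLib.Char.classInner_sub_left, CfsgLib.Char.classInner_sub_right,
          CfsgLib.Char.classInner_sub_right, hPfix _ _ hψ₀ hψ₀, hPfix _ _ hψ₀ hψ, hPfix _ _ hψ hψ₀,
          hPfix _ _ hψ hψ, if_pos rfl, if_pos rfl, if_neg (Ne.symm hne), if_neg hne]
        push_cast
        ring)
      (fun φ hφ => by rw [hPfix _ _ hψ₀ hφ, hPfix _ _ hψ hφ]; push_cast; ring)
    let j : {ψ : ↥W' →* ℂˣ // ψ ≠ 1} := ⟨ψ, hψ⟩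
    have hjne : j₀ ≠ j := fun e => hne (congrArg Subtype.val e).symm
    have hd2 : ∀ f, d (f, j) = d (f, j₀) - 2 := fun f => by
      have e := hc f j j₀
      simp only [j, j₀, if_neg (Ne.symm hne), if_neg hne, if_true] at e ⊢
      omega
    have hpair : ∀ f, d (f, j₀) ^ 2 + (d (f, j₀) - 2) ^ 2 ≤ ∑ i, d (f, i) ^ 2 := fun f => by
      rw [← hd2 f]
      exact pair_le_sum (fun i => d (f, i) ^ 2) (fun i => sq_nonneg _) hjne
    have := row_le d hsq 2 (fun f => le_trans (by nlinarith [sq_nonneg (d (f, j₀) - 1)]) (hpair f)) f₀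
    rw [hq] at this
    have hp0 := hpair f₀
    push_cast at this
    have h1 : d (f₀, j₀) = 1 := by nlinarith [sq_nonneg (d (f₀, j₀) - 1)]
    rw [hdz, ← hω] at h1
    omega
  -- free against fixed
  have case2 : ∀ ν, FullChar M U ν → (∀ g ∈ M, ¬ Fixed W (tw g ν)) →
      z ω ν = base ∨ (z ω ν = base + 1 ∧ Nat.card W' = 3) := by
    intro ν hν hfree
    obtain ⟨d, hdz, hsq, hc⟩ := rows ν (Nu ψω⁻¹) (Nat.card W + 1)
      (fun φ => -(if ψω⁻¹ = φ then 1 else 0))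
      (by
        rw [CfsgLib.Char.classInner_sub_left, CfsgLib.Char.classInner_sub_right,
          CfsgLib.Char.classInner_sub_right, Phi_Phi_free h hν hfree, hPfree ν hfree _ hψ1,
          hPfix _ _ hψ1 hψ1, if_pos rfl,
          Phi_Phi_of_not_conj h fun m hm e => hfree m hm (by rw [e]; exact hNuf _)]
        push_cast
        ring)
      (fun φ hφ => by rw [hPfree ν hfree φ hφ, hPfix _ _ hψ1 hφ]; push_cast; ring)
    have hoth : ∀ f i, i ≠ j₁ → d (f, i) = d (f, j₁) + 1 := fun f i hi => by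
      have e := hc f i j₁
      simp only [j₁, if_neg (fun e => hi (Subtype.ext e.symm) : ¬ ψω⁻¹ = i.1), if_true] at e ⊢
      omega
    have hpair : ∀ f, d (f, j₁) ^ 2 + (d (f, j₁) + 1) ^ 2 ≤ ∑ i, d (f, i) ^ 2 := fun f => by
      rw [← hoth f j₀ hj]
      exact pair_le_sum (fun i => d (f, i) ^ 2) (fun i => sq_nonneg _) (Ne.symm hj)
    have := row_le d hsq 1 (fun f => le_trans (by
      rcases le_or_gt 0 (d (f, j₁)) with h0 | h0 <;> nlinarith) (hpair f)) f₀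
    rw [hq] at this
    push_cast at this
    have hp0 := hpair f₀
    have hx1 : d (f₀, j₁) ≤ 0 := by nlinarith
    have hx2 : -1 ≤ d (f₀, j₁) := by nlinarith
    have hd0 : d (f₀, j₀) = d (f₀, j₁) + 1 := hoth f₀ j₀ hj
    have hval : d (f₀, j₀) = z ω ν - z ω (Nu ψω⁻¹) := by rw [hdz, ← hω]
    have hb := case1 _ hψ1 (Ne.symm hψne)
    rcases eq_or_ne (d (f₀, j₁)) (-1) with h0 | h0
    · left; omega
    right
    have h0' : d (f₀, j₁) = 0 := by omega
    refine ⟨by omega, ?_⟩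
    have hge : ((Fintype.card {ψ : ↥W' →* ℂˣ // ψ ≠ 1} : ℤ) - 1) ≤ ∑ i, d (f₀, i) ^ 2 := by
      rw [← Finset.add_sum_erase _ _ (Finset.mem_univ j₁), h0',
        Finset.sum_congr rfl (g := fun _ => (1 : ℤ)) fun i hi => by
          rw [hoth f₀ i (Finset.ne_of_mem_erase hi), h0']; norm_num]
      rw [Finset.sum_const, Finset.card_erase_of_mem (Finset.mem_univ _), Finset.card_univ,
        nsmul_eq_mul, Nat.cast_sub (Fintype.card_pos_iff.2 ⟨j₁⟩)]
      norm_num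
    rw [hcols] at hge
    have : Nat.card W' ≤ 4 := by omega
    rcases eq_or_lt_of_le this with h4 | h4
    · exact absurd (h4 ▸ hoddW') (by decide)
    · omega
  -- free against free
  have case3 : ∀ ν ν', FullChar M U ν → FullChar M U ν' → (∀ g ∈ M, ¬ Fixed W (tw g ν)) →
      (∀ g ∈ M, ¬ Fixed W (tw g ν')) → z ω ν = z ω ν' := by
    intro ν ν' hν hν' hfree hfree'
    by_cases hconj : ∃ m ∈ M, tw m ν' = ν
    · obtain ⟨m, hm, e⟩ := hconj
      have hz' := hD ν ν' ω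
      rw [show Phi ν = Phi ν' by rw [← e, Phi_tw h ν' hm], sub_self,
        show Cfsg.indFun M (0 : ↥M → ℂ) = 0 by funext g; simp [CfsgLib.Char.indFun_apply,
          Cfsg.extendByZero, Function.extend_def],
        CfsgLib.Char.classInner_zero_left] at hz'
      have h0 : z ω ν - z ω ν' = 0 := by exact_mod_cast hz'.symm
      omega
    push Not at hconj
    have hn2 : Cfsg.classInner (Phi ν - Phi ν') (Phi ν - Phi ν') = ((2 : ℕ) : ℂ) := by
      rw [CfsgLib.Char.classInner_sub_left, CfsgLib.Char.classInner_sub_right,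
        CfsgLib.Char.classInner_sub_right, Phi_Phi_free h hν hfree, Phi_Phi_free h hν' hfree',
        Phi_Phi_of_not_conj h hconj, Phi_Phi_of_not_conj h fun m hm e => hconj m⁻¹ (inv_mem hm)
          (by rw [← e, tw_tw (norm h hm) (norm h (inv_mem hm)), mul_inv_cancel, tw_one])]
      norm_num
    obtain ⟨d, hdz, hsq, hc⟩ := rows ν ν' 2 (fun _ => 0) hn2
      (fun φ hφ => by rw [hPfree ν hfree φ hφ, hPfree ν' hfree' φ hφ]; simp)
    have hd01 : d (f₀, j₁) = d (f₀, j₀) := by have := hc f₀ j₁ j₀; omega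
    have hval : d (f₀, j₀) = z ω ν - z ω ν' := by rw [hdz, ← hω]
    by_contra hne
    have hx : d (f₀, j₀) ≠ 0 := by omega
    have hpair : d (f₀, j₀) ^ 2 + d (f₀, j₁) ^ 2 ≤ ∑ i, d (f₀, i) ^ 2 :=
      pair_le_sum (fun i => d (f₀, i) ^ 2) (fun i => sq_nonneg _) hj
    have hrow := row_le d hsq 0 (fun f => Finset.sum_nonneg fun i _ => sq_nonneg _) f₀
    rw [hd01] at hpair
    have hx2 : d (f₀, j₀) ^ 2 = 1 := by
      have : 0 < d (f₀, j₀) ^ 2 := by positivity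
      omega
    -- then the difference is `± (χ (f₀ ψω) + χ (f₀ ψω⁻¹))`
    set x : ℂ := (d (f₀, j₀) : ℂ) with hxdef
    set D := Cfsg.indFun M (Phi ν - Phi ν') with hDdef
    set χs := χ (om f₀ j₀.1) + χ (om f₀ j₁.1) with hχs
    have homne : om f₀ j₀.1 ≠ om f₀ j₁.1 := fun e => hψne (MonoidHom.ext fun b => by
      have := DFunLike.congr_fun e ⟨b, mem_sup_right b.2⟩
      exact (om_right f₀ j₀.1 ⟨b, mem_sup_right b.2⟩ b.2).symm.trans (this.trans
        (om_right f₀ j₁.1 ⟨b, mem_sup_right b.2⟩ b.2)))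
    have hxc : conj x = x := by rw [hxdef, map_intCast]
    have hDs : Cfsg.classInner D χs = x + x := by
      rw [hχs, CfsgLib.Char.classInner_add_right, hD, hD, ← hdz, ← hdz, hd01]
    have hsD : Cfsg.classInner χs D = x + x := by
      rw [← CfsgLib.Char.classInner_conj_symm, hDs, map_add, hxc]
    have hss : Cfsg.classInner χs χs = 2 := by
      rw [hχs, CfsgLib.Char.classInner_add_left, CfsgLib.Char.classInner_add_right,
        CfsgLib.Char.classInner_add_right, hχ.orthonormal, hχ.orthonormal, hχ.orthonormal,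
        hχ.orthonormal, if_pos rfl, if_pos rfl, if_neg homne, if_neg homne.symm]
      norm_num
    have hxx : x * x = 1 := by
      rw [hxdef, ← Int.cast_mul, ← pow_two, hx2, Int.cast_one]
    have hzero : Cfsg.classInner (D - x • χs) (D - x • χs) = 0 := by
      rw [CfsgLib.Char.classInner_sub_left, CfsgLib.Char.classInner_sub_right,
        CfsgLib.Char.classInner_sub_right, CfsgLib.Char.classInner_smul_left,
        CfsgLib.Char.classInner_smul_left, CfsgLib.Char.classInner_smul_right,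
        CfsgLib.Char.classInner_smul_right, hDdef, hnormD, hn2, ← hDdef, hDs, hsD, hss, hxc]
      push_cast
      linear_combination (-2 : ℂ) * hxx
    obtain ⟨a, b, ha, ha1, hb, hb1⟩ := exists_ab h
    have hv := mul_mem_hat h ha ha1 hb hb1
    have hpt : ∀ g, (D - x • χs) g = 0 := fun g => by
      have h0 := congrArg Complex.re hzero
      rw [PairIneq.classInner_self_eq, Complex.zero_re, div_eq_zero_iff] at h0
      have hs0 := h0.resolve_right (Nat.cast_ne_zero.2 Nat.card_pos.ne')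
      have := (Finset.sum_eq_zero_iff_of_nonneg fun g _ => sq_nonneg _).1 hs0 g (Finset.mem_univ g)
      simpa using this
    have hv0 := hpt (a * b)
    rw [Pi.sub_apply, hDdef, ind_diff_hat_zero h ν ν' hv, zero_sub, neg_eq_zero, Pi.smul_apply,
      smul_eq_mul, hχs, Pi.add_apply] at hv0
    let w : ↥(W ⊔ W') := ⟨a * b, hv.1⟩
    have hom : ∀ ψ : ↥W' →* ℂˣ, χ (om f₀ ψ) (a * b) = (f₀ ⟨a, ha⟩ : ℂ) * (ψ ⟨b, hb⟩ : ℂ) := by
      intro ψ
      rw [show a * b = ((w : ↥(W ⊔ W')) : G) from rfl,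
        hχ.eq_on _ w (fun h' => hv.2 (Or.inl h')) (fun h' => hv.2 (Or.inr h')),
        show w = (⟨a, mem_sup_left ha⟩ : ↥(W ⊔ W')) * ⟨b, mem_sup_right hb⟩ from rfl, map_mul,
        om_left _ _ _ ha, om_right _ _ _ hb, Units.val_mul]
    rw [hom, hom, mul_eq_zero] at hv0
    have hsum := hv0.resolve_left (by rw [hxdef]; exact_mod_cast hx)
    rw [← mul_add, mul_eq_zero] at hsum
    have hneg := hsum.resolve_left (Units.ne_zero _)
    set t : ℂ := (ψω ⟨b, hb⟩ : ℂ) with ht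
    have ht0 : t ≠ 0 := Units.ne_zero _
    have htp : t ^ Nat.card W' = 1 := by
      rw [ht, ← Units.val_pow_eq_pow_val, ← map_pow, pow_card_eq_one', map_one, Units.val_one]
    have ht2 : t ^ 2 = -1 := by
      simp only [j₀, j₁, MonoidHom.inv_apply, Units.val_inv_eq_inv_val] at hneg
      rw [← ht] at hneg
      field_simp at hneg
      linear_combination hneg
    have : ((-1 : ℂ)) ^ Nat.card W' = 1 := by
      rw [← ht2, ← pow_mul, mul_comm, pow_mul, htp, one_pow]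
    rw [hoddW'.neg_one_pow] at this
    norm_num at this
  -- classification
  have classify : ∀ ν, FullChar M U ν → (∀ g ∈ M, ¬ Fixed W (tw g ν)) ∨
      ∃ ψ, ψ ≠ 1 ∧ ∃ u ∈ U, tw u (Nu ψ) = ν ∧ Phi ν = Phi (Nu ψ) := by
    intro ν hν
    by_cases hfree : ∀ g ∈ M, ¬ Fixed W (tw g ν)
    · exact Or.inl hfree
    push Not at hfree
    obtain ⟨g, hg, hgf⟩ := hfree
    let ψ : ↥W' →* ℂˣ := (tw g ν).comp (inclusion (W'_le_X h))
    have hgN : tw g ν = Nu ψ := fixed_ext h hgf (hNuf ψ) fun x hx => (hNur ψ ⟨x, hx⟩).symm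
    have hback : tw g⁻¹ (Nu ψ) = ν := by
      rw [← hgN, tw_tw (norm h hg) (norm h (inv_mem hg)), mul_inv_cancel, tw_one]
    have hψ : ψ ≠ 1 := fun e => by
      have h1 : Fixed W (1 : LX M) := fun a ha => MonoidHom.ext fun x => by
        rw [tw_apply (norm h (W_le_M h ha))]; rfl
      have hN1 : Nu ψ = 1 := fixed_ext h (hNuf ψ) h1 fun x hx => by
        rw [hNur ψ ⟨x, hx⟩, e]; rfl
      refine eq_one_not_full h hν ?_
      rw [← hback, hN1]
      exact MonoidHom.ext fun x => by rw [tw_apply (norm h (inv_mem hg))]; rfl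
    obtain ⟨u, hu, e⟩ := orbit_U h (hNuf ψ) (inv_mem hg)
    exact Or.inr ⟨ψ, hψ, u, hu, e ▸ hback, by rw [← hback, Phi_tw h _ (inv_mem hg)]⟩
  have hzPhi : ∀ ν ν', Phi ν = Phi ν' → z ω ν = z ω ν' := fun ν ν' e => by
    have hz' := hD ν ν' ω
    rw [e, sub_self, show Cfsg.indFun M (0 : ↥M → ℂ) = 0 by
      funext g; simp [CfsgLib.Char.indFun_apply, Cfsg.extendByZero, Function.extend_def],
      CfsgLib.Char.classInner_zero_left] at hz'
    have h0 : z ω ν - z ω ν' = 0 := by exact_mod_cast hz'.symm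
    omega
  -- orbits
  let orb : LX M → Finset (LX M) := fun ν => Finset.univ.image fun u : ↥U => tw (u : G) ν
  have horb : ∀ ψ, ψ ≠ 1 → (orb (Nu ψ)).card = (kerU M U).relIndex U ∧
      ∀ ν ∈ orb (Nu ψ), FullChar M U ν := by
    intro ψ hψ
    refine ⟨?_, fun ν hν => ?_⟩
    swap
    · obtain ⟨u, -, rfl⟩ := Finset.mem_image.1 hν
      exact full_twU h (hNuF hψ) u.2
    have hK : kerU M U ≤ U := inf_le_left
    have hfib : ∀ ν ∈ orb (Nu ψ),
        (Finset.univ.filter fun u : ↥U => tw (u : G) (Nu ψ) = ν).card = Nat.card ↥(kerU M U) := by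
      intro ν hν
      obtain ⟨u₀, -, rfl⟩ := Finset.mem_image.1 hν
      rw [← Fintype.card_subtype, ← Nat.card_eq_fintype_card]
      have hu₀ := norm h (U_le_M h u₀.2)
      refine Nat.card_congr
        { toFun := fun u => ⟨(u.1 : G) * (u₀ : G)⁻¹, ?_⟩
          invFun := fun k => ⟨⟨(k : G) * u₀, mul_mem (hK k.2) u₀.2⟩, ?_⟩
          left_inv := fun u => Subtype.ext (Subtype.ext (by simp))
          right_inv := fun k => Subtype.ext (by simp) }
      · refine (hNuF hψ).2 _ (mul_mem u.1.2 (inv_mem u₀.2)) fun s t _ hts => ?_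
        rw [← tw_val (norm h (U_le_M h (mul_mem u.1.2 (inv_mem u₀.2)))) _ hts,
          ← tw_tw (norm h (U_le_M h u.1.2)) (inv_mem hu₀), u.2, tw_tw hu₀ (inv_mem hu₀),
          mul_inv_cancel, tw_one]
      · show tw ((k : G) * u₀) (Nu ψ) = _
        rw [← tw_tw (norm h (U_le_M h (hK k.2))) hu₀, tw_self_of_mem (K_le h k.2)]
    have hsum := Finset.card_eq_sum_card_image (fun u : ↥U => tw (u : G) (Nu ψ)) Finset.univ
    rw [Finset.sum_congr rfl fun ν hν => hfib ν hν, Finset.sum_const, smul_eq_mul,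
      Finset.card_univ, ← Nat.card_eq_fintype_card, ← card_mul_relIndex' hK,
      mul_comm] at hsum
    exact (Nat.eq_of_mul_eq_mul_right Nat.card_pos hsum).symm
  have hmem : ∀ ν ψ ψ', ψ ≠ 1 → (∃ u ∈ U, tw u (Nu ψ) = ν) → ν ∈ orb (Nu ψ') → ψ = ψ' := by
    rintro ν ψ ψ' hψ ⟨u, hu, e⟩ hν
    obtain ⟨u', -, e'⟩ := Finset.mem_image.1 hν
    refine hNinj _ _ (fixed_conj h (hNuF hψ) (hNuf ψ) (hNuf ψ')
      (mul_mem (U_le_M h hu) (inv_mem (U_le_M h u'.2))) ?_)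
    rw [← tw_tw (norm h (U_le_M h hu)) (norm h (inv_mem (U_le_M h u'.2))), e, ← e',
      tw_tw (norm h (U_le_M h u'.2)) (norm h (inv_mem (U_le_M h u'.2))), mul_inv_cancel, tw_one]
  have hnotmem : ∀ ν ψ', (∀ g ∈ M, ¬ Fixed W (tw g ν)) → ν ∉ orb (Nu ψ') := fun ν ψ' hfree hν => by
    obtain ⟨u', -, e'⟩ := Finset.mem_image.1 hν
    refine hfree (u' : G)⁻¹ (inv_mem (U_le_M h u'.2)) ?_
    rw [← e', tw_tw (norm h (U_le_M h u'.2)) (norm h (inv_mem (U_le_M h u'.2))), mul_inv_cancel,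
      tw_one]
    exact hNuf ψ'
  have hz0 : z ω (Nu ψω) = base + 1 := by omega
  by_cases hflip : ∃ ν₁, FullChar M U ν₁ ∧ (∀ g ∈ M, ¬ Fixed W (tw g ν₁)) ∧ z ω ν₁ ≠ base
  · obtain ⟨ν₁, h₁, hf₁, hne₁⟩ := hflip
    obtain ⟨hz₁, h3⟩ := (case2 ν₁ h₁ hf₁).resolve_left hne₁
    refine ⟨orb (Nu ψω⁻¹), -1, base + 1, Or.inr rfl, (horb _ hψ1).1, (horb _ hψ1).2, fun ν hν => ?_⟩
    rw [hz ω ν]
    rcases classify ν hν with hfree | ⟨ψ, hψ, u, hu, e, ePhi⟩
    · rw [case3 ν ν₁ hν h₁ hfree hf₁, hz₁, if_neg (hnotmem ν _ hfree)]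
      simp
    · rw [hzPhi ν _ ePhi]
      by_cases hψ' : ψ = ψω
      · rw [hψ', hz0, if_neg (fun hh => hψne (hψ'.symm.trans (hmem ν ψ _ hψ ⟨u, hu, e⟩ hh)) : ν ∉ orb (Nu ψω⁻¹))]
        simp
      · have hψ2 : ψ = ψω⁻¹ := by
          have h2 : Fintype.card {φ : ↥W' →* ℂˣ // φ ≠ 1} = 2 := by rw [hcols, h3]
          have hun : ({j₀, j₁} : Finset {φ : ↥W' →* ℂˣ // φ ≠ 1}) = Finset.univ :=
            Finset.eq_univ_of_card _ (by rw [Finset.card_pair hj, h2])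
          have := Finset.mem_univ (⟨ψ, hψ⟩ : {φ : ↥W' →* ℂˣ // φ ≠ 1})
          rw [← hun, Finset.mem_insert, Finset.mem_singleton] at this
          rcases this with h' | h'
          · exact absurd (congrArg Subtype.val h') hψ'
          · exact congrArg Subtype.val h'
        rw [case1 ψ hψ hψ', if_pos (Finset.mem_image.2 ⟨⟨u, hu⟩, Finset.mem_univ _,
          show tw u (Nu ψω⁻¹) = ν by rw [← hψ2]; exact e⟩)]
        push_cast
        ring
  · push Not at hflip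
    refine ⟨orb (Nu ψω), 1, base, Or.inl rfl, (horb _ hψ₀).1, (horb _ hψ₀).2, fun ν hν => ?_⟩
    rw [hz ω ν]
    rcases classify ν hν with hfree | ⟨ψ, hψ, u, hu, e, ePhi⟩
    · rw [hflip ν hν hfree, if_neg (hnotmem ν _ hfree)]
      simp
    · rw [hzPhi ν _ ePhi]
      by_cases hψ' : ψ = ψω
      · rw [hψ', hz0, if_pos (Finset.mem_image.2 ⟨⟨u, hu⟩, Finset.mem_univ _, hψ' ▸ e⟩)]
        push_cast
        ring
      · rw [case1 ψ hψ hψ', if_neg fun hh => hψ' (hmem ν ψ _ hψ ⟨u, hu, e⟩ hh)]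
        simp

end CfsgLib.FT
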