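import Cfsg.Agent.Lib.FT.Pair
import Cfsg.Agent.Lib.OddChar.Coprime
import Cfsg.Agent.Lib.OddOrder.FHall
import Cfsg.Agent.Lib.OddOrder.TypeP
import Mathlib.GroupTheory.FiniteAbelian.Duality
import Mathlib.RingTheory.RootsOfUnity.Complex
import Mathlib.Analysis.Complex.Polynomial.Basic

/-!
FT module SidePinAux: the action of `M` on the linear characters of `F(M)`.

`tw m ν = ν ∘ (x ↦ m x m⁻¹)`.  The stabiliser in `M'` of a full `ν` is `F(M)`; a `W`-fixed `ν` is
determined by its restriction to `W'`, every character of `W'` occurs, and the nontrivial ones give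
full characters, no two of them conjugate in `M`.
-/

set_option autoImplicit false
set_option linter.style.haveILetI false
set_option linter.unusedSectionVars false

namespace CfsgLib.FT.SidePin

open Subgroup
open scoped commutatorElement

universe u

variable {G : Type u} [Group G]

/-- The linear characters of `F(M)`. -/
abbrev LX (M : Subgroup G) := ↥(Cfsg.fittingOf M) →* ℂˣ

open Classical in
/-- `ν ∘ (x ↦ m x m⁻¹)`. -/
noncomputable def tw {M : Subgroup G} (m : G) (ν : LX M) : LX M :=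
  if h : m ∈ normalizer (Cfsg.fittingOf M : Set G) then
    ν.comp
      { toFun := fun x => ⟨m * x * m⁻¹, (mem_normalizer_iff.1 h _).1 x.2⟩
        map_one' := Subtype.ext (by simp)
        map_mul' := fun x y => Subtype.ext (by simp [mul_assoc]) }
  else ν

variable {M W U W' : Subgroup G}

theorem tw_val {m : G} (hm : m ∈ normalizer (Cfsg.fittingOf M : Set G)) (ν : LX M)
    {x y : ↥(Cfsg.fittingOf M)} (e : (y : G) = m * x * m⁻¹) : tw m ν x = ν y := by
  rw [tw, dif_pos hm]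
  exact congrArg ν (Subtype.ext e.symm)

theorem tw_apply {m : G} (hm : m ∈ normalizer (Cfsg.fittingOf M : Set G)) (ν : LX M)
    (x : ↥(Cfsg.fittingOf M)) :
    tw m ν x = ν ⟨m * x * m⁻¹, (mem_normalizer_iff.1 hm _).1 x.2⟩ :=
  tw_val hm ν rfl

theorem tw_tw {m n : G} (hm : m ∈ normalizer (Cfsg.fittingOf M : Set G))
    (hn : n ∈ normalizer (Cfsg.fittingOf M : Set G)) (ν : LX M) :
    tw n (tw m ν) = tw (m * n) ν := by
  refine MonoidHom.ext fun x => ?_
  rw [tw_apply hn, tw_apply hm, tw_apply (mul_mem hm hn)]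
  exact congrArg ν (Subtype.ext (by group))

theorem tw_one (ν : LX M) : tw 1 ν = ν :=
  MonoidHom.ext fun _ => tw_val (one_mem _) ν (by simp)

theorem tw_mul_char {m : G} (hm : m ∈ normalizer (Cfsg.fittingOf M : Set G)) (ν ν' : LX M) :
    tw m (ν * ν') = tw m ν * tw m ν' := by
  refine MonoidHom.ext fun x => ?_
  simp [tw_apply hm]

theorem tw_self_of_mem {k : G} (hk : k ∈ Cfsg.fittingOf M) (ν : LX M) : tw k ν = ν := by
  refine MonoidHom.ext fun x => ?_
  rw [tw_apply (le_normalizer hk), show (⟨k * x * k⁻¹, _⟩ : ↥(Cfsg.fittingOf M)) =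
    ⟨k, hk⟩ * x * (⟨k, hk⟩ : ↥(Cfsg.fittingOf M))⁻¹ from rfl, map_mul, map_mul, map_inv,
    mul_comm (ν ⟨k, hk⟩), mul_inv_cancel_right]

/-- `ν` is fixed by `W`. -/
def Fixed (W : Subgroup G) (ν : LX M) : Prop := ∀ a ∈ W, tw a ν = ν

variable (h : Side M W U W')
include h

theorem norm {m : G} (hm : m ∈ M) : m ∈ normalizer (Cfsg.fittingOf M : Set G) := by
  rw [h.fitting_normalizer]; exact hm

theorem derived_le_M : ⁅M, M⁆ ≤ M := commutator_le_self M

theorem X_le_derived : Cfsg.fittingOf M ≤ ⁅M, M⁆ := h.typeP.fitting_le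

theorem X_le_M : Cfsg.fittingOf M ≤ M := (X_le_derived h).trans (derived_le_M h)

theorem R_le : Cfsg.fittingHallOf M ≤ Cfsg.fittingOf M := by rw [h.fitting_eq]; exact le_sup_left

theorem K_le : kerU M U ≤ Cfsg.fittingOf M := by rw [h.fitting_eq]; exact le_sup_right

theorem W'_le_R : W' ≤ Cfsg.fittingHallOf M := h.typeP.W₂_le.trans inf_le_left

theorem W'_le_X : W' ≤ Cfsg.fittingOf M := (W'_le_R h).trans (R_le h)

theorem W_le_M : W ≤ M := h.typeP.W₁_compl.2.1

theorem U_le_derived : U ≤ ⁅M, M⁆ := h.typeP.U_compl.2.1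

theorem U_le_M : U ≤ M := (U_le_derived h).trans (derived_le_M h)

theorem eq_one_of_derived {a : G} (ha : a ∈ ⁅M, M⁆) (haW : a ∈ W) : a = 1 := by
  have h' : a ∈ ⁅M, M⁆ ⊓ W := ⟨ha, haW⟩
  rwa [h.typeP.W₁_compl.2.2.1, mem_bot] at h'

theorem split_derived {m : G} (hm : m ∈ ⁅M, M⁆) :
    ∃ x ∈ Cfsg.fittingOf M, ∃ u ∈ U, m = x * u := by
  obtain ⟨r, hr, u, hu, e⟩ := h.typeP.U_compl.2.2.2 m hm
  exact ⟨r, R_le h hr, u, hu, e⟩

theorem cent {a : G} (ha : a ∈ W) (ha1 : a ≠ 1) {c : G} (hc : c ∈ ⁅M, M⁆) (hca : c * a = a * c) :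
    c ∈ W' := by
  rw [← h.typeP.W₂_centralizer a ha ha1]
  exact ⟨hc, mem_centralizer_singleton_iff.2 hca⟩

theorem W_comm {a b : G} (ha : a ∈ W) (hb : b ∈ W') : a * b = b * a :=
  h.typeP.selfNormalizing.2.2.2.1 a ha b hb

theorem coprime_derived [Finite G] {a : G} (ha : a ∈ W) :
    (orderOf a).Coprime (Nat.card ↥⁅M, M⁆) :=
  h.coprime_W.symm.coprime_dvd_left (by simpa using orderOf_dvd_natCard (⟨a, ha⟩ : W))

theorem coprime_X [Finite G] : (Nat.card ↥(Cfsg.fittingOf M)).Coprime (Nat.card W) :=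
  h.coprime_W.coprime_dvd_left (card_dvd_of_le (X_le_derived h))

/-- An element of `X a` is conjugate under `X` to an element of `W' a`. -/
theorem conj_to_cent [Finite G] {a : G} (ha : a ∈ W) (ha1 : a ≠ 1) {x : G}
    (hx : x ∈ Cfsg.fittingOf M) :
    ∃ z ∈ Cfsg.fittingOf M, ∃ c ∈ W', z * (x * a) * z⁻¹ = c * a := by
  obtain ⟨z, hz, c, hc, hca, e⟩ := CfsgLib.OddChar.exists_conj_centralizer_coset _ a
    (norm h (W_le_M h ha))
    ((coprime_derived h ha).coprime_dvd_right (card_dvd_of_le (X_le_derived h))) x hx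
  exact ⟨z, hz, c, cent h ha ha1 (X_le_derived h hc) hca, e⟩

theorem le_normalizer_derived : M ≤ normalizer ((⁅M, M⁆ : Subgroup G) : Set G) := by
  intro m hm
  rw [mem_normalizer_iff]
  have key : ∀ m ∈ M, ∀ x ∈ ⁅M, M⁆, m * x * m⁻¹ ∈ ⁅M, M⁆ := fun m hm x hx => by
    have hcm : ⁅m, x⁆ ∈ ⁅M, M⁆ := commutator_mem_commutator hm (derived_le_M h hx)
    have := mul_mem hcm hx
    rwa [commutatorElement_def, inv_mul_cancel_right] at this
  refine fun x => ⟨key m hm x, fun hx => ?_⟩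
  simpa [mul_assoc] using key m⁻¹ (inv_mem hm) _ hx

/-! ### Stabilisers -/

theorem tw_trivial {ν : LX M} (hν : TrivialOn ν (outCore M U)) {m : G} (hm : m ∈ M) :
    TrivialOn (tw m ν) (outCore M U) := fun x hx => by
  rw [tw_apply (norm h hm)]
  exact hν _ ((mem_normalizer_iff.1 (h.out_normal hm) _).1 hx)

theorem stab_derived {ν : LX M} (hν : FullChar M U ν) {m : G} (hm : m ∈ ⁅M, M⁆)
    (e : tw m ν = ν) : m ∈ Cfsg.fittingOf M := by
  obtain ⟨x, hx, u, hu, rfl⟩ := split_derived h hm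
  have huN := norm h (U_le_M h hu)
  rw [← tw_tw (norm h (X_le_M h hx)) huN, tw_self_of_mem hx] at e
  refine mul_mem hx (K_le h (hν.2 u hu fun a b _ hb => ?_))
  rw [← tw_val huN ν hb, e]

theorem fixed_of_one [Finite G] {ν : LX M} {a : G} (ha : a ∈ W) (ha1 : a ≠ 1) (e : tw a ν = ν) :
    Fixed W ν := by
  haveI : Fact (Nat.card W).Prime := ⟨h.q_prime⟩
  have haN := norm h (W_le_M h ha)
  have hpow : ∀ n : ℕ, tw (a ^ n) ν = ν := by
    intro n
    induction n with
    | zero => rw [pow_zero, tw_one]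
    | succ n ih => rw [pow_succ, ← tw_tw (pow_mem haN n) haN, ih, e]
  intro b hb
  obtain ⟨n, hn⟩ := mem_powers_of_prime_card (G := W) rfl (g := ⟨a, ha⟩) (g' := ⟨b, hb⟩)
    fun hh => ha1 (congrArg Subtype.val hh)
  rw [← show a ^ n = b from congrArg Subtype.val hn]
  exact hpow n

/-- A full character with a stabiliser outside `F(M)` is conjugate to a fixed one. -/
theorem exists_fixed_tw [Finite G] {ν : LX M} (hν : FullChar M U ν) {m : G} (hm : m ∈ M)
    (hmX : m ∉ Cfsg.fittingOf M) (e : tw m ν = ν) : ∃ g ∈ M, Fixed W (tw g ν) := by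
  obtain ⟨m', hm', a, ha, rfl⟩ := h.typeP.W₁_compl.2.2.2 m hm
  have ha1 : a ≠ 1 := fun ha' => hmX (stab_derived h hν (by simpa [ha'] using hm') e)
  obtain ⟨z, hz, c, hc, hca, ec⟩ := CfsgLib.OddChar.exists_conj_centralizer_coset ⁅M, M⁆ a
    (le_normalizer_derived h (W_le_M h ha)) (coprime_derived h ha) m' hm'
  have hzN : z⁻¹ ∈ normalizer (Cfsg.fittingOf M : Set G) :=
    norm h (inv_mem (derived_le_M h hz))
  refine ⟨z⁻¹, inv_mem (derived_le_M h hz), fixed_of_one h ha ha1 ?_⟩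
  have hcX := W'_le_X h (cent h ha ha1 hc hca)
  have h1 : tw (c * a) (tw z⁻¹ ν) = tw z⁻¹ ν := by
    rw [tw_tw hzN (norm h (mul_mem (X_le_M h hcX) (W_le_M h ha))), ← ec,
      show z⁻¹ * (z * (m' * a) * z⁻¹) = m' * a * z⁻¹ by group, ← tw_tw (norm h hm) hzN, e]
  rwa [← tw_tw (norm h (X_le_M h hcX)) (norm h (W_le_M h ha)), tw_self_of_mem hcX] at h1

/-- A fixed character is determined by its restriction to `W'`. -/
theorem fixed_ext [Finite G] {ν ν' : LX M} (hν : Fixed W ν) (hν' : Fixed W ν')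
    (hr : ∀ x : ↥(Cfsg.fittingOf M), (x : G) ∈ W' → ν x = ν' x) : ν = ν' := by
  obtain ⟨a, ha, ha1⟩ : ∃ a ∈ W, a ≠ 1 := by
    by_contra hne
    push Not at hne
    exact h.typeP.W₁_ne ((Subgroup.eq_bot_iff_forall _).2 hne)
  refine MonoidHom.ext fun x => ?_
  obtain ⟨z, hz, c, hc, e⟩ := conj_to_cent h ha ha1 x.2
  set z' : ↥(Cfsg.fittingOf M) := ⟨z, hz⟩
  set c' : ↥(Cfsg.fittingOf M) := ⟨c, W'_le_X h hc⟩
  set za : ↥(Cfsg.fittingOf M) := ⟨a * z * a⁻¹,
    (mem_normalizer_iff.1 (norm h (W_le_M h ha)) z).1 hz⟩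
  have hx : x = z'⁻¹ * c' * za := Subtype.ext (by
    simp only [z', c', za, Subgroup.coe_mul, Subgroup.coe_inv]
    calc (x : G) = z⁻¹ * (z * (x * a) * z⁻¹) * z * a⁻¹ := by group
      _ = z⁻¹ * (c * a) * z * a⁻¹ := by rw [e]
      _ = _ := by group)
  have hval : ∀ μ : LX M, Fixed W μ → μ x = μ c' := fun μ hμ => by
    have hza : μ za = μ z' := by
      rw [← tw_val (norm h (W_le_M h ha)) μ (x := z') (y := za) rfl, hμ a ha]
    rw [hx, map_mul, map_mul, map_inv, hza]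
    simp [mul_comm]
  rw [hval ν hν, hval ν' hν', hr c' hc]

theorem W'_inf_out [Finite G] {b : G} (hb : b ∈ W') (hbo : b ∈ outCore M U) : b = 1 := by
  have hK : kerU M U ≤ U := inf_le_left
  have hKK : ⁅kerU M U, kerU M U⁆ ≤ kerU M U := commutator_le_self _
  have hnorm : ⁅kerU M U, kerU M U⁆ ≤ normalizer (fixCore M U : Set G) :=
    (hKK.trans hK).trans ((U_le_M h).trans h.fix_normal)
  have hmem : b ∈ (↑(fixCore M U ⊔ ⁅kerU M U, kerU M U⁆) : Set G) := hbo
  rw [coe_mul_of_right_le_normalizer_left _ _ hnorm] at hmem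
  obtain ⟨f, hf, k, hk, rfl⟩ := hmem
  have hfR : f ∈ Cfsg.fittingHallOf M := hf.1
  have hkR : k ∈ Cfsg.fittingHallOf M := (mul_mem_cancel_left hfR).1 (W'_le_R h hb)
  have hk1 : k ∈ Cfsg.fittingHallOf M ⊓ U := ⟨hkR, hK (hKK hk)⟩
  rw [h.typeP.U_compl.2.2.1, mem_bot] at hk1
  subst hk1
  simp only [mul_one] at hb ⊢
  have : f ∈ W' ⊓ fixCore M U := ⟨hb, hf⟩
  rwa [h.fix_meet, mem_bot] at this

theorem out_le_X : outCore M U ≤ Cfsg.fittingOf M :=
  sup_le (inf_le_left.trans (R_le h)) ((commutator_le_self _).trans (K_le h))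

theorem comm_mem_out {a b : G} (ha : a ∈ Cfsg.fittingOf M) (hb : b ∈ Cfsg.fittingOf M) :
    ⁅a, b⁆ ∈ outCore M U := by
  have hle : ⁅Cfsg.fittingOf M, Cfsg.fittingOf M⁆ ≤ outCore M U := by
    haveI : ((outCore M U).subgroupOf M).Normal := normal_subgroupOf_iff_le_normalizer
      ((out_le_X h).trans (X_le_M h)) |>.2 h.out_normal
    have hgen : ∀ s ∈ (Cfsg.fittingHallOf M : Set G) ∪ kerU M U,
        ∀ t ∈ (Cfsg.fittingHallOf M : Set G) ∪ kerU M U, ⁅s, t⁆ ∈ outCore M U := by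
      have hRK : ∀ r ∈ Cfsg.fittingHallOf M, ∀ k ∈ kerU M U, ⁅r, k⁆ = 1 := fun r hr k hk =>
        commutatorElement_eq_one_iff_mul_comm.2 ((mem_centralizer_iff.1 hk.2) r hr)
      rintro s (hs | hs) t (ht | ht)
      · exact mem_sup_left (h.quot_comm (commutator_mem_commutator hs ht))
      · rw [hRK s hs t ht]; exact one_mem _
      · rw [← commutatorElement_inv, hRK t ht s hs, inv_one]; exact one_mem _
      · exact mem_sup_right (commutator_mem_commutator hs ht)
    let π := QuotientGroup.mk' ((outCore M U).subgroupOf M)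
    let X' := (Cfsg.fittingOf M).subgroupOf M
    have hX' : X' = closure {x : M | (x : G) ∈ (Cfsg.fittingHallOf M : Set G) ∪ kerU M U} := by
      apply Subgroup.map_injective M.subtype_injective
      rw [subgroupOf_map_subtype, inf_eq_left.2 (X_le_M h), MonoidHom.map_closure, h.fitting_eq,
        Subgroup.sup_eq_closure]
      congr 1
      ext y
      constructor
      · intro hy
        refine ⟨⟨y, X_le_M h ?_⟩, hy, rfl⟩
        rcases hy with hy | hy
        · exact R_le h hy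
        · exact K_le h hy
      · rintro ⟨x, hx, rfl⟩; exact hx
    have hcomm : ∀ x ∈ X', ∀ y ∈ X', Commute (π x) (π y) := by
      intro x hx y hy
      rw [hX'] at hx hy
      induction hx using closure_induction with
      | mem s hs =>
        induction hy using closure_induction with
        | mem t ht =>
          rw [← commutatorElement_eq_one_iff_commute, ← map_commutatorElement,
            QuotientGroup.mk'_apply, QuotientGroup.eq_one_iff]
          exact hgen _ hs _ ht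
        | one => rw [map_one]; exact Commute.one_right _
        | mul t t' _ _ h1 h2 => rw [map_mul]; exact h1.mul_right h2
        | inv t _ h1 => rw [map_inv]; exact h1.inv_right
      | one => rw [map_one]; exact Commute.one_left _
      | mul s s' _ _ h1 h2 => rw [map_mul]; exact h1.mul_left h2
      | inv s _ h1 => rw [map_inv]; exact h1.inv_left
    refine commutator_le.2 fun x hx y hy => ?_
    have := hcomm ⟨x, X_le_M h hx⟩ hx ⟨y, X_le_M h hy⟩ hy
    rw [← commutatorElement_eq_one_iff_commute, ← map_commutatorElement,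
      QuotientGroup.mk'_apply, QuotientGroup.eq_one_iff] at this
    exact this
  exact hle (commutator_mem_commutator ha hb)

theorem exists_fixed [Finite G] (ψ : ↥W' →* ℂˣ) :
    ∃ ν : LX M, TrivialOn ν (outCore M U) ∧ Fixed W ν ∧
      ∀ b : W', ν ⟨b, W'_le_X h b.2⟩ = ψ b := by
  classical
  let X := Cfsg.fittingOf M
  let N := (outCore M U).subgroupOf X
  haveI : N.Normal := (normal_subgroupOf_iff_le_normalizer (out_le_X h)).2
    ((X_le_M h).trans h.out_normal)
  letI : CommGroup (↥X ⧸ N) :=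
    { (inferInstance : Group (↥X ⧸ N)) with
      mul_comm := fun s t => by
        induction s using QuotientGroup.induction_on with
        | _ s =>
          induction t using QuotientGroup.induction_on with
          | _ t =>
            show ((s * t : ↥X) : ↥X ⧸ N) = ((t * s : ↥X) : ↥X ⧸ N)
            rw [QuotientGroup.eq]
            show (((s * t)⁻¹ * (t * s) : ↥X) : G) ∈ outCore M U
            have := comm_mem_out h (inv_mem t.2) (inv_mem s.2)
            simpa [commutatorElement_def, mul_assoc] using this }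
  let f : ↥W' →* ↥X ⧸ N := (QuotientGroup.mk' N).comp (inclusion (W'_le_X h))
  have hf : Function.Injective f := by
    rw [injective_iff_map_eq_one]
    intro b hb
    exact Subtype.ext (W'_inf_out h b.2
      (((QuotientGroup.eq_one_iff (N := N) (inclusion (W'_le_X h) b)).1 hb : _)))
  let e := MonoidHom.ofInjective hf
  obtain ⟨χ, hχ⟩ := MonoidHom.domRestrict_surjective (M := ℂ) f.range (ψ.comp e.symm.toMonoidHom)
  let ν₀ : LX M := χ.comp (QuotientGroup.mk' N)
  have hν₀ : ∀ b : W', ν₀ ⟨b, W'_le_X h b.2⟩ = ψ b := fun b => by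
    have := DFunLike.congr_fun hχ (e b)
    simp only [MonoidHom.domRestrictHom_apply, MonoidHom.domRestrict_apply, MonoidHom.comp_apply,
      MulEquiv.coe_toMonoidHom, MulEquiv.symm_apply_apply] at this
    exact this
  have hν₀t : TrivialOn ν₀ (outCore M U) := fun x hx => by
    show χ (x : ↥X ⧸ N) = 1
    rw [(QuotientGroup.eq_one_iff x).2 hx, map_one]
  haveI : Fintype W := Fintype.ofFinite W
  let ν₁ : LX M := ∏ w : W, tw (w : G) ν₀
  obtain ⟨t, ht⟩ := Nat.exists_mul_mod_eq_one_of_coprime (k := Nat.card ↥X)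
    (coprime_X h).symm (by
      obtain ⟨b, hb, hb1⟩ : ∃ b ∈ W', b ≠ 1 := by
        by_contra hne
        push Not at hne
        exact h.typeP.selfNormalizing.2.1 ((Subgroup.eq_bot_iff_forall _).2 hne)
      exact (one_lt_card_iff_ne_bot _).2 fun hbot => hb1 (by
        have := W'_le_X h hb
        rwa [show Cfsg.fittingOf M = ⊥ from hbot, mem_bot] at this))
  refine ⟨ν₁ ^ t, fun x hx => ?_, fun a ha => ?_, fun b => ?_⟩
  · rw [MonoidHom.pow_apply, MonoidHom.finsetProd_apply,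
      Finset.prod_eq_one fun w _ => tw_trivial h hν₀t (W_le_M h w.2) x hx, one_pow]
  · have haN := norm h (W_le_M h ha)
    refine MonoidHom.ext fun x => ?_
    rw [tw_apply haN, MonoidHom.pow_apply, MonoidHom.pow_apply, MonoidHom.finsetProd_apply,
      MonoidHom.finsetProd_apply]
    congr 1
    refine Fintype.prod_equiv (Equiv.mulRight (⟨a, ha⟩ : W)) _ _ fun w => ?_
    rw [Equiv.coe_mulRight, Subgroup.coe_mul, ← tw_tw (norm h (W_le_M h w.2)) haN,
      tw_apply haN (tw (w : G) ν₀) x]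
  · rw [MonoidHom.pow_apply, MonoidHom.finsetProd_apply,
      Finset.prod_congr rfl fun w _ => (tw_val (norm h (W_le_M h w.2)) ν₀
        (x := ⟨b, W'_le_X h b.2⟩) (y := ⟨b, W'_le_X h b.2⟩)
        (by rw [W_comm h w.2 b.2, mul_inv_cancel_right])).trans (hν₀ b),
      Finset.prod_const, Finset.card_univ, ← Nat.card_eq_fintype_card, ← pow_mul]
    have hb : ψ b ^ Nat.card ↥X = 1 := by
      obtain ⟨k, hk⟩ := card_dvd_of_le (W'_le_X h)
      rw [hk, pow_mul, ← map_pow, pow_card_eq_one', map_one, one_pow]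
    rw [pow_eq_pow_mod _ hb, ht.2, pow_one]

/-- A fixed character nontrivial on `W'` is full. -/
theorem fixed_full [Finite G] {ν : LX M} (ht : TrivialOn ν (outCore M U)) (hf : Fixed W ν)
    (hne : ∃ b : ↥(Cfsg.fittingOf M), (b : G) ∈ W' ∧ ν b ≠ 1) : FullChar M U ν := by
  refine ⟨ht, fun u hu hP => ?_⟩
  let R := Cfsg.fittingHallOf M
  have hRN : ∀ g ∈ M, ∀ x ∈ R, g * x * g⁻¹ ∈ R := fun g hg x hx =>
    (mem_normalizer_iff.1 (CfsgLib.OddOrder.le_normalizer_fittingHallOf M hg) x).1 hx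
  have hUW : U ⊔ W ≤ M := sup_le (U_le_M h) (W_le_M h)
  let Q : Subgroup G :=
    { carrier := {x | x ∈ R ∧ ∀ g ∈ U ⊔ W, ∀ y : ↥(Cfsg.fittingOf M),
        (y : G) = g * x * g⁻¹ → ν y = 1}
      one_mem' := ⟨one_mem _, fun g _ y hy => by
        rw [show y = 1 from Subtype.ext (by simpa using hy), map_one]⟩
      mul_mem' := fun {x x'} hx hx' => ⟨mul_mem hx.1 hx'.1, fun g hg y hy => by
        have h1 := hx.2 g hg ⟨_, R_le h (hRN g (hUW hg) x hx.1)⟩ rfl
        have h2 := hx'.2 g hg ⟨_, R_le h (hRN g (hUW hg) x' hx'.1)⟩ rfl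
        rw [show y = ⟨_, R_le h (hRN g (hUW hg) x hx.1)⟩ * ⟨_, R_le h (hRN g (hUW hg) x' hx'.1)⟩
          from Subtype.ext (by simp [hy, mul_assoc]), map_mul, h1, h2, one_mul]⟩
      inv_mem' := fun {x} hx => ⟨inv_mem hx.1, fun g hg y hy => by
        have h1 := hx.2 g hg y⁻¹ (by simp [hy, mul_assoc])
        rwa [map_inv, inv_eq_one] at h1⟩ }
  have hQ1 : fixCore M U ≤ Q := fun x hx => ⟨hx.1, fun g hg y hy => ht y (hy ▸
    le_sup_left (b := ⁅kerU M U, kerU M U⁆)
      ((mem_normalizer_iff.1 (h.fix_normal (hUW hg)) x).1 hx))⟩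
  have hQN : U ⊔ W ≤ normalizer (Q : Set G) := by
    have key : ∀ g ∈ U ⊔ W, ∀ x ∈ Q, g * x * g⁻¹ ∈ Q := fun g hg x hx =>
      ⟨hRN g (hUW hg) x hx.1, fun g' hg' y hy =>
        hx.2 (g' * g) (mul_mem hg' hg) y (by rw [hy]; group)⟩
    refine fun g hg => mem_normalizer_iff.2 fun x => ⟨key g hg x, fun hx => ?_⟩
    simpa [mul_assoc] using key g⁻¹ (inv_mem hg) _ hx
  rcases h.chief Q hQ1 (fun x hx => hx.1) hQN with hQ | hQ
  swap
  · obtain ⟨b, hb, hb1⟩ := hne
    have hbQ : (b : G) ∈ Q := by rw [hQ]; exact W'_le_R h hb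
    exact absurd (hbQ.2 1 (one_mem _) b (by simp)) hb1
  refine h.ker_eq u hu fun x hx => ?_
  rw [← hQ]
  refine ⟨mul_mem (hRN u (U_le_M h hu) x hx) (inv_mem hx), fun g hg y hy => ?_⟩
  have hcoe : g ∈ (↑(U ⊔ W) : Set G) := hg
  rw [coe_mul_of_right_le_normalizer_left U W h.typeP.U_normal] at hcoe
  obtain ⟨v, hv, a, ha, rfl⟩ := hcoe
  have haN := norm h (W_le_M h ha)
  have hvM := U_le_M h hv
  have haM := W_le_M h ha
  -- `a u a⁻¹` satisfies the premise
  set u' := a * u * a⁻¹ with hu'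
  have hu'U : u' ∈ U := (mem_normalizer_iff.1 (h.typeP.U_normal ha) u).1 hu
  have hP' : ∀ s t : ↥(Cfsg.fittingOf M), (s : G) ∈ R → (t : G) = u' * s * u'⁻¹ → ν t = ν s := by
    intro s t hs hts
    have hs0 : a⁻¹ * s * a ∈ R := by simpa using hRN a⁻¹ (inv_mem haM) s hs
    have ht0 : a⁻¹ * t * a ∈ R := by
      have := hRN u (U_le_M h hu) _ hs0
      convert this using 1
      rw [hts, hu']
      group
    have e := hP ⟨_, R_le h hs0⟩ ⟨_, R_le h ht0⟩ hs0 (by rw [Subtype.coe_mk, hts, hu']; group)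
    rwa [← hf a ha, tw_val haN ν (y := t) (by simp [mul_assoc]),
      tw_val haN ν (y := s) (by simp [mul_assoc])] at e
  -- the commutator conjugated by `g = v a`
  set x₁ := v * (a * x * a⁻¹) * v⁻¹ with hx₁
  have hx₁R : x₁ ∈ R := hRN v hvM _ (hRN a haM x hx)
  set y₁ := v * u' * v⁻¹ * x₁ * (v * u' * v⁻¹)⁻¹ with hy₁
  have hy₁R : y₁ ∈ R := hRN _ (U_le_M h (mul_mem (mul_mem hv hu'U) (inv_mem hv))) _ hx₁R
  have hk : ⁅v, u'⁆ ∈ kerU M U := h.U_commutator (commutator_mem_commutator hv hu'U)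
  have hy₂ : y₁ = u' * x₁ * u'⁻¹ := by
    have hz : u' * x₁ * u'⁻¹ ∈ R := hRN u' (U_le_M h hu'U) _ hx₁R
    calc y₁ = ⁅v, u'⁆ * (u' * x₁ * u'⁻¹) * ⁅v, u'⁆⁻¹ := by
          rw [hy₁, commutatorElement_def]; group
      _ = _ := by rw [← (mem_centralizer_iff.1 hk.2) _ hz, mul_inv_cancel_right]
  have e := hP' ⟨x₁, R_le h hx₁R⟩ ⟨y₁, R_le h hy₁R⟩ hx₁R hy₂
  rw [show y = ⟨y₁, R_le h hy₁R⟩ * (⟨x₁, R_le h hx₁R⟩ : ↥(Cfsg.fittingOf M))⁻¹ from
    Subtype.ext (by
      simp only [hy, hy₁, hx₁, hu', Subgroup.coe_mul, Subgroup.coe_inv]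
      group),
    map_mul, map_inv, e, mul_inv_cancel]

theorem full_twU [Finite G] {ν : LX M} (hν : FullChar M U ν) {u : G} (hu : u ∈ U) :
    FullChar M U (tw u ν) := by
  refine ⟨tw_trivial h hν.1 (U_le_M h hu), fun v hv hP => ?_⟩
  have huN := norm h (U_le_M h hu)
  have hw : u * v * u⁻¹ ∈ kerU M U := hν.2 _ (mul_mem (mul_mem hu hv) (inv_mem hu)) fun s t hs hts => by
    have hRN : ∀ g ∈ M, ∀ x ∈ Cfsg.fittingHallOf M, g * x * g⁻¹ ∈ Cfsg.fittingHallOf M :=
      fun g hg x hx =>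
        (mem_normalizer_iff.1 (CfsgLib.OddOrder.le_normalizer_fittingHallOf M hg) x).1 hx
    have hs0 : u⁻¹ * s * u ∈ Cfsg.fittingHallOf M := by
      simpa using hRN u⁻¹ (inv_mem (U_le_M h hu)) s hs
    have e := hP ⟨_, R_le h hs0⟩ ⟨_, R_le h (hRN v (U_le_M h hv) _ hs0)⟩ hs0 rfl
    rwa [tw_val huN ν (y := t) (by simp only [hts]; group),
      tw_val huN ν (y := s) (by simp [mul_assoc])] at e
  have hc : ⁅v, u⁆ ∈ kerU M U := h.U_commutator (commutator_mem_commutator hv hu)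
  have := mul_mem hc hw
  rwa [show ⁅v, u⁆ * (u * v * u⁻¹) = v by rw [commutatorElement_def]; group] at this

/-- An `M`-conjugate of a fixed character is a `U`-conjugate. -/
theorem orbit_U {ν : LX M} (hf : Fixed W ν) {m : G} (hm : m ∈ M) :
    ∃ u ∈ U, tw m ν = tw u ν := by
  obtain ⟨m', hm', a, ha, e⟩ := h.typeP.W₁_compl.2.2.2 m⁻¹ (inv_mem hm)
  obtain ⟨x, hx, u, hu, e'⟩ := split_derived h (inv_mem hm')
  refine ⟨u, hu, ?_⟩
  have hm2 : m = a⁻¹ * (x * u) := by rw [← inv_inv m, e, mul_inv_rev, e']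
  rw [hm2, ← tw_tw (norm h (inv_mem (W_le_M h ha))) (norm h (derived_le_M h (e' ▸ inv_mem hm'))),
    hf _ (inv_mem ha), ← tw_tw (norm h (X_le_M h hx)) (norm h (U_le_M h hu)), tw_self_of_mem hx]

/-- Distinct fixed full characters are not conjugate. -/
theorem fixed_conj [Finite G] {ν ν' : LX M} (hν : FullChar M U ν) (hf : Fixed W ν)
    (hf' : Fixed W ν') {m : G} (hm : m ∈ M) (e : tw m ν = ν') : ν = ν' := by
  obtain ⟨u, hu, e1⟩ := orbit_U h hf hm
  rw [e] at e1
  obtain ⟨a, ha, ha1⟩ : ∃ a ∈ W, a ≠ 1 := by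
    by_contra hne
    push Not at hne
    exact h.typeP.W₁_ne ((Subgroup.eq_bot_iff_forall _).2 hne)
  have haN := norm h (W_le_M h ha)
  have huN := norm h (U_le_M h hu)
  have hu2 : a⁻¹ * u * a ∈ U := by
    simpa using (mem_normalizer_iff.1 (h.typeP.U_normal (inv_mem ha)) u).1 hu
  have hu2N := norm h (U_le_M h hu2)
  -- `tw (a⁻¹ u a) ν = tw u ν`
  have h1 : tw (a⁻¹ * u * a) ν = tw u ν := by
    rw [← e1, ← tw_tw (norm h (mul_mem (inv_mem (W_le_M h ha)) (U_le_M h hu))) haN,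
      ← tw_tw (norm h (inv_mem (W_le_M h ha))) huN, hf _ (inv_mem ha), ← e1, hf' a ha]
  have h2 : tw (a⁻¹ * u * a * u⁻¹) ν = ν := by
    rw [← tw_tw hu2N (inv_mem huN), h1, tw_tw huN (inv_mem huN), mul_inv_cancel, tw_one]
  have hkU : a⁻¹ * u * a * u⁻¹ ∈ U := mul_mem hu2 (inv_mem hu)
  have hk : a⁻¹ * u * a * u⁻¹ ∈ kerU M U := hν.2 _ hkU fun s t _ hts => by
    rw [← tw_val (norm h (U_le_M h hkU)) ν hts, h2]
  have ha' : a⁻¹ ∈ W := inv_mem ha
  have hKN : a⁻¹ ∈ normalizer (kerU M U : Set G) := by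
    have key : ∀ b ∈ W, ∀ x ∈ kerU M U, b * x * b⁻¹ ∈ kerU M U := fun b hb x hx =>
      ⟨(mem_normalizer_iff.1 (h.typeP.U_normal hb) x).1 hx.1, mem_centralizer_iff.2 fun r hr => by
        have hr' : b⁻¹ * r * b ∈ Cfsg.fittingHallOf M := by
          simpa using (mem_normalizer_iff.1 (CfsgLib.OddOrder.le_normalizer_fittingHallOf M
            (inv_mem (W_le_M h hb))) r).1 hr
        calc r * (b * x * b⁻¹) = b * (b⁻¹ * r * b * x) * b⁻¹ := by group
          _ = b * (x * (b⁻¹ * r * b)) * b⁻¹ := by rw [(mem_centralizer_iff.1 hx.2) _ hr']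
          _ = _ := by group⟩
    refine mem_normalizer_iff.2 fun x => ⟨key _ ha' x, fun hx => ?_⟩
    simpa [mul_assoc] using key _ ha _ hx
  obtain ⟨z, hz, c, hc, hca, ec⟩ := CfsgLib.OddChar.exists_conj_centralizer_coset _ a⁻¹ hKN
    ((coprime_derived h ha').coprime_dvd_right
      (card_dvd_of_le ((K_le h).trans (X_le_derived h)))) _ (inv_mem hk)
  have hc1 : c = 1 := by
    have : c ∈ U ⊓ centralizer ({a⁻¹} : Set G) := ⟨hc.1, mem_centralizer_singleton_iff.2 hca⟩
    rwa [h.U_frob a⁻¹ ha' (inv_ne_one.2 ha1), mem_bot] at this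
  rw [hc1, one_mul] at ec
  -- `z u` centralises `a⁻¹`
  have hzu : (z * u) * a⁻¹ = a⁻¹ * (z * u) := by
    have hec : z * u * a⁻¹ * (z * u)⁻¹ = a⁻¹ := by
      calc _ = z * ((a⁻¹ * u * a * u⁻¹)⁻¹ * a⁻¹) * z⁻¹ := by group
        _ = a⁻¹ := ec
    exact mul_inv_eq_iff_eq_mul.1 hec
  have hzu1 : z * u ∈ U ⊓ centralizer ({a⁻¹} : Set G) :=
    ⟨mul_mem hz.1 hu, mem_centralizer_singleton_iff.2 hzu⟩
  rw [h.U_frob a⁻¹ ha' (inv_ne_one.2 ha1), mem_bot] at hzu1
  have huK : u ∈ kerU M U := by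
    rw [eq_inv_of_mul_eq_one_right hzu1]; exact inv_mem hz
  rw [e1, tw_self_of_mem (K_le h huK)]

/-- The stabiliser of a fixed full character is `F(M) W`. -/
theorem stab_fixed {ν : LX M} (hν : FullChar M U ν) (hf : Fixed W ν) {m : G} (hm : m ∈ M) :
    tw m ν = ν ↔ m ∈ Cfsg.fittingOf M ⊔ W := by
  constructor
  · intro e
    obtain ⟨m', hm', a, ha, rfl⟩ := h.typeP.W₁_compl.2.2.2 m hm
    have haN := norm h (W_le_M h ha)
    have hm'N := norm h (derived_le_M h hm')
    have : tw m' ν = ν := by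
      have := congrArg (tw a⁻¹) e
      rwa [tw_tw (norm h hm) (inv_mem haN), mul_inv_cancel_right, hf _ (inv_mem ha)] at this
    exact mul_mem (mem_sup_left (stab_derived h hν hm' this)) (mem_sup_right ha)
  · intro hmem
    have hle : W ≤ normalizer (Cfsg.fittingOf M : Set G) := fun a ha => norm h (W_le_M h ha)
    have hcoe : m ∈ (↑(Cfsg.fittingOf M ⊔ W) : Set G) := hmem
    rw [coe_mul_of_right_le_normalizer_left _ _ hle] at hcoe
    obtain ⟨x, hx, a, ha, rfl⟩ := hcoe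
    rw [← tw_tw (norm h (X_le_M h hx)) (hle ha), tw_self_of_mem hx, hf a ha]

/-- The stabiliser of a full character with no fixed conjugate is `F(M)`. -/
theorem stab_free [Finite G] {ν : LX M} (hν : FullChar M U ν)
    (hfree : ∀ g ∈ M, ¬ Fixed W (tw g ν)) {m : G} (hm : m ∈ M) :
    tw m ν = ν ↔ m ∈ Cfsg.fittingOf M := by
  refine ⟨fun e => ?_, fun hx => tw_self_of_mem hx ν⟩
  by_contra hmX
  obtain ⟨g, hg, hgf⟩ := exists_fixed_tw h hν hm hmX e
  exact hfree g hg hgf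

end CfsgLib.FT.SidePin
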