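import Cfsg.Agent.Lib.FT.Defs
import Cfsg.Agent.Lib.OddChar.TypeSigma

/-!
Maximal subgroups of the frozen type I have empty `κ`, so are of type F.
-/

set_option autoImplicit false

namespace CfsgLib.FT

open Subgroup

universe u

variable {G : Type u} [Group G] [Finite G] (hG : Cfsg.IsMinSimpleOddOrder G)
include hG

theorem isFType_of_isOfTypeI {M : Subgroup G} (hM : IsCoatom M) (hI : Cfsg.IsOfTypeI M) :
    IsFType M := by
  obtain ⟨K, U, hKU⟩ := CfsgLib.OddChar.MaxTypes.exists_decomposition hG hM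
  refine ⟨hM, Set.eq_empty_iff_forall_notMem.2 fun p hp => hKU.hall.2.2 p hp.1 hp ?_⟩
  rw [CfsgLib.OddChar.MaxTypes.K_eq_bot_of_typeI hG hM hKU hI, relIndex_bot_left]
  exact hp.2.1

end CfsgLib.FT
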